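import Cfsg.Agent.Lib.PSL2.Out
import Cfsg.Agent.Lib.PSL2Klein
import Cfsg.Agent.Lib.PSL2Platonic
import Cfsg.Agent.Lib.Chev.Aut.FieldCyclic
import Mathlib.FieldTheory.Fixed

/-!
`PSL₂` of a subfield, and field automorphisms of odd order.
-/

set_option autoImplicit false
set_option linter.unusedSectionVars false
set_option linter.style.haveILetI false

namespace CfsgLib.Walter

open CfsgLib.PSL2 (mk fieldAut)

variable {F K : Type} [Field F] [Field K]

local notation "PSL₂[" K "]" => Matrix.ProjectiveSpecialLinearGroup (Fin 2) K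

theorem slMap_mk_center (φ : K →+* F) :
    Subgroup.center (Matrix.SpecialLinearGroup (Fin 2) K) ≤
      ((mk : _ →* PSL₂[F]).comp (Matrix.SpecialLinearGroup.map φ)).ker := by
  intro A h
  obtain ⟨r, hr, hA⟩ := Matrix.SpecialLinearGroup.mem_center_iff.mp h
  rw [Fintype.card_fin, sq_eq_one_iff] at hr
  show mk (Matrix.SpecialLinearGroup.map φ A) = 1
  rw [← map_one (mk : _ →* PSL₂[F]), PSL2.mk_eq_mk]
  have hval : (Matrix.SpecialLinearGroup.map φ A).1 = A.1.map φ := rfl
  rw [hval, ← hA]
  rcases hr with rfl | rfl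
  · left; simp
  · right
    show (1 : Matrix (Fin 2) (Fin 2) F) = _
    ext i j
    by_cases hij : i = j <;> simp [hij, Matrix.one_apply]

/-- The map of `PSL₂` induced by an embedding of fields. -/
def subMap (φ : K →+* F) : PSL₂[K] →* PSL₂[F] :=
  QuotientGroup.lift _ ((mk : _ →* PSL₂[F]).comp (Matrix.SpecialLinearGroup.map φ)) (slMap_mk_center φ)

theorem subMap_mk (φ : K →+* F) (A : Matrix.SpecialLinearGroup (Fin 2) K) :
    subMap φ (mk A) = mk (Matrix.SpecialLinearGroup.map φ A) := rfl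

theorem subMap_injective (φ : K →+* F) : Function.Injective (subMap φ) := by
  refine (injective_iff_map_eq_one _).mpr fun x hx => ?_
  obtain ⟨A, rfl⟩ := QuotientGroup.mk'_surjective _ x
  have h : (mk (1 : Matrix.SpecialLinearGroup (Fin 2) F) : PSL₂[F]) = mk (Matrix.SpecialLinearGroup.map φ A) := by
    rw [map_one]; exact hx.symm
  show (mk A : PSL₂[K]) = 1
  rw [← map_one (mk : _ →* PSL₂[K]), eq_comm, PSL2.mk_eq_mk]
  have hinj : ∀ B : Matrix (Fin 2) (Fin 2) K, B.map φ = (A.1.map φ) → B = A.1 := fun B e =>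
    Matrix.ext fun i j => φ.injective (congrFun (congrFun e i) j)
  rcases PSL2.mk_eq_mk.mp h with e | e
  · left
    refine (hinj _ ?_).symm
    rw [show A.1.map φ = (Matrix.SpecialLinearGroup.map φ A).1 from rfl, e]
    simp
  · right
    refine (hinj _ ?_).symm
    rw [show A.1.map φ = (Matrix.SpecialLinearGroup.map φ A).1 from rfl, e]
    ext i j
    by_cases hij : i = j <;> simp [hij, Matrix.one_apply]

theorem fieldAut_subMap (φ : K →+* F) (e : F ≃+* F) (he : ∀ a, e (φ a) = φ a) (x : PSL₂[K]) :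
    fieldAut e (subMap φ x) = subMap φ x := by
  obtain ⟨A, rfl⟩ := QuotientGroup.mk'_surjective _ x
  show fieldAut e (mk (Matrix.SpecialLinearGroup.map φ A)) = mk (Matrix.SpecialLinearGroup.map φ A)
  rw [PSL2.fieldAut_apply]
  exact congrArg _ (Subtype.ext (Matrix.ext fun i j => he (A.1 i j)))

/-- The data of a four-group cycled by an element of order three. -/
structure IsA4 {L : Type*} [Group L] (g b c : L) : Prop where
  g3 : g ^ 3 = 1
  g1 : g ≠ 1
  bb : b * b = 1
  b1 : b ≠ 1
  cc : c * c = 1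
  c1 : c ≠ 1
  bc : b ≠ c
  comm : b * c = c * b
  gb : g * b * g⁻¹ = c
  gc : g * c * g⁻¹ = b * c

theorem IsA4.map {L M : Type*} [Group L] [Group M] {g b c : L} (h : IsA4 g b c) (f : L →* M)
    (hf : Function.Injective f) : IsA4 (f g) (f b) (f c) where
  g3 := by rw [← map_pow, h.g3, map_one]
  g1 := (map_ne_one_iff f hf).mpr h.g1
  bb := by rw [← map_mul, h.bb, map_one]
  b1 := (map_ne_one_iff f hf).mpr h.b1
  cc := by rw [← map_mul, h.cc, map_one]
  c1 := (map_ne_one_iff f hf).mpr h.c1
  bc := fun e => h.bc (hf e)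
  comm := by rw [← map_mul, h.comm, map_mul]
  gb := by rw [← map_inv, ← map_mul, ← map_mul, h.gb]
  gc := by rw [← map_inv, ← map_mul, ← map_mul, h.gc, map_mul]

theorem exists_isA4_alt : ∃ g b c : alternatingGroup (Fin 4), IsA4 g b c :=
  ⟨⟨Equiv.swap 1 2 * Equiv.swap 2 3, Equiv.Perm.mem_alternatingGroup.mpr (by decide)⟩,
    ⟨Equiv.swap 0 1 * Equiv.swap 2 3, Equiv.Perm.mem_alternatingGroup.mpr (by decide)⟩,
    ⟨Equiv.swap 0 2 * Equiv.swap 1 3, Equiv.Perm.mem_alternatingGroup.mpr (by decide)⟩,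
    by decide, by decide, by decide, by decide, by decide, by decide, by decide, by decide, by decide, by decide⟩

/-- A four-group with its element of order three over the prime field. -/
theorem exists_fixed_A4 [Fintype F] (h2 : (2 : F) ≠ 0) :
    ∃ g b c : PSL₂[F], IsA4 g b c ∧ ∀ e : RingAut F, fieldAut e g = g ∧ fieldAut e b = b ∧ fieldAut e c = c := by
  obtain ⟨p, hp⟩ := CharP.exists F
  haveI : Fact p.Prime := ⟨CharP.char_is_prime F p⟩
  let φ : ZMod p →+* F := ZMod.castHom dvd_rfl F
  have h2' : (2 : ZMod p) ≠ 0 := fun e => h2 (by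
    have h := congrArg φ e
    rwa [map_ofNat, map_zero] at h)
  obtain ⟨H, ⟨ee⟩⟩ := PSL2Platonic.exists_A4 (F := ZMod p) h2'
  obtain ⟨g, b, c, h⟩ := exists_isA4_alt
  let f : alternatingGroup (Fin 4) →* PSL₂[F] := (subMap φ).comp (H.subtype.comp ee.symm.toMonoidHom)
  have hf : Function.Injective f := (subMap_injective φ).comp (H.subtype_injective.comp ee.symm.injective)
  have hfix : ∀ (e : RingAut F) (x : alternatingGroup (Fin 4)), fieldAut e (f x) = f x := fun e x =>
    fieldAut_subMap φ e (fun a => RingHom.congr_fun (Subsingleton.elim ((e : F ≃+* F).toRingHom.comp φ) φ) a) _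
  exact ⟨f g, f b, f c, h.map f hf, fun e => ⟨hfix e g, hfix e b, hfix e c⟩⟩

theorem fieldAut_pow (σ : RingAut F) (k : ℕ) : (fieldAut σ : MulAut PSL₂[F]) ^ k = fieldAut (σ ^ k) := by
  induction k with
  | zero => rw [pow_zero, pow_zero]; exact (PSL2.fieldAut_refl).symm
  | succ k ih => rw [pow_succ, pow_succ, ih, ← PSL2.fieldAut_trans]; rfl

theorem fieldAut_inj {e e' : F ≃+* F} (h : (fieldAut e : MulAut PSL₂[F]) = fieldAut e') : e = e' :=
  PSL2.field_unique (g := 1) (g' := 1) (by rw [h])

/-- The fixed subfield of an automorphism. -/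
abbrev fixField (σ : RingAut F) : Subfield F := FixedPoints.subfield (Subgroup.zpowers σ) F

theorem mem_fixField {σ : RingAut F} {a : F} : a ∈ fixField σ ↔ σ a = a := by
  constructor
  · exact fun h => h ⟨σ, Subgroup.mem_zpowers σ⟩
  · intro ha g
    have hle : Subgroup.zpowers σ ≤ MulAction.stabilizer (RingAut F) a := Subgroup.zpowers_le.mpr ha
    exact hle g.2

/-- The fixed points of a field automorphism of odd order come from the fixed subfield. -/
theorem fixed_range (h2 : (2 : F) ≠ 0) {σ : RingAut F} (hodd : Odd (orderOf σ)) {x : PSL₂[F]}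
    (hx : fieldAut σ x = x) : x ∈ (subMap (fixField σ).subtype).range := by
  obtain ⟨A, rfl⟩ := QuotientGroup.mk'_surjective _ x
  have hx' : fieldAut σ (mk A) = mk A := hx
  rw [PSL2.fieldAut_apply, eq_comm, PSL2.mk_eq_mk] at hx'
  have hA : ∀ i j, σ (A.1 i j) = A.1 i j := by
    intro i j
    rcases hx' with e | e
    · exact congrFun (congrFun e i) j
    · have hneg : σ (A.1 i j) = -(A.1 i j) := congrFun (congrFun e i) j
      set a := A.1 i j
      have hpow : ∀ n : ℕ, (σ ^ n) a = (-1) ^ n * a := fun n => by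
        induction n with
        | zero => rw [pow_zero, pow_zero, one_mul]; rfl
        | succ n ih =>
          rw [pow_succ]
          show (σ ^ n) (σ a) = _
          rw [hneg, map_neg, ih, pow_succ]
          ring
      have h := hpow (orderOf σ)
      rw [pow_orderOf_eq_one, hodd.neg_one_pow, neg_one_mul] at h
      have ha0 : a = 0 := by
        have h2' : (2 : F) * a = 0 := by
          have h' : a = -a := h
          linear_combination h'
        exact (mul_eq_zero.mp h2').resolve_left h2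
      rw [ha0, map_zero]
  refine ⟨mk ⟨Matrix.of fun i j => ⟨A.1 i j, mem_fixField.mpr (hA i j)⟩, ?_⟩, ?_⟩
  · apply (fixField σ).subtype.injective
    rw [RingHom.map_det, map_one]
    exact A.2
  · exact congrArg (fun B => (mk B : PSL₂[F])) (Subtype.ext rfl)

section Finite

variable [Fintype F]

/-- The size of the fixed subfield. -/
theorem card_fixField (σ : RingAut F) : Nat.card (fixField σ) ^ orderOf σ = Fintype.card F := by
  classical
  haveI : Finite (RingAut F) := Finite.of_injective (fun τ : RingAut F => (τ : F → F)) DFunLike.coe_injective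
  haveI : Fintype (Subgroup.zpowers σ) := Fintype.ofFinite _
  have hfin : Module.finrank (fixField σ) F = orderOf σ := by
    rw [FixedPoints.finrank_eq_card, ← Nat.card_eq_fintype_card, Nat.card_zpowers]
  rw [← hfin, ← Module.natCard_eq_pow_finrank (K := fixField σ) (V := F), Nat.card_eq_fintype_card]

/-- For `q ≡ 3, 5 mod 8` the degree is odd, and so is the order of a field automorphism. -/
theorem odd_degree (hq : Fintype.card F % 8 = 3 ∨ Fintype.card F % 8 = 5) :
    ∃ p n : ℕ, p.Prime ∧ Odd n ∧ CharP F p ∧ Fintype.card F = p ^ n ∧ p ≠ 2 ∧ Nat.card (RingAut F) = n := by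
  obtain ⟨p, hp⟩ := CharP.exists F
  obtain ⟨n, hpr, hn⟩ := FiniteField.card F p
  haveI : Fact p.Prime := ⟨hpr⟩
  have hp2 : p ≠ 2 := by
    rintro rfl
    have : 2 ∣ Fintype.card F := hn ▸ dvd_pow_self 2 n.ne_zero
    omega
  refine ⟨p, n, hpr, Nat.odd_iff.mpr ?_, hp, hn, hp2,
    (Chev.ringAut_cyclic_card p (by rw [Nat.card_eq_fintype_card, hn])).2⟩
  by_contra he
  obtain ⟨k, hk⟩ : Even (n : ℕ) := Nat.even_iff.mpr (by omega)
  have h1 : p % 2 = 1 := Nat.odd_iff.mp (hpr.odd_of_ne_two hp2)
  have h8 : p * p % 8 = 1 := by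
    have : p % 8 = 1 ∨ p % 8 = 3 ∨ p % 8 = 5 ∨ p % 8 = 7 := by omega
    rcases this with e | e | e | e <;> simp [Nat.mul_mod, e]
  have : Fintype.card F % 8 = 1 := by
    rw [hn, hk, ← two_mul, pow_mul, pow_two, Nat.pow_mod, h8, one_pow, Nat.one_mod]
  omega

theorem odd_orderOf (hq : Fintype.card F % 8 = 3 ∨ Fintype.card F % 8 = 5) (σ : RingAut F) :
    Odd (orderOf σ) := by
  obtain ⟨p, n, -, hn, -, -, -, hc⟩ := odd_degree hq
  exact hn.of_dvd_nat (hc ▸ orderOf_dvd_natCard σ)

theorem two_ne_zero_of_mod (hq : Fintype.card F % 8 = 3 ∨ Fintype.card F % 8 = 5) : (2 : F) ≠ 0 := by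
  obtain ⟨p, n, hp, -, hc, -, hp2, -⟩ := odd_degree hq
  intro h
  have h' : ((2 : ℕ) : F) = 0 := by exact_mod_cast h
  rw [CharP.cast_eq_zero_iff F p] at h'
  exact hp2 ((Nat.prime_dvd_prime_iff_eq hp Nat.prime_two).mp h')

end Finite

end CfsgLib.Walter
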