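import Cfsg.Agent.Lib.Walter.CoreFive2

/-!
G1: the centraliser of an involution has trivial core, so `C(t) ≅ ⟨t⟩ × L₂(q)⟨φ⟩`.

Blueprint: `blueprint/Walter.md`, G1.
-/

set_option autoImplicit false
set_option linter.unusedSectionVars false
set_option linter.style.haveILetI false

namespace CfsgLib.Walter

open Cfsg CfsgLib.Comp

universe u

variable {G : Type u} [Group G] [Finite G]

/-- In the minimal counterexample the cores of the centralisers of involutions are trivial. -/
theorem Base.Ot_eq_bot (B : Base G) {t : G} (ht : orderOf t = 2) (hns : ¬ Group.IsSolvable ↥(cT t)) : Ot t = ⊥ := by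
  haveI : Fact (Nat.Prime 2) := ⟨Nat.prime_two⟩
  obtain ⟨S, hS⟩ := exists_mem_sylow ht
  have hall : ∀ u : G, orderOf u = 2 → ¬ Group.IsSolvable ↥(cT u) := fun u hu => hns_all B ht hns hu
  have ht1 : t ≠ 1 := fun e => by simp [e] at ht
  have hsig : sig S = ⊥ := by
    by_contra hne
    exact Hyp5.false ⟨⟨B⟩, hall, fun a ha ha1 hC => hne (sig_eq_bot_of_cent B hall S ha ha1 hC)⟩
  exact le_bot_iff.mp (hsig ▸ Ot_le_sig hS ht1)

/-- The core of `C(t)` is trivial. -/
theorem core_trivial (B : Base G) {t : G} (ht : orderOf t = 2) (hns : ¬ Group.IsSolvable ↥(cT t)) :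
    pPrimeCore 2 ↥(cT t) = ⊥ := by
  have h : (pPrimeCore 2 ↥(cT t)).map (cT t).subtype = ⊥ := B.Ot_eq_bot ht hns
  rwa [Subgroup.map_eq_bot_iff_of_injective _ (cT t).subtype_injective] at h

/-- Coordinates in `C(t)` itself. -/
theorem Base.exists_coord (B : Base G) {t : G} (ht : orderOf t = 2) (hns : ¬ Group.IsSolvable ↥(cT t)) :
    ∃ C : Coord G, C.t = t := exists_coord_of_core B ht hns (core_trivial B ht hns)

end CfsgLib.Walter
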