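import Cfsg.Agent.Lib.Walter.J1Local.Large
import Cfsg.Agent.Lib.Walter.J1Local.Small

/-!
Case (J) of the minimal counterexample does not occur.
-/

set_option autoImplicit false

namespace CfsgLib.Walter

universe u

variable {G : Type u} [Group G] [Finite G]

/-- There is no case (J). -/
theorem caseJ_false (B : Base G) (C : Coord G) {r : ℕ} (h : CaseJ C r) : False := by
  obtain ⟨X⟩ := exists_ctx B C h
  obtain ⟨D⟩ := X.exists_pdata
  by_cases hbig : r ^ 2 < Nat.card D.W
  · exact D.large_false hbig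
  haveI : Fact r.Prime := ⟨X.prime⟩
  obtain ⟨a, ha⟩ := IsPGroup.iff_card.mp D.W_isP
  rw [ha] at hbig
  have ha2 : a ≤ 2 := (Nat.pow_le_pow_iff_right X.prime.one_lt).mp (not_lt.mp hbig)
  have ha0 : a ≠ 0 := by
    rintro rfl
    rw [pow_zero, Subgroup.card_eq_one] at ha
    exact X.n_ne (Subgroup.mem_bot.mp (ha ▸ D.n_mem))
  rcases (show a = 1 ∨ a = 2 by omega) with rfl | rfl
  · exact D.small_r (by rw [ha, pow_one])
  · exact D.small_sq ha

end CfsgLib.Walter
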