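import Cfsg.Agent.Lib.Walter.RPure
import Cfsg.Agent.Lib.CharTheory.Linear

/-!
Case (R) does not occur: the four characters of the blocks over `1` and over `μ` of order `r` give a linear
character of the simple group, or a contradiction between their degrees.

Blueprint: `blueprint/Walter.md`, case (R).
-/

set_option autoImplicit false
set_option linter.unusedSectionVars false
set_option linter.style.haveILetI false

namespace CfsgLib.Walter.RB

open Cfsg CfsgLib CfsgLib.CharTheory CfsgLib.Blocks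
open scoped ComplexConjugate

universe u

theorem sum_four {ι A : Type*} [Fintype ι] [DecidableEq ι] [AddCommMonoid A] {a b c d : ι} (hab : a ≠ b)
    (hac : a ≠ c) (had : a ≠ d) (hbc : b ≠ c) (hbd : b ≠ d) (hcd : c ≠ d) (f : ι → A)
    (hf : ∀ x, f x ≠ 0 → x = a ∨ x = b ∨ x = c ∨ x = d) : ∑ x, f x = f a + (f b + (f c + f d)) := by
  have h1 : ∑ x, f x = ∑ x ∈ ({a, b, c, d} : Finset ι), f x := by
    refine (Finset.sum_subset (Finset.subset_univ _) fun x _ hx => ?_).symm
    by_contra hne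
    simp only [Finset.mem_insert, Finset.mem_singleton] at hx
    exact hx (hf x hne)
  rw [h1, Finset.sum_insert (by simp [hab, hac, had]), Finset.sum_insert (by simp [hbc, hbd]), Finset.sum_pair hcd]

theorem real_root {z : ℂ} (hz : conj z = z) {N : ℕ} (hN : Odd N) (h : z ^ N = 1) : z = 1 := by
  obtain ⟨x, rfl⟩ := Complex.conj_eq_iff_real.1 hz
  have h' : x ^ N = 1 := by exact_mod_cast h
  rw [hN.strictMono_pow.injective (show x ^ N = (1 : ℝ) ^ N by rw [h', one_pow]), Complex.ofReal_one]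

theorem unit_div {a : ℤ} (ha : a = 1 ∨ a = -1) (x d : ℂ) : x * a / d = x / ((a : ℂ) * d) := by
  rcases ha with rfl | rfl <;> simp [div_neg, neg_div]

theorem deg_one_trivial {G : Type u} [Group G] [Fintype G] (B : Base G) {χ : IrrCharacter G}
    (h : (χ : G → ℂ) 1 = 1) : χ = oneIrr G := by
  haveI := B.simple
  obtain ⟨l, hl⟩ := exists_hom_of_degree_one (isCharacter_of_irr χ.2) h
  rcases l.normal_ker.eq_bot_or_eq_top with e | e
  · exfalso
    refine B.not_comm ⟨⟨fun a b => (MonoidHom.ker_eq_bot_iff l).1 e ?_⟩⟩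
    rw [map_mul, map_mul, mul_comm]
  · refine Subtype.ext (funext fun g => ?_)
    have hg : g ∈ l.ker := e ▸ Subgroup.mem_top g
    rw [congrFun hl g]
    show ((l g : ℂˣ) : ℂ) = 1
    rw [MonoidHom.mem_ker.1 hg, Units.val_one]

variable {G : Type u} [Group G] [Fintype G]

theorem one_not_inS {C : Coord G} {r m : ℕ} (hR : RBase C r m) : ¬ Suz.InS r (C.rpart r) (1 : G) := by
  rintro ⟨x, i, y, hi, hy, h⟩
  have h1 : C.rpart r ^ i * (y : G) = 1 := conj_eq_one_iff.1 h.symm
  have h2 : orderOf (C.rpart r ^ i) = orderOf (y : G) := by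
    rw [eq_inv_of_mul_eq_one_left h1, orderOf_inv]
  rw [Nat.Coprime.orderOf_pow (by
    rw [C.orderOf_rpart r]; exact Nat.Coprime.pow_left _ (hR.prime.coprime_iff_not_dvd.2 hi)),
    C.orderOf_rpart r, Subgroup.orderOf_coe] at h2
  exact hy (h2 ▸ dvd_pow_self r (Nat.one_le_iff_ne_zero.1 (one_le_k hR)))

theorem card_cent_t {C : Coord G} {r m : ℕ} (hR : RBase C r m) :
    (Nat.card (Subgroup.centralizer ({C.t} : Set G))).factorization r = (orderOf C.σ).factorization r := by
  haveI : Fintype (E C) := Fintype.ofFinite _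
  haveI : Fintype (H C) := Fintype.ofFinite _
  have e : Subgroup.centralizer ({C.t} : Set G) = H C := by
    ext g
    rw [Subgroup.mem_centralizer_singleton_iff, mem_H]
    rfl
  have hL : Nat.card (Matrix.ProjectiveSpecialLinearGroup (Fin 2) C.F) ≠ 0 := Nat.card_pos.ne'
  rw [e, card_H, card_E, ← mul_assoc, Nat.factorization_mul (Nat.mul_ne_zero two_ne_zero hL) C.odd_f.pos.ne',
    Finsupp.add_apply, Nat.factorization_eq_zero_of_not_dvd fun h => ?_, zero_add]
  rcases hR.prime.dvd_mul.1 h with h | h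
  · have := five_le hR
    have := Nat.le_of_dvd (by norm_num) h
    omega
  · exact not_dvd_card_LL hR h

namespace Ctx

variable {C : Coord G} {r m : ℕ} [Fintype (E C)] [Fintype (H C)] [Fintype (Suz.Hs (C.rpart r))] (X : Ctx C r m)
include X

theorem dvd_index (hbig : r ^ ((orderOf C.σ).factorization r + 1) ∣ Nat.card (Suz.Hs (C.rpart r))) :
    r ∣ (Subgroup.centralizer ({C.t} : Set G)).index := by
  have h := hbig.trans (Subgroup.card_subgroup_dvd_card _)
  rw [X.hR.prime.pow_dvd_iff_le_factorization Nat.card_pos.ne',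
    ← Subgroup.index_mul_card (Subgroup.centralizer ({C.t} : Set G)),
    Nat.factorization_mul Subgroup.index_ne_zero_of_finite Nat.card_pos.ne', Finsupp.add_apply,
    card_cent_t X.hR] at h
  exact (X.hR.prime.dvd_iff_one_le_factorization Subgroup.index_ne_zero_of_finite).2 (by omega)

theorem dvd_degree (hbig : r ^ ((orderOf C.σ).factorization r + 1) ∣ Nat.card (Suz.Hs (C.rpart r)))
    {χ : IrrCharacter G} (hu : Suz.UnitG X.Mr C.t χ) {w : ℤ} (hw : (χ : G → ℂ) C.t = (w : ℂ)) {d : ℕ}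
    (hd : (χ : G → ℂ) 1 = (d : ℂ)) : r ∣ d := by
  by_contra hrd
  obtain ⟨N', hN'⟩ := X.dvd_index hbig
  apply hu
  have hmem : MemLocalRing X.Mr ((N' : ℂ) * (w : ℂ) * (d : ℂ)⁻¹) :=
    (loc X.hMr).mul_mem ((loc X.hMr).mul_mem (memRing_natCast X.hMr N') (intCast_mem (loc X.hMr) w))
      (natCast_inv_mem X.hMr hrd)
  have e : centralChar (χ : G → ℂ) C.t = (r : ℂ) * ((N' : ℂ) * (w : ℂ) * (d : ℂ)⁻¹) := by
    rw [centralChar, hN', hw, hd]; push_cast; ring
  refine (res_eq_zero_iff X.hMr (show MemLocalRing X.Mr (centralChar (χ : G → ℂ) C.t) from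
    memRing_clv X.hMr C.t χ)).1 ?_
  rw [e, res_mul X.hMr (memRing_natCast X.hMr r) hmem, natCast_p_mem, zero_mul]

end Ctx

/-- Case (R) over its numbers: it is impossible once the two pure characters are there. -/
theorem rcase_core {C : Coord G} {r m : ℕ} [Fintype (E C)] [Fintype (H C)] [Fintype (Suz.Hs (C.rpart r))]
    (X : Ctx C r m) (hbig : r ^ ((orderOf C.σ).factorization r + 1) ∣ Nat.card (Suz.Hs (C.rpart r)))
    (hgood : ∀ T : ℕ, T = 1 ∨ T = 3 ^ (2 * m + 1) →
      ∃ (θ : IrrCharacter (Suz.Hs (C.rpart r))) (ε A : ℤ) (Y : IrrCharacter G),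
        Suz.Pure X.Mr X.hyp θ 0 ε Y ∧ A ≠ 0 ∧ X.v 1 none Y = A ∧
          ∀ j, X.v 1 (some j) Y = if T = 1 then 0 else A) : False := by
  classical
  haveI : Fact r.Prime := ⟨X.hR.prime⟩
  haveI := res_isDomain X.hMr
  haveI := res_charP X.hMr
  choose D hD0 hD using fun χ : IrrCharacter G => irr_degree_pos χ.2
  set q : ℤ := (Fintype.card C.F : ℤ) with hq
  have hqC : ((Fintype.card C.F : ℕ) : ℂ) = (q : ℂ) := by simp [hq]
  have hq' : 3 ^ (2 * m + 1) ≠ 1 := (Nat.one_lt_pow (by omega) (by norm_num)).ne'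
  obtain ⟨θz, εz, Az, z, hzP, hAz0, hzA, hzB⟩ := hgood 1 (Or.inl rfl)
  obtain ⟨θv, εv, Av, v, hvP, hAv0, hvA, hvB⟩ := hgood _ (Or.inr rfl)
  simp only [if_true] at hzB
  simp only [if_neg hq'] at hvB
  have hP := X.pattern 1
  have unit : ∀ {a : ℤ}, (a = 0 ∨ a = 1 ∨ a = -1) → a ≠ 0 → a = 1 ∨ a = -1 := fun h h0 => h.resolve_left h0
  have hAz : Az = 1 ∨ Az = -1 := hzA ▸ unit (hP.unit none z) (hzA ▸ hAz0)
  have hAv : Av = 1 ∨ Av = -1 := hvA ▸ unit (hP.unit none v) (hvA ▸ hAv0)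
  -- the trivial character
  set e₁ := oneIrr G
  have heRow : ∀ l, X.v 1 l e₁ = if l = none then 1 else 0 := fun l =>
    X.row_of_value (fun l => if l = none then (1 : ℤ) else 0) (fun e _ => by
      rw [MonoidHom.one_apply, Units.val_one, one_mul, Fintype.sum_option, Fin.sum_univ_two]
      simp [dual, oneIrr, e₁]) l
  have heA : X.v 1 none e₁ = 1 := by rw [heRow]; rfl
  have he1 : D e₁ = 1 := by
    have : (D e₁ : ℂ) = 1 := (hD e₁).symm.trans rfl
    exact_mod_cast this
  have hemem : e₁ ∈ X.blk 1 := X.mem_blk (k := none) (by rw [heA]; norm_num)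
  have hzmem : z ∈ X.blk 1 := X.mem_blk (k := none) (by rw [hzA]; exact hAz0)
  have hvmem : v ∈ X.blk 1 := X.mem_blk (k := none) (by rw [hvA]; exact hAv0)
  -- values at `t`
  have tval : ∀ {ν : Subgroup.zpowers C.φ →* ℂˣ} {χ : IrrCharacter G}, χ ∈ X.blk ν →
      (χ : G → ℂ) C.t = (X.v ν none χ : ℂ) +
        ((X.v ν (some 0) χ : ℂ) + X.v ν (some 1) χ) * (((q : ℂ) - 1) / 2) := fun h => by
    rw [X.t_value h, hqC]
  have hzt : (z : G → ℂ) C.t = (Az : ℂ) := by rw [tval hzmem, hzA, hzB, hzB]; simp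
  have hvt : (v : G → ℂ) C.t = ((Av * q : ℤ) : ℂ) := by rw [tval hvmem, hvA, hvB, hvB]; push_cast; ring
  have hqr : ((Fintype.card C.F : ℕ) : ZMod r) ≠ 0 ∧ ((Fintype.card C.F : ℕ) : ZMod r) ^ 2 - 1 ≠ 0 :=
    r_not_sq X.hR (qmod X.hR)
  have hrz : r ∣ D z := X.dvd_degree hbig hzP.unit hzt (hD z)
  have hrv : r ∣ D v := X.dvd_degree hbig hvP.unit hvt (hD v)
  have hez : e₁ ≠ z := fun h => X.hR.prime.ne_one (Nat.dvd_one.1 (he1 ▸ h ▸ hrz))
  have hev : e₁ ≠ v := fun h => X.hR.prime.ne_one (Nat.dvd_one.1 (he1 ▸ h ▸ hrv))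
  have hzv : z ≠ v := fun h => hAv0 (by rw [← hvB 0, ← h, hzB 0])
  -- the fourth character over `1`
  obtain ⟨u, hu, heu, hzu, hvu, hS⟩ : ∃ u, X.v 1 none u ≠ 0 ∧ e₁ ≠ u ∧ z ≠ u ∧ v ≠ u ∧
      ∀ χ, X.v 1 none χ ≠ 0 → χ = e₁ ∨ χ = z ∨ χ = v ∨ χ = u := by
    set S := Finset.univ.filter fun χ => X.v 1 none χ ≠ 0
    have hsub : ({e₁, z, v} : Finset (IrrCharacter G)) ⊆ S := by
      intro x hx
      simp only [Finset.mem_insert, Finset.mem_singleton] at hx
      rcases hx with rfl | rfl | rfl <;> simp [S, heA, hzA, hvA, hAz0, hAv0]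
    have h3 : ({e₁, z, v} : Finset (IrrCharacter G)).card = 3 :=
      Finset.card_eq_three.2 ⟨_, _, _, hez, hev, hzv, rfl⟩
    have hc : (S \ {e₁, z, v}).card = 1 := by
      rw [Finset.card_sdiff_of_subset hsub, hP.four none, h3]
    obtain ⟨u, hu⟩ := Finset.card_eq_one.1 hc
    have hu' := (Finset.mem_sdiff.1 (hu ▸ Finset.mem_singleton_self u : u ∈ S \ {e₁, z, v}))
    simp only [Finset.mem_insert, Finset.mem_singleton, not_or] at hu'
    refine ⟨u, (Finset.mem_filter.1 hu'.1).2, Ne.symm hu'.2.1, Ne.symm hu'.2.2.1, Ne.symm hu'.2.2.2, fun χ hχ => ?_⟩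
    by_cases hm : χ ∈ ({e₁, z, v} : Finset (IrrCharacter G))
    · simp only [Finset.mem_insert, Finset.mem_singleton] at hm
      rcases hm with h | h | h
      exacts [Or.inl h, Or.inr (Or.inl h), Or.inr (Or.inr (Or.inl h))]
    · have : χ ∈ S \ {e₁, z, v} := Finset.mem_sdiff.2 ⟨by simp [S, hχ], hm⟩
      rw [hu, Finset.mem_singleton] at this
      exact Or.inr (Or.inr (Or.inr this))
  set Au := X.v 1 none u with hAudef
  have huB : ∀ j, X.v 1 (some j) u = Au := by
    intro j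
    refine (hP.agree (some j) none u ?_ hu)
    intro h0
    have h2 := hP.two none (some j) (by simp)
    have hsub : (Finset.univ.filter fun χ => X.v 1 none χ ≠ 0 ∧ X.v 1 (some j) χ ≠ 0) ⊆ {v} := by
      intro χ hχ
      obtain ⟨-, h1, h1'⟩ := Finset.mem_filter.1 hχ
      rcases hS χ h1 with rfl | rfl | rfl | rfl
      · exact absurd (by rw [heRow]; rfl) h1'
      · exact absurd (hzB j) h1'
      · exact Finset.mem_singleton_self _
      · exact absurd h0 h1'
    have := Finset.card_le_card hsub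
    rw [h2, Finset.card_singleton] at this
    omega
  have humem : u ∈ X.blk 1 := X.mem_blk (k := none) hu
  have hAu : Au = 1 ∨ Au = -1 := unit (hP.unit none u) hu
  have hut : (u : G → ℂ) C.t = ((Au * q : ℤ) : ℂ) := by
    rw [tval humem, huB, huB, ← hAudef]; push_cast; ring
  set W : ℤ := Az * D z with hWdef
  set V : ℤ := Av * D v with hVdef
  set U : ℤ := Au * D u with hUdef
  have sq1 : ∀ {a : ℤ}, (a = 1 ∨ a = -1) → ∀ (d : ℕ) (x : ℂ),
      (a : ℂ) * (((a : ℂ) * x) ^ 2 / (d : ℂ)) = x ^ 2 / ((a : ℂ) * d) := fun ha d x => by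
    rcases ha with rfl | rfl <;> push_cast <;> simp [div_neg, neg_div]
  have hne : ∀ {a : ℤ} {χ : IrrCharacter G}, (a = 1 ∨ a = -1) → a * (D χ : ℤ) ≠ 0 := fun {a χ} ha =>
    mul_ne_zero (by rcases ha with e | e <;> simp [e]) (by exact_mod_cast (hD0 χ).ne')
  have hsum1 : 1 + W + V + U = 0 := by
    have h := X.sum_deg_v 1 none
    rw [sum_four hez hev heu hzv hzu hvu _ fun χ hχ => hS χ fun e => hχ (by rw [e, Int.cast_zero, mul_zero]),
      hD, hD, hD, hD, heA, hzA, hvA, he1, ← hAudef] at h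
    have h' : ((1 + W + V + U : ℤ) : ℂ) = ((0 : ℤ) : ℂ) := by
      rw [hWdef, hVdef, hUdef]; push_cast at h ⊢; linear_combination h
    exact_mod_cast h'
  have hUr : ((U : ℤ) : ZMod r) = -1 := by
    have h := congrArg (fun z : ℤ => (z : ZMod r)) hsum1
    simp only [hWdef, hVdef, Int.cast_add, Int.cast_mul, Int.cast_natCast, (ZMod.natCast_eq_zero_iff _ _).2 hrz,
      (ZMod.natCast_eq_zero_iff _ _).2 hrv, mul_zero, add_zero, Int.cast_one, Int.cast_zero] at h
    linear_combination h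
  have hT1 : ∑ χ : IrrCharacter G, (X.v 1 none χ : ℂ) * ((χ : G → ℂ) C.t ^ 2 / (χ : G → ℂ) 1) =
      1 + ((1 : ℂ) / (W : ℂ) + ((q : ℂ) ^ 2 / (V : ℂ) + (q : ℂ) ^ 2 / (U : ℂ))) := by
    rw [sum_four hez hev heu hzv hzu hvu _ fun χ hχ => hS χ fun e => hχ (by rw [e, Int.cast_zero, zero_mul]),
      hD, hD, hD, hD, heA, hzA, hvA, he1, ← hAudef, hzt, hvt, hut]
    simp only [hWdef, hVdef, hUdef, Int.cast_mul, Int.cast_natCast, sq1 hAv, sq1 hAu]
    rw [show (e₁ : G → ℂ) C.t = 1 from rfl]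
    have h1 := sq1 hAz (D z) 1
    rw [mul_one, one_pow] at h1
    rw [h1]
    simp
  -- the linear character of order `r`
  have hω := Complex.isPrimitiveRoot_exp r X.hR.prime.ne_zero
  set ω₀ : ℂ := Complex.exp (2 * Real.pi * Complex.I / r) with hω₀
  have hgen : ∀ x : Subgroup.zpowers C.φ, x ∈ Subgroup.zpowers X.φz := fun x => by
    obtain ⟨i, hi⟩ := x.2
    exact ⟨i, Subtype.ext (by simpa [Ctx.φz] using hi)⟩
  let μ : Subgroup.zpowers C.φ →* ℂˣ := monoidHomOfForallMemZpowers hgen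
    (g' := Units.mk0 ω₀ (hω.ne_zero X.hR.prime.ne_zero)) (by
      refine orderOf_dvd_of_pow_eq_one (Units.ext ?_)
      rw [Units.val_pow_eq_pow_val, Units.val_mk0, Units.val_one, Ctx.φz, Subgroup.orderOf_mk, C.φ_ord,
        hω.pow_eq_one_iff_dvd]
      exact X.hR.dvd)
  have hμφ : μ X.φz = Units.mk0 ω₀ (hω.ne_zero X.hR.prime.ne_zero) := monoidHomOfForallMemZpowers_apply_gen hgen _
  have hμr : ∀ a, μ a ^ r = 1 := by
    intro a
    obtain ⟨i, rfl⟩ := hgen a
    show μ (X.φz ^ i) ^ r = 1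
    rw [map_zpow, ← zpow_natCast, ← zpow_mul, mul_comm, zpow_mul, zpow_natCast, hμφ,
      show (Units.mk0 ω₀ (hω.ne_zero X.hR.prime.ne_zero)) ^ r = 1 from Units.ext (by simpa using hω.pow_eq_one),
      one_zpow]
  have hμs : μ X.sz ≠ 1 := by
    intro h
    rw [X.sz_eq, map_pow, hμφ] at h
    have h' := congrArg (fun w : ℂˣ => (w : ℂ)) h
    rw [Units.val_pow_eq_pow_val, Units.val_mk0, Units.val_one, hω.pow_eq_one_iff_dvd] at h'
    exact r_not_dd X.hR h'
  have hμne : μ ≠ 1 := fun h => hμs (by rw [h]; rfl)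
  have hμr' : (μ X.sz : ℂ) ^ r = 1 := by rw [← Units.val_pow_eq_pow_val, hμr, Units.val_one]
  have hprim := Complex.isPrimitiveRoot_exp (r ^ X.k) (pow_ne_zero _ X.hR.prime.ne_zero)
  obtain ⟨a₀, -, ha₀⟩ : ∃ a < r ^ X.k, Suz.ξ r X.k ^ a = (μ X.sz : ℂ) := by
    haveI : NeZero (r ^ X.k) := ⟨pow_ne_zero _ X.hR.prime.ne_zero⟩
    refine IsPrimitiveRoot.eq_pow_of_pow_eq_one hprim ?_
    rw [show r ^ X.k = r * r ^ (X.k - 1) by
      rw [← pow_succ', Nat.sub_add_cancel (one_le_k X.hR)], pow_mul, hμr', one_pow]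
  have hshift : Suz.ξ r X.k ^ (0 * r) = Suz.ξ r X.k ^ (a₀ * r) := by
    rw [zero_mul, pow_zero, pow_mul, ha₀, hμr']
  obtain ⟨z', hz'P, hz'off⟩ := Suz.shift X.hMr X.hyp hzP hshift
  obtain ⟨v', hv'P, hv'off⟩ := Suz.shift X.hMr X.hyp hvP hshift
  have hξ0 : Suz.ξ r X.k ^ a₀ = Suz.ξ r X.k ^ 0 * (μ X.sz : ℂ) := by rw [ha₀, pow_zero, one_mul]
  have htz := X.transfer hμr hzP hz'P hz'off hξ0
  have htv := X.transfer hμr hvP hv'P hv'off hξ0
  have hz'row : ∀ k, X.v μ k z' = X.v 1 k z := fun k => by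
    have := X.transfer_row (μ := μ) hzmem htz k
    rwa [show μ * 1 = μ from MonoidHom.ext fun a => by simp] at this
  have hv'row : ∀ k, X.v μ k v' = X.v 1 k v := fun k => by
    have := X.transfer_row (μ := μ) hvmem htv k
    rwa [show μ * 1 = μ from MonoidHom.ext fun a => by simp] at this
  have hz'D : D z' = D z := by
    have h := hz'off 1 (one_not_inS X.hR)
    rw [hD, hD] at h
    exact_mod_cast h
  have hv'D : D v' = D v := by
    have h := hv'off 1 (one_not_inS X.hR)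
    rw [hD, hD] at h
    exact_mod_cast h
  have hz't : (z' : G → ℂ) C.t = (Az : ℂ) := by
    have h := htz 1
    rw [Subgroup.coe_one, mul_one, map_one, map_one, Units.val_one, one_mul] at h
    rw [h, hzt]
  have hv't : (v' : G → ℂ) C.t = ((Av * q : ℤ) : ℂ) := by
    have h := htv 1
    rw [Subgroup.coe_one, mul_one, map_one, map_one, Units.val_one, one_mul] at h
    rw [h, hvt]
  have hPμ := X.pattern μ
  have hz'v' : z' ≠ v' := fun h => hAv0 (by rw [← hvB 0, ← hv'row, ← h, hz'row, hzB 0])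
  -- the two remaining characters over `μ`
  obtain ⟨x₁, x₂, hx₁, hx₂, h12, hzx₁, hzx₂, hvx₁, hvx₂, hSμ⟩ : ∃ x₁ x₂, X.v μ none x₁ ≠ 0 ∧ X.v μ none x₂ ≠ 0 ∧
      x₁ ≠ x₂ ∧ z' ≠ x₁ ∧ z' ≠ x₂ ∧ v' ≠ x₁ ∧ v' ≠ x₂ ∧
      ∀ χ, X.v μ none χ ≠ 0 → χ = z' ∨ χ = v' ∨ χ = x₁ ∨ χ = x₂ := by
    set S := Finset.univ.filter fun χ => X.v μ none χ ≠ 0
    have hsub : ({z', v'} : Finset (IrrCharacter G)) ⊆ S := by
      intro x hx
      simp only [Finset.mem_insert, Finset.mem_singleton] at hx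
      rcases hx with rfl | rfl <;> simp [S, hz'row, hv'row, hzA, hvA, hAz0, hAv0]
    have hc : (S \ {z', v'}).card = 2 := by
      rw [Finset.card_sdiff_of_subset hsub, hPμ.four none, Finset.card_pair hz'v']
    obtain ⟨a, b, hab, he⟩ := Finset.card_eq_two.1 hc
    have ha : a ∈ S \ {z', v'} := by rw [he]; simp
    have hb : b ∈ S \ {z', v'} := by rw [he]; simp
    simp only [Finset.mem_sdiff, Finset.mem_insert, Finset.mem_singleton, not_or] at ha hb
    refine ⟨a, b, (Finset.mem_filter.1 ha.1).2, (Finset.mem_filter.1 hb.1).2, hab, Ne.symm ha.2.1, Ne.symm hb.2.1,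
      Ne.symm ha.2.2, Ne.symm hb.2.2, fun χ hχ => ?_⟩
    by_cases hm : χ ∈ ({z', v'} : Finset (IrrCharacter G))
    · simp only [Finset.mem_insert, Finset.mem_singleton] at hm
      rcases hm with h | h
      exacts [Or.inl h, Or.inr (Or.inl h)]
    · have : χ ∈ S \ {z', v'} := Finset.mem_sdiff.2 ⟨by simp [S, hχ], hm⟩
      rw [he, Finset.mem_insert, Finset.mem_singleton] at this
      rcases this with h | h
      exacts [Or.inr (Or.inr (Or.inl h)), Or.inr (Or.inr (Or.inr h))]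
  -- the common statement for an ordering of the two
  have key : ∀ x y : IrrCharacter G, X.v μ none x ≠ 0 → X.v μ none y ≠ 0 → x ≠ y → z' ≠ x → z' ≠ y → v' ≠ x →
      v' ≠ y → (∀ χ, X.v μ none χ ≠ 0 → χ = z' ∨ χ = v' ∨ χ = x ∨ χ = y) →
      ((∀ j, X.v μ (some j) x = 0) ∧ (∀ j, X.v μ (some j) y ≠ 0) ∨
        (X.v μ (some 0) x ≠ 0 ∧ X.v μ (some 1) x = 0 ∧ X.v μ (some 0) y = 0 ∧ X.v μ (some 1) y ≠ 0)) →
      False := by
    intro x y hx hy hxy hzx hzy hvx hvy hS' hcase
    set Ax := X.v μ none x with hAxdef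
    set Ay := X.v μ none y with hAydef
    have hAx : Ax = 1 ∨ Ax = -1 := unit (hPμ.unit none x) hx
    have hAy : Ay = 1 ∨ Ay = -1 := unit (hPμ.unit none y) hy
    have hxmem : x ∈ X.blk μ := X.mem_blk hx
    have hymem : y ∈ X.blk μ := X.mem_blk hy
    have hxnz : ∀ {j}, X.v μ (some j) x ≠ 0 → X.v μ (some j) x = Ax := fun h => hPμ.agree _ _ x h hx
    have hynz : ∀ {j}, X.v μ (some j) y ≠ 0 → X.v μ (some j) y = Ay := fun h => hPμ.agree _ _ y h hy
    set Ex : ℤ := Ax * D x with hExdef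
    set Ey : ℤ := Ay * D y with hEydef
    have hsum2 : W + V + Ex + Ey = 0 := by
      have h := X.sum_deg_v μ none
      rw [sum_four hz'v' hzx hzy hvx hvy hxy _ fun χ hχ => hS' χ fun e => hχ (by rw [e, Int.cast_zero, mul_zero]),
        hD, hD, hD, hD, hz'row, hv'row, hzA, hvA, hz'D, hv'D, ← hAxdef, ← hAydef] at h
      have h' : ((W + V + Ex + Ey : ℤ) : ℂ) = ((0 : ℤ) : ℂ) := by
        rw [hWdef, hVdef, hExdef, hEydef]; push_cast at h ⊢; linear_combination h
      exact_mod_cast h'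
    have hsumXY : (Ex : ℚ) + Ey = 1 + U := by
      have : Ex + Ey = 1 + U := by linarith
      exact_mod_cast this
    have hTeq : ∀ tx ty : ℂ, (x : G → ℂ) C.t = (Ax : ℂ) * tx → (y : G → ℂ) C.t = (Ay : ℂ) * ty →
        tx ^ 2 / (Ex : ℂ) + ty ^ 2 / (Ey : ℂ) = 1 + (q : ℂ) ^ 2 / (U : ℂ) := by
      intro tx ty htx hty
      have h := X.sum_T μ
      rw [hT1, sum_four hz'v' hzx hzy hvx hvy hxy _ fun χ hχ => hS' χ fun e => hχ (by rw [e, Int.cast_zero, zero_mul]),
        hD, hD, hD, hD, hz'row, hv'row, hzA, hvA, hz'D, hv'D, ← hAxdef, ← hAydef, hz't, hv't, htx, hty,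
        Int.cast_mul Av q, sq1 hAv, sq1 hAx, sq1 hAy] at h
      have h1 := sq1 hAz (D z) 1
      rw [mul_one, one_pow] at h1
      rw [h1] at h
      simp only [hWdef, hVdef, hExdef, hEydef, Int.cast_mul, Int.cast_natCast] at h ⊢
      linear_combination h
    rcases hcase with ⟨hx0, hy0⟩ | ⟨hx0, hx1, hy0, hy1⟩
    · -- the split pattern
      have hxB : ∀ j, X.v μ (some j) x = 0 := hx0
      have hxt : (x : G → ℂ) C.t = (Ax : ℂ) := by rw [tval hxmem, hxB, hxB]; simp [Ax]
      have hyt : (y : G → ℂ) C.t = (Ay : ℂ) * (q : ℂ) := by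
        rw [tval hymem, hynz (hy0 0), hynz (hy0 1), ← hAydef]; ring
      have hdeg1 : D x ≠ 1 := by
        intro h
        have hx1 : x = e₁ := deg_one_trivial X.base (by rw [hD, h, Nat.cast_one])
        exact hμne (X.mem_unique (hx1 ▸ hxmem) hemem)
      have hT := hTeq 1 (q : ℂ) (by rw [hxt, mul_one]) hyt
      rw [one_pow] at hT
      have hTQ : (1 : ℚ) / Ex + (q : ℚ) ^ 2 / Ey = 1 + (q : ℚ) ^ 2 / U := by
        apply Rat.cast_injective (α := ℂ)
        push_cast
        exact hT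
      have hdeg := degrees_split (q := (q : ℚ)) (U := (U : ℚ)) (E := (Ex : ℚ)) (X := (Ey : ℚ))
        (Int.cast_ne_zero.2 (hne hAu)) (Int.cast_ne_zero.2 (hne hAx)) (Int.cast_ne_zero.2 (hne hAy)) hsumXY hTQ
      rcases hdeg with h | h
      · have h' : Ax * (D x : ℤ) = 1 := by exact_mod_cast h
        refine hdeg1 ?_
        have := Int.eq_one_of_mul_eq_one_left (Int.natCast_nonneg (D x)) h'
        exact_mod_cast this
      -- `x` has unit central character at `t`
      set N := ((Subgroup.centralizer ({C.t} : Set G)).index : ℂ) with hNdef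
      have cw : ∀ χ : IrrCharacter G, centralChar (χ : G → ℂ) C.t = N * (χ : G → ℂ) C.t / (D χ : ℂ) := fun χ => by
        rw [centralChar, hD]
      have hcx : centralChar (x : G → ℂ) C.t = N / (Ex : ℂ) := by
        rw [cw, hxt, unit_div hAx, hExdef]; push_cast; rfl
      have hcz : centralChar (z : G → ℂ) C.t = N / (W : ℂ) := by
        rw [cw, hzt, unit_div hAz, hWdef]; push_cast; rfl
      have hcv : centralChar (v : G → ℂ) C.t = N * (q : ℂ) / (V : ℂ) := by
        rw [cw, hvt, Int.cast_mul, show N * ((Av : ℂ) * (q : ℂ)) = N * (q : ℂ) * (Av : ℂ) by ring,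
          unit_div hAv, hVdef]
        push_cast; rfl
      have hos := omega_split (q := (q : ℂ)) (U := (U : ℂ)) (V := (V : ℂ)) (W := (W : ℂ)) (E := (Ex : ℂ)) (N := N)
        (Int.cast_ne_zero.2 (hne hAv)) (Int.cast_ne_zero.2 (hne hAz)) (Int.cast_ne_zero.2 (hne hAx))
        (by exact_mod_cast hsum1) (by exact_mod_cast h)
      rw [← hcx, ← hcv, ← hcz] at hos
      have mz : MemLocalRing X.Mr (centralChar (z : G → ℂ) C.t) := memRing_clv X.hMr C.t z
      have mv : MemLocalRing X.Mr (centralChar (v : G → ℂ) C.t) := memRing_clv X.hMr C.t v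
      have mx : MemLocalRing X.Mr (centralChar (x : G → ℂ) C.t) := memRing_clv X.hMr C.t x
      have mi : ∀ w : ℤ, MemLocalRing X.Mr (w : ℂ) := fun w => intCast_mem (loc X.hMr) w
      have hux : Suz.UnitG X.Mr C.t x := by
        rw [Suz.unitG_iff X.hMr X.hyp]
        intro h0
        have hz0 : res X.hMr (centralChar (z : G → ℂ) C.t) ≠ 0 := (Suz.unitG_iff X.hMr X.hyp z).1 hzP.unit
        have hv0 : res X.hMr (centralChar (v : G → ℂ) C.t) ≠ 0 := (Suz.unitG_iff X.hMr X.hyp v).1 hvP.unit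
        have m1 : MemLocalRing X.Mr
            (-(U : ℂ) * (centralChar (v : G → ℂ) C.t + (q : ℂ) * centralChar (z : G → ℂ) C.t)) :=
          (loc X.hMr).mul_mem ((loc X.hMr).neg_mem (mi U))
            ((loc X.hMr).add_mem mv ((loc X.hMr).mul_mem (mi q) mz))
        have m2 : MemLocalRing X.Mr ((U : ℂ) + (q : ℂ) ^ 2) :=
          (loc X.hMr).add_mem (mi U) ((loc X.hMr).pow_mem (mi q) 2)
        have e := congrArg (res X.hMr) hos
        rw [res_mul X.hMr mx m1, h0, zero_mul, res_mul X.hMr ((loc X.hMr).mul_mem m2 mz) mv,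
          res_mul X.hMr m2 mz] at e
        have e2 := ((mul_eq_zero.1 ((mul_eq_zero.1 e.symm).resolve_right hv0)).resolve_right hz0)
        rw [show (U : ℂ) + (q : ℂ) ^ 2 = ((U + q ^ 2 : ℤ) : ℂ) by push_cast; rfl, res_intCast'] at e2
        have e3 := (CharP.intCast_eq_zero_iff (AlgInt ⧸ X.Mr) r _).1 e2
        have e4 : ((U + q ^ 2 : ℤ) : ZMod r) = 0 := (ZMod.intCast_zmod_eq_zero_iff_dvd _ _).2 e3
        rw [hq, Int.cast_add, hUr, Int.cast_pow, Int.cast_natCast] at e4
        exact hqr.2 (by linear_combination e4)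
      -- so it is pure, and shifts to `z`
      have hnot1 : ¬ r ∣ 1 := Nat.dvd_one.not.2 X.hR.prime.ne_one
      have hτreg : ¬ r ∣ orderOf (τH X.hR) := X.hyp.t_reg ∘ fun h => by rwa [← Subgroup.orderOf_coe] at h
      have hxts : (x : G → ℂ) (C.rpart r ^ 1 * ((τH X.hR : Suz.Hs (C.rpart r)) : G)) =
          (μ X.sz : ℂ) * (Ax : ℂ) := by
        rw [pow_one, ← (C.t_rpart r).eq, show C.rpart r = ((φE C ^ (X.dd * 1) : E C) : G) by
          rw [Subgroup.coe_pow, coe_φE, mul_one]; rfl, X.value hxmem (X.φE_reg _).2, X.proj_s, pow_one,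
          Fintype.sum_option, Fin.sum_univ_two, hxB, hxB, ← hAxdef]
        simp [dual, oneIrr]
      have hAxC : (Ax : ℂ) ≠ 0 := Int.cast_ne_zero.2 hx
      rcases Suz.unit_cases X.hMr X.hyp hux with h0 | ⟨θ, a, ε, hxP⟩
      · rw [h0 1 hnot1 _ hτreg] at hxts
        exact mul_ne_zero (Units.ne_zero _) hAxC hxts.symm
      have hval := hxP.val 1 hnot1 _ hτreg
      rw [hxts, mul_one] at hval
      have hτreal : conj ((θ : Suz.Hs (C.rpart r) → ℂ) (τH X.hR)) = (θ : Suz.Hs (C.rpart r) → ℂ) (τH X.hR) := by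
        rw [irr_conjInv, inv_eq_of_mul_eq_one_right (show τH X.hR * τH X.hR = 1 from Subtype.ext C.tt)]
      set ρ : ℂ := Suz.ξ r X.k ^ a * (μ X.sz : ℂ)⁻¹ with hρ
      have hμ0 : (μ X.sz : ℂ) ≠ 0 := Units.ne_zero _
      have hεθ : (ε : ℂ) * (θ : Suz.Hs (C.rpart r) → ℂ) (τH X.hR) * ρ = (Ax : ℂ) := by
        rw [hρ]
        field_simp
        linear_combination -hval
      have hρ1 : ρ = 1 := by
        refine real_root ?_ X.odd_R ?_
        · have hc := congrArg conj hεθ
          simp only [map_mul, map_intCast, hτreal] at hc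
          have hne0 : (ε : ℂ) * (θ : Suz.Hs (C.rpart r) → ℂ) (τH X.hR) ≠ 0 := fun e => hAxC (by
            rw [← hεθ, e, zero_mul])
          exact mul_left_cancel₀ hne0 (hc.trans hεθ.symm)
        · rw [hρ, mul_pow, inv_pow, Suz.ξ_pow_R X.hMr X.hyp, ← Units.val_pow_eq_pow_val,
            show μ X.sz ^ r ^ X.k = 1 by
              rw [show r ^ X.k = r * r ^ (X.k - 1) by rw [← pow_succ', Nat.sub_add_cancel (one_le_k X.hR)],
                pow_mul, hμr, one_pow], Units.val_one, inv_one, mul_one]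
      have hξa : Suz.ξ r X.k ^ a = (μ X.sz : ℂ) := by
        rw [hρ] at hρ1
        exact (mul_inv_eq_one₀ hμ0).1 hρ1
      have hshift' : Suz.ξ r X.k ^ (a * r) = Suz.ξ r X.k ^ (0 * r) := by
        rw [zero_mul, pow_zero, pow_mul, hξa, hμr']
      obtain ⟨x'', hx''P, hx''off⟩ := Suz.shift X.hMr X.hyp hxP hshift'
      have hμi : ∀ a, (μ⁻¹) a ^ r = 1 := fun a => by rw [MonoidHom.inv_apply, inv_pow, hμr, inv_one]
      have htx := X.transfer hμi hxP hx''P hx''off (by
        rw [pow_zero, hξa, MonoidHom.inv_apply, ← Units.val_mul, mul_inv_cancel, Units.val_one])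
      have hx''row : ∀ k, X.v 1 k x'' = X.v μ k x := fun k => by
        have := X.transfer_row (μ := μ⁻¹) hxmem htx k
        rwa [hom_inv_mul] at this
      have hx''D : D x'' = D x := by
        have h := hx''off 1 (one_not_inS X.hR)
        rw [hD, hD] at h
        exact_mod_cast h
      have hx''z : x'' = z := by
        rcases hS x'' (by rw [hx''row]; exact hx) with h | h | h | h
        · exact absurd (hx''D.symm.trans (by rw [h, he1])) hdeg1
        · exact h
        · exact absurd (hvB 0) (by rw [← h, hx''row, hxB]; exact Ne.symm hAv0)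
        · exact absurd (huB 0) (by rw [← h, hx''row, hxB]; exact Ne.symm hu)
      subst hx''z
      obtain ⟨hθθ, -, hεε⟩ := Suz.pure_unique X.hMr X.hyp hx''P hzP
      subst hθθ hεε
      refine hzx (Subtype.ext (funext fun g => ?_))
      by_cases hg : Suz.InS r (C.rpart r) g
      · obtain ⟨c, i, w, hi, hw, rfl⟩ := hg
        rw [irr_isClassFun z', irr_isClassFun x, hz'P.val i hi w hw, hxP.val i hi w hw, pow_mul, pow_mul, ha₀, hξa]
      · rw [hz'off g hg, hx''off g hg]
    · -- the mixed pattern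
      obtain ⟨n, hn, hno, hn3⟩ := exists_twist (N := Nat.card G) Nat.card_pos.ne'
      have hrG : r ∣ Nat.card G := by
        refine dvd_trans ?_ (Subgroup.card_subgroup_dvd_card (Subgroup.zpowers C.φ))
        rw [Nat.card_zpowers, C.φ_ord]
        exact X.hR.dvd
      have hμn : ∀ a, μ a ^ n = μ a := fun a => by
        conv_rhs => rw [← pow_one (μ a)]
        refine pow_eq_pow_iff_modEq.2 ((hno r hrG ?_).of_dvd (orderOf_dvd_of_pow_eq_one (hμr a)))
        exact fun h => X.hR.ne_three ((Nat.prime_dvd_prime_iff_eq Nat.prime_three X.hR.prime).1 h).symm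
      have hrow := X.pow_row hxmem hn hn3 hμn
      set x' := powIrr hn x
      have hx'y : x' = y := by
        rcases hS' x' (by rw [hrow]; exact hx) with h | h | h | h
        · exact absurd (hrow (some 1)) (by rw [h, hz'row, hzB]; exact Ne.symm hx0)
        · exact absurd (hrow (some 0)) (by rw [h, hv'row, hvB]; show Av ≠ X.v μ (some 1) x; rw [hx1]; exact hAv0)
        · exact absurd (hrow (some 1)) (by rw [h, hx1]; exact Ne.symm hx0)
        · exact h
      have hAeq : Ay = Ax := by rw [hAydef, ← hx'y, hrow]; rfl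
      have hDeq : D y = D x := by
        have : (D y : ℂ) = (D x : ℂ) := by
          rw [← hD, ← hD, ← hx'y]
          show (x : G → ℂ) (1 ^ n) = _
          rw [one_pow]
        exact_mod_cast this
      have hExy : Ey = Ex := by rw [hEydef, hExdef, hAeq, hDeq]
      have hT := hTeq (((q : ℂ) + 1) / 2) (((q : ℂ) + 1) / 2)
        (by rw [tval hxmem, hxnz hx0, hx1, ← hAxdef]; push_cast; ring)
        (by rw [tval hymem, hy0, hynz hy1, ← hAydef]; push_cast; ring)
      rw [hExy] at hT hsumXY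
      have hTQ : (((q : ℚ) + 1) / 2) ^ 2 / Ex + (((q : ℚ) + 1) / 2) ^ 2 / Ex = 1 + (q : ℚ) ^ 2 / U := by
        apply Rat.cast_injective (α := ℂ)
        push_cast
        exact hT
      have hUq := degrees_mixed (Int.cast_ne_zero.2 (hne hAu)) (Int.cast_ne_zero.2 (hne hAx)) hsumXY hTQ
      have hUq' : U = q := by exact_mod_cast hUq
      rw [hUq', hq, Int.cast_natCast, qmod X.hR] at hUr
      have hc := cong_zmod X.hR
      rw [hUr] at hc
      exact three_ne X.hR (by linear_combination hc)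
  -- exactly one of the two meets each `η`
  have hone : ∀ j, (X.v μ (some j) x₁ = 0 ∧ X.v μ (some j) x₂ ≠ 0) ∨
      (X.v μ (some j) x₁ ≠ 0 ∧ X.v μ (some j) x₂ = 0) := by
    intro j
    have h2 := hPμ.two none (some j) (by simp)
    set F := Finset.univ.filter fun χ => X.v μ none χ ≠ 0 ∧ X.v μ (some j) χ ≠ 0
    have hv' : v' ∈ F := by simp [F, hv'row, hvA, hvB, hAv0]
    by_cases h1 : X.v μ (some j) x₁ = 0 <;> by_cases h1' : X.v μ (some j) x₂ = 0
    · exfalso
      have : F ⊆ {v'} := by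
        intro χ hχ
        obtain ⟨-, ha, hb⟩ := Finset.mem_filter.1 hχ
        rcases hSμ χ ha with rfl | rfl | rfl | rfl
        · exact absurd (by rw [hz'row, hzB]) hb
        · simp
        · exact absurd h1 hb
        · exact absurd h1' hb
      have := Finset.card_le_card this
      rw [h2, Finset.card_singleton] at this
      omega
    · exact Or.inl ⟨h1, h1'⟩
    · exact Or.inr ⟨h1, h1'⟩
    · exfalso
      have : ({v', x₁, x₂} : Finset (IrrCharacter G)) ⊆ F := by
        intro χ hχ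
        simp only [Finset.mem_insert, Finset.mem_singleton] at hχ
        rcases hχ with rfl | rfl | rfl
        · exact hv'
        · simp [F, hx₁, h1]
        · simp [F, hx₂, h1']
      have := Finset.card_le_card this
      rw [h2, Finset.card_eq_three.2 ⟨_, _, _, hvx₁, hvx₂, h12, rfl⟩] at this
      omega
  have hswap : ∀ χ, X.v μ none χ ≠ 0 → χ = z' ∨ χ = v' ∨ χ = x₂ ∨ χ = x₁ := fun χ hχ => by
    rcases hSμ χ hχ with h | h | h | h
    exacts [Or.inl h, Or.inr (Or.inl h), Or.inr (Or.inr (Or.inr h)), Or.inr (Or.inr (Or.inl h))]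
  rcases hone 0 with ⟨a0, b0⟩ | ⟨a0, b0⟩ <;> rcases hone 1 with ⟨a1, b1⟩ | ⟨a1, b1⟩
  · exact key x₁ x₂ hx₁ hx₂ h12 hzx₁ hzx₂ hvx₁ hvx₂ hSμ
      (Or.inl ⟨fun j => by fin_cases j <;> assumption, fun j => by fin_cases j <;> assumption⟩)
  · exact key x₂ x₁ hx₂ hx₁ h12.symm hzx₂ hzx₁ hvx₂ hvx₁ hswap (Or.inr ⟨b0, b1, a0, a1⟩)
  · exact key x₁ x₂ hx₁ hx₂ h12 hzx₁ hzx₂ hvx₁ hvx₂ hSμ (Or.inr ⟨a0, a1, b0, b1⟩)
  · exact key x₂ x₁ hx₂ hx₁ h12.symm hzx₂ hzx₁ hvx₂ hvx₁ hswap
      (Or.inl ⟨fun j => by fin_cases j <;> assumption, fun j => by fin_cases j <;> assumption⟩)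

theorem big_of_case {C : Coord G} {r m : ℕ} (hR : CaseR C r m) :
    r ^ ((orderOf C.σ).factorization r + 1) ∣ Nat.card (Suz.Hs (C.rpart r)) := by
  obtain ⟨K, hK⟩ := exists_KS hR
  rw [hR.prime.pow_dvd_iff_le_factorization Nat.card_pos.ne',
    ← Subgroup.index_mul_card (oddCore ↥(Suz.Hs (C.rpart r))),
    Nat.factorization_mul Subgroup.index_ne_zero_of_finite Nat.card_pos.ne', Finsupp.add_apply, v_core hR,
    show (oddCore ↥(Suz.Hs (C.rpart r))).index = Nat.card (HB C r) from Subgroup.index_eq_card _,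
    ← Subgroup.card_mul_index K, Nat.factorization_mul Nat.card_pos.ne' Subgroup.index_ne_zero_of_finite,
    Finsupp.add_apply, hK.vK]
  have := (hR.prime.dvd_iff_one_le_factorization (Nat.succ_ne_zero _)).1 hR.cong
  simp only [Nat.succ_eq_add_one] at this
  omega

/-- Case (R) does not occur. -/
theorem rcase_false {G : Type u} [Group G] [Finite G] (B : Base G) (C : Coord G) {r m : ℕ} (hR : CaseR C r m) :
    False := by
  classical
  haveI : Fintype G := Fintype.ofFinite G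
  haveI : Fintype (E C) := Fintype.ofFinite _
  haveI : Fintype (H C) := Fintype.ofFinite _
  haveI : Fintype (Suz.Hs (C.rpart r)) := Fintype.ofFinite _
  obtain ⟨X⟩ := exists_ctx B C (rbase hR)
  exact rcase_core X (big_of_case hR) fun T hT => X.exists_good hR hT

end CfsgLib.Walter.RB
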