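import Cfsg.Agent.Lib.Walter.Seven.Main
import Cfsg.Agent.Lib.Walter.Three.Main
import Cfsg.Agent.Lib.Walter.J1Local
import Cfsg.Agent.Lib.Walter.RCase
import Cfsg.Agent.Lib.Walter.Core
import Cfsg.Agent.S0343

/-!
Walter's theorem for elementary abelian Sylow 2-subgroups of order eight: in a finite simple group the centraliser of
an involution, when not soluble, is `2 × L₂(q)` with `q = 5` or an odd power of three at least 27.

Blueprint: `blueprint/Walter.md`.
-/

set_option autoImplicit false
set_option linter.unusedSectionVars false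
set_option linter.style.haveILetI false

namespace CfsgLib.Walter

universe u

/-- In the minimal counterexample the field automorphism is trivial. -/
theorem σ_eq_one {G : Type u} [Group G] [Finite G] (B : Base G) (C : Coord G) : C.σ = 1 := by
  by_contra hσ
  rcases cases B C hσ with h | ⟨r, m, h⟩ | ⟨r, hr, hd, hord, hq, hsplit⟩ | ⟨r, a, h⟩
  · exact caseU_false B C h
  · exact RB.rcase_false B C h
  · refine caseJ_false B C (r := r) ⟨?_, hord, hq, hsplit⟩
    have hm : r ∈ Nat.divisors 1463 := Nat.mem_divisors.mpr ⟨hd, by norm_num⟩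
    rw [show Nat.divisors 1463 = {1, 7, 11, 19, 77, 133, 209, 1463} by decide +kernel] at hm
    simp only [Finset.mem_insert, Finset.mem_singleton] at hm
    rcases hm with rfl | rfl | rfl | rfl | rfl | rfl | rfl | rfl
    all_goals first | omega | exact absurd hr (by norm_num)
  · exact Seven.caseS_false B h

/-- The induction statement holds for every finite group. -/
theorem p_all (G : Type u) [Group G] [Finite G] : P G := by
  suffices h : ∀ (N : ℕ) (X : Type u) [Group X] [Finite X], Nat.card X = N → P X from h _ G rfl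
  intro N
  induction N using Nat.strong_induction_on with
  | _ N ih =>
  intro X _ _ hN hS T hT t ht hns
  let B : Base X := ⟨hS, fun Y _ _ hY => ih _ (hN ▸ hY) Y rfl, T, hT⟩
  haveI := hS
  obtain ⟨C, rfl⟩ := B.exists_coord ht hns
  obtain ⟨e⟩ := C.iso_of_trivial (σ_eq_one B C)
  have hq3 : 3 ≤ Fintype.card C.F := le_trans (by norm_num) C.hq5
  rcases Cfsg.Agent.S0343.result B.hab hq3 C.t C.t_ord ⟨e⟩ with ⟨m, hm, hc, -⟩ | ⟨hc, -⟩
  · exact ⟨C.F, C.instField, C.instFintype, Or.inr ⟨m, hm, hc⟩, ⟨e⟩⟩
  · refine ⟨C.F, C.instField, C.instFintype, Or.inl (hc.resolve_left fun h4 => ?_), ⟨e⟩⟩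
    rcases C.hq with h | h <;> omega

end CfsgLib.Walter
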