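import Cfsg.Agent.Lib.Walter.Field
import Cfsg.Prelude.Def_CaseTheorems
import Cfsg.Agent.Lib.PSolvable

/-!
The induction statement, the minimal counterexample and coordinates in the centraliser of an involution.

Blueprint: `blueprint/Walter.md`.
-/

set_option autoImplicit false
set_option linter.unusedSectionVars false
set_option linter.style.haveILetI false

namespace CfsgLib.Walter

open CfsgLib.PSL2 (fieldAut)

universe u

local notation "PSL₂[" K "]" => Matrix.ProjectiveSpecialLinearGroup (Fin 2) K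

/-- Elementary abelian of order eight. -/
def E8 {G : Type u} [Group G] (T : Subgroup G) : Prop := Nat.card T = 8 ∧ ∀ x ∈ T, x * x = 1

/-- `C(t) ≅ 2 × L₂(q)` with `q = 5` or an odd power of three at least 27. -/
def Shape (G : Type u) [Group G] (t : G) : Prop :=
  ∃ (F : Type) (_ : Field F) (_ : Fintype F),
    (Fintype.card F = 5 ∨ ∃ m, 1 ≤ m ∧ Fintype.card F = 3 ^ (2 * m + 1)) ∧
      Nonempty (Subgroup.centralizer ({t} : Set G) ≃* Multiplicative (ZMod 2) × PSL₂[F])

/-- The induction statement. -/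
def P (G : Type u) [Group G] : Prop :=
  IsSimpleGroup G → ∀ T : Sylow 2 G, E8 (T : Subgroup G) →
    ∀ t : G, orderOf t = 2 → ¬ Group.IsSolvable (Subgroup.centralizer ({t} : Set G)) → Shape G t

/-- A group all of whose smaller groups satisfy the induction statement. -/
structure Base (G : Type u) [Group G] [Finite G] where
  simple : IsSimpleGroup G
  ih : ∀ (X : Type u) [Group X] [Finite X], Nat.card X < Nat.card G → P X
  T : Sylow 2 G
  e8 : E8 (T : Subgroup G)

/-- Coordinates `⟨t⟩ × L₂(q)⟨φ⟩` in the centraliser of `t`, with `φ` inducing the field automorphism `σ`. -/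
structure Coord (X : Type u) [Group X] where
  F : Type
  instField : Field F
  instFintype : Fintype F
  hq : Fintype.card F % 8 = 3 ∨ Fintype.card F % 8 = 5
  hq5 : 5 ≤ Fintype.card F
  σ : RingAut F
  t : X
  ι : PSL₂[F] →* X
  φ : X
  ι_inj : Function.Injective ι
  t_ord : orderOf t = 2
  t_ι : ∀ x, Commute t (ι x)
  t_φ : Commute t φ
  conj : ∀ x, φ * ι x * φ⁻¹ = ι (fieldAut σ x)
  φ_ord : orderOf φ = orderOf σ
  cent : ∀ g : X, Commute g t → ∃ (i : Fin 2) (x : PSL₂[F]) (j : ℕ), g = t ^ (i : ℕ) * ι x * φ ^ j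

attribute [instance] Coord.instField Coord.instFintype

namespace Coord

variable {X : Type u} [Group X] (C : Coord X)

/-- The element of order `r` in `⟨φ⟩`, for `r` dividing its order. -/
noncomputable def part (r : ℕ) : X := C.φ ^ (orderOf C.σ / r)

/-- The `r`-part of `⟨φ⟩`. -/
noncomputable def rpart (r : ℕ) : X := C.part (r ^ (orderOf C.σ).factorization r)

theorem odd_f : Odd (orderOf C.σ) := odd_orderOf C.hq C.σ

theorem two_ne : (2 : C.F) ≠ 0 := two_ne_zero_of_mod C.hq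

theorem tt : C.t * C.t = 1 := by rw [← pow_two, ← C.t_ord, pow_orderOf_eq_one]

theorem t_ne : C.t ≠ 1 := fun e => by simpa [e] using C.t_ord

theorem conj_pow (j : ℕ) (x : PSL₂[C.F]) : C.φ ^ j * C.ι x * (C.φ ^ j)⁻¹ = C.ι (fieldAut (C.σ ^ j) x) := by
  induction j generalizing x with
  | zero => rw [pow_zero, pow_zero, one_mul, inv_one, mul_one]; exact congrArg C.ι (by rw [show (1 : RingAut C.F) = RingEquiv.refl C.F from rfl, PSL2.fieldAut_refl]; rfl)
  | succ j ih =>
    rw [pow_succ, show C.φ ^ j * C.φ * C.ι x * (C.φ ^ j * C.φ)⁻¹ = C.φ ^ j * (C.φ * C.ι x * C.φ⁻¹) * (C.φ ^ j)⁻¹ by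
      group, C.conj, ih, ← MulAut.mul_apply, ← PSL2.fieldAut_trans, pow_succ]
    rfl

theorem part_mem (r : ℕ) : C.part r ∈ Subgroup.zpowers C.φ := Subgroup.pow_mem _ (Subgroup.mem_zpowers _) _

theorem t_part (r : ℕ) : Commute C.t (C.part r) := C.t_φ.pow_right _

theorem orderOf_part {r : ℕ} (hr : r ∣ orderOf C.σ) : orderOf (C.part r) = r := by
  obtain ⟨k, hk⟩ := hr
  have hpos : 0 < orderOf C.σ := C.odd_f.pos
  have hr0 : 0 < r := Nat.pos_of_ne_zero fun e => by rw [e, zero_mul] at hk; omega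
  have hk0 : k ≠ 0 := fun e => by rw [e, mul_zero] at hk; omega
  rw [part, orderOf_pow' C.φ (by rw [hk, Nat.mul_div_cancel_left _ hr0]; exact hk0), C.φ_ord, hk,
    Nat.mul_div_cancel_left _ hr0, Nat.gcd_eq_right (dvd_mul_left k r), Nat.mul_div_cancel _ (Nat.pos_of_ne_zero hk0)]

theorem orderOf_rpart (r : ℕ) : orderOf (C.rpart r) = r ^ (orderOf C.σ).factorization r :=
  C.orderOf_part (Nat.ordProj_dvd _ _)

theorem rpart_mem (r : ℕ) : C.rpart r ∈ Subgroup.zpowers C.φ := C.part_mem _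

theorem t_rpart (r : ℕ) : Commute C.t (C.rpart r) := C.t_part _

end Coord

/-- Case (U) of the second gap: `q` is a power of three and `3` divides `f`. -/
structure CaseU {G : Type u} [Group G] (C : Coord G) : Prop where
  three : ∃ n, Fintype.card C.F = 3 ^ n
  dvd : 3 ∣ orderOf C.σ

/-- Case (J): `q = 5 ^ r`, `r` one of 7, 11, 19, and `C(φ) = ⟨φ⟩ × J`. -/
structure CaseJ {G : Type u} [Group G] (C : Coord G) (r : ℕ) : Prop where
  hr : r = 7 ∨ r = 11 ∨ r = 19
  ord : orderOf C.σ = r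
  hq : Fintype.card C.F = 5 ^ r
  split : ∃ J : Subgroup G, Cfsg.IsJ1 ↥J ∧ (∀ x ∈ J, Commute C.φ x) ∧ C.t ∈ J ∧
    Subgroup.zpowers C.φ ⊓ J = ⊥ ∧ Subgroup.zpowers C.φ ⊔ J = Subgroup.centralizer ({C.φ} : Set G)

/-- Case (R): a prime `r ≠ 3` divides `f`, and `C(σ_r)` is of Ree type modulo its central core, where `σ_r` is the `r`-part of `φ`. -/
structure CaseR {G : Type u} [Group G] [Finite G] (C : Coord G) (r m : ℕ) : Prop where
  prime : r.Prime
  ne_three : r ≠ 3
  dvd : r ∣ orderOf C.σ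
  three_not : ¬ 3 ∣ orderOf C.σ
  one_le : 1 ≤ m
  hq : Fintype.card C.F = 3 ^ ((2 * m + 1) * r ^ (orderOf C.σ).factorization r)
  cong : r ∣ (3 ^ (2 * m + 1)) ^ 2 - 3 ^ (2 * m + 1) + 1
  core : (Cfsg.oddCore ↥(Subgroup.centralizer ({C.rpart r} : Set G))).map
    (Subgroup.centralizer ({C.rpart r} : Set G)).subtype ≤ Subgroup.zpowers C.φ
  quot : ∀ (hs : C.t ∈ Subgroup.centralizer ({C.rpart r} : Set G))
      (hφ : C.φ ∈ Subgroup.centralizer ({C.rpart r} : Set G)),
    ∃ K : Subgroup (↥(Subgroup.centralizer ({C.rpart r} : Set G)) ⧸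
        Cfsg.oddCore ↥(Subgroup.centralizer ({C.rpart r} : Set G))),
      K.Normal ∧ IsSimpleGroup K ∧ Subgroup.centralizer (K : Set (↥(Subgroup.centralizer ({C.rpart r} : Set G)) ⧸
        Cfsg.oddCore ↥(Subgroup.centralizer ({C.rpart r} : Set G)))) = ⊥ ∧ Odd K.index ∧
      (∀ T : Sylow 2 K, E8 (T : Subgroup K)) ∧
      K ⊔ Subgroup.zpowers (QuotientGroup.mk (s := Cfsg.oddCore ↥(Subgroup.centralizer ({C.rpart r} : Set G)))
        ⟨C.φ, hφ⟩) = ⊤ ∧
      ∃ tK : K, (tK : _ ⧸ Cfsg.oddCore ↥(Subgroup.centralizer ({C.rpart r} : Set G))) =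
          QuotientGroup.mk ⟨C.t, hs⟩ ∧
        ∃ (F' : Type) (_ : Field F') (_ : Fintype F'), Fintype.card F' = 3 ^ (2 * m + 1) ∧
          Nonempty (Subgroup.centralizer ({tK} : Set K) ≃* Multiplicative (ZMod 2) × PSL₂[F'])

end CfsgLib.Walter
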