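import Cfsg.Agent.Lib.Walter.FixedLayer
import Cfsg.Agent.S0343

/-!
The trichotomy for a non-trivial field automorphism in the centraliser of an involution.

Blueprint: `blueprint/Walter.md`, G2.
-/

set_option autoImplicit false
set_option linter.unusedSectionVars false
set_option linter.style.haveILetI false

namespace CfsgLib.Walter

open Cfsg
open CfsgLib.PSL2 (fieldAut)
open CfsgLib.Comp

universe u

local notation "PSL₂[" K "]" => Matrix.ProjectiveSpecialLinearGroup (Fin 2) K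

variable {G : Type u} [Group G] [Finite G]

/-- Case (S): `q = 3 ^ f`, with `f` a power of a prime other than three. -/
structure CaseS (C : Coord G) (r a : ℕ) : Prop where
  prime : r.Prime
  ne_three : r ≠ 3
  one_le : 1 ≤ a
  ord : orderOf C.σ = r ^ a
  hq : Fintype.card C.F = 3 ^ r ^ a

variable (B : Base G) (C : Coord G)

/-- The degree of the field is a multiple of the order of `σ`. -/
theorem Coord.f_dvd_degree {X : Type u} [Group X] (C : Coord X) {b n : ℕ} (hb : b.Prime)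
    (h : Fintype.card C.F = b ^ n) : orderOf C.σ ∣ n := by
  obtain ⟨p, m, hp, -, -, hcard, -, hR⟩ := odd_degree C.hq
  have hn : n ≠ 0 := fun e => by
    rw [e, pow_zero] at h
    exact absurd h (Fintype.one_lt_card (α := C.F)).ne'
  obtain ⟨hpb, hmn⟩ := Nat.Prime.pow_inj' hb hp hn (by
    intro e; rw [e, pow_zero] at hcard; exact absurd hcard (Fintype.one_lt_card (α := C.F)).ne')
    (h.symm.trans hcard)
  rw [hmn, ← hR]
  exact orderOf_dvd_natCard C.σ

include B

theorem cs_isMulComm_sylow {k : ℕ} {K : Subgroup (C.HQ k)} (hK : Big C k K) :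
    ∀ P : Sylow 2 K, ∀ a b : P, a * b = b * a := fun P a b => Subtype.ext ((hK.e8 P).comm a.2 b.2)

/-- The order of the layer and the number of involutions. -/
theorem big_numbers {k : ℕ} {K : Subgroup (C.HQ k)} (hK : Big C k K) :
    (C.qk k = 5 → IsJ1 K ∧ C.Ct.relIndex (C.Cs k) = 1463) ∧
      ∀ m, 1 ≤ m → C.qk k = 3 ^ (2 * m + 1) →
        C.Ct.relIndex (C.Cs k) = (3 ^ (2 * m + 1)) ^ 2 * ((3 ^ (2 * m + 1)) ^ 2 - 3 ^ (2 * m + 1) + 1) := by
  classical
  haveI := hK.simple
  obtain ⟨ht, hcount, F', iF, iFF, hF', ⟨e⟩⟩ := hK.count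
  letI := iF
  letI := iFF
  set tK : ↥K := ⟨C.tq k, ht⟩
  have hq5 : 3 ≤ Fintype.card F' ∧ Fintype.card F' % 2 = 1 := by
    rcases hK.size with h | ⟨m, hm, h⟩
    · rw [hF', h]; norm_num
    · rw [hF', h]
      exact ⟨(show 3 = 3 ^ 1 by norm_num).le.trans (Nat.pow_le_pow_right (by norm_num) (by omega)),
        Nat.odd_iff.mp (Odd.pow (by decide))⟩
  have ht2 : orderOf tK = 2 := by
    refine orderOf_eq_prime ?_ fun h => ?_
    · refine Subtype.ext ?_
      rw [Subgroup.coe_pow, show (tK : C.HQ k) = C.tq k from rfl, ← map_pow,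
        show (⟨C.t, C.t_mem_Cs k⟩ : ↥(C.Cs k)) ^ 2 = 1 from Subtype.ext (by
          show C.t ^ 2 = 1; rw [pow_two, C.tt]), map_one, Subgroup.coe_one]
    · have h1 : C.tq k = 1 := congrArg Subtype.val h
      obtain ⟨l, hl⟩ := cs_core B C h1
      have hl' : C.t = C.φ ^ l := hl
      exact C.t_ne (hl'.trans (C.φ_pow_two (by rw [← hl']; exact C.tt)))
  have hCK : Nat.card (Subgroup.centralizer ({tK} : Set ↥K)) = C.qk k * (C.qk k ^ 2 - 1) := by
    rw [Nat.card_congr e.toEquiv, Nat.card_prod, show Nat.card (Multiplicative (ZMod 2)) = 2 by simp,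
      two_mul_card_psl hq5.2, hF']
  have hmul := (Subgroup.centralizer ({tK} : Set ↥K)).index_mul_card
  rw [← hcount, hCK] at hmul
  rcases Cfsg.Agent.S0343.result (cs_isMulComm_sylow B C hK) hq5.1 tK ht2 ⟨e⟩ with
    ⟨m', hm', hc, hcard⟩ | ⟨hc, hJ⟩
  · refine ⟨fun h5 => ?_, fun m hm h3 => ?_⟩
    · exfalso
      rw [hF', h5] at hc
      have : 27 ≤ 3 ^ (2 * m' + 1) := (show 27 = 3 ^ 3 by norm_num).le.trans (Nat.pow_le_pow_right (by norm_num) (by omega))
      omega
    · rw [hF', h3] at hc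
      rw [h3, hcard, ← hc] at hmul
      set q := 3 ^ (2 * m + 1)
      have hq : 2 ≤ q := (show 2 ≤ 3 ^ 1 by norm_num).trans (Nat.pow_le_pow_right (by norm_num) (by omega))
      refine Nat.eq_of_mul_eq_mul_right (m := q * (q ^ 2 - 1)) (Nat.mul_pos (by omega) (Nat.sub_pos_of_lt (Nat.one_lt_pow two_ne_zero hq))) ?_
      rw [hmul]
      have h1 : q ≤ q ^ 2 := Nat.le_self_pow two_ne_zero q
      have h2 : 1 ≤ q ^ 2 := le_trans (by omega) h1
      zify [h1, h2, show 1 ≤ q by omega]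
      ring
  · refine ⟨fun h5 => ⟨hJ, ?_⟩, fun m hm h3 => ?_⟩
    · rw [h5, hJ.2] at hmul
      norm_num at hmul
      omega
    · exfalso
      rw [hF', h3] at hc
      have : 27 ≤ 3 ^ (2 * m + 1) := (show 27 = 3 ^ 3 by norm_num).le.trans (Nat.pow_le_pow_right (by norm_num) (by omega))
      omega

/-- When the core is all of `⟨φ⟩` and the quotient is `J₁`, the centraliser of `φ` splits. -/
theorem split_J1 {r : ℕ} (hr : r.Prime) (hord : orderOf C.σ = r) (h1463 : r ∣ 1463) {K : Subgroup (C.HQ 1)}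
    (hK : Big C 1 K) (hJ : IsJ1 K) :
    ∃ J : Subgroup G, IsJ1 ↥J ∧ (∀ x ∈ J, Commute C.φ x) ∧ C.t ∈ J ∧
      Subgroup.zpowers C.φ ⊓ J = ⊥ ∧ Subgroup.zpowers C.φ ⊔ J = Subgroup.centralizer ({C.φ} : Set G) := by
  classical
  haveI : Fact r.Prime := ⟨hr⟩
  set H := C.Cs 1
  set φH : ↥H := ⟨C.φ, C.φ_mem_Cs 1⟩
  have hφc : ∀ x : ↥H, Commute φH x := fun x => Subtype.ext
    ((show Commute (x : G) C.φ by simpa using C.mem_Cs.mp x.2).symm.eq)
  have hφord : orderOf φH = r := by rw [Subgroup.orderOf_mk, C.φ_ord, hord]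
  haveI : (Subgroup.zpowers φH).Normal := ⟨by
    rintro _ ⟨i, rfl⟩ x
    refine ⟨i, ?_⟩
    show φH ^ i = x * φH ^ i * x⁻¹
    rw [((hφc x).symm.zpow_right i).eq, mul_inv_cancel_right]⟩
  have hφO : φH ∈ pPrimeCore 2 ↥H := CfsgLib.le_oddCore (by
    rw [Nat.card_zpowers, hφord, ← hord]; exact C.odd_f) (Subgroup.mem_zpowers φH)
  have hker : pPrimeCore 2 ↥H = Subgroup.zpowers φH := by
    refine le_antisymm (fun x hx => ?_) (Subgroup.zpowers_le.mpr hφO)
    obtain ⟨l, hl⟩ := cs_core B C ((QuotientGroup.eq_one_iff x).2 hx)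
    exact ⟨l, Subtype.ext (by simpa using hl.symm)⟩
  have hKtop : K = ⊤ := by
    have h := hK.sup
    rw [show C.φq 1 = 1 from (QuotientGroup.eq_one_iff _).2 hφO, Subgroup.zpowers_one_eq_bot, sup_bot_eq] at h
    exact h
  have eK : ↥K ≃* C.HQ 1 := (MulEquiv.subgroupCongr hKtop).trans Subgroup.topEquiv
  haveI := hK.simple
  haveI : IsSimpleGroup (C.HQ 1) := eK.symm.isSimpleGroup
  have hcard : Nat.card ↥H = 175560 * r := by
    rw [Subgroup.card_eq_card_quotient_mul_card_subgroup (pPrimeCore 2 ↥H), hker, Nat.card_zpowers, hφord,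
      ← hker, ← Nat.card_congr eK.toEquiv, hJ.2]
  obtain ⟨R⟩ : Nonempty (Sylow r ↥H) := inferInstance
  have hrv : r = 7 ∨ r = 11 ∨ r = 19 := by
    have hd : r ∈ Nat.divisors 1463 := Nat.mem_divisors.mpr ⟨h1463, by norm_num⟩
    rw [show Nat.divisors 1463 = {1, 7, 11, 19, 77, 133, 209, 1463} by decide +kernel] at hd
    simp only [Finset.mem_insert, Finset.mem_singleton] at hd
    rcases hd with rfl | rfl | rfl | rfl | rfl | rfl | rfl | rfl
    all_goals first | omega | exact absurd hr (by norm_num)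
  have hR2 : Nat.card R = r ^ 2 := by
    rw [Sylow.card_eq_multiplicity, hcard]
    refine congrArg _ ?_
    rw [Nat.factorization_mul (by norm_num) hr.ne_zero, Finsupp.add_apply, hr.factorization_self]
    have h1 : 1 ≤ (175560 : ℕ).factorization r := (hr.pow_dvd_iff_le_factorization (by norm_num)).1 (by
      rcases hrv with rfl | rfl | rfl <;> norm_num)
    have h2 : ¬ 2 ≤ (175560 : ℕ).factorization r := fun h => absurd
      ((hr.pow_dvd_iff_le_factorization (by norm_num)).2 h) (by rcases hrv with rfl | rfl | rfl <;> norm_num)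
    omega
  haveI : IsMulCommutative R := ⟨⟨IsPGroup.commutative_of_card_eq_prime_sq hR2⟩⟩
  letI : CommGroup R := { (inferInstance : Group R) with mul_comm := fun a b => mul_comm' a b }
  set V := MonoidHom.transfer (MonoidHom.id (R : Subgroup ↥H))
  have hVker : commutator ↥H ≤ V.ker := Abelianization.commutator_subset_ker V
  have hV : ∀ l : ℤ, φH ^ l ∈ V.ker → φH ^ l = 1 := by
    intro l hl
    have h := MonoidHom.transfer_eq_pow (MonoidHom.id (R : Subgroup ↥H)) (φH ^ l) (fun i g₀ _ => by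
      rw [(((hφc g₀).zpow_left l).pow_left i).symm.inv_left.eq, inv_mul_cancel_right])
    rw [MonoidHom.mem_ker] at hl
    rw [show V (φH ^ l) = _ from h] at hl
    have h1 : (φH ^ l) ^ (R : Subgroup ↥H).index = 1 := congrArg Subtype.val hl
    have h2 : (φH ^ l) ^ r = 1 := by
      rw [← zpow_natCast, ← zpow_mul, mul_comm, zpow_mul, zpow_natCast, ← hφord, pow_orderOf_eq_one, one_zpow]
    rw [← orderOf_eq_one_iff]
    exact Nat.eq_one_of_dvd_coprimes (hr.coprime_iff_not_dvd.mpr R.not_dvd_index) (orderOf_dvd_of_pow_eq_one h2)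
      (orderOf_dvd_of_pow_eq_one h1)
  set J' := commutator ↥H
  have hinj : Function.Injective ((bar 2 ↥H).comp J'.subtype) := by
    refine (injective_iff_map_eq_one _).mpr fun x hx => ?_
    have h1 : (x : ↥H) ∈ pPrimeCore 2 ↥H := (QuotientGroup.eq_one_iff _).1 hx
    rw [hker] at h1
    obtain ⟨l, hl⟩ := h1
    have := hV l (hVker (by rw [show φH ^ l = (x : ↥H) from hl]; exact x.2))
    exact Subtype.ext ((show φH ^ l = (x : ↥H) from hl).symm.trans this)
  have hsurj : Function.Surjective ((bar 2 ↥H).comp J'.subtype) := by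
    rw [← MonoidHom.range_eq_top, MonoidHom.range_comp, Subgroup.range_subtype]
    show (commutator ↥H).map (bar 2 ↥H) = ⊤
    rw [commutator_def, Subgroup.map_commutator, Subgroup.map_top_of_surjective _ (bar_surjective 2)]
    refine (Subgroup.Normal.eq_bot_or_eq_top (inferInstance : (commutator (C.HQ 1)).Normal)).resolve_left fun h => ?_
    have hc : IsMulCommutative (C.HQ 1) := by
      refine Subgroup.center_eq_top_iff.mp (top_le_iff.mp fun x _ => Subgroup.mem_center_iff.mpr fun y => ?_)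
      have h' := Subgroup.commutator_mem_commutator (Subgroup.mem_top y) (Subgroup.mem_top x)
      rw [← commutator_def, h, Subgroup.mem_bot] at h'
      exact commutatorElement_eq_one_iff_mul_comm.mp h'
    letI : CommGroup (C.HQ 1) := { (inferInstance : Group (C.HQ 1)) with mul_comm := fun a b => mul_comm' a b }
    have hp : (Nat.card (C.HQ 1)).Prime := IsSimpleGroup.prime_card
    rw [← Nat.card_congr eK.toEquiv, hJ.2] at hp
    norm_num at hp
  let eJ : ↥(J'.map H.subtype) ≃* C.HQ 1 :=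
    (J'.equivMapOfInjective _ H.subtype_injective).symm.trans (MulEquiv.ofBijective _ ⟨hinj, hsurj⟩)
  have hle : J'.map H.subtype ≤ Subgroup.centralizer ({C.φ} : Set G) := by
    refine (Subgroup.map_subtype_le _).trans fun x hx => Subgroup.mem_centralizer_singleton_iff.mpr ?_
    simpa using (C.mem_Cs.mp hx).eq
  have hcomm : ∀ x ∈ J'.map H.subtype, Commute C.φ x := fun x hx =>
    (Subgroup.mem_centralizer_singleton_iff.mp (hle hx)).symm
  have hinf : Subgroup.zpowers C.φ ⊓ J'.map H.subtype = ⊥ := by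
    refine (Subgroup.eq_bot_iff_forall _).mpr ?_
    rintro _ ⟨⟨l, rfl⟩, z, hz, hze⟩
    have e : φH ^ l = z := Subtype.ext (by simpa using hze.symm)
    have := congrArg Subtype.val (hV l (hVker (e ▸ hz)))
    simpa using this
  have hdec : ∀ x : ↥H, ∃ l : ℤ, x * (φH ^ l)⁻¹ ∈ J' := by
    intro x
    obtain ⟨z, hz⟩ := hsurj (bar 2 ↥H x)
    have h1 : (z : ↥H)⁻¹ * x ∈ pPrimeCore 2 ↥H := QuotientGroup.eq.mp hz
    rw [hker] at h1
    obtain ⟨l, hl⟩ := h1
    refine ⟨l, ?_⟩
    rw [show φH ^ l = (z : ↥H)⁻¹ * x from hl, _root_.mul_inv_rev, inv_inv, mul_inv_cancel_left]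
    exact z.2
  have hsup : Subgroup.zpowers C.φ ⊔ J'.map H.subtype = Subgroup.centralizer ({C.φ} : Set G) := by
    refine le_antisymm (sup_le (Subgroup.zpowers_le.mpr (Subgroup.mem_centralizer_singleton_iff.mpr rfl)) hle) ?_
    intro x hx
    have hxH : x ∈ H := C.mem_Cs.mpr (by simpa [Commute, SemiconjBy] using Subgroup.mem_centralizer_singleton_iff.mp hx)
    obtain ⟨l, hl⟩ := hdec ⟨x, hxH⟩
    rw [show x = x * (C.φ ^ l)⁻¹ * C.φ ^ l by group]
    exact mul_mem (Subgroup.mem_sup_right ⟨_, hl, by simp [φH]⟩)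
      (Subgroup.mem_sup_left (Subgroup.zpow_mem _ (Subgroup.mem_zpowers _) l))
  have htJ : C.t ∈ J'.map H.subtype := by
    obtain ⟨l, hl⟩ := hdec ⟨C.t, C.t_mem_Cs 1⟩
    have hmem : C.t * (C.φ ^ l)⁻¹ ∈ J'.map H.subtype := ⟨_, hl, by simp [φH]⟩
    have h2 := mul_mem hmem hmem
    rw [(C.t_φ.zpow_right l).inv_right.symm.mul_mul_mul_comm, C.tt, one_mul, ← _root_.mul_inv_rev] at h2
    have h3 : C.φ ^ l * C.φ ^ l = 1 := Subgroup.mem_bot.mp (hinf ▸ ⟨mul_mem
      (Subgroup.zpow_mem _ (Subgroup.mem_zpowers _) l) (Subgroup.zpow_mem _ (Subgroup.mem_zpowers _) l), (inv_mem_iff (H := J'.map H.subtype)).mp h2⟩)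
    obtain ⟨j, hj⟩ := (isOfFinOrder_of_finite C.φ).mem_powers_iff_mem_zpowers.mpr
      (Subgroup.zpow_mem _ (Subgroup.mem_zpowers C.φ) l)
    simp only at hj
    rw [← hj] at h3 hmem
    rwa [C.φ_pow_two h3, inv_one, mul_one] at hmem
  exact ⟨J'.map H.subtype, ⟨eJ.isSimpleGroup, by rw [Nat.card_congr (eJ.trans eK.symm).toEquiv, hJ.2]⟩, hcomm, htJ,
    hinf, hsup⟩

/-- The cases. -/
theorem cases (hσ : C.σ ≠ 1) :
    CaseU C ∨ (∃ r m, CaseR C r m) ∨
      (∃ r, r.Prime ∧ r ∣ 1463 ∧ orderOf C.σ = r ∧ Fintype.card C.F = 5 ^ r ∧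
        ∃ J : Subgroup G, IsJ1 ↥J ∧ (∀ x ∈ J, Commute C.φ x) ∧ C.t ∈ J ∧
          Subgroup.zpowers C.φ ⊓ J = ⊥ ∧ Subgroup.zpowers C.φ ⊔ J = Subgroup.centralizer ({C.φ} : Set G)) ∨
      ∃ r a, CaseS C r a := by
  classical
  have hf1 : orderOf C.σ ≠ 1 := fun e => hσ (orderOf_eq_one_iff.mp e)
  obtain ⟨r, hr, hrf⟩ := Nat.exists_prime_and_dvd hf1
  haveI : Fact r.Prime := ⟨hr⟩
  set a := (orderOf C.σ).factorization r with ha
  have ha1 : 1 ≤ a := hr.factorization_pos_of_dvd C.odd_f.pos.ne' hrf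
  set k := orderOf C.σ / r ^ a with hk
  have hord : orderOf (C.σ ^ k) = r ^ a :=
    orderOf_pow_orderOf_div C.odd_f.pos.ne' (Nat.ordProj_dvd _ _)
  have hk1 : C.φ ^ k ≠ 1 := by
    rw [Ne, ← C.σ_pow_eq_one, ← orderOf_eq_one_iff, hord]
    exact (Nat.one_lt_pow (by omega) hr.one_lt).ne'
  have hpow : C.qk k ^ r ^ a = Fintype.card C.F := by rw [← hord]; exact C.qk_pow k
  have hrk : IsPGroup r (Subgroup.zpowers (C.φ ^ (k : ℤ))) := by
    refine IsPGroup.of_card (n := a) ?_
    rw [Nat.card_zpowers, zpow_natCast, ← hord]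
    exact orderOf_eq_orderOf_iff.mpr fun n => by rw [← pow_mul, ← pow_mul, C.σ_pow_eq_one]
  have hrel : r ∣ C.Ct.relIndex (C.Cs k) := by
    have h := r_dvd_relIndex B C hrf k hrk
    rwa [zpow_natCast] at h
  have hfa : orderOf C.σ ∣ r ^ a → orderOf C.σ = r ^ a := fun h => Nat.dvd_antisymm h (Nat.ordProj_dvd _ _)
  by_cases h5 : 5 ≤ C.qk k
  · obtain ⟨K, hK⟩ := exists_big B C hk1 h5
    obtain ⟨hn5, hn3⟩ := big_numbers B C hK
    rcases hK.size with hsz | ⟨m, hm, hsz⟩
    · -- `q = 5 ^ r`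
      obtain ⟨hJ, hrl⟩ := hn5 hsz
      rw [hsz] at hpow
      have hford : orderOf C.σ = r ^ a := hfa (C.f_dvd_degree Nat.prime_five hpow.symm)
      have ha' : a = 1 := by
        by_contra hne
        have hφr : C.φ ^ r ≠ 1 := by
          rw [Ne, ← orderOf_dvd_iff_pow_eq_one, C.φ_ord, hford]
          intro h
          have h' := Nat.le_of_dvd hr.pos h
          have : r ^ 2 ≤ r ^ a := Nat.pow_le_pow_right hr.pos (by omega)
          have : r < r ^ 2 := by rw [pow_two]; exact lt_mul_of_one_lt_left hr.pos hr.one_lt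
          omega
        have hq : C.qk r = 5 ^ r := by
          have h := C.qk_pow r
          rw [orderOf_pow' C.σ hr.ne_zero, hford, Nat.gcd_eq_right (dvd_pow_self r (by omega)), ← hpow,
            show r ^ a = r * (r ^ a / r) from (Nat.mul_div_cancel' (dvd_pow_self r (by omega))).symm,
            Nat.mul_div_cancel_left _ hr.pos, pow_mul] at h
          exact Nat.pow_left_injective (Nat.div_pos (Nat.le_of_dvd (pow_pos hr.pos a) (dvd_pow_self r (by omega)))
            hr.pos).ne' h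
        have h55 : 5 ≤ C.qk r := by rw [hq]; exact Nat.le_self_pow hr.ne_zero 5
        obtain ⟨K', hK'⟩ := exists_big B C hφr h55
        rcases hK'.size with h | ⟨m, -, h⟩ <;> rw [hq] at h
        · exact hr.one_lt.ne' (Nat.pow_right_injective (le_refl 2 |>.trans (by norm_num)) (h.trans (pow_one 5).symm))
        · exact absurd (Nat.Prime.pow_inj' Nat.prime_five Nat.prime_three hr.ne_zero (by omega) h).1 (by norm_num)
      rw [ha', pow_one] at hford
      have hk_1 : k = 1 := by rw [hk, hford, ha', pow_one, Nat.div_self hr.pos]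
      rw [hrl] at hrel
      obtain ⟨K, hK, hJ⟩ : ∃ K : Subgroup (C.HQ 1), Big C 1 K ∧ IsJ1 K := by
        rw [← hk_1]; exact ⟨K, hK, hJ⟩
      refine Or.inr (Or.inr (Or.inl ⟨r, hr, hrel, hford, ?_, split_J1 B C hr hford hrel hK hJ⟩))
      rw [← hpow, ha', pow_one]
    · -- `q` a power of three
      rw [hsz] at hpow
      by_cases h3 : 3 ∣ orderOf C.σ
      · exact Or.inl ⟨⟨_, (hpow.symm.trans (pow_mul _ _ _).symm)⟩, h3⟩
      have hr3 : r ≠ 3 := fun e => h3 (e ▸ hrf)
      have hrl := hn3 m hm hsz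
      rw [hrl] at hrel
      refine Or.inr (Or.inl ⟨r, m, hr, hr3, hrf, h3, hm, ?_, ?_, ?_, ?_⟩)
      · rw [← hpow, ← pow_mul]
      · refine (hr.dvd_mul.mp hrel).resolve_left fun h => hr3 ?_
        exact (Nat.prime_dvd_prime_iff_eq hr Nat.prime_three).mp (hr.dvd_of_dvd_pow (hr.dvd_of_dvd_pow h))
      · exact core_le_zpowers B C k
      · intro hs hφ
        obtain ⟨ht, -, F', iF, iFF, hF', he⟩ := hK.count
        exact ⟨K, hK.normal, hK.simple, hK.cent, hK.odd, hK.e8, hK.sup, ⟨C.tq k, ht⟩, rfl, F', iF, iFF,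
          hF'.trans hsz, he⟩
  · -- `q' = 3`
    have h3 : C.qk k = 3 := by have := C.qk_mod k; omega
    rw [h3] at hpow
    by_cases h : 3 ∣ orderOf C.σ
    · exact Or.inl ⟨⟨_, hpow.symm⟩, h⟩
    refine Or.inr (Or.inr (Or.inr ⟨r, a, hr, fun e => h (e ▸ hrf), ha1, ?_, hpow.symm⟩))
    exact hfa (C.f_dvd_degree Nat.prime_three hpow.symm)

end CfsgLib.Walter
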