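import Cfsg.Agent.Lib.Walter.Defs

/-!
Consequences of coordinates in the centraliser of an involution.
-/

set_option autoImplicit false
set_option linter.unusedSectionVars false
set_option linter.style.haveILetI false

namespace CfsgLib.Walter

open CfsgLib.PSL2 (fieldAut mk)

universe u

section FourCent

variable {F : Type} [Field F] [Fintype F]

local notation "PSL" => Matrix.ProjectiveSpecialLinearGroup (Fin 2) F

/-- A four-group of `PSL₂` is its own centraliser. -/
theorem four_cent (h2 : (2 : F) ≠ 0) {b c x : PSL} (hb : b * b = 1) (hb1 : b ≠ 1) (hc : c * c = 1) (hc1 : c ≠ 1)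
    (hbc : b ≠ c) (hcomm : b * c = c * b) (hxb : x * b = b * x) (hxc : x * c = c * x) :
    x = 1 ∨ x = b ∨ x = c ∨ x = b * c := by
  obtain ⟨B, rfl⟩ := QuotientGroup.mk'_surjective _ b
  obtain ⟨C, rfl⟩ := QuotientGroup.mk'_surjective _ c
  have hBt := (PSL2Klein.invol_iff h2).mp ⟨hb1, hb⟩
  have hCt := (PSL2Klein.invol_iff h2).mp ⟨hc1, hc⟩
  have hcases : ∀ {U V : Matrix.SpecialLinearGroup (Fin 2) F}, mk U * mk V = (mk V * mk U : PSL) →
      U * V = V * U ∨ U * V = -V * U := fun {U V} h => by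
    rw [← map_mul, ← map_mul, eq_comm, PSL2Klein.mk_eq_iff] at h
    rcases h with e | e
    · exact Or.inl e
    · exact Or.inr (by rw [e, neg_mul])
  have hCB : C * B = -B * C := (hcases hcomm.symm).resolve_left fun e => hbc (by
    rcases PSL2Klein.eq_or_eq_neg h2 hBt hCt e with e' | e'
    · exact congrArg mk e'.symm
    · exact PSL2Klein.mk_eq_iff.mpr (Or.inr e'))
  have key : ∀ X : Matrix.SpecialLinearGroup (Fin 2) F, X * B = B * X → X * C = C * X → (mk X : PSL) = 1 := by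
    intro X h1 h2'
    have hanti : X * B * C = -C * (X * B) := by
      rw [mul_assoc, show B * C = -(C * B) by rw [hCB, neg_mul, neg_neg], mul_neg, ← mul_assoc, h2', neg_mul, mul_assoc]
    have ht := PSL2Klein.trace_of_anti h2 hanti
    have hc' : X * B * B = B * (X * B) := by rw [h1, mul_assoc, h1]
    rw [← map_one (mk : _ →* PSL), PSL2Klein.mk_eq_iff]
    rcases PSL2Klein.eq_or_eq_neg h2 hBt ht hc' with e | e
    · exact Or.inl (mul_eq_right.mp e).symm
    · refine Or.inr ?_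
      have e1 : (-X) * B = B := by rw [neg_mul, e, neg_neg]
      exact (mul_eq_right.mp e1).symm
  have hone : ∀ {z : PSL}, z * z = 1 → z⁻¹ = z := fun h => inv_eq_of_mul_eq_one_right h
  obtain ⟨X, rfl⟩ := QuotientGroup.mk'_surjective _ x
  have hBC : B * C = -C * B := by rw [neg_mul, hCB, neg_mul, neg_neg]
  rcases hcases hxb with h1 | h1 <;> rcases hcases hxc with h2' | h2'
  · exact Or.inl (key X h1 h2')
  · -- multiply by `b`
    have := key (X * B) (by rw [h1, mul_assoc, h1]) (by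
      calc X * B * C = X * (-C * B) := by rw [mul_assoc, hBC]
        _ = -(X * C) * B := by simp [mul_assoc]
        _ = C * (X * B) := by rw [h2']; simp [mul_assoc])
    rw [map_mul, mul_eq_one_iff_eq_inv, hone hb] at this
    exact Or.inr (Or.inl this)
  · have := key (X * C) (by
      calc X * C * B = X * (-B * C) := by rw [mul_assoc, hCB]
        _ = -(X * B) * C := by simp [mul_assoc]
        _ = B * (X * C) := by rw [h1]; simp [mul_assoc]) (by rw [h2', mul_assoc, h2'])
    rw [map_mul, mul_eq_one_iff_eq_inv, hone hc] at this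
    exact Or.inr (Or.inr (Or.inl this))
  · have := key (X * (B * C)) (by
      calc X * (B * C) * B = X * B * (C * B) := by simp [mul_assoc]
        _ = B * (X * (B * C)) := by rw [h1, hCB]; simp [mul_assoc]) (by
      have hCX : C * X = -(X * C) := by rw [h2', neg_mul, neg_neg]
      refine Eq.symm ?_
      calc C * (X * (B * C)) = C * X * (B * C) := by simp [mul_assoc]
        _ = -(X * (C * B) * C) := by rw [hCX]; simp [mul_assoc]
        _ = X * (B * C) * C := by rw [hCB]; simp [mul_assoc])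
    rw [map_mul, map_mul, mul_eq_one_iff_eq_inv, _root_.mul_inv_rev, hone hc, hone hb] at this
    exact Or.inr (Or.inr (Or.inr (this.trans hcomm.symm)))

end FourCent

namespace Coord

variable {X : Type u} [Group X] (C : Coord X)

theorem ι_ne_t (x : Matrix.ProjectiveSpecialLinearGroup (Fin 2) C.F) : C.ι x ≠ C.t := by
  intro e
  have hx2 : x * x = 1 := C.ι_inj (by rw [map_mul, e, C.tt, map_one])
  have hx1 : x ≠ 1 := fun h => C.t_ne (by rw [← e, h, map_one])
  have hcent : ∀ y, y * x = x * y := fun y => C.ι_inj (by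
    rw [map_mul, map_mul, e]; exact (C.t_ι y).eq.symm)
  obtain ⟨g, b, c, h, -⟩ := exists_fixed_A4 (F := C.F) C.two_ne
  rcases four_cent C.two_ne h.bb h.b1 h.cc h.c1 h.bc h.comm (hcent b).symm (hcent c).symm with e' | e' | e' | e'
  · exact hx1 e'
  all_goals
    subst e'
    have hg := hcent g
  · exact h.bc (by rw [← h.gb, hg, mul_inv_cancel_right])
  · have := h.gc
    rw [hg, mul_inv_cancel_right] at this
    exact h.b1 (mul_eq_right.mp this.symm)
  · have h1 : g * (b * c) * g⁻¹ = c * (b * c) := by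
      rw [show g * (b * c) * g⁻¹ = (g * b * g⁻¹) * (g * c * g⁻¹) by group, h.gb, h.gc]
    rw [hg, mul_inv_cancel_right] at h1
    exact h.c1 (mul_eq_right.mp h1.symm)

/-- The product decomposition is unique. -/
theorem unique {i : Fin 2} {x : Matrix.ProjectiveSpecialLinearGroup (Fin 2) C.F} {j : ℕ}
    (h : C.t ^ (i : ℕ) * C.ι x * C.φ ^ j = 1) : i = 0 ∧ x = 1 ∧ C.φ ^ j = 1 := by
  have hφ : C.φ ^ j = (C.t ^ (i : ℕ) * C.ι x)⁻¹ := eq_inv_of_mul_eq_one_right h
  have hconj : fieldAut (C.σ ^ j) = MulAut.conj x⁻¹ := MulEquiv.ext fun y => C.ι_inj (by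
    rw [← C.conj_pow j y, hφ, MulAut.conj_apply, map_mul, map_mul, inv_inv, inv_inv, map_inv, _root_.mul_inv_rev,
      show (C.ι x)⁻¹ * (C.t ^ (i : ℕ))⁻¹ * C.ι y * (C.t ^ (i : ℕ) * C.ι x) =
        (C.ι x)⁻¹ * ((C.t ^ (i : ℕ))⁻¹ * C.ι y * C.t ^ (i : ℕ)) * C.ι x by group,
      mul_assoc (C.t ^ (i : ℕ))⁻¹, ← ((C.t_ι y).pow_left _).eq, inv_mul_cancel_left])
  have hσ : C.σ ^ j = 1 := by
    obtain ⟨A, rfl⟩ := QuotientGroup.mk'_surjective _ x
    refine PSL2.field_unique (g := 1) (g' := Matrix.SpecialLinearGroup.toGL A⁻¹) (e' := RingEquiv.refl _) ?_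
    rw [map_one, one_mul, PSL2.fieldAut_refl, mul_one, PSL2.diagAut_toGL, map_inv (PSL2.mk (F := C.F))]
    exact hconj
  have hφ1 : C.φ ^ j = 1 := by
    rw [← orderOf_dvd_iff_pow_eq_one, C.φ_ord]
    exact orderOf_dvd_of_pow_eq_one hσ
  have h1 : C.t ^ (i : ℕ) * C.ι x = 1 := by rwa [hφ1, mul_one] at h
  fin_cases i
  · simp only [pow_zero, one_mul] at h1
    exact ⟨rfl, C.ι_inj (h1.trans (map_one _).symm), hφ1⟩
  · exfalso
    simp only [pow_one] at h1
    exact C.ι_ne_t x (by rw [eq_inv_of_mul_eq_one_right h1, inv_eq_of_mul_eq_one_right C.tt])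

/-- The image of `PSL₂` is normalised by the centraliser. -/
theorem normal_ι {g : X} (hg : Commute g C.t) (y : Matrix.ProjectiveSpecialLinearGroup (Fin 2) C.F) :
    g * C.ι y * g⁻¹ ∈ C.ι.range := by
  obtain ⟨i, x, j, rfl⟩ := C.cent g hg
  refine ⟨x * fieldAut (C.σ ^ j) y * x⁻¹, ?_⟩
  rw [map_mul, map_mul, map_inv, ← C.conj_pow j y]
  have hc := ((C.t_ι (x * fieldAut (C.σ ^ j) y * x⁻¹)).pow_left (i : ℕ)).eq
  rw [map_mul, map_mul, map_inv, ← C.conj_pow j y] at hc
  rw [show C.t ^ (i : ℕ) * C.ι x * C.φ ^ j * C.ι y * (C.t ^ (i : ℕ) * C.ι x * C.φ ^ j)⁻¹ =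
    C.t ^ (i : ℕ) * (C.ι x * (C.φ ^ j * C.ι y * (C.φ ^ j)⁻¹) * (C.ι x)⁻¹) * (C.t ^ (i : ℕ))⁻¹ by group, hc,
    mul_inv_cancel_right]

/-- An element of odd order of the centraliser has no component at `t`. -/
theorem odd_form {g : X} (hg : Commute g C.t) (ho : Odd (orderOf g)) :
    ∃ (x : Matrix.ProjectiveSpecialLinearGroup (Fin 2) C.F) (j : ℕ), g = C.ι x * C.φ ^ j := by
  obtain ⟨i, x, j, rfl⟩ := C.cent g hg
  fin_cases i
  · exact ⟨x, j, by simp⟩
  exfalso
  simp only [pow_one] at ho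
  obtain ⟨k, hk⟩ := ho
  set e := C.ι x * C.φ ^ j
  have hte : Commute C.t e := (C.t_ι x).mul_right (C.t_φ.pow_right j)
  have h1 : C.t * e ^ (2 * k + 1) = 1 := by
    have := pow_orderOf_eq_one (C.t * C.ι x * C.φ ^ j)
    rw [hk, mul_assoc, hte.mul_pow, pow_succ C.t, pow_mul, pow_two, C.tt, one_pow, one_mul] at this
    exact this
  -- the power stays in `L⟨φ⟩`
  have hmem : ∀ n : ℕ, ∃ y m, e ^ n = C.ι y * C.φ ^ m := by
    intro n
    induction n with
    | zero => exact ⟨1, 0, by simp⟩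
    | succ n ih =>
      obtain ⟨y, m, hm⟩ := ih
      refine ⟨y * fieldAut (C.σ ^ m) x, m + j, ?_⟩
      rw [pow_succ, hm, map_mul, ← C.conj_pow m x, pow_add]
      simp only [e]
      group
  obtain ⟨y, m, hm⟩ := hmem (2 * k + 1)
  rw [hm, ← mul_assoc] at h1
  have := (C.unique (i := 1) (by simpa using h1)).1
  exact absurd this (by decide)

/-- In a trivial extension the centraliser is `2 × L₂(q)`. -/
theorem iso_of_trivial [Finite X] (h : C.σ = 1) :
    Nonempty (Subgroup.centralizer ({C.t} : Set X) ≃*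
      Multiplicative (ZMod 2) × Matrix.ProjectiveSpecialLinearGroup (Fin 2) C.F) := by
  have hφ : C.φ = 1 := by rw [← orderOf_eq_one_iff, C.φ_ord, h, orderOf_one]
  let tt : Multiplicative (ZMod 2) →* X :=
    { toFun := fun a => C.t ^ (Multiplicative.toAdd a).val
      map_one' := by simp
      map_mul' := fun a b => by
        show C.t ^ (Multiplicative.toAdd (a * b)).val = _
        rw [toAdd_mul, ← pow_add]
        rw [ZMod.val_add]
        exact (pow_eq_pow_mod _ (by rw [pow_two, C.tt])).symm }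
  let f : Multiplicative (ZMod 2) × Matrix.ProjectiveSpecialLinearGroup (Fin 2) C.F →* X :=
    MonoidHom.noncommCoprod tt C.ι fun a x => (C.t_ι x).pow_left _
  have hf : Function.Injective f := by
    refine (injective_iff_map_eq_one f).mpr fun ⟨a, x⟩ he => ?_
    have he' : C.t ^ (Multiplicative.toAdd a).val * C.ι x * C.φ ^ 0 = 1 := by
      rw [pow_zero, mul_one]; exact he
    obtain ⟨h0, h1, -⟩ := C.unique (i := ⟨(Multiplicative.toAdd a).val, ZMod.val_lt _⟩) he'
    have ha : Multiplicative.toAdd a = 0 := (ZMod.val_eq_zero _).mp (congrArg Fin.val h0)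
    exact Prod.ext (Multiplicative.toAdd.injective ha) h1
  have hr : f.range = Subgroup.centralizer ({C.t} : Set X) := by
    refine le_antisymm ?_ fun g hg => ?_
    · rintro _ ⟨⟨a, x⟩, rfl⟩
      rw [Subgroup.mem_centralizer_singleton_iff]
      exact ((Commute.refl C.t).pow_right _ |>.mul_right (C.t_ι x)).eq.symm
    · obtain ⟨i, x, j, rfl⟩ := C.cent g (Subgroup.mem_centralizer_singleton_iff.mp hg)
      refine ⟨(Multiplicative.ofAdd ((i : ℕ) : ZMod 2), x), ?_⟩
      show C.t ^ ((i : ℕ) : ZMod 2).val * C.ι x = _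
      rw [hφ, one_pow, mul_one, ZMod.val_natCast, Nat.mod_eq_of_lt i.2]
  exact ⟨((MonoidHom.ofInjective hf).trans (MulEquiv.subgroupCongr hr)).symm⟩

/-- The centraliser of the fixed four-group inside `C(t)`. -/
theorem four_cent_form {g b c : Matrix.ProjectiveSpecialLinearGroup (Fin 2) C.F} (h : IsA4 g b c)
    (hb : fieldAut C.σ b = b) (hc : fieldAut C.σ c = c) {y : X} (hy : Commute y C.t) (hyb : Commute y (C.ι b))
    (hyc : Commute y (C.ι c)) :
    ∃ (i : Fin 2) (v : Matrix.ProjectiveSpecialLinearGroup (Fin 2) C.F) (j : ℕ),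
      y = C.t ^ (i : ℕ) * C.ι v * C.φ ^ j ∧ (v = 1 ∨ v = b ∨ v = c ∨ v = b * c) := by
  obtain ⟨i, x, j, rfl⟩ := C.cent y hy
  refine ⟨i, x, j, rfl, four_cent C.two_ne h.bb h.b1 h.cc h.c1 h.bc h.comm ?_ ?_⟩
  all_goals refine C.ι_inj ?_
  all_goals rw [map_mul, map_mul]
  · have hfix : Commute (C.φ ^ j) (C.ι b) :=
      (show Commute C.φ (C.ι b) from mul_inv_eq_iff_eq_mul.mp ((C.conj b).trans (by rw [hb]))).pow_left j
    have ht : Commute (C.t ^ (i : ℕ)) (C.ι b) := (C.t_ι b).pow_left _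
    have h1 := (ht.inv_left.mul_left (hyb.mul_left hfix.inv_left)).eq
    rwa [show (C.t ^ (i : ℕ))⁻¹ * (C.t ^ (i : ℕ) * C.ι x * C.φ ^ j * (C.φ ^ j)⁻¹) = C.ι x by group] at h1
  · have hfix : Commute (C.φ ^ j) (C.ι c) :=
      (show Commute C.φ (C.ι c) from mul_inv_eq_iff_eq_mul.mp ((C.conj c).trans (by rw [hc]))).pow_left j
    have ht : Commute (C.t ^ (i : ℕ)) (C.ι c) := (C.t_ι c).pow_left _
    have h1 := (ht.inv_left.mul_left (hyc.mul_left hfix.inv_left)).eq
    rwa [show (C.t ^ (i : ℕ))⁻¹ * (C.t ^ (i : ℕ) * C.ι x * C.φ ^ j * (C.φ ^ j)⁻¹) = C.ι x by group] at h1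

end Coord

end CfsgLib.Walter
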