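import Cfsg.Agent.Lib.Walter.CoreTower
import Cfsg.Agent.Lib.DicksonFull.Subgroups
import Cfsg.Agent.Lib.CoprimeFixedProduct

/-!
Balance: `O(C(a)) ∩ C(b) ≤ O(C(b))` for commuting involutions.

Blueprint: `blueprint/Walter.md`, G1 (3).
-/

set_option autoImplicit false
set_option linter.unusedSectionVars false
set_option linter.style.haveILetI false

namespace CfsgLib.Walter

open Cfsg CfsgLib.Comp
open CfsgLib.PSL2 (fieldAut)

universe u

section Gen

variable {F : Type} [Field F] [Fintype F]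

local notation "PSL" => Matrix.ProjectiveSpecialLinearGroup (Fin 2) F

/-- The centraliser of an involution of `L₂(q)`, `q ≥ 11`, is a maximal subgroup. -/
theorem cent_coatom (hq : Fintype.card F % 8 = 3 ∨ Fintype.card F % 8 = 5) (h5 : 5 < Fintype.card F) {v : PSL}
    (hv : v * v = 1) (hv1 : v ≠ 1) : IsCoatom (Subgroup.centralizer ({v} : Set PSL)) := by
  classical
  obtain ⟨p, m, hp, -, hchar, -, hp2, -⟩ := odd_degree hq
  haveI : Fact p.Prime := ⟨hp⟩
  haveI := hchar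
  have h2 := two_ne_zero_of_mod hq
  set q := Fintype.card F with hqdef
  have hgcd : Nat.gcd 2 (q - 1) = 2 := Nat.gcd_eq_left (by omega)
  obtain ⟨n, hn, hev, hn6⟩ : ∃ n, (n = (q + 1) / Nat.gcd 2 (q - 1) ∨ n = (q - 1) / Nat.gcd 2 (q - 1)) ∧
      2 ∣ n ∧ 6 ≤ n := by
    rw [hgcd]
    rcases hq with h | h
    · exact ⟨_, Or.inl rfl, by omega, by omega⟩
    · exact ⟨_, Or.inr rfl, by omega, by omega⟩
  obtain ⟨H, hH, ⟨e⟩⟩ := DicksonFull.coatom_dihedral (F := F) p (n := n) (by omega) hn (fun h => by omega)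
  obtain ⟨k, hk⟩ := hev
  set z : H := e.symm (DihedralGroup.r (k : ZMod n)) with hz
  haveI : NeZero n := ⟨by omega⟩
  have hk0 : (k : ZMod n) ≠ 0 := by
    intro h
    have := Nat.le_of_dvd (by omega) ((ZMod.natCast_eq_zero_iff k n).mp h)
    omega
  have hkk : (k : ZMod n) + k = 0 := by rw [← Nat.cast_add, ← two_mul, ← hk, ZMod.natCast_self]
  have hz1 : (z : PSL) ≠ 1 := fun h => hk0 (by
    have := congrArg e (Subtype.ext h : z = 1)
    rw [hz, e.apply_symm_apply, map_one, DihedralGroup.one_def, DihedralGroup.r.injEq] at this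
    exact this)
  have hz2 : (z : PSL) * z = 1 := by
    rw [← Subgroup.coe_mul, hz, ← map_mul, DihedralGroup.r_mul_r, hkk, ← DihedralGroup.one_def, map_one, Subgroup.coe_one]
  have hle : H ≤ Subgroup.centralizer ({(z : PSL)} : Set PSL) := by
    intro x hx
    refine Subgroup.mem_centralizer_singleton_iff.mpr ?_
    have : (⟨x, hx⟩ : H) * z = z * ⟨x, hx⟩ := by
      refine e.injective ?_
      rw [map_mul, map_mul, hz, e.apply_symm_apply]
      cases h : e ⟨x, hx⟩ with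
      | r i => simp [add_comm]
      | sr i => simp [sub_eq_add_neg, show -(k : ZMod n) = k from neg_eq_of_add_eq_zero_right hkk]
    exact congrArg Subtype.val this
  haveI := JankoReeMult.psl_simple (F := F) (by omega)
  have hne : Subgroup.centralizer ({(z : PSL)} : Set PSL) ≠ ⊤ := by
    intro h
    have hc : (z : PSL) ∈ Subgroup.center PSL := Subgroup.mem_center_iff.mpr fun x =>
      Subgroup.mem_centralizer_singleton_iff.mp (h ▸ Subgroup.mem_top x : x ∈ Subgroup.centralizer ({(z : PSL)} : Set PSL))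
    rcases (inferInstance : (Subgroup.center PSL).Normal).eq_bot_or_eq_top with e' | e'
    · exact hz1 (Subgroup.mem_bot.mp (e' ▸ hc))
    · obtain ⟨g, b, c, hA, -⟩ := exists_fixed_A4 (F := F) h2
      have := Subgroup.mem_center_iff.mp (e' ▸ Subgroup.mem_top b : b ∈ Subgroup.center PSL) g
      exact hA.bc (by rw [← hA.gb, this, mul_inv_cancel_right])
  have heq : H = Subgroup.centralizer ({(z : PSL)} : Set PSL) := by
    by_contra hne'
    exact hne (hH.2 _ (lt_of_le_of_ne hle hne'))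
  obtain ⟨A, hA⟩ := QuotientGroup.mk'_surjective _ (z : PSL)
  obtain ⟨A', hA'⟩ := QuotientGroup.mk'_surjective _ v
  obtain ⟨y, hy⟩ : ∃ y : PSL, y * (z : PSL) * y⁻¹ = v := by
    rw [← hA] at hz1 hz2 ⊢
    rw [← hA'] at hv hv1 ⊢
    obtain ⟨y, hy⟩ := isConj_iff.mp (PSL2Klein.isConj_trace_zero h2 ((PSL2Klein.invol_iff h2).mp ⟨hz1, hz2⟩)
      ((PSL2Klein.invol_iff h2).mp ⟨hv1, hv⟩))
    exact ⟨PSL2.mk y, by rw [← hy, map_mul, map_mul, map_inv]⟩
  have hmap : Subgroup.centralizer ({v} : Set PSL) = (Subgroup.centralizer ({(z : PSL)} : Set PSL)).map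
      (MulAut.conj y).toMonoidHom := by
    apply le_antisymm
    · intro x hx
      refine ⟨y⁻¹ * x * y, ?_, by simp [mul_assoc]⟩
      have h' := (show Commute x v from Subgroup.mem_centralizer_singleton_iff.mp hx).map (MulAut.conj y⁻¹).toMonoidHom
      simp only [MulEquiv.coe_toMonoidHom, MulAut.conj_apply, inv_inv] at h'
      rw [← hy, show y⁻¹ * (y * (z : PSL) * y⁻¹) * y = z by group] at h'
      exact Subgroup.mem_centralizer_singleton_iff.mpr h'.eq
    · rintro _ ⟨x, hx, rfl⟩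
      exact Subgroup.mem_centralizer_singleton_iff.mpr
        (by
          have h' := (show Commute x (z : PSL) from Subgroup.mem_centralizer_singleton_iff.mp hx).map
            (MulAut.conj y).toMonoidHom
          simp only [MulEquiv.coe_toMonoidHom, MulAut.conj_apply] at h' ⊢
          rw [hy] at h'
          exact h'.eq)
  rw [hmap, ← heq]
  refine ⟨fun h => hH.1 (Subgroup.map_injective (MulAut.conj y).injective (h.trans
    (Subgroup.map_top_of_surjective _ (MulAut.conj y).surjective).symm)), fun K hK => ?_⟩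
  have h1 : H < K.comap (MulAut.conj y).toMonoidHom := by
    refine lt_of_le_of_ne (Subgroup.map_le_iff_le_comap.mp hK.le) fun h => hK.ne ?_
    rw [h, Subgroup.map_comap_eq_self_of_surjective (f := (MulAut.conj y).toMonoidHom) (MulAut.conj y).surjective]
  rw [← Subgroup.map_comap_eq_self_of_surjective (f := (MulAut.conj y).toMonoidHom) (MulAut.conj y).surjective K]
  rw [show K.comap (MulAut.conj y).toMonoidHom = ⊤ from hH.2 _ h1]
  exact Subgroup.map_top_of_surjective _ (MulAut.conj y).surjective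

/-- In `q = 5` there are no field automorphisms. -/
theorem sigma_five (hq : Fintype.card F % 8 = 3 ∨ Fintype.card F % 8 = 5) (h5 : Fintype.card F = 5) (σ : RingAut F) :
    σ = 1 := by
  obtain ⟨p, n, hp, -, -, hcard, -, hc⟩ := odd_degree hq
  have hn : n = 1 := by
    have h' : p ^ n = 5 := hcard.symm.trans h5
    exact ((Nat.prime_five.pow_eq_iff).mp h').2
  rw [← orderOf_eq_one_iff]
  exact Nat.dvd_one.mp (hn ▸ hc ▸ orderOf_dvd_natCard σ)

end Gen

variable {G : Type u} [Group G] [Finite G]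

theorem Coord.φ_pow_eq {X : Type u} [Group X] (C : Coord X) {j : ℕ} (h : C.σ ^ j = 1) : C.φ ^ j = 1 := by
  rw [← orderOf_dvd_iff_pow_eq_one, C.φ_ord, orderOf_dvd_iff_pow_eq_one]
  exact h

/-- A subgroup of odd order of `C(t)/O_t` centralised by the Sylow subgroup lies in the field part. -/
theorem Adapted.odd_cent {t : G} {S : Sylow 2 G} {C : Coord (CQ t)}
    {g b c : Matrix.ProjectiveSpecialLinearGroup (Fin 2) C.F} (A : Adapted S C g b c) {y : CQ t}
    (ho : Odd (orderOf y)) (hy : ∀ x (hx : x ∈ (S : Subgroup G)), Commute y (br t ⟨x, A.le hx⟩)) :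
    ∃ j : ℕ, y = C.φ ^ j := by
  have hv : ∀ v, (v = 1 ∨ v = b ∨ v = c ∨ v = b * c) → Commute y (C.ι v) := fun v hv => by
    obtain ⟨x, hx, e⟩ := A.surj 0 v hv
    have := hy x hx
    rwa [e, show ((0 : Fin 2) : ℕ) = 0 from rfl, pow_zero, one_mul] at this
  have ht : Commute y C.t := by
    obtain ⟨x, hx, e⟩ := A.surj 1 1 (Or.inl rfl)
    have := hy x hx
    rwa [e, show ((1 : Fin 2) : ℕ) = 1 from rfl, pow_one, map_one, mul_one] at this
  obtain ⟨i, v, j, e, hv4⟩ := C.four_cent_form A.a4 (A.fixed C.σ).2.1 (A.fixed C.σ).2.2 ht (hv b (by simp))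
    (hv c (by simp))
  obtain ⟨m, hm⟩ := ho
  have hv2 : v * v = 1 := by
    rcases hv4 with rfl | rfl | rfl | rfl
    · exact one_mul 1
    · exact A.a4.bb
    · exact A.a4.cc
    · calc b * c * (b * c) = b * (c * b) * c := by group
        _ = b * b * (c * c) := by rw [← A.a4.comm]; group
        _ = 1 := by rw [A.a4.bb, A.a4.cc, one_mul]
  have hfixv : fieldAut C.σ v = v := by
    rcases hv4 with rfl | rfl | rfl | rfl
    · exact map_one _
    · exact (A.fixed _).2.1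
    · exact (A.fixed _).2.2
    · rw [map_mul, (A.fixed _).2.1, (A.fixed _).2.2]
  have hc1 : Commute (C.t ^ (i : ℕ) * C.ι v) (C.φ ^ j) :=
    ((C.t_φ.pow_right j).pow_left _).mul_left ((C.φ_comm hfixv).symm.pow_right j)
  have h1 := pow_orderOf_eq_one y
  rw [hm, e, hc1.mul_pow, ((C.t_ι v).pow_left (i : ℕ)).mul_pow, ← map_pow, pow_succ v, pow_mul v, pow_two, hv2,
    one_pow, one_mul, ← pow_mul, ← pow_mul] at h1
  have h2 : C.t ^ ((i : ℕ) * (2 * m + 1)) = C.t ^ (i : ℕ) := by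
    rw [mul_add, mul_one, pow_add, mul_left_comm, pow_mul, pow_two, C.tt, one_pow, one_mul]
  rw [h2] at h1
  obtain ⟨hi, hv1, -⟩ := C.unique h1
  exact ⟨j, by rw [e, hi, hv1]; simp⟩

section Balance

variable (B : Base G) {a b : G} {S : Sylow 2 G}
include B

/-- All centralisers of involutions are non-soluble. -/
theorem hns_all {t : G} (ht : orderOf t = 2) (hns : ¬ Group.IsSolvable ↥(cT t)) {u : G} (hu : orderOf u = 2) :
    ¬ Group.IsSolvable ↥(cT u) := by
  obtain ⟨g, hg⟩ := B.all_conj ht hu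
  intro hs
  apply hns
  haveI := hs
  refine Group.isSolvable_of_isSolvable_injective (f :=
    ((MulAut.conj g).toMonoidHom.comp (cT t).subtype).codRestrict (cT u) fun x => ?_) fun x y h => ?_
  · rw [← hg]
    exact mem_cT.mpr ((mem_cT.mp x.2).map (MulAut.conj g).toMonoidHom)
  · exact Subtype.ext ((MulAut.conj g).injective (congrArg (fun z : ↥(cT u) => (z : G)) h))

variable (hns : ∀ u : G, orderOf u = 2 → ¬ Group.IsSolvable ↥(cT u)) (haS : a ∈ (S : Subgroup G))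
  (hbS : b ∈ (S : Subgroup G)) (ha1 : a ≠ 1) (hb1 : b ≠ 1) (hab : a ≠ b)
include hns haS hbS ha1 hb1 hab

/-- An element of order three of `N(S)` cycling a given four-group. -/
theorem four_conj : ∃ h ∈ Subgroup.normalizer ((S : Subgroup G) : Set G), h * a * h⁻¹ = b ∧ h * b * h⁻¹ = a * b := by
  classical
  have hE := B.e8.sylow S
  have ha2 := hE.orderOf_eq_two haS ha1
  obtain ⟨C, g, x₀, y₀, A⟩ := exists_adapted B ha2 (hns a ha2) haS
  obtain ⟨n, hn, hna, -, hact⟩ := A.exists_k hE haS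
  have hinj : ∀ {x y : G} (hx : x ∈ (S : Subgroup G)) (hy : y ∈ (S : Subgroup G)),
      br a ⟨x, A.le hx⟩ = br a ⟨y, A.le hy⟩ → x = y := fun {x y} hx hy e =>
    inv_mul_eq_one.mp (congrArg Subtype.val (bar_inj hE A.le
      (a := (⟨x, A.le hx⟩ : ↥(cT a))⁻¹ * ⟨y, A.le hy⟩) (mul_mem (inv_mem hx) hy)
      (by rw [map_mul, map_inv, inv_mul_eq_one]; exact e)))
  have hnS : ∀ {z}, z ∈ (S : Subgroup G) → n * z * n⁻¹ ∈ (S : Subgroup G) := fun hz =>
    (Subgroup.mem_normalizer_iff.mp hn _).mp hz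
  let Pr : G → Prop := fun y => ∃ h ∈ Subgroup.normalizer ((S : Subgroup G) : Set G),
    h * a * h⁻¹ = y ∧ h * y * h⁻¹ = a * y
  have hPn : ∀ {y}, Pr y → Pr (n * y * n⁻¹) := by
    rintro y ⟨h, hh, h1, h2⟩
    have hna' : n⁻¹ * a * n = a := by
      calc n⁻¹ * a * n = n⁻¹ * (a * n) := mul_assoc _ _ _
        _ = a := by rw [← hna.eq, inv_mul_cancel_left]
    refine ⟨n * h * n⁻¹, mul_mem (mul_mem hn hh) (inv_mem hn), ?_, ?_⟩
    · calc n * h * n⁻¹ * a * (n * h * n⁻¹)⁻¹ = n * (h * (n⁻¹ * a * n) * h⁻¹) * n⁻¹ := by group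
        _ = n * y * n⁻¹ := by rw [hna', h1]
    · calc n * h * n⁻¹ * (n * y * n⁻¹) * (n * h * n⁻¹)⁻¹ = n * (h * y * h⁻¹) * n⁻¹ := by group
        _ = (n * a * n⁻¹) * (n * y * n⁻¹) := by rw [h2]; group
        _ = a * (n * y * n⁻¹) := by rw [hna.eq, mul_inv_cancel_right]
  have hPa : ∀ {y}, y ∈ (S : Subgroup G) → Pr y → Pr (a * y) := by
    rintro y hy ⟨h, hh, h1, h2⟩
    have hay : h * (a * y) * h⁻¹ = a := by
      rw [show h * (a * y) * h⁻¹ = (h * a * h⁻¹) * (h * y * h⁻¹) by group, h1, h2, hE.comm haS hy, ← mul_assoc,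
        hE.2 y hy, one_mul]
    refine ⟨h⁻¹, inv_mem hh, ?_, ?_⟩
    · conv_lhs => rw [← hay]
      group
    · rw [← mul_assoc a a y, hE.2 a haS, one_mul]
      conv_lhs => rw [← h2]
      group
  let R : Fin 2 → Matrix.ProjectiveSpecialLinearGroup (Fin 2) C.F → Prop := fun i v =>
    ∀ z (hz : z ∈ (S : Subgroup G)), br a ⟨z, A.le hz⟩ = C.t ^ (i : ℕ) * C.ι v → Pr z
  have hRn : ∀ {i v}, (v = 1 ∨ v = x₀ ∨ v = y₀ ∨ v = x₀ * y₀) → R i v → R i (g * v * g⁻¹) := by
    intro i v hv hR z hz e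
    obtain ⟨w, hw, e'⟩ := A.surj i v hv
    have h1 := hact w hw i v e' (hnS hw)
    rw [← e] at h1
    exact hinj (hnS hw) hz h1 ▸ hPn (hR w hw e')
  have hRa : ∀ {i v}, (v = 1 ∨ v = x₀ ∨ v = y₀ ∨ v = x₀ * y₀) → R i v → R (i + 1) v := by
    intro i v hv hR z hz e
    obtain ⟨w, hw, e'⟩ := A.surj i v hv
    have h1 : br a ⟨a * w, A.le (mul_mem haS hw)⟩ = br a ⟨z, A.le hz⟩ := by
      rw [e, show (⟨a * w, A.le (mul_mem haS hw)⟩ : ↥(cT a)) = ⟨a, A.le haS⟩ * ⟨w, A.le hw⟩ from rfl, map_mul, e',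
        ← A.t_eq, ← mul_assoc, ← pow_succ', Fin.val_add]
      exact congrArg (· * C.ι v) (pow_eq_pow_mod _ (by rw [pow_two, C.tt]))
    exact hinj (mul_mem haS hw) hz h1 ▸ hPa hw (hR w hw e')
  -- one instance
  obtain ⟨x, hx, hxe⟩ := A.surj 0 x₀ (Or.inr (Or.inl rfl))
  rw [show ((0 : Fin 2) : ℕ) = 0 from rfl, pow_zero, one_mul] at hxe
  have hx1 : x ≠ 1 := fun h => A.a4.b1 (C.ι_inj (by
    rw [map_one, ← hxe, show (⟨x, A.le hx⟩ : ↥(cT a)) = 1 from Subtype.ext h, map_one]))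
  obtain ⟨m, hm, hma⟩ := B.trans S hx haS hx1 ha1
  set x₂ := n * x * n⁻¹ with hx₂
  have hx₂e : br a ⟨x₂, A.le (hnS hx)⟩ = C.ι y₀ := by
    have := hact x hx 0 x₀ (by rw [hxe]; simp) (hnS hx)
    rw [A.a4.gb] at this
    simpa using this
  have hx₃ : n * x₂ * n⁻¹ = x * x₂ := by
    refine hinj (hnS (hnS hx)) (mul_mem hx (hnS hx)) ?_
    have h1 := hact x₂ (hnS hx) 0 y₀ (by rw [hx₂e]; simp) (hnS (hnS hx))
    rw [A.a4.gc] at h1
    rw [h1, show (⟨x * x₂, A.le (mul_mem hx (hnS hx))⟩ : ↥(cT a)) = ⟨x, A.le hx⟩ * ⟨x₂, A.le (hnS hx)⟩ from rfl,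
      map_mul (br a), hxe, hx₂e, map_mul]
    simp
  set y := m * x₂ * m⁻¹ with hy
  have hyS : y ∈ (S : Subgroup G) := (Subgroup.mem_normalizer_iff.mp hm _).mp (hnS hx)
  have hPy : Pr y := by
    refine ⟨m * n * m⁻¹, mul_mem (mul_mem hm hn) (inv_mem hm), ?_, ?_⟩
    · rw [← hma, hy, hx₂]; group
    · calc m * n * m⁻¹ * y * (m * n * m⁻¹)⁻¹ = m * (n * x₂ * n⁻¹) * m⁻¹ := by rw [hy]; group
        _ = a * y := by rw [hx₃, hy, ← hma]; group
  obtain ⟨i, v, hv, hv4⟩ := A.form y hyS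
  have hRiv : R i v := fun z hz e => hinj hyS hz (hv.trans e.symm) ▸ hPy
  have hv1 : v ≠ 1 := by
    intro h
    rw [h, map_one, mul_one] at hv
    fin_cases i
    · simp only [pow_zero] at hv
      have h0 : y = 1 := hinj hyS (one_mem _) (hv.trans (map_one _).symm)
      rw [hy, conj_eq_one_iff, hx₂, conj_eq_one_iff] at h0
      exact hx1 h0
    · simp only [pow_one] at hv
      have h0 : y = a := hinj hyS haS (hv.trans A.t_eq)
      rw [hy, ← hma, mul_left_inj, mul_right_inj] at h0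
      exact A.a4.bc (C.ι_inj (by rw [← hx₂e, ← hxe]; exact congrArg _ (Subtype.ext h0.symm)))
  obtain ⟨j, w, hw, hw4⟩ := A.form b hbS
  have hw1 : w ≠ 1 := by
    intro h
    rw [h, map_one, mul_one] at hw
    fin_cases j
    · simp only [pow_zero] at hw
      exact hb1 (hinj hbS (one_mem _) (hw.trans (map_one _).symm))
    · simp only [pow_one] at hw
      exact hab (hinj hbS haS (hw.trans A.t_eq)).symm
  have hall : R i x₀ ∧ R i y₀ ∧ R i (x₀ * y₀) := by
    rcases hv4.resolve_left hv1 with rfl | rfl | rfl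
    · have h1 := hRn (Or.inr (Or.inl rfl)) hRiv
      rw [A.a4.gb] at h1
      have h2 := hRn (Or.inr (Or.inr (Or.inl rfl))) h1
      rw [A.a4.gc] at h2
      exact ⟨hRiv, h1, h2⟩
    · have h1 := hRn (Or.inr (Or.inr (Or.inl rfl))) hRiv
      rw [A.a4.gc] at h1
      have h2 := hRn (Or.inr (Or.inr (Or.inr rfl))) h1
      rw [A.gbc hE] at h2
      exact ⟨h2, hRiv, h1⟩
    · have h1 := hRn (Or.inr (Or.inr (Or.inr rfl))) hRiv
      rw [A.gbc hE] at h1
      have h2 := hRn (Or.inr (Or.inl rfl)) h1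
      rw [A.a4.gb] at h2
      exact ⟨h1, h2, hRiv⟩
  have hiw : R i w := by rcases hw4.resolve_left hw1 with rfl | rfl | rfl; exacts [hall.1, hall.2.1, hall.2.2]
  have hij : R j w := by
    rcases (by decide : ∀ i j : Fin 2, j = i ∨ j = i + 1) i j with h | h
    · exact h ▸ hiw
    · exact h ▸ hRa hw4 hiw
  exact hij b hbS hw

variable {p : ℕ} [Fact p.Prime]

/-- Where `S` does not centralise the Sylow subgroup: control of fusion by `N(ZJ(R))`. -/
theorem sylow_le (hp : p ≠ 2) (hnc : ∀ P, InvSyl p a S P → ¬ Ctr S P) :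
    ¬ p ∣ (Ot b).relIndex (Ot a ⊓ cT b) := by
  classical
  haveI : Fact (Nat.Prime 2) := ⟨Nat.prime_two⟩
  have hE := B.e8.sylow S
  have ha2 := hE.orderOf_eq_two haS ha1
  obtain ⟨R, hF, hRM⟩ := exists_local B (hns a ha2) haS ha1 hp hnc
  set M := Subgroup.normalizer (ZJ.zj 0 (R : Subgroup G) : Set G) with hMdef
  obtain ⟨P, hP, hPO⟩ := hF.inv
  set C₂ := cT a ⊓ cT b with hC₂
  set A := Ot a ⊓ cT b with hA
  set X := OC C₂ with hX
  have hAC : A ≤ C₂ := inf_le_inf_right _ (Ot_le a)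
  have hC₂A : C₂ ≤ Subgroup.normalizer (A : Set G) := fun c hc => mem_normalizer_of_maps fun x hx =>
    ⟨conj_Ot_mem (mem_cT.mp hc.1) hx.1, (cT b).mul_mem ((cT b).mul_mem hc.2 hx.2) ((cT b).inv_mem hc.2)⟩
  have hAX : A ≤ X := le_OC hAC hC₂A (Odd.of_dvd_nat (OC_odd _) (Subgroup.card_dvd_of_le inf_le_left))
  obtain ⟨h, hhN, hha, hhb⟩ := four_conj B hns haS hbS ha1 hb1 hab
  -- `X` meets `M` in a subgroup of full `p`-part
  have hlift : X ≤ A ⊔ (X ⊓ M) := by
    intro x hx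
    have hxC := OC_le C₂ hx
    obtain ⟨m, hm, hma, hmo⟩ := hF.cov x (mem_cT.mp hxC.1)
    set o := m⁻¹ * x with ho
    have hxb : Commute x b := mem_cT.mp hxC.2
    have hbb := hE.2 b hbS
    obtain ⟨w, hw, hwc⟩ := exists_fix (E := Ot a ⊓ M)
      (Odd.of_dvd_nat (OC_odd (cT a)) (Subgroup.card_dvd_of_le inf_le_left)) (t := b) (y := m) hbb ⟨by
        rw [show m * b * m⁻¹ * b = x * o⁻¹ * x⁻¹ * (x * b * x⁻¹) * (x * o * x⁻¹) * b by rw [ho]; group,
          show x * b * x⁻¹ = b by rw [hxb.eq, mul_inv_cancel_right], mul_assoc (x * o⁻¹ * x⁻¹), mul_assoc]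
        refine mul_mem (conj_Ot_mem (mem_cT.mp hxC.1) (inv_mem hmo)) ?_
        have h1 := conj_Ot_mem (hE.comm hbS haS) (conj_Ot_mem (mem_cT.mp hxC.1) hmo)
        rwa [inv_eq_of_mul_eq_one_right hbb] at h1,
        M.mul_mem (M.mul_mem (M.mul_mem hm (hF.sle hbS)) (M.inv_mem hm)) (hF.sle hbS)⟩
    set m' := w⁻¹ * m with hm'
    have hm'a : Commute m' a := (mem_cT.mp (Ot_le a hw.1)).inv_left.mul_left hma
    have hoA : m'⁻¹ * x ∈ A := by
      refine ⟨?_, mem_cT.mpr (hwc.inv_left.mul_left hxb)⟩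
      rw [show m'⁻¹ * x = (m⁻¹ * w * m⁻¹⁻¹) * o by rw [hm', ho]; group]
      exact mul_mem (conj_Ot_mem hma.inv_left hw.1) hmo
    have hm'X : m' ∈ X := by
      rw [show m' = x * (m'⁻¹ * x)⁻¹ by group]
      exact X.mul_mem hx (X.inv_mem (hAX hoA))
    have h1 : x * (m'⁻¹ * x) * x⁻¹ ∈ A := (Subgroup.mem_normalizer_iff.mp (hC₂A hxC) _).mp hoA
    have h2 : m' ∈ X ⊓ M := ⟨hm'X, M.mul_mem (M.inv_mem hw.2) hm⟩
    rw [show x = m' * (m'⁻¹ * x) by group]
    exact mul_mem (Subgroup.mem_sup_right h2) (Subgroup.mem_sup_left hoA)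
  have hfull : (Nat.card X).factorization p ≤ (Nat.card ↥(X ⊓ M)).factorization p := by
    have hXMn : X ⊓ M ≤ Subgroup.normalizer (A : Set G) := inf_le_left.trans ((OC_le C₂).trans hC₂A)
    have hmul := HallE8.card_sup_mul hXMn
    rw [show A ⊔ (X ⊓ M) = X from le_antisymm (sup_le hAX inf_le_left) hlift] at hmul
    have hbz : IsPGroup 2 (Subgroup.zpowers b) :=
      IsPGroup.of_card (n := 1) (by rw [Nat.card_zpowers, hE.orderOf_eq_two hbS hb1, pow_one])
    obtain ⟨P₁, hP₁⟩ := hP.sylow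
    have hcard := CfsgLib.FixProd.card_fixed_sylow hbz (Subgroup.zpowers_le.mpr (S_le_norm_Ot hE haS hbS)) (by
      rw [Nat.card_zpowers, hE.orderOf_eq_two hbS hb1]
      exact Nat.coprime_two_left.mpr (OC_odd _)) P₁ (by rw [hP₁]; exact Subgroup.zpowers_le.mpr (hP.inv hbS))
    rw [← CfsgLib.FixProd.centralizer_singleton_eq, hP₁] at hcard
    have hle : P ⊓ cT b ≤ A ⊓ (X ⊓ M) := fun z hz =>
      ⟨⟨hP.le hz.1, hz.2⟩, hAX ⟨hP.le hz.1, hz.2⟩, OC_le M (hPO hz.1)⟩
    have hd : p ^ (Nat.card A).factorization p ∣ Nat.card ↥(A ⊓ (X ⊓ M)) := hcard ▸ Subgroup.card_dvd_of_le hle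
    rw [((Fact.out : p.Prime).pow_dvd_iff_le_factorization Nat.card_pos.ne')] at hd
    have h1 := congrArg (fun k => k.factorization p) hmul
    rw [Nat.factorization_mul Nat.card_pos.ne' Nat.card_pos.ne', Nat.factorization_mul Nat.card_pos.ne' Nat.card_pos.ne',
      Finsupp.add_apply, Finsupp.add_apply] at h1
    omega
  obtain ⟨K₀⟩ : Nonempty (Sylow p ↥(X ⊓ M)) := inferInstance
  set K := (K₀ : Subgroup ↥(X ⊓ M)).map (X ⊓ M).subtype with hK
  have hKX : K ≤ X := (Subgroup.map_subtype_le _).trans inf_le_left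
  have hKM : K ≤ M := (Subgroup.map_subtype_le _).trans inf_le_right
  have hKcard : Nat.card K = p ^ (Nat.card X).factorization p := by
    rw [hK, Subgroup.card_map_of_injective (X ⊓ M).subtype_injective, K₀.card_eq_multiplicity]
    exact congrArg _ (le_antisymm ((Nat.factorization_le_iff_dvd Nat.card_pos.ne' Nat.card_pos.ne').mpr
      (Subgroup.card_dvd_of_le inf_le_left) p) hfull)
  -- `h` can be adjusted to fix `K`
  have hhC : ∀ {z}, z ∈ C₂ → h * z * h⁻¹ ∈ C₂ := by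
    intro z hz
    have h1 : Commute (h * z * h⁻¹) b := hha ▸ (mem_cT.mp hz.1).map (MulAut.conj h).toMonoidHom
    have h2 : Commute (h * z * h⁻¹) (a * b) := hhb ▸ (mem_cT.mp hz.2).map (MulAut.conj h).toMonoidHom
    refine ⟨mem_cT.mpr ?_, mem_cT.mpr h1⟩
    have := h2.mul_right h1
    rwa [mul_assoc a b b, hE.2 b hbS, mul_one] at this
  have hhC₂ : h ∈ Subgroup.normalizer (C₂ : Set G) := mem_normalizer_of_maps fun z hz => hhC hz
  have hhX : ∀ {z}, z ∈ X → h * z * h⁻¹ ∈ X := by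
    have hle : X.map (MulAut.conj h).toMonoidHom ≤ X := by
      refine le_OC ?_ ?_ ?_
      · rintro _ ⟨z, hz, rfl⟩; exact hhC (OC_le C₂ hz)
      · intro c hc
        refine mem_normalizer_of_maps ?_
        rintro _ ⟨z, hz, rfl⟩
        have h1 : h⁻¹ * c * h ∈ C₂ := by
          simpa using (Subgroup.mem_normalizer_iff.mp (inv_mem hhC₂) c).mp hc
        exact ⟨_, (Subgroup.mem_normalizer_iff.mp (OC_norm C₂ h1) z).mp hz, by simp [mul_assoc]⟩
      · rw [Subgroup.card_map_of_injective (MulAut.conj h).injective]; exact OC_odd _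
    intro z hz
    exact hle ⟨_, hz, rfl⟩
  let K₁ : Sylow p ↥X := Sylow.ofCard (K.subgroupOf X) (by
    rw [Nat.card_congr (Subgroup.subgroupOfEquivOfLe hKX).toEquiv]; exact hKcard)
  have hKh : K.map (MulAut.conj h).toMonoidHom ≤ X := by
    rintro _ ⟨z, hz, rfl⟩; exact hhX (hKX hz)
  let K₂ : Sylow p ↥X := Sylow.ofCard ((K.map (MulAut.conj h).toMonoidHom).subgroupOf X) (by
    rw [Nat.card_congr (Subgroup.subgroupOfEquivOfLe hKh).toEquiv,
      Subgroup.card_map_of_injective (MulAut.conj h).injective]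
    exact hKcard)
  obtain ⟨x, hx⟩ := MulAction.exists_smul_eq ↥X K₂ K₁
  set h' := (x : G) * h with hh'
  have hh'K : ∀ z ∈ K, h' * z * h'⁻¹ ∈ K := by
    intro z hz
    have h1 : x * ⟨h * z * h⁻¹, hhX (hKX hz)⟩ * x⁻¹ ∈ ((x • K₂ : Sylow p ↥X) : Subgroup ↥X) := by
      rw [Sylow.coe_subgroup_smul]
      exact ⟨_, (⟨z, hz, rfl⟩ : h * z * h⁻¹ ∈ K.map (MulAut.conj h).toMonoidHom), rfl⟩
    rw [hx] at h1
    have h2 : (x : G) * (h * z * h⁻¹) * (x : G)⁻¹ ∈ K := h1
    rwa [hh', show (x : G) * h * z * ((x : G) * h)⁻¹ = (x : G) * (h * z * h⁻¹) * (x : G)⁻¹ by group]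
  -- control of fusion
  let R₀ : Sylow p ↥M := R.subtype hRM
  obtain ⟨K₃, hK₃⟩ := (((K₀.2.map _ : IsPGroup p K)).comap_of_injective M.subtype M.subtype_injective :
    IsPGroup p (K.subgroupOf M)).exists_le_sylow
  obtain ⟨m₀, hm₀⟩ := MulAction.exists_smul_eq ↥M K₃ R₀
  have hm₀R : ∀ z ∈ K, (m₀ : G) * z * (m₀ : G)⁻¹ ∈ (R : Subgroup G) := by
    intro z hz
    have h1 : m₀ * ⟨z, hKM hz⟩ * m₀⁻¹ ∈ ((m₀ • K₃ : Sylow p ↥M) : Subgroup ↥M) := by
      rw [Sylow.coe_subgroup_smul]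
      exact ⟨_, hK₃ (show (⟨z, hKM hz⟩ : ↥M) ∈ K.subgroupOf M from hz), rfl⟩
    rw [hm₀] at h1
    exact h1
  obtain ⟨μ, hμ, hμe⟩ := ctrl B (hns a ha2) haS ha1 hp hnc R (A := (fun z => (m₀ : G) * z * (m₀ : G)⁻¹) '' K)
    (by rintro _ ⟨z, hz, rfl⟩; exact hm₀R z hz) (x := (m₀ : G) * h' * (m₀ : G)⁻¹) (by
      rintro _ ⟨z, hz, rfl⟩
      rw [show (m₀ : G) * h' * (m₀ : G)⁻¹ * ((m₀ : G) * z * (m₀ : G)⁻¹) * ((m₀ : G) * h' * (m₀ : G)⁻¹)⁻¹ =
        (m₀ : G) * (h' * z * h'⁻¹) * (m₀ : G)⁻¹ by group]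
      exact hm₀R _ (hh'K z hz))
  -- the part in `O(M)` is preserved
  have hKA : ∀ z ∈ K, (z ∈ OC M ↔ z ∈ A) := by
    intro z hz
    refine ⟨fun hzM => ⟨core_inf_le hF.cov ⟨hzM, (OC_le C₂ (hKX hz)).1⟩, (OC_le C₂ (hKX hz)).2⟩, fun hzA => ?_⟩
    exact inf_core_le B (hns a ha2) hF.proper hF.sle haS ha1 hF.cov ⟨hzA.1, hKM hz⟩
  have hstep : ∀ z ∈ K, z ∈ A → h' * z * h'⁻¹ ∈ A := by
    intro z hz hzA
    refine (hKA _ (hh'K z hz)).mp ?_
    have e := hμe _ ⟨z, hz, rfl⟩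
    have e' : h' * z * h'⁻¹ = ((m₀ : G)⁻¹ * μ * (m₀ : G)) * z * ((m₀ : G)⁻¹ * μ * (m₀ : G))⁻¹ := by
      calc h' * z * h'⁻¹ = (m₀ : G)⁻¹ * ((m₀ : G) * h' * (m₀ : G)⁻¹ * ((m₀ : G) * z * (m₀ : G)⁻¹) *
            ((m₀ : G) * h' * (m₀ : G)⁻¹)⁻¹) * m₀ := by group
        _ = (m₀ : G)⁻¹ * (μ * ((m₀ : G) * z * (m₀ : G)⁻¹) * μ⁻¹) * m₀ := by rw [e]
        _ = _ := by group
    rw [e']
    exact (Subgroup.mem_normalizer_iff.mp (OC_norm M (mul_mem (mul_mem (inv_mem m₀.2) hμ) m₀.2)) z).mp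
      ((hKA z hz).mpr hzA)
  -- so `K ∩ A` lies in `O_b`
  have hKAb : K ⊓ A ≤ Ot b := by
    have hmap : (K ⊓ A).map (MulAut.conj h').toMonoidHom = K ⊓ A := by
      refine Subgroup.eq_of_le_of_card_ge ?_
        (by rw [Subgroup.card_map_of_injective (MulAut.conj h').injective])
      rintro _ ⟨z, hz, rfl⟩
      exact ⟨hh'K z hz.1, hstep z hz.1 hz.2⟩
    intro z hz
    rw [← hmap] at hz
    obtain ⟨z₀, hz₀, rfl⟩ := hz
    have h1 := conj_mem_Ot h hz₀.2.1
    rw [hha] at h1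
    have h2 := conj_Ot_mem (mem_cT.mp (OC_le C₂ x.2).2) h1
    show h' * z₀ * h'⁻¹ ∈ Ot b
    rwa [hh', show (x : G) * h * z₀ * ((x : G) * h)⁻¹ = (x : G) * (h * z₀ * h⁻¹) * (x : G)⁻¹ by group]
  -- and it is a Sylow subgroup of `A`
  intro hdvd
  have h1 : (Ot b).relIndex A * Nat.card ↥(Ot b ⊓ A) = Nat.card A := by
    rw [← Subgroup.inf_relIndex_right, mul_comm]
    exact CfsgLib.card_mul_relIndex inf_le_right
  have h2 : (Nat.card A).factorization p ≤ (Nat.card ↥(Ot b ⊓ A)).factorization p := by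
    have hKn : K ≤ Subgroup.normalizer (A : Set G) := hKX.trans ((OC_le C₂).trans hC₂A)
    have hmul := HallE8.card_sup_mul hKn
    have hsup : Nat.card ↥(A ⊔ K) ∣ Nat.card X := Subgroup.card_dvd_of_le (sup_le hAX hKX)
    have h3 := congrArg (fun k => k.factorization p) hmul
    rw [Nat.factorization_mul Nat.card_pos.ne' Nat.card_pos.ne', Nat.factorization_mul Nat.card_pos.ne' Nat.card_pos.ne',
      Finsupp.add_apply, Finsupp.add_apply, hKcard,
      Nat.factorization_pow, Finsupp.smul_apply, (Fact.out : p.Prime).factorization_self] at h3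
    have h4 := (Nat.factorization_le_iff_dvd Nat.card_pos.ne' Nat.card_pos.ne').mpr hsup p
    have h5 := (Nat.factorization_le_iff_dvd Nat.card_pos.ne' Nat.card_pos.ne').mpr
      (Subgroup.card_dvd_of_le (le_inf (inf_comm A K ▸ hKAb) inf_le_left : A ⊓ K ≤ Ot b ⊓ A)) p
    simp only [smul_eq_mul, mul_one] at h3
    omega
  have h6 := congrArg (fun k => k.factorization p) h1
  rw [Nat.factorization_mul (fun e => by rw [e, zero_mul] at h1; exact Nat.card_pos.ne' h1.symm) Nat.card_pos.ne',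
    Finsupp.add_apply] at h6
  have h7 : 1 ≤ ((Ot b).relIndex A).factorization p :=
    ((Fact.out : p.Prime).dvd_iff_one_le_factorization fun e => by rw [e, zero_mul] at h1; exact Nat.card_pos.ne' h1.symm).mp hdvd
  omega

omit [Fact p.Prime] in
/-- Balance. -/
theorem balance : Ot a ⊓ cT b ≤ Ot b := by
  classical
  haveI : Fact (Nat.Prime 2) := ⟨Nat.prime_two⟩
  have hE := B.e8.sylow S
  have ha2 := hE.orderOf_eq_two haS ha1
  have hb2 := hE.orderOf_eq_two hbS hb1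
  obtain ⟨C, g, x₀, y₀, Ad⟩ := exists_adapted B hb2 (hns b hb2) hbS
  set A := Ot a ⊓ cT b with hA
  let f : ↥A →* CQ b := (br b).comp (Subgroup.inclusion inf_le_right)
  have hfodd : Odd (Nat.card f.range) := by
    rw [← Subgroup.index_ker]
    exact Odd.of_dvd_nat (Odd.of_dvd_nat (OC_odd (cT a)) (Subgroup.card_dvd_of_le inf_le_left))
      (Subgroup.index_dvd_card _)
  set D := f.range ⊓ Subgroup.centralizer ((br b) '' {x : ↥(cT b) | (x : G) ∈ (S : Subgroup G)}) with hD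
  have hDle : f.range ≤ D := by
    refine (Subgroup.eq_of_le_of_card_ge inf_le_left (Nat.le_of_dvd Nat.card_pos ?_)).ge
    refine (Nat.factorization_prime_le_iff_dvd Nat.card_pos.ne' Nat.card_pos.ne').mp fun p hp => ?_
    haveI : Fact p.Prime := ⟨hp⟩
    by_cases hp2 : p = 2
    · subst hp2
      rw [Nat.factorization_eq_zero_of_not_dvd fun h => Nat.not_even_iff_odd.mpr hfodd (even_iff_two_dvd.mpr h)]
      exact Nat.zero_le _
    by_cases hnc : ∀ P, InvSyl p a S P → ¬ Ctr S P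
    · have h := sylow_le B hns haS hbS ha1 hb1 hab hp2 hnc
      have hker : f.ker = (Ot b).subgroupOf A := by
        ext z
        exact br_eq_one
      rw [Nat.factorization_eq_zero_of_not_dvd (by rw [← Subgroup.index_ker, hker]; exact h)]
      exact Nat.zero_le _
    · push Not at hnc
      obtain ⟨P, hP, hPc⟩ := hnc
      obtain ⟨P₁, hP₁⟩ := hP.sylow
      have hcard := CfsgLib.FixProd.card_fixed_sylow (p := 2)
        (IsPGroup.of_card (n := 1) (by rw [Nat.card_zpowers, hb2, pow_one]) : IsPGroup 2 (Subgroup.zpowers b))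
        (Subgroup.zpowers_le.mpr (S_le_norm_Ot hE haS hbS)) (by
          rw [Nat.card_zpowers, hb2]
          exact Nat.coprime_two_left.mpr (OC_odd _)) P₁ (by rw [hP₁]; exact Subgroup.zpowers_le.mpr (hP.inv hbS))
      rw [← CfsgLib.FixProd.centralizer_singleton_eq, hP₁] at hcard
      have hle : P ⊓ cT b ≤ A := inf_le_inf_right _ hP.le
      let R : Sylow p ↥A := Sylow.ofCard ((P ⊓ cT b).subgroupOf A) (by
        rw [Nat.card_congr (Subgroup.subgroupOfEquivOfLe hle).toEquiv]; exact hcard)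
      let R' : Sylow p f.range := R.mapSurjective (f := f.rangeRestrict) f.rangeRestrict_surjective
      refine ((Fact.out : p.Prime).pow_dvd_iff_le_factorization Nat.card_pos.ne').mp ?_
      rw [← R'.card_eq_multiplicity, ← Subgroup.card_map_of_injective f.range.subtype_injective]
      refine Subgroup.card_dvd_of_le ?_
      rintro _ ⟨_, ⟨z, hz, rfl⟩, rfl⟩
      refine ⟨⟨z, rfl⟩, ?_⟩
      rintro _ ⟨s, hs, rfl⟩
      exact ((show Commute s (Subgroup.inclusion inf_le_right z : ↥(cT b)) from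
        Subtype.ext (hPc s hs z hz.1).eq).map (br b)).eq
  -- the image is trivial
  intro z hz
  refine (br_eq_one (x := ⟨z, hz.2⟩)).mp ?_
  have hy : f ⟨z, hz⟩ ∈ f.range := ⟨_, rfl⟩
  have hcent : ∀ y ∈ f.range, ∃ j : ℕ, y = C.φ ^ j := by
    intro y hy
    refine Ad.odd_cent (Odd.of_dvd_nat hfodd (Subgroup.orderOf_dvd_natCard _ hy)) fun x hx => ?_
    exact ((hDle hy).2 _ ⟨⟨x, Ad.le hx⟩, hx, rfl⟩).symm
  obtain ⟨j, hj⟩ := hcent _ hy
  show f ⟨z, hz⟩ = 1
  rw [hj]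
  apply C.φ_pow_eq
  by_cases hq : Fintype.card C.F = 5
  · rw [sigma_five C.hq hq C.σ, one_pow]
  obtain ⟨i, va, hva, hva4⟩ := Ad.form a haS
  have hva1 : va ≠ 1 := by
    intro h
    rw [h, map_one, mul_one] at hva
    fin_cases i
    · simp only [pow_zero] at hva
      exact ha1 (congrArg Subtype.val (bar_inj hE Ad.le (a := ⟨a, Ad.le haS⟩) haS hva))
    · simp only [pow_one] at hva
      rw [Ad.t_eq] at hva
      exact hab (inv_mul_eq_one.mp (congrArg Subtype.val (bar_inj hE Ad.le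
        (a := (⟨a, Ad.le haS⟩ : ↥(cT b))⁻¹ * ⟨b, mem_cT.mpr (Commute.refl b)⟩) (mul_mem (inv_mem haS) hbS)
        (by rw [map_mul, map_inv, inv_mul_eq_one]; exact hva))))
  have hva2 : va * va = 1 := by
    rcases hva4 with rfl | rfl | rfl | rfl
    · exact one_mul 1
    · exact Ad.a4.bb
    · exact Ad.a4.cc
    · calc x₀ * y₀ * (x₀ * y₀) = x₀ * (y₀ * x₀) * y₀ := by group
        _ = x₀ * x₀ * (y₀ * y₀) := by rw [← Ad.a4.comm]; group
        _ = 1 := by rw [Ad.a4.bb, Ad.a4.cc, one_mul]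
  let K : Subgroup (Matrix.ProjectiveSpecialLinearGroup (Fin 2) C.F) :=
    MonoidHom.eqLocus (fieldAut (C.σ ^ j) : MulAut _).toMonoidHom (MonoidHom.id _)
  have hK : Subgroup.centralizer ({va} : Set _) ≤ K := by
    intro x hx
    have hxc : Commute (C.ι x) (br b ⟨a, Ad.le haS⟩) := by
      rw [hva]
      exact ((C.t_ι x).pow_left (i : ℕ)).symm.mul_right
        ((show Commute x va from Subgroup.mem_centralizer_singleton_iff.mp hx).map C.ι)
    obtain ⟨w₀, hw₀⟩ := bar_surjective 2 (C.ι x)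
    obtain ⟨w, hw, hwc⟩ := exists_fix (OC_odd (cT b)) (t := a) (y := (w₀ : G)) (hE.2 a haS)
      ((br_eq_one (x := w₀ * ⟨a, Ad.le haS⟩ * w₀⁻¹ * ⟨a, Ad.le haS⟩)).mp (by
        rw [map_mul, map_mul, map_mul, map_inv, hw₀, hxc.eq, mul_inv_cancel_right, ← map_mul,
          show (⟨a, Ad.le haS⟩ : ↥(cT b)) * ⟨a, Ad.le haS⟩ = 1 from Subtype.ext (hE.2 a haS), map_one]))
    set u : ↥(cT b) := ⟨w, Ot_le b hw⟩⁻¹ * w₀
    have hu : br b u = C.ι x := by
      rw [map_mul, map_inv, br_eq_one.mpr hw, inv_one, one_mul, hw₀]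
    have hzA : (u : G) * z * (u : G)⁻¹ ∈ A :=
      ⟨conj_Ot_mem hwc hz.1, (cT b).mul_mem ((cT b).mul_mem u.2 hz.2) ((cT b).inv_mem u.2)⟩
    obtain ⟨k, hk⟩ := hcent _ ⟨⟨_, hzA⟩, rfl⟩
    have hk' : C.ι x * C.φ ^ j * (C.ι x)⁻¹ = C.φ ^ k := by
      rw [← hk, ← hj, ← hu, ← map_inv]
      show _ = br b (u * ⟨z, hz.2⟩ * u⁻¹)
      rw [map_mul, map_mul]
      rfl
    obtain ⟨l, hl⟩ : ∃ l : ℕ, C.φ ^ l = C.φ ^ j * (C.φ ^ k)⁻¹ :=
      (isOfFinOrder_of_finite C.φ).mem_powers_iff_mem_zpowers.mpr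
        (mul_mem (Subgroup.pow_mem _ (Subgroup.mem_zpowers _) j)
          (inv_mem (Subgroup.pow_mem _ (Subgroup.mem_zpowers _) k)))
    have h1 : C.t ^ ((0 : Fin 2) : ℕ) * C.ι (x * fieldAut (C.σ ^ j) x⁻¹) * C.φ ^ l = 1 := by
      rw [show ((0 : Fin 2) : ℕ) = 0 from rfl, pow_zero, one_mul, hl, map_mul, ← C.conj_pow j x⁻¹, map_inv, ← hk']
      group
    obtain ⟨-, h2, -⟩ := C.unique h1
    rw [map_inv, mul_inv_eq_one] at h2
    exact h2.symm
  have hKtop : K = ⊤ := by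
    have hco := cent_coatom C.hq (by have := C.hq5; omega) hva2 hva1
    rcases eq_or_ne K (Subgroup.centralizer ({va} : Set _)) with h | h
    · exfalso
      have hg : g ∈ K := (Ad.fixed (C.σ ^ j)).1
      rw [h, Subgroup.mem_centralizer_singleton_iff] at hg
      exact hva1 ((Ad.g_four hE hva4).2 (by rw [hg, mul_inv_cancel_right]))
    · exact hco.2 K (lt_of_le_of_ne hK h.symm)
  refine fieldAut_inj (MulEquiv.ext fun x => ?_)
  rw [show (1 : RingAut C.F) = RingEquiv.refl C.F from rfl, PSL2.fieldAut_refl]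
  exact (hKtop ▸ Subgroup.mem_top x : x ∈ K)

end Balance

end CfsgLib.Walter
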