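import Cfsg.Agent.Lib.Walter.CoreW
import Cfsg.Agent.Lib.BenderMax.TwoMaximal
import Cfsg.Agent.Lib.CoprimeGen
import Cfsg.Agent.Lib.MinSimpleOdd.Basic

/-!
The case `q = 5` of G1, first part: invariant subgroups of odd order lie in `W`, and for every prime at which `S`
moves `W` the normaliser of a Sylow subgroup of `W` covers all centralisers.

Blueprint: `blueprint/Walter.md`, G1 (5).
-/

set_option autoImplicit false
set_option linter.unusedSectionVars false
set_option linter.style.haveILetI false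

namespace CfsgLib.Walter

open Cfsg CfsgLib.Comp CfsgLib.BenderMax
open CfsgLib.PSL2 (fieldAut)

universe u

variable {G : Type u} [Group G] [Finite G]

theorem E8.not_cyclic {T : Subgroup G} (h : E8 T) : ¬ IsCyclic T := by
  intro hc
  obtain ⟨g, hg⟩ := hc.exists_generator
  have h2 : orderOf g ≤ 2 := orderOf_le_of_pow_eq_one two_pos (Subtype.ext (by
    rw [Subgroup.coe_pow, pow_two]; exact h.2 _ g.2))
  rw [orderOf_eq_card_of_forall_mem_zpowers hg, h.1] at h2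
  omega

/-- A subgroup of odd order normalised by `S` lies in a subgroup holding its fixed points. -/
theorem gen_S {S : Sylow 2 G} (hE : E8 (S : Subgroup G)) {K Q : Subgroup G}
    (hn : (S : Subgroup G) ≤ Subgroup.normalizer (K : Set G)) (hK : Odd (Nat.card K))
    (h : ∀ u ∈ (S : Subgroup G), u ≠ 1 → K ⊓ cT u ≤ Q) : K ≤ Q := by
  haveI := hE.isMulCommutative
  rw [← CfsgLib.coprime_generated_by_centralizers (A := (S : Subgroup G)) hE.not_cyclic hn (S_coprime S hE hK)]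
  exact iSup₂_le fun u hu => h u hu.1 hu.2

theorem perfect_solvable_bot {X : Type u} [Group X] {E : Subgroup X} (h : ⁅E, E⁆ = E) [hs : Group.IsSolvable E] :
    E = ⊥ := by
  have hd : ∀ n, E ≤ (derivedSeries E n).map E.subtype := by
    intro n
    induction n with
    | zero => rw [derivedSeries_zero, ← MonoidHom.range_eq_map, Subgroup.range_subtype]
    | succ n ih =>
      rw [derivedSeries_succ, Subgroup.map_commutator]
      calc E = ⁅E, E⁆ := h.symm
        _ ≤ _ := Subgroup.commutator_mono ih ih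
  obtain ⟨n, hn⟩ := hs.solvable
  have := hd n
  rwa [hn, Subgroup.map_bot, le_bot_iff] at this

/-- An involution commuting with the odd `O_r(H)` commutes with `O(H)`. -/
theorem cent_core {H : Subgroup G} {x : G} (hxH : x ∈ H) (hx2 : x * x = 1)
    (h : ∀ r : ℕ, r.Prime → r ≠ 2 → ∀ y ∈ OO r H, Commute x y) : ∀ y ∈ OC H, Commute x y := by
  haveI : Fact (Nat.Prime 2) := ⟨Nat.prime_two⟩
  set Ob := pPrimeCore 2 ↥H
  have hodd : Odd (Nat.card Ob) := Nat.coprime_two_right.mp (card_pPrimeCore_coprime 2)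
  haveI : Group.IsSolvable Ob := Cfsg.Agent.S0205.result hodd
  set xh : ↥H := ⟨x, hxH⟩
  have hxh2 : xh * xh = 1 := Subtype.ext hx2
  have hxi : xh⁻¹ = xh := inv_eq_of_mul_eq_one_right hxh2
  have hF : ∀ f ∈ fittingSubgroup Ob, Commute xh (f : ↥H) := by
    have hle : fittingSubgroup Ob ≤ (Subgroup.centralizer ({xh} : Set ↥H)).subgroupOf Ob := by
      rw [CfsgLib.fittingSubgroup_eq_iSup_pCore]
      refine iSup_le fun r => fun f hf => ?_
      haveI : Fact (r : ℕ).Prime := ⟨r.2⟩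
      refine Subgroup.mem_centralizer_singleton_iff.mpr ?_
      by_cases hr : (r : ℕ) = 2
      · have h1 : orderOf f ∣ Nat.card Ob := orderOf_dvd_natCard f
        obtain ⟨k, hk⟩ := IsPGroup.iff_orderOf.mp (CfsgLib.isPGroup_pCore (G := Ob) (r : ℕ)) ⟨f, hf⟩
        rw [Subgroup.orderOf_mk, hr] at hk
        have hf1 : f = 1 := eq_one_of_odd_of_two_pow (hodd.of_dvd_nat h1) (by rw [← hk, pow_orderOf_eq_one])
        simp [hf1]
      · haveI : ((pCore (r : ℕ) Ob).map Ob.subtype).Normal := ConjAct.normal_of_characteristic_of_normal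
        have hm : (f : ↥H) ∈ pCore (r : ℕ) ↥H :=
          CfsgLib.le_pCore ((CfsgLib.isPGroup_pCore (r : ℕ)).map Ob.subtype) (Subgroup.mem_map_of_mem Ob.subtype hf)
        exact Subtype.ext (h r r.2 hr (f : G) ⟨_, hm, rfl⟩).eq.symm
    exact fun f hf => (Subgroup.mem_centralizer_singleton_iff.mp (hle hf)).symm
  rintro _ ⟨y, hy, rfl⟩
  let z : Ob := ⟨y, hy⟩⁻¹ * ⟨xh * y * xh⁻¹, (inferInstance : Ob.Normal).conj_mem y hy xh⟩
  have hzC : z ∈ fittingSubgroup Ob := CfsgLib.centralizer_fitting_le fun f hf => Subtype.ext (by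
    haveI : (fittingSubgroup Ob).Normal := inferInstance
    have e1 : Commute xh (y * (f : ↥H) * y⁻¹) :=
      hF _ ((inferInstance : (fittingSubgroup Ob).Normal).conj_mem f hf ⟨y, hy⟩)
    have e2 : Commute xh (f : ↥H) := hF f hf
    show (f : ↥H) * (y⁻¹ * (xh * y * xh⁻¹)) = y⁻¹ * (xh * y * xh⁻¹) * f
    calc (f : ↥H) * (y⁻¹ * (xh * y * xh⁻¹)) = y⁻¹ * ((y * (f : ↥H) * y⁻¹) * xh) * y * xh⁻¹ := by group
      _ = y⁻¹ * xh * y * f * xh⁻¹ := by rw [← e1.eq]; group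
      _ = y⁻¹ * xh * y * xh⁻¹ * (xh * f) * xh⁻¹ := by group
      _ = y⁻¹ * (xh * y * xh⁻¹) * f := by rw [e2.eq]; group)
  have hzcoe : (z : ↥H) = y⁻¹ * (xh * y * xh⁻¹) := rfl
  have hz2 : (z : ↥H) * z = 1 := by
    have e := (hF z hzC).eq
    rw [hzcoe, hxi] at e ⊢
    calc y⁻¹ * (xh * y * xh) * (y⁻¹ * (xh * y * xh))
        = y⁻¹ * xh * y * (xh * (y⁻¹ * (xh * y * xh))) := by group
      _ = y⁻¹ * xh * y * (y⁻¹ * (xh * y * xh) * xh) := by rw [e]
      _ = y⁻¹ * (xh * xh) * y * (xh * xh) := by group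
      _ = 1 := by rw [hxh2]; group
  have hz1 : z = 1 := eq_one_of_odd_of_two_pow (k := 1) (hodd.of_dvd_nat (orderOf_dvd_natCard z))
    (by rw [pow_one, pow_two]; exact Subtype.ext hz2)
  have := hzcoe.symm.trans (congrArg Subtype.val hz1)
  rw [Subgroup.coe_one, inv_mul_eq_one] at this
  exact (show Commute xh y from mul_inv_eq_iff_eq_mul.mp this.symm).map H.subtype

section Five

variable {t : G} {S : Sylow 2 G} {C : Coord (CQ t)} {g b c : Matrix.ProjectiveSpecialLinearGroup (Fin 2) C.F}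

/-- For `q = 5` a subgroup of odd order of `C(t)` normalised by `S` lies in the core. -/
theorem five_odd (hE : E8 (S : Subgroup G)) (A : Adapted S C g b c) (h5 : Fintype.card C.F = 5) {X : Subgroup G}
    (hXt : X ≤ cT t) (hn : (S : Subgroup G) ≤ Subgroup.normalizer (X : Set G)) (hodd : Odd (Nat.card X)) :
    X ≤ Ot t := by
  haveI : Fact (Nat.Prime 2) := ⟨Nat.prime_two⟩
  have h2 := C.two_ne
  have hφ : C.φ = 1 := by
    have h := C.φ_ord
    rwa [sigma_five C.hq h5 C.σ, orderOf_one, orderOf_eq_one_iff] at h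
  set Y := (X.subgroupOf (cT t)).map (br t) with hY
  have hYodd : Odd (Nat.card Y) := hodd.of_dvd_nat
    ((Subgroup.card_map_dvd _ _).trans (by rw [Nat.card_congr (Subgroup.subgroupOfEquivOfLe hXt).toEquiv]))
  set four := PSL2Klein.four b c A.a4.bb A.a4.cc A.a4.comm
  haveI hK := PSL2Klein.four_klein A.a4.bb A.a4.cc A.a4.comm A.a4.b1 A.a4.c1 A.a4.bc
  set V := four.map C.ι
  haveI hVK : IsKleinFour V := by
    refine ⟨?_, ?_⟩
    · rw [Subgroup.card_map_of_injective C.ι_inj, hK.card_four]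
    · rw [← Monoid.exponent_eq_of_mulEquiv (four.equivMapOfInjective C.ι C.ι_inj), hK.exponent_two]
  haveI : IsMulCommutative V := ⟨⟨fun u v => by
    have hexp : ∀ w : V, w * w = 1 := fun w => by
      have h := Monoid.pow_exponent_eq_one w
      rw [hVK.exponent_two, pow_two] at h
      exact h
    have hinv : ∀ w : V, w⁻¹ = w := fun w => inv_eq_of_mul_eq_one_right (hexp w)
    calc u * v = (u * v)⁻¹ := (hinv _).symm
      _ = v * u := by rw [mul_inv_rev, hinv, hinv]⟩⟩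
  have hVn : V ≤ Subgroup.normalizer (Y : Set (CQ t)) := by
    rintro _ ⟨v, hv, rfl⟩
    obtain ⟨x, hx, e⟩ := A.surj 0 v hv
    rw [show ((0 : Fin 2) : ℕ) = 0 from rfl, pow_zero, one_mul] at e
    refine mem_normalizer_of_maps ?_
    rintro _ ⟨z, hz, rfl⟩
    exact ⟨⟨x, A.le hx⟩ * z * ⟨x, A.le hx⟩⁻¹, (Subgroup.mem_normalizer_iff.mp (hn hx) _).mp hz,
      by rw [map_mul, map_mul, map_inv, e]⟩
  have hcop : (Nat.card V).Coprime (Nat.card Y) := by
    rw [hVK.card_four, show (4 : ℕ) = 2 ^ 2 from rfl]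
    exact (Nat.coprime_two_left.mpr hYodd).pow_left 2
  have hbot : Y ≤ ⊥ := by
    rw [← CfsgLib.coprime_generated_by_centralizers (A := V) IsKleinFour.not_isCyclic hVn hcop]
    refine iSup₂_le ?_
    rintro _ ⟨⟨v, hv, rfl⟩, hv1⟩ y ⟨hyY, hyv⟩
    have hyo : Odd (orderOf y) := hYodd.of_dvd_nat (Subgroup.orderOf_dvd_natCard Y hyY)
    have hyt : Commute y C.t := by
      obtain ⟨y', rfl⟩ := bar_surjective 2 y
      rw [A.t_eq]
      exact (show Commute y' (⟨t, _⟩ : ↥(cT t)) from Subtype.ext (mem_cT.mp y'.2).eq).map (br t)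
    obtain ⟨x, j, rfl⟩ := C.odd_form hyt hyo
    rw [hφ, one_pow, mul_one] at hyo hyv ⊢
    have hxc : x * v = v * x := C.ι_inj (by
      rw [map_mul, map_mul]
      exact Subgroup.mem_centralizer_singleton_iff.mp hyv)
    have hvne : v ≠ 1 := fun e => hv1 (by rw [e, map_one])
    have hvv : v * v = 1 := by
      rcases hv with rfl | rfl | rfl | rfl
      · exact one_mul 1
      · exact A.a4.bb
      · exact A.a4.cc
      · calc b * c * (b * c) = b * (c * b) * c := by group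
          _ = b * b * (c * c) := by rw [← A.a4.comm]; group
          _ = 1 := by rw [A.a4.bb, A.a4.cc, one_mul]
    obtain ⟨V', rfl⟩ := QuotientGroup.mk'_surjective _ v
    obtain ⟨X', rfl⟩ := QuotientGroup.mk'_surjective _ x
    have hVt := (PSL2Klein.invol_iff h2).mp ⟨hvne, hvv⟩
    rw [← map_mul, ← map_mul, eq_comm, PSL2Klein.mk_eq_iff] at hxc
    have h4 : (PSL2.mk X' : Matrix.ProjectiveSpecialLinearGroup (Fin 2) C.F) ^ 4 = 1 := by
      rcases hxc with e | e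
      · have hm : X' ∈ Subgroup.centralizer ({V'} : Set _) := Subgroup.mem_centralizer_singleton_iff.mpr e
        have hc := PSL2Klein.card_centralizer_one h2 hVt (by rw [h5])
        rw [h5] at hc
        rw [← map_pow]
        have h1 := pow_card_eq_one' (x := (⟨X', hm⟩ : ↥(Subgroup.centralizer ({V'} : Set _))))
        rw [hc] at h1
        rw [show X' ^ 4 = 1 from congrArg Subtype.val h1, map_one]
      · have ht' := PSL2Klein.trace_of_anti h2 (g := V') (k := X') (by rw [e, neg_mul])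
        rw [← map_pow, show X' ^ 4 = (X' * X') * (X' * X') by simp [pow_succ, mul_assoc],
          (PSL2Klein.sq_of_trace h2 ht').1, neg_mul_neg, one_mul, map_one]
    refine Subgroup.mem_bot.mpr (eq_one_of_odd_of_two_pow (k := 2) hyo ?_)
    rw [← map_pow, show (2 : ℕ) ^ 2 = 4 from rfl, h4, map_one]
  intro x hx
  exact (br_eq_one (x := ⟨x, hXt hx⟩)).mp (Subgroup.mem_bot.mp (hbot ⟨⟨x, hXt hx⟩, hx, rfl⟩))

end Five

/-- An `S`-invariant Sylow `p`-subgroup of `W`. -/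
structure WSyl (p : ℕ) (S : Sylow 2 G) (Q : Subgroup G) : Prop where
  le : Q ≤ sig S
  card : Nat.card Q = p ^ (Nat.card (sig S)).factorization p
  inv : (S : Subgroup G) ≤ Subgroup.normalizer (Q : Set G)

/-- The standing hypotheses for `q = 5`. -/
structure Hyp5 (S : Sylow 2 G) : Prop where
  base : Nonempty (Base G)
  hns : ∀ u : G, orderOf u = 2 → ¬ Group.IsSolvable ↥(cT u)
  not_cov : ∀ a ∈ (S : Subgroup G), a ≠ 1 → ¬ cT a ≤ Subgroup.normalizer (sig S : Set G)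

namespace Hyp5

variable {S : Sylow 2 G} (h : Hyp5 S)
include h

theorem hE : E8 (S : Subgroup G) := h.base.some.e8.sylow S

theorem card_five {t : G} (ht : t ∈ (S : Subgroup G)) (ht1 : t ≠ 1) :
    ∃ C g b c, Adapted S (t := t) C g b c ∧ Fintype.card C.F = 5 := by
  obtain ⟨C, g, b, c, A⟩ := exists_adapted h.base.some (h.hE.orderOf_eq_two ht ht1)
    (h.hns t (h.hE.orderOf_eq_two ht ht1)) ht
  refine ⟨C, g, b, c, A, le_antisymm ?_ C.hq5⟩
  by_contra hq
  exact h.not_cov t ht ht1 (cent_le_of_big h.base.some h.hns S ht ht1 A (by omega))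

theorem odd_sig : Odd (Nat.card (sig S)) := (sig_spec h.base.some h.hns S).1

theorem sig_inf {a : G} (ha : a ∈ (S : Subgroup G)) (ha1 : a ≠ 1) : sig S ⊓ cT a = Ot a :=
  (sig_spec h.base.some h.hns S).2 a ha ha1

theorem S_norm : (S : Subgroup G) ≤ Subgroup.normalizer (sig S : Set G) :=
  Subgroup.le_normalizer.trans (norm_le_norm_sig h.base.some h.hns S)

/-- Every subgroup of odd order normalised by `S` lies in `W`. -/
theorem odd_le_W {X : Subgroup G} (hn : (S : Subgroup G) ≤ Subgroup.normalizer (X : Set G))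
    (hodd : Odd (Nat.card X)) : X ≤ sig S := by
  refine gen_S h.hE hn hodd fun u hu hu1 => ?_
  obtain ⟨C, g, b, c, A, h5⟩ := h.card_five hu hu1
  refine (five_odd h.hE A h5 inf_le_right (fun s hs => ?_)
    (hodd.of_dvd_nat (Subgroup.card_dvd_of_le inf_le_left))).trans (Ot_le_sig hu hu1)
  refine mem_normalizer_of_maps fun z hz => ⟨(Subgroup.mem_normalizer_iff.mp (hn hs) z).mp hz.1, ?_⟩
  exact (cT u).mul_mem ((cT u).mul_mem (mem_cT.mpr (h.hE.comm hs hu)) hz.2)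
    ((cT u).inv_mem (mem_cT.mpr (h.hE.comm hs hu)))

/-- An involution commuting with `W` forces `S` to. -/
theorem no_cent {x : G} (hx : x ∈ (S : Subgroup G)) (hx1 : x ≠ 1) (hc : ∀ w ∈ sig S, Commute x w) : False := by
  have hall : ∀ a ∈ (S : Subgroup G), a ≠ 1 → ∀ w ∈ sig S, Commute a w := by
    intro a ha ha1 w hw
    obtain ⟨n, hn, hna⟩ := h.base.some.trans S hx ha hx1 ha1
    have hw' : n⁻¹ * w * n ∈ sig S := by
      simpa using (Subgroup.mem_normalizer_iff.mp (inv_mem (norm_le_norm_sig h.base.some h.hns S hn)) w).mp hw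
    have := (hc _ hw').map (MulAut.conj n).toMonoidHom
    simp only [MulEquiv.coe_toMonoidHom, MulAut.conj_apply] at this
    rwa [hna, show n * (n⁻¹ * w * n) * n⁻¹ = w by group] at this
  have heq : sig S = Ot x := by
    rw [← h.sig_inf hx hx1, left_eq_inf]
    exact fun w hw => mem_cT.mpr (hc w hw).symm
  exact h.not_cov x hx hx1 (heq ▸ OC_norm _)

theorem sig_ne_bot : sig S ≠ ⊥ := by
  intro hb
  obtain ⟨x, hx, hx1⟩ := (Subgroup.bot_or_exists_ne_one _).resolve_left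
    (fun e => by have := h.hE.1; rw [e, Subgroup.card_bot] at this; omega : (S : Subgroup G) ≠ ⊥)
  exact h.no_cent hx hx1 fun w hw => by rw [hb, Subgroup.mem_bot] at hw; rw [hw]; exact Commute.one_right x

theorem exists_wSyl (p : ℕ) [Fact p.Prime] : ∃ Q, WSyl p S Q := by
  obtain ⟨R, hR⟩ := CfsgLib.coprime_exists_invariant_sylow h.S_norm (S_coprime S h.hE h.odd_sig)
    (Or.inl (S_solv h.hE)) p
  exact ⟨_, Subgroup.map_subtype_le _,
    by rw [Subgroup.card_map_of_injective (sig S).subtype_injective, R.card_eq_multiplicity], hR⟩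

/-- An element carrying one invariant Sylow subgroup of `W` to another. -/
theorem wSyl_conj {p : ℕ} [Fact p.Prime] {Q Q' : Subgroup G} (hQ : WSyl p S Q) (hQ' : WSyl p S Q') :
    ∃ c ∈ sig S, (∀ s ∈ (S : Subgroup G), Commute s c) ∧ Q.map (MulAut.conj c).toMonoidHom = Q' := by
  let R : Sylow p ↥(sig S) := Sylow.ofCard (Q.subgroupOf (sig S)) (by
    rw [Nat.card_congr (Subgroup.subgroupOfEquivOfLe hQ.le).toEquiv]; exact hQ.card)
  let R' : Sylow p ↥(sig S) := Sylow.ofCard (Q'.subgroupOf (sig S)) (by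
    rw [Nat.card_congr (Subgroup.subgroupOfEquivOfLe hQ'.le).toEquiv]; exact hQ'.card)
  have hR : (R : Subgroup ↥(sig S)).map (sig S).subtype = Q := Subgroup.map_subgroupOf_eq_of_le hQ.le
  have hR' : (R' : Subgroup ↥(sig S)).map (sig S).subtype = Q' := Subgroup.map_subgroupOf_eq_of_le hQ'.le
  obtain ⟨c, hcS, hce⟩ := CfsgLib.coprime_invariant_sylow_conj h.S_norm (S_coprime S h.hE h.odd_sig)
    (Or.inl (S_solv h.hE)) R R' (hR.symm ▸ hQ.inv) (hR'.symm ▸ hQ'.inv)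
  refine ⟨c, c.2, fun s hs => hcS s hs, ?_⟩
  rw [← hR', ← hce, ← hR]
  ext z
  constructor
  · rintro ⟨_, ⟨w, hw, rfl⟩, rfl⟩
    exact ⟨c * w * c⁻¹, ⟨w, hw, rfl⟩, rfl⟩
  · rintro ⟨_, ⟨w, hw, rfl⟩, rfl⟩
    exact ⟨w, ⟨w, hw, rfl⟩, rfl⟩

theorem ctr_all {p : ℕ} [Fact p.Prime] {Q Q' : Subgroup G} (hQ : WSyl p S Q) (hQ' : WSyl p S Q') (hc : Ctr S Q) :
    Ctr S Q' := by
  obtain ⟨c, -, hcS, rfl⟩ := h.wSyl_conj hQ hQ'
  rintro s hs _ ⟨a, ha, rfl⟩
  exact ((hcS s hs).mul_right (hc s hs a ha)).mul_right (hcS s hs).inv_right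

/-- Some prime is bad. -/
theorem exists_bad : ∃ p : ℕ, ∃ _ : Fact p.Prime, ∃ Q, WSyl p S Q ∧ ¬ Ctr S Q := by
  by_contra hcon
  push Not at hcon
  obtain ⟨x, hx, hx1⟩ := (Subgroup.bot_or_exists_ne_one _).resolve_left
    (fun e => by have := h.hE.1; rw [e, Subgroup.card_bot] at this; omega : (S : Subgroup G) ≠ ⊥)
  set D := sig S ⊓ Subgroup.centralizer ((S : Subgroup G) : Set G)
  have hle : sig S ≤ D := by
    refine (Subgroup.eq_of_le_of_card_ge inf_le_left (Nat.le_of_dvd Nat.card_pos ?_)).ge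
    refine (Nat.factorization_prime_le_iff_dvd Nat.card_pos.ne' Nat.card_pos.ne').mp fun p hp => ?_
    haveI : Fact p.Prime := ⟨hp⟩
    obtain ⟨Q, hQ⟩ := h.exists_wSyl p
    refine (hp.pow_dvd_iff_le_factorization Nat.card_pos.ne').mp (hQ.card ▸ Subgroup.card_dvd_of_le ?_)
    exact le_inf hQ.le fun a ha s hs => hcon p ⟨hp⟩ Q hQ s hs a ha
  exact h.no_cent hx hx1 fun w hw => (hle hw).2 x hx

/-- A bad prime moves every invariant Sylow subgroup of every core. -/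
theorem bad_invSyl {p : ℕ} [Fact p.Prime] {Q : Subgroup G} (hQ : WSyl p S Q) (hQc : ¬ Ctr S Q) {t : G}
    (ht : t ∈ (S : Subgroup G)) (ht1 : t ≠ 1) (P : Subgroup G) (hP : InvSyl p t S P) : ¬ Ctr S P := by
  intro hPc
  apply hQc
  have hall : ∀ u ∈ (S : Subgroup G), u ≠ 1 → ∀ s ∈ (S : Subgroup G), ∀ a ∈ Q ⊓ cT u, Commute s a := by
    intro u hu hu1 s hs a ha
    obtain ⟨n, hn, hnu⟩ := h.base.some.trans S ht hu ht1 hu1
    have hS' : ∀ {z}, z ∈ (S : Subgroup G) → n⁻¹ * z * n ∈ (S : Subgroup G) := fun hz => by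
      simpa using (Subgroup.mem_normalizer_iff.mp (inv_mem hn) _).mp hz
    let R : Sylow p ↥(sig S) := Sylow.ofCard (Q.subgroupOf (sig S)) (by
      rw [Nat.card_congr (Subgroup.subgroupOfEquivOfLe hQ.le).toEquiv]; exact hQ.card)
    have hR : (R : Subgroup ↥(sig S)).map (sig S).subtype = Q := Subgroup.map_subgroupOf_eq_of_le hQ.le
    have hu2 := h.hE.orderOf_eq_two hu hu1
    have hcard := CfsgLib.FixProd.card_fixed_sylow (p := 2)
      (IsPGroup.of_card (n := 1) (by rw [Nat.card_zpowers, hu2, pow_one]) : IsPGroup 2 (Subgroup.zpowers u))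
      (Subgroup.zpowers_le.mpr (h.S_norm hu)) (by rw [Nat.card_zpowers, hu2]; exact Nat.coprime_two_left.mpr h.odd_sig)
      R (by rw [hR]; exact Subgroup.zpowers_le.mpr (hQ.inv hu))
    rw [← CfsgLib.FixProd.centralizer_singleton_eq, hR, h.sig_inf hu hu1] at hcard
    have h1 : InvSyl p u S (Q ⊓ cT u) := ⟨fun z hz => h.sig_inf hu hu1 ▸ ⟨hQ.le hz.1, hz.2⟩, hcard, fun s hs =>
      mem_normalizer_of_maps fun z hz => ⟨(Subgroup.mem_normalizer_iff.mp (hQ.inv hs) z).mp hz.1,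
        (cT u).mul_mem ((cT u).mul_mem (mem_cT.mpr (h.hE.comm hs hu)) hz.2)
          ((cT u).inv_mem (mem_cT.mpr (h.hE.comm hs hu)))⟩⟩
    have h2 : InvSyl p u S (P.map (MulAut.conj n).toMonoidHom) := by
      refine ⟨?_, ?_, ?_⟩
      · rintro _ ⟨z, hz, rfl⟩
        exact hnu ▸ conj_mem_Ot n (hP.le hz)
      · rw [Subgroup.card_map_of_injective (MulAut.conj n).injective, hP.card]
        refine congrArg _ (congrArg (fun k : ℕ => k.factorization p) ?_)
        refine le_antisymm ?_ ?_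
        · rw [← Subgroup.card_map_of_injective (K := Ot t) (f := (MulAut.conj n).toMonoidHom) (MulAut.conj n).injective]
          exact Subgroup.card_le_of_le (hnu ▸ map_conj_le_Ot n t)
        · have h' := map_conj_le_Ot n⁻¹ u
          rw [← hnu, show n⁻¹ * (n * t * n⁻¹) * n⁻¹⁻¹ = t by group, hnu] at h'
          rw [← Subgroup.card_map_of_injective (K := Ot u) (f := (MulAut.conj n⁻¹).toMonoidHom) (MulAut.conj n⁻¹).injective]
          exact Subgroup.card_le_of_le h'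
      · intro s hs
        refine mem_normalizer_of_maps ?_
        rintro _ ⟨z, hz, rfl⟩
        refine ⟨n⁻¹ * s * n * z * (n⁻¹ * s * n)⁻¹, (Subgroup.mem_normalizer_iff.mp (hP.inv (hS' hs)) z).mp hz, ?_⟩
        simp only [MulEquiv.coe_toMonoidHom, MulAut.conj_apply]
        group
    have h2c : Ctr S (P.map (MulAut.conj n).toMonoidHom) := by
      rintro s hs _ ⟨z, hz, rfl⟩
      have := (hPc _ (hS' hs) z hz).map (MulAut.conj n).toMonoidHom
      simp only [MulEquiv.coe_toMonoidHom, MulAut.conj_apply] at this ⊢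
      rwa [show n * (n⁻¹ * s * n) * n⁻¹ = s by group] at this
    exact h2.ctr_iff h1 h.hE hu h2c s hs a ha
  intro s hs a ha
  have hle : Q ≤ Subgroup.centralizer ({s} : Set G) := gen_S h.hE hQ.inv
    (h.odd_sig.of_dvd_nat (Subgroup.card_dvd_of_le hQ.le))
    fun u hu hu1 z hz => Subgroup.mem_centralizer_singleton_iff.mpr (hall u hu hu1 s hs z hz).eq.symm
  exact (Subgroup.mem_centralizer_singleton_iff.mp (hle ha)).symm

/-- For a bad prime: the normaliser of an invariant Sylow subgroup of `W` covers every centraliser. -/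
theorem exists_cover {p : ℕ} [Fact p.Prime] {Q : Subgroup G} (hQ : WSyl p S Q) (hQc : ¬ Ctr S Q) :
    ∃ Q', WSyl p S Q' ∧ ∀ u ∈ (S : Subgroup G), u ≠ 1 → Cov (Subgroup.normalizer (Q' : Set G)) u := by
  classical
  haveI : Fact (Nat.Prime 2) := ⟨Nat.prime_two⟩
  have hE := h.hE
  obtain ⟨t, ht, ht1⟩ := (Subgroup.bot_or_exists_ne_one _).resolve_left
    (fun e => by have := hE.1; rw [e, Subgroup.card_bot] at this; omega : (S : Subgroup G) ≠ ⊥)
  have hp : p ≠ 2 := by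
    rintro rfl
    refine hQc fun s _ a ha => ?_
    have hQodd := h.odd_sig.of_dvd_nat (Subgroup.card_dvd_of_le hQ.le)
    obtain ⟨k, hk⟩ := IsPGroup.iff_orderOf.mp (IsPGroup.of_card hQ.card) ⟨a, ha⟩
    rw [Subgroup.orderOf_mk] at hk
    rw [eq_one_of_odd_of_two_pow (hQodd.of_dvd_nat (Subgroup.orderOf_dvd_natCard Q ha))
      (by rw [← hk, pow_orderOf_eq_one])]
    exact Commute.one_right s
  have hns' := h.hns t (hE.orderOf_eq_two ht ht1)
  have hnc := h.bad_invSyl hQ hQc ht ht1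
  obtain ⟨R, hF, hRM⟩ := exists_local h.base.some hns' ht ht1 hp hnc
  set M := Subgroup.normalizer (ZJ.zj 0 (R : Subgroup G) : Set G) with hM
  -- transfer the automizer of `Q` into `M`
  obtain ⟨R₁, hR₁⟩ := (IsPGroup.of_card hQ.card).exists_le_sylow
  obtain ⟨γ, hγ⟩ := MulAction.exists_smul_eq G R₁ R
  set D := Q.map (MulAut.conj γ).toMonoidHom with hD
  have hDR : D ≤ (R : Subgroup G) := by
    rw [← hγ, Sylow.coe_subgroup_smul]
    exact Subgroup.map_mono hR₁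
  set S' : Sylow 2 G := γ • S
  have hS'mem : ∀ {z}, z ∈ (S : Subgroup G) → γ * z * γ⁻¹ ∈ (S' : Subgroup G) := fun hz => by
    rw [Sylow.coe_subgroup_smul]; exact ⟨_, hz, rfl⟩
  have hE' := h.base.some.e8.sylow S'
  set NG := Subgroup.normalizer (D : Set G)
  set NM := M ⊓ NG
  set Cd := Subgroup.centralizer (D : Set G)
  have hCdN : Cd ≤ NG := Subgroup.centralizer_le_normalizer _
  have hconjD : ∀ x ∈ Subgroup.normalizer (Q : Set G), γ * x * γ⁻¹ ∈ NG := fun x hx =>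
    mem_normalizer_of_maps (by
      rintro _ ⟨z, hz, rfl⟩
      refine ⟨x * z * x⁻¹, (Subgroup.mem_normalizer_iff.mp hx z).mp hz, ?_⟩
      simp only [MulEquiv.coe_toMonoidHom, MulAut.conj_apply]
      group)
  have hS'N : (S' : Subgroup G) ≤ NG := by
    rw [Sylow.coe_subgroup_smul]
    rintro _ ⟨z, hz, rfl⟩
    exact hconjD z (hQ.inv hz)
  have hS'C : ∀ z ∈ (S' : Subgroup G), z ∈ Cd → z = 1 := by
    rw [Sylow.coe_subgroup_smul]
    rintro _ ⟨z, hz, rfl⟩ hzC
    by_contra hne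
    apply hQc
    have hz1 : z ≠ 1 := fun e => hne (by rw [e]; exact map_one (MulAut.conj γ))
    have hzQ : ∀ a ∈ Q, Commute z a := fun a ha => by
      have h1 : γ * a * γ⁻¹ * (γ * z * γ⁻¹) = γ * z * γ⁻¹ * (γ * a * γ⁻¹) := hzC _ ⟨a, ha, rfl⟩
      show z * a = a * z
      calc z * a = γ⁻¹ * (γ * z * γ⁻¹ * (γ * a * γ⁻¹)) * γ := by group
        _ = a * z := by rw [← h1]; group
    intro s hs a ha
    rcases eq_or_ne s 1 with rfl | hs1
    · exact Commute.one_left a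
    obtain ⟨n, hn, hns⟩ := h.base.some.trans S hz hs hz1 hs1
    have hW := norm_le_norm_sig h.base.some h.hns S hn
    have hQ' : WSyl p S (Q.map (MulAut.conj n).toMonoidHom) := by
      refine ⟨?_, by rw [Subgroup.card_map_of_injective (MulAut.conj n).injective]; exact hQ.card, ?_⟩
      · rintro _ ⟨w, hw, rfl⟩
        exact (Subgroup.mem_normalizer_iff.mp hW w).mp (hQ.le hw)
      · intro s' hs'
        refine mem_normalizer_of_maps ?_
        rintro _ ⟨w, hw, rfl⟩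
        have hs'' : n⁻¹ * s' * n ∈ (S : Subgroup G) := by
          simpa using (Subgroup.mem_normalizer_iff.mp (inv_mem hn) _).mp hs'
        refine ⟨_, (Subgroup.mem_normalizer_iff.mp (hQ.inv hs'') w).mp hw, ?_⟩
        simp only [MulEquiv.coe_toMonoidHom, MulAut.conj_apply]
        group
    obtain ⟨c, -, hcS, hce⟩ := h.wSyl_conj hQ' hQ
    obtain ⟨_, ⟨w, hw, rfl⟩, rfl⟩ := hce.ge ha
    have h3 := (hzQ w hw).map (MulAut.conj n).toMonoidHom
    simp only [MulEquiv.coe_toMonoidHom, MulAut.conj_apply] at h3 ⊢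
    rw [hns] at h3
    exact ((hcS s hs).mul_right h3).mul_right (hcS s hs).inv_right
  have hsplit : ∀ x ∈ NG, ∃ m ∈ NM, m⁻¹ * x ∈ Cd := by
    intro x hx
    obtain ⟨m, hm, hme⟩ := ctrl h.base.some hns' ht ht1 hp hnc R (A := (D : Set G)) hDR (x := x)
      fun a ha => hDR ((Subgroup.mem_normalizer_iff.mp hx a).mp ha)
    refine ⟨m, ⟨hm, mem_normalizer_of_maps fun a ha => ?_⟩, fun a ha => ?_⟩
    · rw [← hme a ha]; exact (Subgroup.mem_normalizer_iff.mp hx a).mp ha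
    · calc a * (m⁻¹ * x) = m⁻¹ * (m * a * m⁻¹) * x := by group
        _ = m⁻¹ * (x * a * x⁻¹) * x := by rw [hme a ha]
        _ = m⁻¹ * x * a := by group
  have hCdn : NG ≤ Subgroup.normalizer (Cd : Set G) := fun x hx => mem_normalizer_of_maps fun c hc a ha => by
    have h1 : x⁻¹ * a * x ∈ D := by simpa using (Subgroup.mem_normalizer_iff.mp (inv_mem hx) a).mp ha
    have h2 : x⁻¹ * a * x * c = c * (x⁻¹ * a * x) := hc _ h1
    calc a * (x * c * x⁻¹) = x * (x⁻¹ * a * x * c) * x⁻¹ := by group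
      _ = x * c * x⁻¹ * a := by rw [h2]; group
  have hCdodd : Odd (Nat.card Cd) := by
    haveI : (Cd.subgroupOf NG).Normal := (Subgroup.normal_subgroupOf_iff_le_normalizer hCdN).mpr hCdn
    obtain ⟨R', hR'⟩ := CfsgLib.CharPLocal.exists_sylow_subnormal (S'.subtype hS'N)
      (inferInstance : (Cd.subgroupOf NG).Normal).isSubnormal
    have h1 : ((S'.subtype hS'N : Sylow 2 ↥NG) : Subgroup ↥NG) ⊓ Cd.subgroupOf NG = ⊥ :=
      (Subgroup.eq_bot_iff_forall _).mpr fun z hz => Subtype.ext (hS'C _ hz.1 hz.2)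
    rw [h1] at hR'
    have h2 : Nat.card (R' : Subgroup ↥(Cd.subgroupOf NG)) = 1 := by
      rw [← Subgroup.card_map_of_injective (Cd.subgroupOf NG).subtype_injective, hR', Subgroup.card_bot]
    refine Nat.odd_iff.mpr (Nat.two_dvd_ne_zero.mp fun h3 => ?_)
    rw [← Nat.card_congr (Subgroup.subgroupOfEquivOfLe hCdN).toEquiv] at h3
    have := R'.dvd_card_of_dvd_card h3
    omega
  have h8 : 2 ^ 3 ∣ Nat.card NM := by
    have hmul := HallE8.card_sup_mul (A := Cd) (B := NM) (inf_le_right.trans hCdn)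
    have hsup : Cd ⊔ NM = NG := by
      refine le_antisymm (sup_le hCdN inf_le_right) fun x hx => ?_
      obtain ⟨m, hm, hmc⟩ := hsplit x hx
      simpa using mul_mem (Subgroup.mem_sup_right (S := Cd) hm) (Subgroup.mem_sup_left (T := NM) hmc)
    rw [hsup] at hmul
    have h8' : 2 ^ 3 ∣ Nat.card NG := by
      have := Subgroup.card_dvd_of_le hS'N
      rw [hE'.1] at this
      simpa using this
    exact ((Nat.coprime_two_left.mpr hCdodd).pow_left 3).dvd_of_dvd_mul_left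
      ((h8'.trans (dvd_mul_right _ _)).trans hmul.dvd)
  obtain ⟨U, hU⟩ := Sylow.exists_subgroup_card_pow_prime (G := ↥NM) 2 h8
  set T₁ := U.map NM.subtype with hT₁
  have hT₁c : Nat.card T₁ = 2 ^ 3 := by rw [hT₁, Subgroup.card_map_of_injective NM.subtype_injective, hU]
  let T : Sylow 2 G := Sylow.ofCard T₁ (by
    rw [hT₁c, ← S.card_eq_multiplicity, hE.1]; norm_num)
  have hTNM : (T : Subgroup G) ≤ NM := Subgroup.map_subtype_le _
  have hTE := h.base.some.e8.sylow T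
  -- `N(T)` inside `N(D)` is transitive; lift into `M`
  have hTC : ∀ z ∈ (T : Subgroup G), z ∈ Cd → z = 1 := fun z hz hzC =>
    eq_one_of_odd_sylow hCdodd hzC hz
  obtain ⟨d, hd⟩ := MulAction.exists_smul_eq ↥NG (S'.subtype hS'N) (T.subtype (hTNM.trans inf_le_right))
  have hdS : ∀ z ∈ (T : Subgroup G), (d : G)⁻¹ * z * d ∈ (S' : Subgroup G) := by
    intro z hz
    have h1 : (⟨z, (hTNM hz).2⟩ : ↥NG) ∈ ((d • S'.subtype hS'N : Sylow 2 ↥NG) : Subgroup ↥NG) := hd ▸ hz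
    rw [Sylow.coe_subgroup_smul] at h1
    obtain ⟨w, hw, e⟩ := h1
    have e' : (d : G) * w * (d : G)⁻¹ = z := congrArg Subtype.val e
    rw [← e']
    simpa [mul_assoc] using (Subgroup.mem_subgroupOf.mp hw)
  have htrT : ∀ a ∈ (T : Subgroup G), ∀ b ∈ (T : Subgroup G), a ≠ 1 → b ≠ 1 →
      ∃ k ∈ M ⊓ Subgroup.normalizer ((T : Subgroup G) : Set G), k * a * k⁻¹ = b := by
    intro a ha b hb ha1 hb1
    obtain ⟨a', ha', ea⟩ : ∃ a' ∈ (S : Subgroup G), γ * a' * γ⁻¹ = (d : G)⁻¹ * a * d := by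
      have := hdS a ha; rw [Sylow.coe_subgroup_smul] at this; exact this
    obtain ⟨b', hb', eb⟩ : ∃ b' ∈ (S : Subgroup G), γ * b' * γ⁻¹ = (d : G)⁻¹ * b * d := by
      have := hdS b hb; rw [Sylow.coe_subgroup_smul] at this; exact this
    have ha'1 : a' ≠ 1 := fun e => ha1 (by
      rw [e, mul_one, mul_inv_cancel] at ea
      calc a = (d : G) * ((d : G)⁻¹ * a * d) * (d : G)⁻¹ := by group
        _ = 1 := by rw [← ea]; group)
    have hb'1 : b' ≠ 1 := fun e => hb1 (by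
      rw [e, mul_one, mul_inv_cancel] at eb
      calc b = (d : G) * ((d : G)⁻¹ * b * d) * (d : G)⁻¹ := by group
        _ = 1 := by rw [← eb]; group)
    obtain ⟨n, hn, hnab⟩ := h.base.some.trans S ha' hb' ha'1 hb'1
    -- adjust `n` to normalise `Q`
    have hQ' : WSyl p S (Q.map (MulAut.conj n).toMonoidHom) := by
      refine ⟨?_, by rw [Subgroup.card_map_of_injective (MulAut.conj n).injective]; exact hQ.card, ?_⟩
      · rintro _ ⟨w, hw, rfl⟩
        exact (Subgroup.mem_normalizer_iff.mp (norm_le_norm_sig h.base.some h.hns S hn) w).mp (hQ.le hw)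
      · intro s' hs'
        refine mem_normalizer_of_maps ?_
        rintro _ ⟨w, hw, rfl⟩
        have hs'' : n⁻¹ * s' * n ∈ (S : Subgroup G) := by
          simpa using (Subgroup.mem_normalizer_iff.mp (inv_mem hn) _).mp hs'
        refine ⟨_, (Subgroup.mem_normalizer_iff.mp (hQ.inv hs'') w).mp hw, ?_⟩
        simp only [MulEquiv.coe_toMonoidHom, MulAut.conj_apply]
        group
    obtain ⟨c, -, hcS, hce⟩ := h.wSyl_conj hQ' hQ
    have hcnQ : c * n ∈ Subgroup.normalizer (Q : Set G) := mem_normalizer_of_maps fun w hw => by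
      refine hce.le ?_
      exact ⟨_, ⟨w, hw, rfl⟩, by simp only [MulEquiv.coe_toMonoidHom, MulAut.conj_apply]; group⟩
    set x := (d : G) * (γ * (c * n) * γ⁻¹) * (d : G)⁻¹ with hx
    have hxN : x ∈ NG := mul_mem (mul_mem d.2 (hconjD _ hcnQ)) (inv_mem d.2)
    have hxab : x * a * x⁻¹ = b := by
      calc x * a * x⁻¹
          = (d : G) * γ * c * n * γ⁻¹ * ((d : G)⁻¹ * a * d) * γ * n⁻¹ * c⁻¹ * γ⁻¹ * (d : G)⁻¹ := by rw [hx]; group
        _ = (d : G) * γ * c * (n * a' * n⁻¹) * c⁻¹ * γ⁻¹ * (d : G)⁻¹ := by rw [← ea]; group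
        _ = (d : G) * γ * (c * b') * c⁻¹ * γ⁻¹ * (d : G)⁻¹ := by rw [hnab]; group
        _ = (d : G) * (γ * b' * γ⁻¹) * (d : G)⁻¹ := by rw [← (hcS b' hb').eq]; group
        _ = b := by rw [eb]; group
    have hxT : ∀ z ∈ (T : Subgroup G), x * z * x⁻¹ ∈ (T : Subgroup G) := by
      intro z hz
      obtain ⟨z', hz', ez⟩ : ∃ z' ∈ (S : Subgroup G), γ * z' * γ⁻¹ = (d : G)⁻¹ * z * d := by
        have := hdS z hz; rw [Sylow.coe_subgroup_smul] at this; exact this
      have hz'' := (Subgroup.mem_normalizer_iff.mp hn z').mp hz'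
      have h1 : x * z * x⁻¹ = (d : G) * (γ * (n * z' * n⁻¹) * γ⁻¹) * (d : G)⁻¹ := by
        calc x * z * x⁻¹
            = (d : G) * γ * c * n * γ⁻¹ * ((d : G)⁻¹ * z * d) * γ * n⁻¹ * c⁻¹ * γ⁻¹ * (d : G)⁻¹ := by rw [hx]; group
          _ = (d : G) * γ * (c * (n * z' * n⁻¹)) * c⁻¹ * γ⁻¹ * (d : G)⁻¹ := by rw [← ez]; group
          _ = _ := by rw [← (hcS _ hz'').eq]; group
      have h2 : (d : G) * (γ * (n * z' * n⁻¹) * γ⁻¹) * (d : G)⁻¹ ∈ (T : Subgroup G) := by
        have h3 : d * (⟨_, hS'N (hS'mem hz'')⟩ : ↥NG) * d⁻¹ ∈ ((d • S'.subtype hS'N : Sylow 2 ↥NG) : Subgroup ↥NG) := by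
          rw [Sylow.coe_subgroup_smul]
          exact ⟨_, hS'mem hz'', rfl⟩
        rw [hd] at h3
        exact h3
      rwa [h1]
    obtain ⟨m, hm, hmc⟩ := hsplit x hxN
    -- correct `m` by an element of odd order
    set E := Cd ⊓ NM
    have hTE' : (T : Subgroup G) ≤ Subgroup.normalizer (E : Set G) := fun s hs => mem_normalizer_of_maps fun e he =>
      ⟨(Subgroup.mem_normalizer_iff.mp (hCdn (hTNM hs).2) e).mp he.1,
        NM.mul_mem (NM.mul_mem (hTNM hs) he.2) (NM.inv_mem (hTNM hs))⟩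
    have hdiff : ∀ s ∈ (T : Subgroup G), m * s * m⁻¹ * (x * s * x⁻¹)⁻¹ ∈ E := by
      intro s hs
      refine ⟨?_, NM.mul_mem (NM.mul_mem (NM.mul_mem hm (hTNM hs)) (NM.inv_mem hm)) (NM.inv_mem (hTNM (hxT s hs)))⟩
      rw [show m * s * m⁻¹ * (x * s * x⁻¹)⁻¹ = m * (s * (m⁻¹ * x) * s⁻¹) * (m⁻¹ * x)⁻¹ * m⁻¹ by group]
      have h1 : s * (m⁻¹ * x) * s⁻¹ * (m⁻¹ * x)⁻¹ ∈ Cd :=
        mul_mem ((Subgroup.mem_normalizer_iff.mp (hCdn (hTNM hs).2) _).mp hmc) (inv_mem hmc)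
      have h2 := (Subgroup.mem_normalizer_iff.mp (hCdn hm.2) _).mp h1
      rwa [show m * (s * (m⁻¹ * x) * s⁻¹ * (m⁻¹ * x)⁻¹) * m⁻¹ = m * (s * (m⁻¹ * x) * s⁻¹) * (m⁻¹ * x)⁻¹ * m⁻¹ by
        group] at h2
    obtain ⟨k, hk, hkT, hke⟩ : ∃ k ∈ M, (∀ s ∈ (T : Subgroup G), k * s * k⁻¹ ∈ (T : Subgroup G)) ∧
        k * a * k⁻¹ = x * a * x⁻¹ := by
      set X := E ⊔ (T : Subgroup G)
      have hmX : ∀ s ∈ (T : Subgroup G), m * s * m⁻¹ ∈ X := fun s hs => by
        have := mul_mem (Subgroup.mem_sup_left (T := (T : Subgroup G)) (hdiff s hs))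
          (Subgroup.mem_sup_right (S := E) (hxT s hs))
        rwa [inv_mul_cancel_right] at this
      let P : Sylow 2 ↥X := T.subtype le_sup_right
      have hQp : IsPGroup 2 (((T : Subgroup G).map (MulAut.conj m).toMonoidHom).subgroupOf X) :=
        (T.2.map _).comap_of_injective X.subtype X.subtype_injective
      obtain ⟨P', hP'⟩ := hQp.exists_le_sylow
      obtain ⟨e', he'⟩ := MulAction.exists_smul_eq ↥X P' P
      obtain ⟨e₁, he₁, s₁, hs₁, hes⟩ := CfsgLib.mem_sup_of_le_normalizer hTE' (x := (e' : G)⁻¹) (inv_mem e'.2)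
      have hkT : ∀ s ∈ (T : Subgroup G), e₁⁻¹ * m * s * (e₁⁻¹ * m)⁻¹ ∈ (T : Subgroup G) := by
        intro s hs
        have h1 : e' * ⟨m * s * m⁻¹, hmX s hs⟩ * e'⁻¹ ∈ ((e' • P' : Sylow 2 ↥X) : Subgroup ↥X) := by
          rw [Sylow.coe_subgroup_smul]
          exact ⟨_, hP' (show m * s * m⁻¹ ∈ (T : Subgroup G).map (MulAut.conj m).toMonoidHom from ⟨s, hs, rfl⟩), rfl⟩
        rw [he'] at h1
        have h2 : (e' : G) * (m * s * m⁻¹) * (e' : G)⁻¹ ∈ (T : Subgroup G) := h1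
        have h3 := mul_mem (mul_mem hs₁ h2) (inv_mem hs₁)
        have h4 : (e' : G) = s₁⁻¹ * e₁⁻¹ := by rw [← _root_.mul_inv_rev, hes, inv_inv]
        rw [h4] at h3
        convert h3 using 1
        group
      refine ⟨e₁⁻¹ * m, mul_mem (inv_mem he₁.2.1) hm.1, hkT, ?_⟩
      refine mul_inv_eq_one.mp (hTC _ (mul_mem (hkT a ha) (inv_mem (hxT a ha))) ?_)
      rw [show e₁⁻¹ * m * a * (e₁⁻¹ * m)⁻¹ * (x * a * x⁻¹)⁻¹ =
        e₁⁻¹ * (m * a * m⁻¹ * (x * a * x⁻¹)⁻¹) * ((x * a * x⁻¹) * e₁ * (x * a * x⁻¹)⁻¹) by group]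
      exact mul_mem (mul_mem (inv_mem he₁.1) (hdiff a ha).1)
        ((Subgroup.mem_normalizer_iff.mp (hTE' (hxT a ha)) _).mp he₁).1
    exact ⟨k, ⟨hk, mem_normalizer_of_maps hkT⟩, hke.trans hxab⟩
  -- move to `S`
  obtain ⟨m₁, hm₁⟩ := MulAction.exists_smul_eq ↥M (S.subtype hF.sle) (T.subtype (hTNM.trans inf_le_left))
  have hmov : ∀ z ∈ (S : Subgroup G), (m₁ : G) * z * (m₁ : G)⁻¹ ∈ (T : Subgroup G) := by
    intro z hz
    have h1 : m₁ * ⟨z, hF.sle hz⟩ * m₁⁻¹ ∈ ((m₁ • S.subtype hF.sle : Sylow 2 ↥M) : Subgroup ↥M) := by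
      rw [Sylow.coe_subgroup_smul]
      exact ⟨_, (hz : (⟨z, hF.sle hz⟩ : ↥M) ∈ (S : Subgroup G).subgroupOf M), rfl⟩
    rw [hm₁] at h1
    exact h1
  have hback : ∀ z ∈ (T : Subgroup G), (m₁ : G)⁻¹ * z * m₁ ∈ (S : Subgroup G) := by
    intro z hz
    have h1 : (⟨z, (hTNM hz).1⟩ : ↥M) ∈ ((m₁ • S.subtype hF.sle : Sylow 2 ↥M) : Subgroup ↥M) := hm₁ ▸ hz
    rw [Sylow.coe_subgroup_smul] at h1
    obtain ⟨w, hw, e⟩ := h1
    have e' : (m₁ : G) * w * (m₁ : G)⁻¹ = z := congrArg Subtype.val e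
    rw [← e']
    simpa [mul_assoc] using (Subgroup.mem_subgroupOf.mp hw)
  have htrS : ∀ a ∈ (S : Subgroup G), a ≠ 1 →
      ∃ k ∈ M ⊓ Subgroup.normalizer ((S : Subgroup G) : Set G), k * t * k⁻¹ = a := by
    intro a ha ha1
    obtain ⟨k, hk, hke⟩ := htrT _ (hmov t ht) _ (hmov a ha) (fun e => ht1 (conj_eq_one_iff.mp e))
      (fun e => ha1 (conj_eq_one_iff.mp e))
    refine ⟨(m₁ : G)⁻¹ * k * m₁, ⟨M.mul_mem (M.mul_mem (M.inv_mem m₁.2) hk.1) m₁.2,
      mem_normalizer_of_maps fun z hz => ?_⟩, ?_⟩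
    · have h1 := hback _ ((Subgroup.mem_normalizer_iff.mp hk.2 _).mp (hmov z hz))
      convert h1 using 1
      group
    · calc (m₁ : G)⁻¹ * k * m₁ * t * ((m₁ : G)⁻¹ * k * m₁)⁻¹
          = (m₁ : G)⁻¹ * (k * ((m₁ : G) * t * (m₁ : G)⁻¹) * k⁻¹) * m₁ := by group
        _ = a := by rw [hke]; group
  have hcovu : ∀ u ∈ (S : Subgroup G), u ≠ 1 → Cov M u := by
    intro u hu hu1
    obtain ⟨k, hk, rfl⟩ := htrS u hu hu1
    exact hF.cov.conj hk.1
  -- a Sylow subgroup of the core of `M`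
  have hSO : (S : Subgroup G) ≤ Subgroup.normalizer (OC M : Set G) := hF.sle.trans (OC_norm M)
  have hOW : OC M ≤ sig S := h.odd_le_W hSO (OC_odd M)
  obtain ⟨R₂, hR₂⟩ := CfsgLib.coprime_exists_invariant_sylow hSO (S_coprime S hE (OC_odd M))
    (Or.inl (S_solv hE)) p
  set Q₀ := (R₂ : Subgroup ↥(OC M)).map (OC M).subtype with hQ₀
  have hQ₀p : IsPGroup p Q₀ := R₂.2.map _
  obtain ⟨R₃, hle, hR₃⟩ := CfsgLib.coprime_le_invariant_sylow h.S_norm (S_coprime S hE h.odd_sig)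
    (Or.inl (S_solv hE)) (p := p) (U := Q₀) ((Subgroup.map_subtype_le _).trans hOW) hQ₀p hR₂
  set Q₁ := (R₃ : Subgroup ↥(sig S)).map (sig S).subtype with hQ₁
  have hQ₁W : WSyl p S Q₁ := ⟨Subgroup.map_subtype_le _,
    by rw [Subgroup.card_map_of_injective (sig S).subtype_injective, R₃.card_eq_multiplicity], hR₃⟩
  have hQeq : Q₁ ≤ Q₀ := by
    refine gen_S hE hR₃ (h.odd_sig.of_dvd_nat (Subgroup.card_dvd_of_le (Subgroup.map_subtype_le _)))
      fun u hu hu1 => ?_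
    obtain ⟨k, hk, rfl⟩ := htrS u hu hu1
    obtain ⟨P, hP, hPO⟩ := hF.inv
    have hu2 := hE.orderOf_eq_two hu hu1
    have hz2 : IsPGroup 2 (Subgroup.zpowers (k * t * k⁻¹)) :=
      IsPGroup.of_card (n := 1) (by rw [Nat.card_zpowers, hu2, pow_one])
    have c1 := CfsgLib.FixProd.card_fixed_sylow hz2 (Subgroup.zpowers_le.mpr (hSO hu))
      (by rw [Nat.card_zpowers, hu2]; exact Nat.coprime_two_left.mpr (OC_odd M)) R₂
      (Subgroup.zpowers_le.mpr (hR₂ hu))
    have c2 := CfsgLib.FixProd.card_fixed_sylow hz2 (Subgroup.zpowers_le.mpr (h.S_norm hu))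
      (by rw [Nat.card_zpowers, hu2]; exact Nat.coprime_two_left.mpr h.odd_sig) R₃
      (Subgroup.zpowers_le.mpr (hR₃ hu))
    rw [← CfsgLib.FixProd.centralizer_singleton_eq] at c1 c2
    rw [h.sig_inf hu hu1] at c2
    have hPle : P.map (MulAut.conj k).toMonoidHom ≤ OC M ⊓ cT (k * t * k⁻¹) := by
      rintro _ ⟨z, hz, rfl⟩
      exact ⟨(Subgroup.mem_normalizer_iff.mp (OC_norm M hk.1) z).mp (hPO hz), Ot_le _ (conj_mem_Ot k (hP.le hz))⟩
    have hfac : (Nat.card (Ot (k * t * k⁻¹))).factorization p ≤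
        (Nat.card ↥(OC M ⊓ cT (k * t * k⁻¹))).factorization p := by
      have h1 : Nat.card (Ot t) = Nat.card (Ot (k * t * k⁻¹)) := by
        refine le_antisymm ?_ ?_
        · rw [← Subgroup.card_map_of_injective (K := Ot t) (f := (MulAut.conj k).toMonoidHom) (MulAut.conj k).injective]
          exact Subgroup.card_le_of_le (map_conj_le_Ot k t)
        · have h' := map_conj_le_Ot k⁻¹ (k * t * k⁻¹)
          rw [show k⁻¹ * (k * t * k⁻¹) * k⁻¹⁻¹ = t by group] at h'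
          rw [← Subgroup.card_map_of_injective (K := Ot (k * t * k⁻¹)) (f := (MulAut.conj k⁻¹).toMonoidHom) (MulAut.conj k⁻¹).injective]
          exact Subgroup.card_le_of_le h'
      rw [← h1, ← (Fact.out : p.Prime).pow_dvd_iff_le_factorization Nat.card_pos.ne', ← hP.card,
        ← Subgroup.card_map_of_injective (K := P) (f := (MulAut.conj k).toMonoidHom) (MulAut.conj k).injective]
      exact Subgroup.card_dvd_of_le hPle
    refine (Subgroup.eq_of_le_of_card_ge (inf_le_inf_right _ hle) ?_).ge.trans inf_le_left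
    rw [c1, c2]
    exact Nat.pow_le_pow_right (Fact.out : p.Prime).pos hfac
  have hQ₀eq : Q₀ = Q₁ := le_antisymm hle hQeq
  refine ⟨Q₁, hQ₁W, fun u hu hu1 g hg => ?_⟩
  obtain ⟨y, hy, hyu, hyo⟩ := hcovu u hu hu1 g hg
  -- Frattini inside the core of `M`
  haveI : ((OC M).subgroupOf M).Normal := (Subgroup.normal_subgroupOf_iff_le_normalizer (OC_le M)).mpr (OC_norm M)
  have hQM : Q₀ ≤ OC M := Subgroup.map_subtype_le _
  have hmem : ∀ w ∈ Q₀, y * w * y⁻¹ ∈ OC M := fun w hw => (Subgroup.mem_normalizer_iff.mp (OC_norm M hy) w).mp (hQM hw)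
  let R₄ : Sylow p ↥(OC M) := Sylow.ofCard ((Q₀.map (MulAut.conj y).toMonoidHom).subgroupOf (OC M)) (by
    rw [Nat.card_congr (Subgroup.subgroupOfEquivOfLe (by rintro _ ⟨w, hw, rfl⟩; exact hmem w hw)).toEquiv,
      Subgroup.card_map_of_injective (MulAut.conj y).injective, hQ₀,
      Subgroup.card_map_of_injective (OC M).subtype_injective, R₂.card_eq_multiplicity])
  obtain ⟨o, ho⟩ := MulAction.exists_smul_eq ↥(OC M) R₄ R₂
  set z := (o : G) * y with hz
  have hzN : ∀ w ∈ Q₀, z * w * z⁻¹ ∈ Q₀ := by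
    intro w hw
    have h1 : o * ⟨y * w * y⁻¹, hmem w hw⟩ * o⁻¹ ∈ ((o • R₄ : Sylow p ↥(OC M)) : Subgroup ↥(OC M)) := by
      rw [Sylow.coe_subgroup_smul]
      exact ⟨_, (⟨w, hw, rfl⟩ : y * w * y⁻¹ ∈ Q₀.map (MulAut.conj y).toMonoidHom), rfl⟩
    rw [ho] at h1
    exact ⟨_, h1, by simp [hz, mul_assoc]⟩
  rw [hQ₀eq] at hzN
  have huN : u ∈ Subgroup.normalizer (Q₁ : Set G) := hR₃ hu
  have hzu : z * u * z⁻¹ * u = (o : G) * (u * (o : G)⁻¹ * u⁻¹) * (u * u) := by
    calc z * u * z⁻¹ * u = (o : G) * (y * u * y⁻¹) * (o : G)⁻¹ * u := by rw [hz]; group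
      _ = _ := by rw [hyu.eq]; group
  obtain ⟨w, hw, hwc⟩ := exists_fix (E := OC M ⊓ Subgroup.normalizer (Q₁ : Set G))
    ((OC_odd M).of_dvd_nat (Subgroup.card_dvd_of_le inf_le_left)) (t := u) (y := z) (hE.2 u hu) ⟨by
      rw [hzu, hE.2 u hu, mul_one]
      exact mul_mem o.2 ((Subgroup.mem_normalizer_iff.mp (hSO hu) _).mp (inv_mem o.2)),
      (Subgroup.normalizer (Q₁ : Set G)).mul_mem ((Subgroup.normalizer (Q₁ : Set G)).mul_mem
        ((Subgroup.normalizer (Q₁ : Set G)).mul_mem (mem_normalizer_of_maps hzN) huN)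
        ((Subgroup.normalizer (Q₁ : Set G)).inv_mem (mem_normalizer_of_maps hzN))) huN⟩
  refine ⟨w⁻¹ * z, mul_mem (inv_mem hw.2) (mem_normalizer_of_maps hzN), hwc, ?_⟩
  have hwo : w⁻¹ * (o : G) ∈ OC M := mul_mem (inv_mem hw.1) o.2
  have h1 : Commute (w⁻¹ * (o : G)) u := by
    rw [show w⁻¹ * (o : G) = w⁻¹ * z * y⁻¹ by rw [hz]; group]
    exact hwc.mul_left hyu.inv_left
  have h2 : w⁻¹ * (o : G) ∈ Ot u := core_inf_le (hcovu u hu hu1) ⟨hwo, mem_cT.mpr h1⟩
  rw [show (w⁻¹ * z)⁻¹ * g = (y⁻¹ * (w⁻¹ * (o : G))⁻¹ * y⁻¹⁻¹) * (y⁻¹ * g) by rw [hz]; group]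
  exact mul_mem (conj_Ot_mem hyu.inv_left (inv_mem h2)) hyo

end Hyp5

end CfsgLib.Walter
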