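import Cfsg.Agent.Lib.Walter.CoreFive
import Cfsg.Agent.Lib.BenderMax.LeadsTo

/-!
The case `q = 5` of G1, second part: `N(W)` is maximal with `F*` a `p`-group, and `Z(J)` gives the contradiction.

Blueprint: `blueprint/Walter.md`, G1 (5).
-/

set_option autoImplicit false
set_option linter.unusedSectionVars false
set_option linter.style.haveILetI false

namespace CfsgLib.Walter

open Cfsg CfsgLib.Comp CfsgLib.BenderMax
open CfsgLib.PSL2 (fieldAut)

universe u

variable {G : Type u} [Group G] [Finite G]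

theorem Base.oddCore_bot (B : Base G) : oddCore G = ⊥ := by
  haveI := B.simple
  refine (inferInstance : (oddCore G).Normal).eq_bot_or_eq_top.resolve_right fun e => ?_
  have h2 : 2 ∣ Nat.card G := (by norm_num : 2 ∣ 8).trans (B.e8.1 ▸ Subgroup.card_subgroup_dvd_card _)
  haveI : Fact (Nat.Prime 2) := ⟨Nat.prime_two⟩
  have h3 : (Nat.card (oddCore G)).Coprime 2 := card_pPrimeCore_coprime 2
  rw [e, Subgroup.card_top] at h3
  exact Nat.not_even_iff_odd.mpr (Nat.coprime_two_right.mp h3) (even_iff_two_dvd.mpr h2)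

theorem Base.normalizer_ne_top (B : Base G) {K : Subgroup G} (hodd : Odd (Nat.card K)) (hK : K ≠ ⊥) :
    Subgroup.normalizer (K : Set G) ≠ ⊤ := by
  haveI := B.simple
  intro h
  haveI : K.Normal := Subgroup.normalizer_eq_top_iff.mp h
  rcases (inferInstance : K.Normal).eq_bot_or_eq_top with e | e
  · exact hK e
  · rw [e, Subgroup.card_top] at hodd
    exact Nat.not_even_iff_odd.mpr hodd
      (even_iff_two_dvd.mpr ((by norm_num : 2 ∣ 8).trans (B.e8.1 ▸ Subgroup.card_subgroup_dvd_card _)))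

/-- A normal subgroup meets a Sylow two-subgroup in one of its Sylow subgroups. -/
theorem sylow_inf {H K : Subgroup G} (S : Sylow 2 G) (hSH : (S : Subgroup G) ≤ H) (hKH : K ≤ H)
    (hn : H ≤ Subgroup.normalizer (K : Set G)) :
    ∃ R : Sylow 2 ↥K, Nat.card (R : Subgroup ↥K) = Nat.card ↥((S : Subgroup G) ⊓ K) := by
  haveI : (K.subgroupOf H).Normal := (Subgroup.normal_subgroupOf_iff_le_normalizer hKH).mpr hn
  obtain ⟨P, hP⟩ := CfsgLib.CharPLocal.exists_sylow_subnormal (S.subtype hSH)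
    (inferInstance : (K.subgroupOf H).Normal).isSubnormal
  have hc : Nat.card (P : Subgroup ↥(K.subgroupOf H)) = Nat.card ↥((S : Subgroup G) ⊓ K) := by
    rw [← Subgroup.card_map_of_injective (K.subgroupOf H).subtype_injective, hP,
      ← Subgroup.card_map_of_injective H.subtype_injective]
    refine congrArg (fun X : Subgroup G => Nat.card X) ?_
    ext x
    constructor
    · rintro ⟨y, hy, rfl⟩
      exact hy
    · intro hx
      exact ⟨⟨x, hSH hx.1⟩, hx, rfl⟩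
  refine ⟨P.comapOfInjective ((Subgroup.subgroupOfEquivOfLe hKH).symm.toMonoidHom)
    (MulEquiv.injective _) (fun y _ => ⟨_, MulEquiv.symm_apply_apply _ y⟩ ), ?_⟩
  rw [← hc]
  exact Nat.card_congr (((Subgroup.subgroupOfEquivOfLe hKH).symm.subgroupMap _).trans
    (MulEquiv.subgroupCongr (Subgroup.map_comap_eq_self_of_surjective (MulEquiv.surjective _) _))).toEquiv

theorem odd_of_inf_bot {H K : Subgroup G} (S : Sylow 2 G) (hSH : (S : Subgroup G) ≤ H) (hKH : K ≤ H)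
    (hn : H ≤ Subgroup.normalizer (K : Set G)) (h : (S : Subgroup G) ⊓ K = ⊥) : Odd (Nat.card K) := by
  haveI : Fact (Nat.Prime 2) := ⟨Nat.prime_two⟩
  obtain ⟨R, hR⟩ := sylow_inf S hSH hKH hn
  rw [h, Subgroup.card_bot] at hR
  refine Nat.odd_iff.mpr (Nat.two_dvd_ne_zero.mp fun h2 => ?_)
  have := R.dvd_card_of_dvd_card h2
  omega

theorem GG_le {A M : Subgroup G} (hE : EE A = ⊥) (h : ∀ r : ℕ, r.Prime → OO r A ≤ M) : GG A ≤ M := by
  rw [show GG A = EE A ⊔ FF A from gfit_eq, hE, bot_sup_eq, FF, CfsgLib.fittingSubgroup_eq_iSup_pCore,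
    Subgroup.map_iSup]
  exact iSup_le fun r => h r r.2

theorem OO_two_le {A : Subgroup G} (S : Sylow 2 G) (hS : (S : Subgroup G) ≤ A) :
    OO 2 A ≤ (S : Subgroup G) := by
  haveI : Fact (Nat.Prime 2) := ⟨Nat.prime_two⟩
  rintro _ ⟨x, hx, rfl⟩
  exact CfsgLib.pCore_le_sylow (S.subtype hS) hx

theorem OO_comm {A : Subgroup G} {r s : ℕ} (hr : r.Prime) (hs : s.Prime) (hrs : r ≠ s) {x y : G}
    (hx : x ∈ OO r A) (hy : y ∈ OO s A) : Commute x y := by
  haveI := Fact.mk hr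
  haveI := Fact.mk hs
  obtain ⟨x, hx, rfl⟩ := hx
  obtain ⟨y, hy, rfl⟩ := hy
  exact (Subgroup.commute_of_normal_of_disjoint _ _ inferInstance inferInstance
    (IsPGroup.disjoint_of_coprime (CfsgLib.isPGroup_pCore r) (CfsgLib.isPGroup_pCore s)
      ((Nat.coprime_primes hr hs).2 hrs)) x y hx hy).map A.subtype

theorem OO_norm {A : Subgroup G} (r : ℕ) : A ≤ Subgroup.normalizer (OO r A : Set G) :=
  fun _ ha => mem_normalizer_of_maps fun _ hx => conj_OO ha hx

theorem OO_odd {A : Subgroup G} {r : ℕ} (hr : r.Prime) (hr2 : r ≠ 2) : Odd (Nat.card (OO r A)) := by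
  haveI := Fact.mk hr
  obtain ⟨k, hk⟩ := IsPGroup.iff_card.mp (OO_isPGroup r A)
  rw [hk]
  exact (hr.odd_of_ne_two hr2).pow

section Five

variable {t : G} {S : Sylow 2 G} {C : Coord (CQ t)} {g b c : Matrix.ProjectiveSpecialLinearGroup (Fin 2) C.F}

/-- A subgroup whose image holds `t` and `L` covers the centraliser. -/
theorem cov_of_image (A : Adapted S C g b c) (h5 : Fintype.card C.F = 5) {M : Subgroup G}
    (ht : C.t ∈ (M.subgroupOf (cT t)).map (br t))
    (hL : ∀ y, C.ι y ∈ (M.subgroupOf (cT t)).map (br t)) : Cov M t := by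
  have hφ : C.φ = 1 := by
    have h := C.φ_ord
    rwa [sigma_five C.hq h5 C.σ, orderOf_one, orderOf_eq_one_iff] at h
  intro y hy
  obtain ⟨i, v, j, e⟩ := C.cent (br t ⟨y, mem_cT.mpr hy⟩) (by
    rw [A.t_eq]
    exact (show Commute (⟨y, mem_cT.mpr hy⟩ : ↥(cT t)) ⟨t, _⟩ from Subtype.ext hy.eq).map (br t))
  rw [hφ, one_pow, mul_one] at e
  have hyI : br t ⟨y, mem_cT.mpr hy⟩ ∈ (M.subgroupOf (cT t)).map (br t) := by
    rw [e]
    exact mul_mem (pow_mem ht _) (hL v)
  obtain ⟨u, hu, hue⟩ := hyI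
  exact ⟨u, hu, mem_cT.mp u.2, br_eq.mp hue⟩

end Five

namespace Hyp5

variable {S : Sylow 2 G} (h : Hyp5 S)
include h

theorem not_comm : ¬ IsMulCommutative G := by
  intro hc
  obtain ⟨x, hx, hx1⟩ := (Subgroup.bot_or_exists_ne_one _).resolve_left
    (fun e => by have := h.hE.1; rw [e, Subgroup.card_bot] at this; omega : (S : Subgroup G) ≠ ⊥)
  exact h.hns x (h.hE.orderOf_eq_two hx hx1) (Group.isSolvable_of_comm fun a b =>
    Subtype.ext (hc.is_comm.comm (a : G) b))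

theorem exists_inv : ∃ t ∈ (S : Subgroup G), t ≠ 1 := (Subgroup.bot_or_exists_ne_one _).resolve_left
  (fun e => by have := h.hE.1; rw [e, Subgroup.card_bot] at this; omega : (S : Subgroup G) ≠ ⊥)

theorem cent_ne_top {t : G} (ht : t ∈ (S : Subgroup G)) (ht1 : t ≠ 1) : cT t ≠ ⊤ := by
  haveI := h.base.some.simple
  intro he
  have hc : t ∈ Subgroup.center G := Subgroup.mem_center_iff.mpr fun g =>
    (mem_cT.mp (he ▸ Subgroup.mem_top g)).eq
  rcases (inferInstance : (Subgroup.center G).Normal).eq_bot_or_eq_top with e | e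
  · exact ht1 (Subgroup.mem_bot.mp (e ▸ hc))
  · exact h.not_comm ⟨⟨fun a b => Subgroup.mem_center_iff.mp (e ▸ Subgroup.mem_top b) a⟩⟩

theorem not_cov_N {a : G} (ha : a ∈ (S : Subgroup G)) (ha1 : a ≠ 1) :
    ¬ Cov (Subgroup.normalizer (sig S : Set G)) a := by
  intro hcov
  refine h.not_cov a ha ha1 fun g hg => ?_
  obtain ⟨y, hy, -, hyo⟩ := hcov g (mem_cT.mp hg)
  have := mul_mem hy (Subgroup.le_normalizer (Ot_le_sig ha ha1 hyo))
  rwa [mul_inv_cancel_left] at this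

theorem sig_ne_top : Subgroup.normalizer (sig S : Set G) ≠ ⊤ :=
  h.base.some.normalizer_ne_top h.odd_sig h.sig_ne_bot

/-- An overgroup of `N(W)` meets every centraliser inside `N(W)`. -/
theorem inf_cent_le {M : Subgroup G} (hM : M ≠ ⊤) (hNM : Subgroup.normalizer (sig S : Set G) ≤ M) {a : G}
    (ha : a ∈ (S : Subgroup G)) (ha1 : a ≠ 1) : M ⊓ cT a ≤ Subgroup.normalizer (sig S : Set G) := by
  haveI : Fact (Nat.Prime 2) := ⟨Nat.prime_two⟩
  have hE := h.hE
  have B := h.base.some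
  set N := Subgroup.normalizer (sig S : Set G)
  have hNS := norm_le_norm_sig B h.hns S
  have hSM : (S : Subgroup G) ≤ M := Subgroup.le_normalizer.trans (hNS.trans hNM)
  have hncov : ¬ Cov M a := by
    intro hcov
    have hall : ∀ b ∈ (S : Subgroup G), b ≠ 1 → Cov M b := by
      intro b hb hb1
      obtain ⟨n, hn, rfl⟩ := B.trans S ha hb ha1 hb1
      exact hcov.conj (hNM (hNS hn))
    have hOM : ∀ b ∈ (S : Subgroup G), b ≠ 1 → Ot b ≤ M := fun b hb hb1 =>
      (Ot_le_sig hb hb1).trans (Subgroup.le_normalizer.trans hNM)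
    have hC : ∀ b ∈ (S : Subgroup G), b ≠ 1 → cT b ≤ M := by
      intro b hb hb1 g hg
      obtain ⟨y, hy, -, hyo⟩ := hall b hb hb1 g (mem_cT.mp hg)
      have := mul_mem hy (hOM b hb hb1 hyo)
      rwa [mul_inv_cancel_left] at this
    have h1 := core_le_of_cent S hE hSM hM hC fun x hx y hy hx1 hy1 => by
      obtain ⟨n, hn, hne⟩ := B.trans S hx hy hx1 hy1
      exact ⟨n, ⟨hNM (hNS hn), hn⟩, hne⟩
    rw [B.oddCore_bot, le_bot_iff] at h1
    refine h.sig_ne_bot (le_bot_iff.mp (iSup_le fun b => ?_))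
    rw [← h1]
    exact (le_inf le_rfl (hOM b b.2.1 b.2.2)).trans
      (inf_core_le B (h.hns _ (hE.orderOf_eq_two b.2.1 b.2.2)) hM hSM b.2.1 b.2.2 (hall b b.2.1 b.2.2))
  obtain ⟨C, g, b, c, A, h5⟩ := h.card_five ha ha1
  set IN := (N.subgroupOf (cT a)).map (br a)
  set IM := (M.subgroupOf (cT a)).map (br a)
  have hle : IN ≤ IM := Subgroup.map_mono fun x hx => hNM hx
  have hφ : C.φ = 1 := by
    have h' := C.φ_ord
    rwa [sigma_five C.hq h5 C.σ, orderOf_one, orderOf_eq_one_iff] at h'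
  have hSI : ∀ i : Fin 2, ∀ v, (v = 1 ∨ v = b ∨ v = c ∨ v = b * c) → C.t ^ (i : ℕ) * C.ι v ∈ IN := by
    intro i v hv
    obtain ⟨x, hx, e⟩ := A.surj i v hv
    exact ⟨⟨x, A.le hx⟩, h.S_norm hx, e⟩
  have htI : C.t ∈ IN := by simpa using hSI 1 1 (Or.inl rfl)
  have hvI : ∀ v, (v = 1 ∨ v = b ∨ v = c ∨ v = b * c) → C.ι v ∈ IN := fun v hv => by simpa using hSI 0 v hv
  -- an element of order three
  obtain ⟨n, hn, hnt, -, hact⟩ := A.exists_k hE ha
  obtain ⟨i, w, j, hw⟩ := C.cent (br a ⟨n, mem_cT.mpr hnt⟩) (by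
    rw [A.t_eq]
    exact (show Commute (⟨n, mem_cT.mpr hnt⟩ : ↥(cT a)) ⟨a, _⟩ from Subtype.ext hnt.eq).map (br a))
  rw [hφ, one_pow, mul_one] at hw
  have hwN : C.ι w ∈ IN := by
    have h1 : br a ⟨n, mem_cT.mpr hnt⟩ ∈ IN := ⟨_, hNS hn, rfl⟩
    rw [hw] at h1
    have h2 := mul_mem (inv_mem (pow_mem htI (i : ℕ))) h1
    rwa [inv_mul_cancel_left] at h2
  have hwb : w * b * w⁻¹ = c := by
    obtain ⟨x, hx, hxe⟩ := A.surj 0 b (Or.inr (Or.inl rfl))
    have h1 := hact x hx 0 b hxe ((Subgroup.mem_normalizer_iff.mp hn x).mp hx)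
    simp only [Fin.val_zero, pow_zero, one_mul, A.a4.gb] at h1 hxe
    refine C.ι_inj ?_
    rw [← h1, map_mul, map_mul, map_inv, ← hxe]
    have hti : Commute (C.t ^ (i : ℕ)) (br a ⟨x, A.le hx⟩) := by rw [hxe]; exact (C.t_ι b).pow_left _
    calc C.ι w * br a ⟨x, A.le hx⟩ * (C.ι w)⁻¹
        = C.ι w * (C.t ^ (i : ℕ) * br a ⟨x, A.le hx⟩ * (C.t ^ (i : ℕ))⁻¹) * (C.ι w)⁻¹ := by
          rw [hti.eq, mul_inv_cancel_right]
      _ = (C.t ^ (i : ℕ) * C.ι w) * br a ⟨x, A.le hx⟩ * (C.t ^ (i : ℕ) * C.ι w)⁻¹ := by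
          rw [((C.t_ι w).pow_left (i : ℕ)).eq]; group
      _ = br a ⟨n * x * n⁻¹, _⟩ := by rw [← hw, ← map_inv, ← map_mul, ← map_mul]; rfl
  set L1 := IN.comap C.ι
  set L2 := IM.comap C.ι
  have hL12 : L1 ≤ L2 := Subgroup.comap_mono hle
  set four := PSL2Klein.four b c A.a4.bb A.a4.cc A.a4.comm
  haveI hK := PSL2Klein.four_klein A.a4.bb A.a4.cc A.a4.comm A.a4.b1 A.a4.c1 A.a4.bc
  have hfour : four ≤ L1 := fun v hv => hvI v hv
  have hcard : Nat.card (Matrix.ProjectiveSpecialLinearGroup (Fin 2) C.F) = 60 := by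
    have hh := CfsgLib.SLCard.gcd_mul_card_PSL (F := C.F) (n := 2) (by norm_num)
    rw [CfsgLib.SLCard.card_SL_two, h5] at hh
    norm_num at hh
    omega
  have h4 : 4 ∣ Nat.card L1 := by
    have := Subgroup.card_dvd_of_le hfour
    rwa [hK.card_four] at this
  have h4d : Nat.card L1 ≠ 4 := by
    intro he
    have heq : four = L1 := Subgroup.eq_of_le_of_card_ge hfour (by rw [he, hK.card_four])
    have hw4 : w ∈ four := heq ▸ (show w ∈ L1 from hwN)
    have hb4 : b ∈ four := Or.inr (Or.inl rfl)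
    have hcm : w * b = b * w := congrArg Subtype.val
      (mul_comm_of_exponent_two hK.exponent_two (⟨w, hw4⟩ : ↥four) ⟨b, hb4⟩)
    exact A.a4.bc (by rw [← hwb, hcm, mul_inv_cancel_right])
  have htop : L2 ≠ ⊤ := fun he => hncov (cov_of_image A h5 (hle htI)
    fun y => (show y ∈ L2 from he ▸ Subgroup.mem_top y))
  have hL2 : Nat.card L2 ∣ 60 := hcard ▸ Subgroup.card_subgroup_dvd_card L2
  have hL1 : Nat.card L1 ∣ Nat.card L2 := Subgroup.card_dvd_of_le hL12
  haveI := JankoReeMult.psl_simple (F := C.F) (by omega)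
  have hno : ¬ Nat.card L2 = 20 ∧ ¬ Nat.card L2 = 60 := by
    refine ⟨fun he => ?_, fun he => htop (Subgroup.eq_top_of_card_eq _ (he.trans hcard.symm))⟩
    -- a subgroup of index three of a simple group
    have hidx : L2.index = 3 := by
      have := L2.card_mul_index
      rw [he, hcard] at this
      omega
    have hker : L2.normalCore = ⊥ :=
      (inferInstance : L2.normalCore.Normal).eq_bot_or_eq_top.resolve_right fun e =>
        htop (top_le_iff.mp (e ▸ L2.normalCore_le))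
    have hdvd : Nat.card (Matrix.ProjectiveSpecialLinearGroup (Fin 2) C.F) ∣ Nat.factorial 3 := by
      have hinj : Function.Injective (MulAction.toPermHom (Matrix.ProjectiveSpecialLinearGroup (Fin 2) C.F)
          (Matrix.ProjectiveSpecialLinearGroup (Fin 2) C.F ⧸ L2)) := by
        rw [← MonoidHom.ker_eq_bot_iff, ← Subgroup.normalCore_eq_ker, hker]
      have h' := Subgroup.card_dvd_of_injective _ hinj
      have hq : Nat.card (Matrix.ProjectiveSpecialLinearGroup (Fin 2) C.F ⧸ L2) = 3 := hidx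
      rw [Nat.card_perm, hq] at h'
      exact h' 
    rw [hcard] at hdvd
    norm_num [Nat.factorial] at hdvd
  have hL12' : L1 = L2 := by
    refine Subgroup.eq_of_le_of_card_ge hL12 ?_
    have h1 : Nat.card L1 ∈ Nat.divisors 60 := Nat.mem_divisors.mpr ⟨hL1.trans hL2, by norm_num⟩
    have h2 : Nat.card L2 ∈ Nat.divisors 60 := Nat.mem_divisors.mpr ⟨hL2, by norm_num⟩
    have h3 : ∀ x ∈ Nat.divisors 60, ∀ y ∈ Nat.divisors 60, 4 ∣ x → x ≠ 4 → x ∣ y → y ≠ 20 → y ≠ 60 → y ≤ x := by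
      decide
    exact h3 _ h1 _ h2 h4 h4d hL1 hno.1 hno.2
  intro y hy
  obtain ⟨k, v, j, e⟩ := C.cent (br a ⟨y, hy.2⟩) (by
    rw [A.t_eq]
    exact (show Commute (⟨y, hy.2⟩ : ↥(cT a)) ⟨a, _⟩ from Subtype.ext (mem_cT.mp hy.2).eq).map (br a))
  rw [hφ, one_pow, mul_one] at e
  have h1 : br a ⟨y, hy.2⟩ ∈ IM := ⟨_, hy.1, rfl⟩
  rw [e] at h1
  have h2 : v ∈ L2 := by
    have h3 := mul_mem (inv_mem (pow_mem (hle htI) (k : ℕ))) h1
    rwa [inv_mul_cancel_left] at h3
  rw [← hL12'] at h2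
  have h3 : br a ⟨y, hy.2⟩ ∈ IN := by
    rw [e]
    exact mul_mem (pow_mem htI _) h2
  obtain ⟨u, hu, hue⟩ := h3
  have h4' := N.mul_mem (show (u : G) ∈ N from hu) (Subgroup.le_normalizer (Ot_le_sig ha ha1 (br_eq.mp hue)))
  rwa [mul_inv_cancel_left] at h4'

/-- `N(W)` is maximal and has core `W`. -/
theorem coatom_N : IsCoatom (Subgroup.normalizer (sig S : Set G)) ∧
    OC (Subgroup.normalizer (sig S : Set G)) = sig S := by
  have hE := h.hE
  have B := h.base.some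
  set N := Subgroup.normalizer (sig S : Set G)
  have hNS := norm_le_norm_sig B h.hns S
  have hSN : (S : Subgroup G) ≤ N := h.S_norm
  refine ⟨?_, le_antisymm (h.odd_le_W (hSN.trans (OC_norm N)) (OC_odd N)) (le_OC Subgroup.le_normalizer le_rfl h.odd_sig)⟩
  obtain ⟨M, hM, hNM⟩ := (eq_top_or_exists_le_coatom N).resolve_left h.sig_ne_top
  by_contra hN
  have hne : N ≠ M := fun e => hN (e ▸ hM)
  have hSM := hSN.trans hNM
  have hE' : E8 ((S.subtype hSM : Sylow 2 ↥M) : Subgroup ↥M) :=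
    ⟨by rw [Sylow.coe_subtype, Nat.card_congr (Subgroup.subgroupOfEquivOfLe hSM).toEquiv, hE.1],
      fun x hx => Subtype.ext (hE.2 x hx)⟩
  have hH : N.subgroupOf M ≠ ⊤ := fun e => hne (le_antisymm hNM (Subgroup.subgroupOf_eq_top.mp e))
  have h1 := core_le_of_cent (X := ↥M) (S.subtype hSM) hE' (H := N.subgroupOf M)
    (fun x hx => hSN hx) hH (fun x hx hx1 y hy => h.inf_cent_le hM.1 hNM (a := (x : G)) hx
      (fun e => hx1 (Subtype.ext e))
      ⟨y.2, mem_cT.mpr (congrArg Subtype.val (mem_cT.mp hy).eq :)⟩)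
    fun x hx y hy hx1 hy1 => by
      obtain ⟨n, hn, hne'⟩ := B.trans S (a := (x : G)) (b := (y : G)) hx hy (fun e => hx1 (Subtype.ext e))
        (fun e => hy1 (Subtype.ext e))
      refine ⟨⟨n, hNM (hNS hn)⟩, ⟨hNS hn, mem_normalizer_of_maps fun z hz => ?_⟩, Subtype.ext hne'⟩
      exact (Subgroup.mem_normalizer_iff.mp hn (z : G)).mp hz
  have hWM : sig S ≤ M := Subgroup.le_normalizer.trans hNM
  have h2 : (sig S).subgroupOf M ≤ OC (N.subgroupOf M) := le_OC (fun x hx => Subgroup.le_normalizer hx)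
    (fun x hx => mem_normalizer_of_maps fun z hz => (Subgroup.mem_normalizer_iff.mp hx (z : G)).mp hz)
    (by rw [Nat.card_congr (Subgroup.subgroupOfEquivOfLe hWM).toEquiv]; exact h.odd_sig)
  have h3 : sig S ≤ OC M := fun w hw => ⟨⟨w, hWM hw⟩, h1 (h2 hw), rfl⟩
  have h4 : OC M = sig S := le_antisymm (h.odd_le_W (hSM.trans (OC_norm M)) (OC_odd M)) h3
  refine hne (le_antisymm hNM ?_)
  have h5 := OC_norm M
  rwa [h4] at h5

/-- The generalised Fitting subgroup of `N(W)`. -/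
theorem fit_N : EE (Subgroup.normalizer (sig S : Set G)) = ⊥ ∧ OO 2 (Subgroup.normalizer (sig S : Set G)) = ⊥ := by
  set N := Subgroup.normalizer (sig S : Set G)
  obtain ⟨-, hOC⟩ := h.coatom_N
  have hSN : (S : Subgroup G) ≤ N := h.S_norm
  have hkey : ∀ x ∈ (S : Subgroup G), (∀ r : ℕ, r.Prime → r ≠ 2 → ∀ y ∈ OO r N, Commute x y) → x = 1 := by
    intro x hx hc
    by_contra hx1
    exact h.no_cent hx hx1 fun w hw => cent_core (hSN hx) (h.hE.2 x hx) hc w (hOC.symm ▸ hw)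
  constructor
  · have hint : (S : Subgroup G) ⊓ EE N = ⊥ := (Subgroup.eq_bot_iff_forall _).mpr fun x hx =>
      hkey x hx.1 fun r hr _ y hy => comm_EE_FF hx.2 (Subgroup.map_mono (CfsgLib.pCore_le_fittingSubgroup hr) hy)
    haveI : Group.IsSolvable ↥(EE N) := Cfsg.Agent.S0205.result (odd_of_inf_bot S hSN EE_le
      (fun a ha => mem_normalizer_of_maps fun e he => conj_EE ha he) hint)
    exact perfect_solvable_bot EE_perfect
  · exact (Subgroup.eq_bot_iff_forall _).mpr fun x hx =>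
      hkey x (OO_two_le S hSN hx) fun r hr hr2 y hy => OO_comm Nat.prime_two hr (Ne.symm hr2) hx hy

theorem OO_le_sig {M : Subgroup G} (hSM : (S : Subgroup G) ≤ M) {r : ℕ} (hr : r.Prime) (hr2 : r ≠ 2) :
    OO r M ≤ sig S := h.odd_le_W (hSM.trans (OO_norm r)) (OO_odd hr hr2)

theorem GG_N_le : GG (Subgroup.normalizer (sig S : Set G)) ≤ sig S := by
  refine GG_le h.fit_N.1 fun r hr => ?_
  by_cases hr2 : r = 2
  · rw [hr2, h.fit_N.2]; exact bot_le
  · exact h.OO_le_sig h.S_norm hr hr2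

/-- Every prime of `F(N(W))` is bad. -/
theorem bad_of_OO {r : ℕ} [Fact r.Prime] (hD : OO r (Subgroup.normalizer (sig S : Set G)) ≠ ⊥) {Q : Subgroup G}
    (hQ : WSyl r S Q) : ¬ Ctr S Q := by
  intro hQc
  haveI : Fact (Nat.Prime 2) := ⟨Nat.prime_two⟩
  have B := h.base.some
  haveI := B.simple
  have hE := h.hE
  set N := Subgroup.normalizer (sig S : Set G)
  have hr : r.Prime := Fact.out
  have hr2 : r ≠ 2 := fun e => hD (by rw [e]; exact h.fit_N.2)
  set D := OO r N with hDdef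
  have hDW : D ≤ sig S := h.OO_le_sig h.S_norm hr hr2
  have hDS : (S : Subgroup G) ≤ Subgroup.normalizer (D : Set G) := h.S_norm.trans (OO_norm r)
  have hctr : ∀ U : Subgroup G, U ≤ sig S → IsPGroup r U → (S : Subgroup G) ≤ Subgroup.normalizer (U : Set G) →
      Ctr S U := by
    intro U hUW hUp hUS
    obtain ⟨R, hUR, hR⟩ := CfsgLib.coprime_le_invariant_sylow h.S_norm (S_coprime S hE h.odd_sig)
      (Or.inl (S_solv hE)) hUW hUp hUS
    have hc := h.ctr_all hQ ⟨Subgroup.map_subtype_le _,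
      by rw [Subgroup.card_map_of_injective (sig S).subtype_injective, R.card_eq_multiplicity], hR⟩ hQc
    exact fun s hs x hx => hc s hs x (hUR hx)
  obtain ⟨t, ht, ht1⟩ := h.exists_inv
  have hDc := hctr D hDW (OO_isPGroup r N) hDS
  have hDt : D ≤ Ot t := by
    rw [← h.sig_inf ht ht1]
    exact le_inf hDW fun x hx => mem_cT.mpr (hDc t ht x hx).symm
  obtain ⟨R, hDR, hR⟩ := CfsgLib.coprime_le_invariant_sylow (S_le_norm_Ot hE ht)
    (S_coprime S hE (OC_odd (cT t))) (Or.inl (S_solv hE)) hDt (OO_isPGroup r N) hDS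
  set P := (R : Subgroup ↥(Ot t)).map (Ot t).subtype with hPdef
  have hPi : InvSyl r t S P := ⟨Subgroup.map_subtype_le _,
    by rw [hPdef, Subgroup.card_map_of_injective (Ot t).subtype_injective, R.card_eq_multiplicity], hR⟩
  have hPc := hctr P (hPi.le.trans (Ot_le_sig ht ht1)) hPi.isPGroup hR
  have hND : Subgroup.normalizer (D : Set G) = N := by
    refine ((h.coatom_N.1.le_iff).mp (OO_norm r)).resolve_left ?_
    exact B.normalizer_ne_top (OO_odd hr hr2) hD
  have hPN : Subgroup.centralizer (P : Set G) ≤ N := by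
    rw [← hND]
    exact (Subgroup.centralizer_le (show (D : Set G) ⊆ P from hDR)).trans (Subgroup.centralizer_le_normalizer _)
  obtain ⟨C, g, b, c, A, h5⟩ := h.card_five ht ht1
  set Zb := ((Subgroup.centralizer (P : Set G)).subgroupOf (cT t)).map (br t)
  haveI : Zb.Normal := ⟨by
    rintro _ ⟨z, hz, rfl⟩ q
    obtain ⟨w, rfl⟩ := bar_surjective 2 q
    obtain ⟨n, hn, hnt, hno⟩ := hPi.cov w (mem_cT.mp w.2)
    have e : br t ⟨n, mem_cT.mpr hnt⟩ = br t w := br_eq.mpr hno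
    refine ⟨⟨n, mem_cT.mpr hnt⟩ * z * ⟨n, mem_cT.mpr hnt⟩⁻¹, ?_, by rw [map_mul, map_mul, map_inv, e]⟩
    intro x hx
    have h1 : n⁻¹ * x * n ∈ P := by simpa using (Subgroup.mem_normalizer_iff.mp (inv_mem hn) x).mp hx
    have h2 : n⁻¹ * x * n * (z : G) = (z : G) * (n⁻¹ * x * n) := hz _ h1
    show x * (n * z * n⁻¹) = n * z * n⁻¹ * x
    calc x * (n * z * n⁻¹) = n * (n⁻¹ * x * n * z) * n⁻¹ := by group
      _ = n * (z * (n⁻¹ * x * n)) * n⁻¹ := by rw [h2]
      _ = _ := by group⟩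
  have hSZ : ∀ i : Fin 2, ∀ v, (v = 1 ∨ v = b ∨ v = c ∨ v = b * c) → C.t ^ (i : ℕ) * C.ι v ∈ Zb := by
    intro i v hv
    obtain ⟨x, hx, e⟩ := A.surj i v hv
    exact ⟨⟨x, A.le hx⟩, fun y hy => (hPc x hx y hy).eq.symm, e⟩
  have hbZ : b ∈ Zb.comap C.ι := by simpa using hSZ 0 b (Or.inr (Or.inl rfl))
  have htZ : C.t ∈ Zb := by simpa using hSZ 1 1 (Or.inl rfl)
  haveI := JankoReeMult.psl_simple (F := C.F) (by omega)
  haveI : (Zb.comap C.ι).Normal := (inferInstance : Zb.Normal).comap C.ι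
  have htop : Zb.comap C.ι = ⊤ := (inferInstance : (Zb.comap C.ι).Normal).eq_bot_or_eq_top.resolve_left fun e =>
    A.a4.b1 (Subgroup.mem_bot.mp (e ▸ hbZ))
  exact h.not_cov_N ht ht1 ((cov_of_image A h5 htZ fun y => (show y ∈ Zb.comap C.ι from htop ▸ Subgroup.mem_top y)).mono hPN)

/-- `F*(N(W))` is a `p`-group. -/
theorem single : ∃ p : ℕ, p.Prime ∧ OO p (Subgroup.normalizer (sig S : Set G)) ≠ ⊥ ∧
    ∀ r : ℕ, r.Prime → r ≠ p → OO r (Subgroup.normalizer (sig S : Set G)) = ⊥ := by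
  haveI : Fact (Nat.Prime 2) := ⟨Nat.prime_two⟩
  have B := h.base.some
  haveI := B.simple
  have hE := h.hE
  have hna := h.not_comm
  set N := Subgroup.normalizer (sig S : Set G)
  obtain ⟨hNmax, -⟩ := h.coatom_N
  have hNS := norm_le_norm_sig B h.hns S
  have hsome : ∃ p : ℕ, p.Prime ∧ OO p N ≠ ⊥ := by
    by_contra hcon
    push Not at hcon
    have hGG : GG N = ⊥ := le_bot_iff.mp (GG_le h.fit_N.1 fun r hr => (hcon r hr).le)
    rw [GG, Subgroup.map_eq_bot_iff_of_injective _ N.subtype_injective] at hGG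
    obtain ⟨x, hx, hx1⟩ := h.exists_inv
    have hc := CfsgLib.centralizer_generalizedFitting_le (G := N)
    rw [hGG] at hc
    exact hx1 (congrArg Subtype.val (Subgroup.mem_bot.mp (hc (x := ⟨x, h.S_norm hx⟩) fun w hw => by
      rw [SetLike.mem_coe, Subgroup.mem_bot] at hw; simp [hw])))
  obtain ⟨p, hp, hpN⟩ := hsome
  refine ⟨p, hp, hpN, fun r hr hrp => ?_⟩
  by_contra hrN
  obtain ⟨t, ht, ht1⟩ := h.exists_inv
  obtain ⟨H, hH, htH⟩ := (eq_top_or_exists_le_coatom (cT t)).resolve_left (h.cent_ne_top ht ht1)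
  have hSH : (S : Subgroup G) ≤ H := fun s hs => htH (mem_cT.mpr (hE.comm hs ht))
  have hns := h.hns t (hE.orderOf_eq_two ht ht1)
  have hOt : Ot t ≤ OC H := (le_inf le_rfl ((Ot_le t).trans htH)).trans
    (inf_core_le B hns hH.1 hSH ht ht1 fun g hg => ⟨g, htH (mem_cT.mpr hg), hg, by simp⟩)
  obtain ⟨q, hq, Q, hQ, hQc⟩ := h.exists_bad
  haveI := hq
  obtain ⟨P₀, hP₀⟩ := exists_invSyl q hE ht
  have hEH : EE H = ⊥ := by
    have hint : ∀ x ∈ (S : Subgroup G) ⊓ EE H, x = 1 ∨ x = t := fun x hx => by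
      have hc := cent_core (hSH hx.1) (hE.2 x hx.1) fun s hs _ y hy =>
        comm_EE_FF hx.2 (Subgroup.map_mono (CfsgLib.pCore_le_fittingSubgroup hs) hy)
      exact faithful B hns ht ht1 hP₀ (h.bad_invSyl hQ hQc ht ht1 P₀ hP₀) hx.1
        fun a ha => hc a (hOt (hP₀.le ha))
    obtain ⟨R, hR⟩ := sylow_inf S hSH EE_le fun a ha => mem_normalizer_of_maps fun e he => conj_EE ha he
    have hR2 : Nat.card (R : Subgroup ↥(EE H)) ≤ 2 := by
      classical
      rw [hR]
      refine (Nat.card_le_card_of_injective (fun z : ↥((S : Subgroup G) ⊓ EE H) =>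
        if (z : G) = 1 then (0 : Fin 2) else 1) fun x y e => Subtype.ext ?_).trans (by simp)
      rcases hint x x.2 with hx | hx <;> rcases hint y y.2 with hy | hy <;>
        simp only [hx, hy] at e ⊢ <;> simp [ht1] at e
    haveI := (two_small R hR2).1
    exact perfect_solvable_bot EE_perfect
  have hHN : GG H ≤ N := GG_le hEH fun s hs => by
    by_cases hs2 : s = 2
    · rw [hs2]; exact (OO_two_le S hSH).trans h.S_norm
    · exact (h.OO_le_sig hSH hs hs2).trans Subgroup.le_normalizer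
  have hsn : ((GG H).subgroupOf (GG H)).IsSubnormal := by
    rw [Subgroup.subgroupOf_self]; exact Subgroup.IsSubnormal.top
  obtain ⟨hA, hB⟩ := main hna hH (GG H) le_rfl hsn inf_le_left N hHN
  have hdvd : ∀ s, s.Prime → OO s N ≠ ⊥ → s ∣ Nat.card (Cfsg.fittingSubgroup H) := by
    intro s hs hne
    by_contra hd
    have h0 : OO s N ⊓ H = ⊥ := hA s hs hd
    refine hne (le_bot_iff.mp ?_)
    have hs2 : s ≠ 2 := fun e => hne (by rw [e]; exact h.fit_N.2)
    refine gen_S hE (h.S_norm.trans (OO_norm s)) (OO_odd hs hs2) fun u hu hu1 z hz => ?_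
    obtain ⟨n, hn, hnu⟩ := B.trans S ht hu ht1 hu1
    have hz1 : n⁻¹ * z * n ∈ OO s N := by
      simpa using conj_OO (N.inv_mem (hNS hn)) hz.1
    have hz2 : n⁻¹ * z * n ∈ cT t := by
      refine mem_cT.mpr ?_
      have h' := (mem_cT.mp hz.2).map (MulAut.conj n⁻¹).toMonoidHom
      simp only [MulEquiv.coe_toMonoidHom, MulAut.conj_apply, inv_inv] at h'
      rwa [← hnu, show n⁻¹ * (n * t * n⁻¹) * n = t by group] at h'
    have hz3 : n⁻¹ * z * n ∈ (⊥ : Subgroup G) := h0 ▸ ⟨hz1, htH hz2⟩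
    rw [Subgroup.mem_bot] at hz3 ⊢
    calc z = n * (n⁻¹ * z * n) * n⁻¹ := by group
      _ = 1 := by rw [hz3]; group
  have hle : ∀ s, s.Prime → OO s N ≤ H := by
    intro s hs x hx
    rcases eq_or_ne (OO s N) ⊥ with h0 | h0
    · rw [h0, Subgroup.mem_bot] at hx; rw [hx]; exact one_mem H
    obtain ⟨s', hs', hs'N, hss⟩ : ∃ s', s'.Prime ∧ OO s' N ≠ ⊥ ∧ s' ≠ s := by
      by_cases hsp : s = p
      · exact ⟨r, hr, hrN, hsp ▸ hrp⟩
      · exact ⟨p, hp, hpN, Ne.symm hsp⟩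
    obtain ⟨Z, hZ1, hZO, hZc, hZH, -⟩ := center_OO H hs' (hdvd s' hs' hs'N)
    rw [← normalizer_eq_of_coatom hna hH hZ1 hZc hZH]
    refine Subgroup.centralizer_le_normalizer _ fun z hz => ?_
    obtain ⟨y, hy, rfl⟩ := hZO hz
    haveI := Fact.mk hs'
    haveI := Fact.mk hs
    have hyG : y ∈ Cfsg.generalizedFittingSubgroup H :=
      CfsgLib.fittingSubgroup_le_generalized (CfsgLib.pCore_le_fittingSubgroup hs' hy)
    refine (hB s hs (hdvd s hs h0) x hx y ⟨⟨y, hyG⟩, CfsgLib.Transfer.mem_pResidual_of_coprime ?_, rfl⟩).symm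
    obtain ⟨k, hk⟩ := IsPGroup.iff_orderOf.1 (CfsgLib.isPGroup_pCore (G := H) s') ⟨y, hy⟩
    rw [Subgroup.orderOf_mk] at hk ⊢
    rw [hk]
    exact Nat.Coprime.pow_left _ ((Nat.coprime_primes hs' hs).2 hss)
  have hne : H ≠ N := fun e => by rw [e] at htH; exact h.not_cov t ht ht1 htH
  obtain ⟨q', hq', -, hqN⟩ := bender_max hna H N hH hNmax hne hHN (GG_le h.fit_N.1 hle)
  have honly : ∀ s, s.Prime → OO s N ≠ ⊥ → s = q' := by
    intro s hs hne'
    haveI := Fact.mk hs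
    haveI := Fact.mk hq'
    by_contra hsq
    exact hne' (disjoint_self.mp (IsPGroup.disjoint_of_coprime (OO_isPGroup s N)
      ((hqN.map N.subtype).to_le (OO_le_GG hs N)) ((Nat.coprime_primes hs hq').2 hsq)))
  exact hrp ((honly r hr hrN).trans (honly p hp hpN).symm)

/-- The case `q = 5` does not occur. -/
theorem false : False := by
  haveI : Fact (Nat.Prime 2) := ⟨Nat.prime_two⟩
  have B := h.base.some
  haveI := B.simple
  have hE := h.hE
  set N := Subgroup.normalizer (sig S : Set G)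
  obtain ⟨p, hp, hpN, honly⟩ := h.single
  haveI := Fact.mk hp
  have hp2 : p ≠ 2 := fun e => hpN (by rw [e]; exact h.fit_N.2)
  obtain ⟨Q₀, hQ₀⟩ := h.exists_wSyl p
  obtain ⟨Q, hQ, hcov⟩ := h.exists_cover hQ₀ (h.bad_of_OO hpN hQ₀)
  have hQ1 : Q ≠ ⊥ := fun e => h.bad_of_OO hpN hQ fun s _ a ha => by
    rw [e, Subgroup.mem_bot] at ha; rw [ha]; exact Commute.one_right s
  set W := sig S
  haveI hWs : Group.IsSolvable W := Cfsg.Agent.S0205.result h.odd_sig
  -- no core away from `p`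
  have hR : pPrimeCore p W = ⊥ := by
    set K := (pPrimeCore p W).map W.subtype with hK
    have hKn : N ≤ Subgroup.normalizer (K : Set G) := by
      haveI : (W.subgroupOf N).Normal :=
        (Subgroup.normal_subgroupOf_iff_le_normalizer Subgroup.le_normalizer).mpr le_rfl
      intro a ha
      refine mem_normalizer_of_maps fun x hx => ?_
      let e : W ≃* W := {
        toFun := fun w => ⟨a * w * a⁻¹, (Subgroup.mem_normalizer_iff.mp ha w).mp w.2⟩
        invFun := fun w => ⟨a⁻¹ * w * a, by simpa using (Subgroup.mem_normalizer_iff.mp (inv_mem ha) w).mp w.2⟩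
        left_inv := fun w => Subtype.ext (by group)
        right_inv := fun w => Subtype.ext (by group)
        map_mul' := fun v w => Subtype.ext (by simp only [Subgroup.coe_mul]; group) }
      obtain ⟨w, hw, rfl⟩ := hx
      have hc := Subgroup.characteristic_iff_map_eq.mp (inferInstance : (pPrimeCore p W).Characteristic) e
      exact ⟨e w, hc.le ⟨w, hw, rfl⟩, rfl⟩
    have hKW : K ≤ W := Subgroup.map_subtype_le _
    have hKcop : (Nat.card K).Coprime p := by
      rw [hK, Subgroup.card_map_of_injective W.subtype_injective]; exact card_pPrimeCore_coprime p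
    have hdis : K ⊓ OO p N = ⊥ := Subgroup.inf_eq_bot_of_coprime (by
      obtain ⟨k, hk⟩ := IsPGroup.iff_card.mp (OO_isPGroup p N)
      rw [hk]; exact hKcop.pow_right k)
    have hcomm : ∀ x ∈ K, ∀ y ∈ OO p N, Commute x y := by
      intro x hx y hy
      have hxN : x ∈ N := Subgroup.le_normalizer (hKW hx)
      have hyN : y ∈ N := Subgroup.map_subtype_le _ hy
      have h1 : x * y * x⁻¹ * y⁻¹ ∈ K := by
        rw [show x * y * x⁻¹ * y⁻¹ = x * (y * x⁻¹ * y⁻¹) by group]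
        exact K.mul_mem hx ((Subgroup.mem_normalizer_iff.mp (hKn hyN) _).mp (K.inv_mem hx))
      have h2 : x * y * x⁻¹ * y⁻¹ ∈ OO p N := (OO p N).mul_mem (conj_OO hxN hy) ((OO p N).inv_mem hy)
      have h3 : x * y * x⁻¹ * y⁻¹ ∈ K ⊓ OO p N := ⟨h1, h2⟩
      rw [hdis, Subgroup.mem_bot] at h3
      exact mul_inv_eq_iff_eq_mul.mp (mul_inv_eq_one.mp h3)
    have hGG : GG N ≤ OO p N := GG_le h.fit_N.1 fun r hr => by
      by_cases e : r = p
      · rw [e]
      · rw [honly r hr e]; exact bot_le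
    have hKO : K ≤ OO p N := by
      intro x hx
      have hxN : x ∈ N := Subgroup.le_normalizer (hKW hx)
      have h1 : (⟨x, hxN⟩ : N) ∈ Cfsg.generalizedFittingSubgroup N := CfsgLib.centralizer_generalizedFitting_le
        fun w hw => Subtype.ext (hcomm x hx (w : G) (hGG ⟨w, hw, rfl⟩)).eq.symm
      exact hGG ⟨_, h1, rfl⟩
    have h0 : K = ⊥ := le_bot_iff.mp (hdis ▸ le_inf le_rfl hKO)
    rwa [hK, Subgroup.map_eq_bot_iff_of_injective _ W.subtype_injective] at h0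
  let T : Sylow p ↥W := Sylow.ofCard (Q.subgroupOf W) (by
    rw [Nat.card_congr (Subgroup.subgroupOfEquivOfLe hQ.le).toEquiv]; exact hQ.card)
  obtain ⟨T₂⟩ : Nonempty (Sylow 2 (↥W ⧸ pPrimeCore p ↥W)) := inferInstance
  have hfree : ¬ Involves (Cfsg.qd p) (↥W ⧸ pPrimeCore p ↥W) := by
    refine HallE8.free_of_abelian T₂ ?_ hp2
    intro x hx y _
    obtain ⟨k, hk⟩ := IsPGroup.iff_orderOf.mp T₂.2 ⟨x, hx⟩
    rw [Subgroup.orderOf_mk] at hk
    have hx1 : x = 1 := eq_one_of_odd_of_two_pow (h.odd_sig.of_dvd_nat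
      ((orderOf_dvd_natCard x).trans (Subgroup.card_quotient_dvd_card _))) (by rw [← hk, pow_orderOf_eq_one])
    rw [hx1, one_mul, mul_one]
  have hsup := StrongFusion.sup_normalizer_zj_of_closed hp2 (Or.inl rfl)
    (CfsgLib.MinSimpleOdd.isPConstrained_of_solvable (X := ↥W) p)
    (Quadratic.quadStable_of_isNormalizerPStable (Quadratic.isNormalizerPStable_of_free hp2 hfree)) T
    (Q := (T : Subgroup ↥W)) ⟨le_rfl, fun _ _ _ hg => hg⟩
  rw [hR, bot_sup_eq] at hsup
  set Z := ZJ.zj 0 Q with hZdef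
  set NZ := Subgroup.normalizer (Z : Set G) with hNZdef
  have hTQ : (T : Subgroup ↥W).map W.subtype = Q := Subgroup.map_subgroupOf_eq_of_le hQ.le
  have hZmap : Z = (ZJ.zj 0 (T : Subgroup ↥W)).map W.subtype := by
    rw [hZdef, ← hTQ, ZJ.zj_map 0 W.subtype_injective]
  have hWZ : W ≤ NZ := by
    intro w hw
    refine mem_normalizer_of_maps fun z hz => ?_
    rw [hZmap] at hz ⊢
    obtain ⟨z', hz', rfl⟩ := hz
    refine ⟨⟨w, hw⟩ * z' * ⟨w, hw⟩⁻¹, ?_, rfl⟩
    exact (Subgroup.mem_normalizer_iff.mp (hsup.symm ▸ Subgroup.mem_top _) z').mp hz'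
  have hQZ : Subgroup.normalizer (Q : Set G) ≤ NZ := by
    intro x hx
    refine mem_normalizer_of_maps fun a ha => ?_
    have e : Q.map (MulAut.conj x).toMonoidHom = Q := by
      refine le_antisymm ?_ fun y hy => ⟨x⁻¹ * y * x, ?_, by simp [mul_assoc]⟩
      · rintro _ ⟨y, hy, rfl⟩
        exact (Subgroup.mem_normalizer_iff.mp hx y).mp hy
      · simpa using (Subgroup.mem_normalizer_iff.mp (inv_mem hx) y).mp hy
    have hm := ZJ.zj_map 0 (f := (MulAut.conj x).toMonoidHom) (MulAut.conj x).injective Q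
    rw [e] at hm
    rw [hZdef, hm]
    exact ⟨a, ha, rfl⟩
  have hZ1 : Z ≠ ⊥ := ZJ.zj_ne_bot (Or.inl rfl) (IsPGroup.of_card hQ.card) hQ1
  have hZtop : NZ ≠ ⊤ := B.normalizer_ne_top (h.odd_sig.of_dvd_nat
    (Subgroup.card_dvd_of_le ((ZJ.zj_le 0 Q).trans hQ.le))) hZ1
  have hSZ : (S : Subgroup G) ≤ NZ := hQ.inv.trans hQZ
  have hcovZ : ∀ u ∈ (S : Subgroup G), u ≠ 1 → Cov NZ u := fun u hu hu1 => (hcov u hu hu1).mono hQZ
  have hWO : W ≤ OC NZ := iSup_le fun a => (le_inf le_rfl ((Ot_le_sig a.2.1 a.2.2).trans hWZ)).trans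
    (inf_core_le B (h.hns _ (hE.orderOf_eq_two a.2.1 a.2.2)) hZtop hSZ a.2.1 a.2.2 (hcovZ a a.2.1 a.2.2))
  have heq : OC NZ = W := le_antisymm (h.odd_le_W (hSZ.trans (OC_norm NZ)) (OC_odd NZ)) hWO
  have hNN : NZ ≤ N := fun x hx => by
    have := OC_norm NZ hx
    rwa [heq] at this
  obtain ⟨t, ht, ht1⟩ := h.exists_inv
  exact h.not_cov_N ht ht1 ((hcovZ t ht ht1).mono hNN)

end Hyp5

end CfsgLib.Walter
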