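import Cfsg.Agent.Lib.Walter.CoreLocal

/-!
A proper subgroup covering `C(t)` modulo the core meets that core inside its own core.

Blueprint: `blueprint/Walter.md`, G1.
-/

set_option autoImplicit false
set_option linter.unusedSectionVars false
set_option linter.style.haveILetI false

namespace CfsgLib.Walter

open Cfsg CfsgLib.Comp

universe u

theorem z2_cases : ∀ a b : Multiplicative (ZMod 2), b ≠ 1 → a = 1 ∨ a = b := by decide

section Prod

variable {X : Type u} [Group X] [Finite X] {F : Type} [Field F] [Fintype F]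

local notation "PSL" => Matrix.ProjectiveSpecialLinearGroup (Fin 2) F

/-- `2 × L₂(q)` has no normal subgroup of odd order. -/
theorem odd_normal_prod (hodd : Odd (Fintype.card F)) (h3 : 3 < Fintype.card F)
    (e : X ≃* Multiplicative (ZMod 2) × PSL) {Y : Subgroup X} [Y.Normal] (hY : Odd (Nat.card Y)) : Y = ⊥ := by
  haveI := JankoReeMult.psl_simple (F := F) h3
  let f : X →* PSL := (MonoidHom.snd _ _).comp e.toMonoidHom
  have hfs : Function.Surjective f := Prod.snd_surjective.comp e.surjective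
  haveI : (Y.map f).Normal := (inferInstance : Y.Normal).map f hfs
  have hb : Y.map f = ⊥ := by
    refine (inferInstance : (Y.map f).Normal).eq_bot_or_eq_top.resolve_right fun h => ?_
    have h2 := AbCentMax.even_psl (F := F) hodd
    rw [← Subgroup.card_top (G := PSL), ← h] at h2
    exact Nat.not_even_iff_odd.mpr hY (even_iff_two_dvd.mpr (h2.trans (Y.card_map_dvd f)))
  refine (Subgroup.eq_bot_iff_forall _).mpr fun y hy => e.map_eq_one_iff.mp ?_
  have h1 : f y = 1 := Subgroup.mem_bot.mp (hb ▸ Subgroup.mem_map_of_mem f hy)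
  have h2 : (e y).1 * (e y).1 = 1 := by
    rw [← pow_two]
    have := pow_card_eq_one' (x := (e y).1)
    rwa [show Nat.card (Multiplicative (ZMod 2)) = 2 from Nat.card_zmod 2] at this
  have ho : Odd (orderOf (e y).1) :=
    Odd.of_dvd_nat hY ((orderOf_map_dvd ((MonoidHom.fst _ _).comp e.toMonoidHom) y).trans
      (Subgroup.orderOf_dvd_natCard Y hy))
  exact Prod.ext (eq_one_of_odd_of_two_pow (k := 1) ho (by rw [pow_one, pow_two]; exact h2)) h1

/-- An element of odd order centralising a Sylow subgroup of `2 × L₂(q)` is trivial. -/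
theorem cent_sylow_odd (h2 : (2 : F) ≠ 0) (e : X ≃* Multiplicative (ZMod 2) × PSL) (T : Sylow 2 X) {z : X}
    (hz : Odd (orderOf z)) (hc : ∀ a ∈ (T : Subgroup X), Commute z a) : z = 1 := by
  haveI : Fact (Nat.Prime 2) := ⟨Nat.prime_two⟩
  obtain ⟨g, b, c, hA, -⟩ := exists_fixed_A4 (F := F) h2
  let f : X →* PSL := (MonoidHom.snd _ _).comp e.toMonoidHom
  have hfs : Function.Surjective f := Prod.snd_surjective.comp e.surjective
  obtain ⟨R, hR⟩ := ((IsPGroup.of_card (n := 2)
    ((PSL2Klein.four_klein hA.bb hA.cc hA.comm hA.b1 hA.c1 hA.bc).card_four)) :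
      IsPGroup 2 (PSL2Klein.four b c hA.bb hA.cc hA.comm)).exists_le_sylow
  obtain ⟨y, hy⟩ := MulAction.exists_smul_eq PSL (T.mapSurjective hfs) R
  have hcent : ∀ v ∈ (R : Subgroup PSL), Commute (y * f z * y⁻¹) v := by
    intro v hv
    rw [← hy, Sylow.coe_subgroup_smul] at hv
    obtain ⟨_, ⟨a, ha, rfl⟩, rfl⟩ := hv
    exact ((hc a ha).map f).map (MulAut.conj y).toMonoidHom
  have hbR : b ∈ (R : Subgroup PSL) := hR (Or.inr (Or.inl rfl))
  have hcR : c ∈ (R : Subgroup PSL) := hR (Or.inr (Or.inr (Or.inl rfl)))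
  have hsq : (y * f z * y⁻¹) * (y * f z * y⁻¹) = 1 := by
    rcases four_cent h2 hA.bb hA.b1 hA.cc hA.c1 hA.bc hA.comm (hcent b hbR).eq (hcent c hcR).eq with h | h | h | h <;>
      rw [h]
    · rw [one_mul]
    · exact hA.bb
    · exact hA.cc
    · calc b * c * (b * c) = b * (c * b) * c := by group
        _ = b * b * (c * c) := by rw [← hA.comm]; group
        _ = 1 := by rw [hA.bb, hA.cc, one_mul]
  have hf : f z = 1 := by
    rw [show y * f z * y⁻¹ * (y * f z * y⁻¹) = y * (f z * f z) * y⁻¹ by group, conj_eq_one_iff] at hsq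
    exact eq_one_of_odd_of_two_pow (k := 1) (Odd.of_dvd_nat hz (orderOf_map_dvd f z)) (by rw [pow_one, pow_two]; exact hsq)
  refine e.map_eq_one_iff.mp (Prod.ext ?_ hf)
  refine eq_one_of_odd_of_two_pow (k := 1) (Odd.of_dvd_nat hz
    (orderOf_map_dvd ((MonoidHom.fst _ _).comp e.toMonoidHom) z)) ?_
  have := pow_card_eq_one' (x := (e z).1)
  rwa [show Nat.card (Multiplicative (ZMod 2)) = 2 from Nat.card_zmod 2] at this

end Prod

theorem Shape.card {G : Type u} [Group G] {t : G} (h : Shape G t) :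
    ∃ (F : Type) (_ : Field F) (_ : Fintype F), Odd (Fintype.card F) ∧ 3 < Fintype.card F ∧ (2 : F) ≠ 0 ∧
      Nonempty (Subgroup.centralizer ({t} : Set G) ≃* Multiplicative (ZMod 2) ×
        Matrix.ProjectiveSpecialLinearGroup (Fin 2) F) := by
  obtain ⟨F, i1, i2, hq, he⟩ := h
  have hodd : Odd (Fintype.card F) := by
    rcases hq with h | ⟨m, -, h⟩ <;> rw [h]
    · decide
    · exact (show Odd 3 by decide).pow
  refine ⟨F, i1, i2, hodd, ?_, JankoReeMult.two_ne hodd, he⟩
  rcases hq with h | ⟨m, hm, h⟩ <;> rw [h]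
  · norm_num
  · calc 3 = 3 ^ 1 := by norm_num
      _ < 3 ^ (2 * m + 1) := Nat.pow_lt_pow_right (by norm_num) (by omega)

/-- An automorphism of odd order of the layer fixing the centraliser of an involution is trivial. -/
theorem out_trivial {Q : Type u} [Group Q] [Finite Q] {K : Subgroup Q} [hn : K.Normal] [IsSimpleGroup K]
    (hCK : Subgroup.centralizer (K : Set Q) = ⊥) (T : Sylow 2 K) (hE : E8 (T : Subgroup K)) {τ : K}
    (hτ : τ ∈ (T : Subgroup K)) (hτ1 : τ ≠ 1) (hsh : Shape K τ) {y : Q} (ho : Odd (orderOf y))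
    (hy : ∀ k : K, Commute k τ → Commute y (k : Q)) : y = 1 := by
  classical
  haveI : Fact (Nat.Prime 2) := ⟨Nat.prime_two⟩
  obtain ⟨F, i1, i2, hodd, h3, h2, ⟨e⟩⟩ := hsh.card
  haveI := JankoReeMult.psl_simple (F := F) h3
  have h8 : 8 ∣ Nat.card K := hE.1 ▸ Subgroup.card_subgroup_dvd_card _
  have hno : ∀ M : Subgroup K, M.index ≠ 2 := by
    intro M hM
    haveI := Subgroup.normal_of_index_eq_two hM
    rcases (inferInstance : M.Normal).eq_bot_or_eq_top with h | h <;> rw [h] at hM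
    · rw [Subgroup.index_bot] at hM; omega
    · rw [Subgroup.index_top] at hM; omega
  set M := (Subgroup.centralizer ({y} : Set Q)).subgroupOf K with hM
  have hMmem : ∀ k : K, k ∈ M ↔ Commute y (k : Q) := fun k => by
    rw [hM, Subgroup.mem_subgroupOf, Subgroup.mem_centralizer_singleton_iff]
    exact eq_comm
  have hTτ : ∀ a ∈ (T : Subgroup K), Commute y (a : Q) := fun a ha => hy a (hE.comm ha hτ)
  -- the normaliser of the Sylow subgroup
  have hNM : Subgroup.normalizer ((T : Subgroup K) : Set K) ≤ M := by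
    intro n hn'
    set s : K := n⁻¹ * ⟨y * (n : Q) * y⁻¹, hn.conj_mem _ n.2 y⟩ with hs
    have hscoe : (s : Q) = (n : Q)⁻¹ * (y * n * y⁻¹) := rfl
    have hsc : ∀ a ∈ (T : Subgroup K), Commute s a := by
      intro a ha
      have h1 : (y : Q) * ((n : Q) * a * (n : Q)⁻¹) = ((n : Q) * a * (n : Q)⁻¹) * y :=
        (hTτ _ ((Subgroup.mem_normalizer_iff.mp hn' a).mp ha)).eq
      have h2' : y * (a : Q) * y⁻¹ = a := by rw [(hTτ a ha).eq, mul_inv_cancel_right]
      refine Subtype.ext ?_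
      show (s : Q) * a = a * s
      rw [← mul_inv_eq_iff_eq_mul, hscoe]
      calc (n : Q)⁻¹ * (y * n * y⁻¹) * a * ((n : Q)⁻¹ * (y * n * y⁻¹))⁻¹
          = (n : Q)⁻¹ * y * n * (y⁻¹ * a * y) * (n : Q)⁻¹ * y⁻¹ * n := by group
        _ = (n : Q)⁻¹ * y * n * (y⁻¹ * (y * a * y⁻¹) * y) * (n : Q)⁻¹ * y⁻¹ * n := by rw [h2']
        _ = (n : Q)⁻¹ * (y * ((n : Q) * a * (n : Q)⁻¹)) * y⁻¹ * n := by group
        _ = a := by rw [h1]; group
    have hys : Commute y (s : Q) := hy s (hsc τ hτ)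
    have hpow : ∀ k : ℕ, y ^ k * (n : Q) * (y ^ k)⁻¹ = n * (s : Q) ^ k := by
      intro k
      induction k with
      | zero => simp
      | succ k ih =>
        calc y ^ (k + 1) * (n : Q) * (y ^ (k + 1))⁻¹ = y * (y ^ k * n * (y ^ k)⁻¹) * y⁻¹ := by rw [pow_succ']; group
          _ = y * n * y⁻¹ * (y * (s : Q) ^ k * y⁻¹) := by rw [ih]; group
          _ = n * ((s : Q) * (s : Q) ^ k) := by
            have h' : y * n * y⁻¹ = n * (s : Q) := by rw [hscoe]; group
            rw [(hys.pow_right k).eq, mul_inv_cancel_right, h', mul_assoc]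
          _ = _ := by rw [pow_succ']
    have hsm := hpow (orderOf y)
    rw [pow_orderOf_eq_one, one_mul, inv_one, mul_one] at hsm
    have hso : Odd (orderOf s) := by
      rw [← Subgroup.orderOf_coe]
      exact Odd.of_dvd_nat ho (orderOf_dvd_of_pow_eq_one (mul_eq_left.mp hsm.symm))
    have hTC : (T : Subgroup K) ≤ Subgroup.centralizer ({τ} : Set K) := fun a ha =>
      Subgroup.mem_centralizer_singleton_iff.mpr (hE.comm ha hτ)
    have hs1 := cent_sylow_odd h2 e (T.subtype hTC)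
      (z := ⟨s, Subgroup.mem_centralizer_singleton_iff.mpr (hsc τ hτ).eq⟩)
      (by rwa [Subgroup.orderOf_mk]) (fun a ha => Subtype.ext (hsc a ha).eq)
    rw [hMmem]
    have : (s : Q) = 1 := congrArg (fun z : ↥(Subgroup.centralizer ({τ} : Set K)) => ((z : K) : Q)) hs1
    rw [hscoe, inv_mul_eq_one, eq_mul_inv_iff_mul_eq] at this
    exact this.symm
  -- the setting
  set CK := Subgroup.centralizer ({τ} : Set K)
  let f : Matrix.ProjectiveSpecialLinearGroup (Fin 2) F →* K :=
    CK.subtype.comp (e.symm.toMonoidHom.comp (MonoidHom.inr _ _))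
  have hfi : Function.Injective f := fun a b h => (Prod.ext_iff.mp (e.symm.injective (Subtype.ext h))).2
  let τC : CK := ⟨τ, Subgroup.mem_centralizer_singleton_iff.mpr rfl⟩
  have hτe : (e τC).2 = 1 := by
    have hz : (e τC).2 ∈ Subgroup.center (Matrix.ProjectiveSpecialLinearGroup (Fin 2) F) := by
      refine Subgroup.mem_center_iff.mpr fun x => ?_
      have hc : e.symm (1, x) * τC = τC * e.symm (1, x) :=
        Subtype.ext (Subgroup.mem_centralizer_singleton_iff.mp (e.symm (1, x)).2)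
      have h' := congrArg (fun w => (e w).2) hc
      simpa using h'
    rcases (inferInstance : (Subgroup.center (Matrix.ProjectiveSpecialLinearGroup (Fin 2) F)).Normal).eq_bot_or_eq_top
      with h | h
    · exact Subgroup.mem_bot.mp (h ▸ hz)
    · exfalso
      obtain ⟨g, b, c, hA, -⟩ := exists_fixed_A4 (F := F) h2
      have := Subgroup.mem_center_iff.mp (h ▸ Subgroup.mem_top b : b ∈ Subgroup.center _) g
      exact hA.bc (by rw [← hA.gb, this, mul_inv_cancel_right])
  have hcase : ∀ c : CK, (e c).2 = 1 → (c : K) = 1 ∨ (c : K) = τ := by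
    intro c hc
    have hτ0 : (e τC).1 ≠ 1 := fun h => hτ1 (congrArg Subtype.val (e.map_eq_one_iff.mp (Prod.ext h hτe)))
    rcases z2_cases (e c).1 _ hτ0 with h | h
    · exact Or.inl (congrArg Subtype.val (e.map_eq_one_iff.mp (Prod.ext h hc)))
    · exact Or.inr (congrArg Subtype.val (e.injective (Prod.ext h (hc.trans hτe.symm))))
  have hfN : ∀ c : CK, (e c).1 = 1 → (c : K) ∈ f.range := fun c hc =>
    ⟨(e c).2, congrArg Subtype.val (e.symm_apply_eq.mpr (Prod.ext hc.symm rfl) : e.symm (1, (e c).2) = c)⟩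
  let D : JankoReeMult.Data K :=
    { t := τ, ht := hE.orderOf_eq_two hτ hτ1, S := T, tS := hτ, N := f.range
      NC := by rintro _ ⟨x, rfl⟩; exact (e.symm (1, x)).2
      Nn := by
        rintro c hc _ ⟨x, rfl⟩
        refine hfN (⟨c, hc⟩ * e.symm (1, x) * ⟨c, hc⟩⁻¹) ?_
        simp
      cent := fun c hc h => hcase ⟨c, hc⟩ (by
        have hz : (e ⟨c, hc⟩).2 ∈ Subgroup.center (Matrix.ProjectiveSpecialLinearGroup (Fin 2) F) := by
          refine Subgroup.mem_center_iff.mpr fun x => ?_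
          have hx : (⟨c, hc⟩ : CK) * e.symm (1, x) = e.symm (1, x) * ⟨c, hc⟩ := Subtype.ext (h _ ⟨x, rfl⟩)
          have h' := congrArg (fun w => (e w).2) hx
          simpa using h'.symm
        rcases (inferInstance :
          (Subgroup.center (Matrix.ProjectiveSpecialLinearGroup (Fin 2) F)).Normal).eq_bot_or_eq_top with h' | h'
        · exact Subgroup.mem_bot.mp (h' ▸ hz)
        · exfalso
          obtain ⟨g, b, c, hA, -⟩ := exists_fixed_A4 (F := F) h2
          have := Subgroup.mem_center_iff.mp (h' ▸ Subgroup.mem_top b : b ∈ Subgroup.center _) g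
          exact hA.bc (by rw [← hA.gb, this, mul_inv_cancel_right]))
      ab := hE.isMulCommutative }
  have fr := AbCentMax.fr_of_gt D hodd h3 (MonoidHom.ofInjective hfi).symm
  have hdp : IsInternalDirectProduct (Subgroup.zpowers τ) f.range CK := by
    refine ⟨Subgroup.zpowers_le.mpr τC.2, by rintro _ ⟨x, rfl⟩; exact (e.symm (1, x)).2, ?_, ?_, ?_⟩
    · rintro a ha _ ⟨x, rfl⟩
      obtain ⟨k, rfl⟩ := ha
      exact ((show Commute τ (f x) from
        (Subgroup.mem_centralizer_singleton_iff.mp (e.symm (1, x)).2).symm).zpow_left k).eq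
    · refine (Subgroup.eq_bot_iff_forall _).mpr fun a ha => ?_
      obtain ⟨ha1, x, hx⟩ := ha
      rcases (E8Solv.mem_zpowers_invol (hE.orderOf_eq_two hτ hτ1)).mp ha1 with h | h
      · exact h
      · exfalso
        have : e.symm (1, x) = τC := Subtype.ext (hx.trans h)
        have h1 := congrArg (fun w => (e w).1) this
        simp only [MulEquiv.apply_symm_apply] at h1
        exact hτ1 (congrArg Subtype.val (e.map_eq_one_iff.mp (Prod.ext h1.symm hτe)))
    · refine le_antisymm (sup_le (Subgroup.zpowers_le.mpr τC.2) ?_) fun c hc => ?_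
      · rintro _ ⟨x, rfl⟩; exact (e.symm (1, x)).2
      set r : CK := ⟨c, hc⟩ * (e.symm (1, (e ⟨c, hc⟩).2))⁻¹ with hr
      have hr2 : (e r).2 = 1 := by simp [hr]
      have hrc : (r : K) * f (e ⟨c, hc⟩).2 = c := by
        show ((⟨c, hc⟩ * (e.symm (1, (e ⟨c, hc⟩).2))⁻¹ : CK) : K) * (e.symm (1, (e ⟨c, hc⟩).2) : K) = c
        simp
      rw [← hrc]
      refine mul_mem (Subgroup.mem_sup_left ?_) (Subgroup.mem_sup_right ⟨_, rfl⟩)
      rcases hcase r hr2 with h | h <;> rw [h]
      · exact one_mem _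
      · exact Subgroup.mem_zpowers τ
  let A : AbCentMax.Setting K := ⟨D, fr, f.range, hdp, le_rfl⟩
  by_cases hMtop : M = ⊤
  · have hyC : y ∈ Subgroup.centralizer (K : Set Q) := fun k hk =>
      ((hMmem ⟨k, hk⟩).mp (hMtop ▸ Subgroup.mem_top _)).eq.symm
    rwa [hCK, Subgroup.mem_bot] at hyC
  exfalso
  refine A.false_of_fused (M := M) ?_ hMtop fun s hs hs1 => ?_
  · intro c hc
    exact (hMmem c).mpr (hy c (Subgroup.mem_centralizer_singleton_iff.mp hc))
  · haveI := hE.isMulCommutative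
    obtain ⟨n, hn', hne⟩ := E8Solv.transitive hno T hE.1 τ hτ s hs hτ1 hs1
    exact ⟨n, ⟨hNM hn', hn'⟩, hne⟩

section Inf

variable {G : Type u} [Group G] [Finite G] (B : Base G) {t : G} {H : Subgroup G} {S : Sylow 2 G}

include B in
theorem inf_core_le (hns : ¬ Group.IsSolvable ↥(cT t)) (hH : H ≠ ⊤) (hSH : (S : Subgroup G) ≤ H)
    (ht : t ∈ (S : Subgroup G)) (ht1 : t ≠ 1) (hcov : Cov H t) : Ot t ⊓ H ≤ OC H := by
  classical
  haveI : Fact (Nat.Prime 2) := ⟨Nat.prime_two⟩
  have hE := B.e8.sylow S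
  have ht2 := hE.orderOf_eq_two ht ht1
  obtain ⟨C, g, b, c, hA⟩ := exists_adapted B ht2 hns ht
  obtain ⟨n, hnN, hnt, hnfix, -⟩ := hA.exists_k hE ht
  obtain ⟨k, hk, hkt, hkact⟩ := hcov.norm_lift hE hSH ht hnN hnt
  have hkfix : ∀ a ∈ (S : Subgroup G), k * a * k⁻¹ = a → a = 1 ∨ a = t := fun a ha h =>
    hnfix a ha ((hkact a ha).symm.trans h)
  have hnsH : ¬ Group.IsSolvable ↥(H ⊓ cT t) := by
    intro hs
    haveI := hs
    haveI : Group.IsSolvable (pPrimeCore 2 ↥(cT t)) :=
      Cfsg.Agent.S0205.result (Nat.coprime_two_right.mp (card_pPrimeCore_coprime 2))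
    haveI : Group.IsSolvable (CQ t) := Group.isSolvable_of_surjective
      (f := (br t).comp (Subgroup.inclusion (inf_le_right : H ⊓ cT t ≤ cT t))) (by
        intro z
        obtain ⟨x, rfl⟩ := bar_surjective 2 z
        obtain ⟨h, hh, hht, hho⟩ := hcov x (mem_cT.mp x.2)
        exact ⟨⟨h, hh, mem_cT.mpr hht⟩, br_eq.mpr hho⟩)
    exact hns (Group.isSolvable_of_ker_le_range (pPrimeCore 2 ↥(cT t)).subtype (br t)
      (by rw [QuotientGroup.ker_mk', Subgroup.range_subtype]))
  set X := Ot t ⊓ H with hX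
  have hXodd : Odd (Nat.card X) := Odd.of_dvd_nat (OC_odd _) (Subgroup.card_dvd_of_le inf_le_left)
  have hXn : ∀ h ∈ H, Commute h t → h ∈ Subgroup.normalizer (X : Set G) := fun h hh hht =>
    mem_normalizer_of_maps fun a ha => ⟨conj_Ot_mem hht ha.1, H.mul_mem (H.mul_mem hh ha.2) (H.inv_mem hh)⟩
  rcases fixed_or_trans hE (L := H ⊓ Subgroup.normalizer ((S : Subgroup G) : Set G))
    (le_inf hSH Subgroup.le_normalizer) inf_le_right ht ht1 hk hkfix
    (by rw [hkt.eq, mul_inv_cancel_right]) with hfix | htr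
  · -- `t` is central modulo the core
    have hXH : X ≤ Subgroup.normalizer (OC H : Set G) := inf_le_right.trans (OC_norm H)
    refine le_trans le_sup_right (le_OC (sup_le (OC_le H) (inf_le_right : X ≤ H)) (fun h hh => ?_) ?_)
    · have hz := isolated hE hSH ht ht1 hfix ⟨h, hh⟩
      have hz' : t * h * t⁻¹ * h⁻¹ ∈ OC H := ⟨_, hz, rfl⟩
      obtain ⟨w, hw, hwc⟩ := exists_fix (OC_odd H) (t := t) (y := h) (hE.2 t ht) (by
        have h' := inv_mem hz'
        rwa [show (t * h * t⁻¹ * h⁻¹)⁻¹ = h * t * h⁻¹ * t⁻¹ by group,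
          inv_eq_of_mul_eq_one_right (hE.2 t ht)] at h')
      have hwX : w ∈ Subgroup.normalizer ((OC H ⊔ X : Subgroup G) : Set G) :=
        Subgroup.le_normalizer (Subgroup.mem_sup_left hw)
      have hcX : w⁻¹ * h ∈ Subgroup.normalizer ((OC H ⊔ X : Subgroup G) : Set G) := by
        have hcH : w⁻¹ * h ∈ H := mul_mem (inv_mem (OC_le H hw)) hh
        exact mem_normalizer_of_maps fun a ha => (sup_le
          (fun z hz => Subgroup.mem_sup_left ((Subgroup.mem_normalizer_iff.mp (OC_norm H hcH) z).mp hz))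
          (fun z hz => Subgroup.mem_sup_right ((Subgroup.mem_normalizer_iff.mp (hXn _ hcH hwc) z).mp hz)) :
          OC H ⊔ X ≤ (OC H ⊔ X).comap (MulAut.conj (w⁻¹ * h)).toMonoidHom) ha
      simpa using mul_mem hwX hcX
    · exact Odd.of_dvd_nat ((OC_odd H).mul hXodd) (Dvd.intro _ (HallE8.card_sup_mul hXH))
  rcases trans_cases hE hSH htr with hN | ⟨K, hL⟩
  · -- then `H` is soluble
    exfalso
    apply hnsH
    let N : Subgroup ↥H := (Subgroup.normalizer ((S : Subgroup G) : Set G)).subgroupOf H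
    haveI : Group.IsSolvable (Subgroup.normalizer ((S : Subgroup G) : Set G)) := by
      let S' := (S : Subgroup G).subgroupOf (Subgroup.normalizer ((S : Subgroup G) : Set G))
      haveI : S'.Normal := Subgroup.normal_in_normalizer
      haveI : Group.IsSolvable S' := Group.isSolvable_of_comm fun a a' =>
        Subtype.ext (Subtype.ext (hE.comm a.2 a'.2))
      haveI : Group.IsSolvable (↥(Subgroup.normalizer ((S : Subgroup G) : Set G)) ⧸ S') :=
        Cfsg.Agent.S0205.result (by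
          rw [← Subgroup.index_eq_card]
          have h := (S.subtype (Subgroup.le_normalizer (H := (S : Subgroup G)))).not_dvd_index
          exact Nat.odd_iff.mpr (by
            have h' : ¬ 2 ∣ S'.index := h
            omega))
      exact Group.isSolvable_of_ker_le_range S'.subtype (QuotientGroup.mk' S')
        (by rw [QuotientGroup.ker_mk', Subgroup.range_subtype])
    haveI : Group.IsSolvable N := Group.isSolvable_of_isSolvable_injective
      (f := (H.subtype.comp N.subtype).codRestrict (Subgroup.normalizer ((S : Subgroup G) : Set G)) fun x => x.2)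
      fun a a' h => Subtype.ext (Subtype.ext (congrArg (fun z : ↥(Subgroup.normalizer ((S : Subgroup G) : Set G)) => (z : G)) h))
    haveI : Group.IsSolvable (↥H ⧸ pPrimeCore 2 ↥H) :=
      Group.isSolvable_of_surjective (f := (bar 2 ↥H).comp N.subtype) (by
        intro z
        obtain ⟨x, rfl⟩ := bar_surjective 2 z
        obtain ⟨o, ho, m, hm, e⟩ := hN x
        refine ⟨⟨m, hm⟩, ?_⟩
        show bar 2 ↥H m = bar 2 ↥H x
        rw [← e, map_mul, (QuotientGroup.eq_one_iff o).mpr ho |> fun h => (h : bar 2 ↥H o = 1), one_mul])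
    haveI : Group.IsSolvable (pPrimeCore 2 ↥H) :=
      Cfsg.Agent.S0205.result (Nat.coprime_two_right.mp (card_pPrimeCore_coprime 2))
    haveI : Group.IsSolvable ↥H := Group.isSolvable_of_ker_le_range (pPrimeCore 2 ↥H).subtype (bar 2 ↥H)
      (by rw [QuotientGroup.ker_mk', Subgroup.range_subtype])
    exact Group.isSolvable_of_isSolvable_injective (f := Subgroup.inclusion (inf_le_left : H ⊓ cT t ≤ H))
      (Subgroup.inclusion_injective _)
  -- a simple layer
  haveI := hL.normal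
  haveI := hL.simple
  have hsh := hL.shape B hH hSH ht ht1 hnsH
  set τ : ↥H ⧸ pPrimeCore 2 ↥H := bar 2 ↥H ⟨t, hSH ht⟩ with hτ
  set Y := (X.subgroupOf H).map (bar 2 ↥H) with hY
  have hYodd : Odd (Nat.card Y) := Odd.of_dvd_nat hXodd
    ((Subgroup.card_map_dvd _ _).trans (by rw [Nat.card_congr (Subgroup.subgroupOfEquivOfLe inf_le_right).toEquiv]))
  have hYc : ∀ z, Commute z τ → ∀ y ∈ Y, z * y * z⁻¹ ∈ Y := by
    intro z hz
    obtain ⟨h, rfl⟩ := bar_surjective 2 z
    obtain ⟨w, hw, hwc⟩ := exists_fix (OC_odd H) (t := t) (y := (h : G)) (hE.2 t ht)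
      ⟨h * ⟨t, hSH ht⟩ * h⁻¹ * ⟨t, hSH ht⟩, by
        refine (QuotientGroup.eq_one_iff _).mp ?_
        show bar 2 ↥H (h * ⟨t, hSH ht⟩ * h⁻¹ * ⟨t, hSH ht⟩) = 1
        rw [map_mul, map_mul, map_mul, map_inv, ← hτ, hz.eq, mul_inv_cancel_right, hτ, ← map_mul,
          show (⟨t, hSH ht⟩ : ↥H) * ⟨t, hSH ht⟩ = 1 from Subtype.ext (hE.2 t ht), map_one], rfl⟩
    have hwH : w ∈ H := OC_le H hw
    have hb : bar 2 ↥H (⟨w, hwH⟩⁻¹ * h) = bar 2 ↥H h := by
      obtain ⟨w', hw', e⟩ := hw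
      rw [map_mul, map_inv, show (⟨w, hwH⟩ : ↥H) = w' from Subtype.ext e.symm,
        show bar 2 ↥H w' = 1 from (QuotientGroup.eq_one_iff _).mpr hw', inv_one, one_mul]
    rintro _ ⟨x, hx, rfl⟩
    rw [← hb, ← map_inv, ← map_mul, ← map_mul]
    refine Subgroup.mem_map_of_mem _ ?_
    exact (Subgroup.mem_normalizer_iff.mp (hXn _ (mul_mem (inv_mem hwH) h.2) hwc) _).mp hx
  have hYτ : ∀ y ∈ Y, Commute y τ := by
    rintro _ ⟨x, hx, rfl⟩
    exact (show Commute x (⟨t, hSH ht⟩ : ↥H) from Subtype.ext (mem_cT.mp (Ot_le t hx.1)).eq).map (bar 2 ↥H)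
  -- its part in the layer
  set τK : ↥K := ⟨τ, hL.tbar_mem hSH ht⟩
  set CK := Subgroup.centralizer ({τK} : Set ↥K)
  set Z := (Y.comap K.subtype).subgroupOf CK with hZ
  have hYK : ∀ z ∈ Y, z ∈ K → z = 1 := by
    obtain ⟨F, i1, i2, hodd, h3, -, ⟨e⟩⟩ := hsh.card
    haveI : Z.Normal := ⟨fun z hz x => hYc _ (congrArg Subtype.val (Subgroup.mem_centralizer_singleton_iff.mp x.2)) _ hz⟩
    have hZb : Z = ⊥ := by
      refine odd_normal_prod hodd h3 e (Odd.of_dvd_nat hYodd ?_)
      rw [← Subgroup.card_map_of_injective (f := K.subtype.comp CK.subtype) (K := Z)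
        ((Subgroup.subtype_injective K).comp (Subgroup.subtype_injective CK))]
      refine Subgroup.card_dvd_of_le ?_
      rintro _ ⟨x, hx, rfl⟩
      exact hx
    intro z hz hzK
    have hzC : (⟨z, hzK⟩ : ↥K) ∈ CK := Subgroup.mem_centralizer_singleton_iff.mpr (Subtype.ext (hYτ z hz).eq)
    have : (⟨⟨z, hzK⟩, hzC⟩ : ↥CK) ∈ Z := hz
    rw [hZb, Subgroup.mem_bot] at this
    exact congrArg (fun w : ↥CK => ((w : ↥K) : ↥H ⧸ pPrimeCore 2 ↥H)) this
  have hτne : τK ≠ 1 := fun e => ht1 (congrArg Subtype.val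
    (bar_inj hE hSH (a := (⟨t, hSH ht⟩ : ↥H)) ht (congrArg Subtype.val e)))
  obtain ⟨T, hT⟩ := exists_mem_sylow (u := τK) (orderOf_eq_prime
    (Subtype.ext (by
      show τ ^ 2 = 1
      rw [pow_two, hτ, ← map_mul, show (⟨t, hSH ht⟩ : ↥H) * ⟨t, hSH ht⟩ = 1 from Subtype.ext (hE.2 t ht), map_one]))
    hτne)
  intro x hx
  have hxY : bar 2 ↥H ⟨x, hx.2⟩ ∈ Y := ⟨⟨x, hx.2⟩, hx, rfl⟩
  refine ⟨⟨x, hx.2⟩, (QuotientGroup.eq_one_iff _).mp ?_, rfl⟩
  refine out_trivial hL.cent T (hL.e8 T) hT hτne hsh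
    (Odd.of_dvd_nat hYodd (Subgroup.orderOf_dvd_natCard Y hxY)) fun k hk => ?_
  set y := bar 2 ↥H ⟨x, hx.2⟩
  have hkτ : Commute (k : ↥H ⧸ pPrimeCore 2 ↥H) τ := congrArg Subtype.val hk.eq
  have h1 : y * k * y⁻¹ * (k : ↥H ⧸ pPrimeCore 2 ↥H)⁻¹ ∈ Y := by
    rw [show y * k * y⁻¹ * (k : ↥H ⧸ pPrimeCore 2 ↥H)⁻¹ = y * (k * y⁻¹ * (k : ↥H ⧸ pPrimeCore 2 ↥H)⁻¹) by group]
    exact Y.mul_mem hxY (hYc _ hkτ _ (Y.inv_mem hxY))
  have h2 := hYK _ h1 (K.mul_mem (hL.normal.conj_mem _ k.2 y) (K.inv_mem k.2))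
  exact mul_inv_eq_iff_eq_mul.mp (mul_inv_eq_one.mp h2)

end Inf

end CfsgLib.Walter
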