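import Cfsg.Agent.Lib.Walter.Model
import Cfsg.Agent.Lib.PairSol.Local
import Cfsg.Agent.Lib.PairsSylow.Main
import Cfsg.Agent.Lib.HallE8.Core

/-!
Cores of involution centralisers, subgroups covering a centraliser modulo its core, and coordinates adapted to a
Sylow subgroup.

Blueprint: `blueprint/Walter.md`, G1.
-/

set_option autoImplicit false
set_option linter.unusedSectionVars false
set_option linter.style.haveILetI false

namespace CfsgLib.Walter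

open Cfsg CfsgLib.Comp
open CfsgLib.PSL2 (fieldAut)
open scoped commutatorElement

universe u

variable {G : Type u} [Group G] [Finite G]

/-- The centraliser of an element. -/
abbrev cT (t : G) : Subgroup G := Subgroup.centralizer ({t} : Set G)

/-- `O(H)` inside `G`. -/
abbrev OC (H : Subgroup G) : Subgroup G := PairSol.coreIn 2 H

/-- `O(C(t))`. -/
abbrev Ot (t : G) : Subgroup G := OC (cT t)

theorem mem_cT {t x : G} : x ∈ cT t ↔ Commute x t := Subgroup.mem_centralizer_singleton_iff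

theorem OC_le (H : Subgroup G) : OC H ≤ H := PairSol.coreIn_le H

theorem OC_odd (H : Subgroup G) : Odd (Nat.card (OC H)) :=
  haveI : Fact (Nat.Prime 2) := ⟨Nat.prime_two⟩
  Nat.coprime_two_right.mp (PairSol.card_coreIn H)

theorem OC_norm (H : Subgroup G) : H ≤ Subgroup.normalizer (OC H : Set G) :=
  haveI : Fact (Nat.Prime 2) := ⟨Nat.prime_two⟩
  PairSol.le_normalizer_coreIn H

theorem le_OC {H K : Subgroup G} (hKH : K ≤ H) (hn : H ≤ Subgroup.normalizer (K : Set G))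
    (hodd : Odd (Nat.card K)) : K ≤ OC H :=
  haveI : Fact (Nat.Prime 2) := ⟨Nat.prime_two⟩
  PairSol.le_coreIn hKH hn (Nat.coprime_two_right.mpr hodd)

theorem Ot_le (t : G) : Ot t ≤ cT t := OC_le _

theorem conj_Ot_mem {t g x : G} (hg : Commute g t) (hx : x ∈ Ot t) : g * x * g⁻¹ ∈ Ot t :=
  (Subgroup.mem_normalizer_iff.mp (OC_norm _ (mem_cT.mpr hg)) x).mp hx

theorem map_conj_le_Ot (g t : G) : (Ot t).map (MulAut.conj g).toMonoidHom ≤ Ot (g * t * g⁻¹) := by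
  refine le_OC ?_ ?_ ?_
  · rintro _ ⟨x, hx, rfl⟩
    exact mem_cT.mpr ((mem_cT.mp (Ot_le t hx)).map (MulAut.conj g).toMonoidHom)
  · intro c hc
    refine mem_normalizer_of_maps ?_
    rintro _ ⟨x, hx, rfl⟩
    have h1 : Commute (g⁻¹ * c * g) t := by
      have h := (mem_cT.mp hc).map (MulAut.conj g⁻¹).toMonoidHom
      simp only [MulEquiv.coe_toMonoidHom, MulAut.conj_apply, inv_inv] at h
      rwa [show g⁻¹ * (g * t * g⁻¹) * g = t by group] at h
    exact ⟨_, conj_Ot_mem h1 hx, by simp only [MulEquiv.coe_toMonoidHom, MulAut.conj_apply]; group⟩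
  · rw [Subgroup.card_map_of_injective (MulAut.conj g).injective]
    exact OC_odd _

theorem conj_mem_Ot (g : G) {t x : G} (hx : x ∈ Ot t) : g * x * g⁻¹ ∈ Ot (g * t * g⁻¹) :=
  map_conj_le_Ot g t ⟨x, hx, rfl⟩

/-- A subgroup of odd order meets a Sylow two-subgroup trivially. -/
theorem eq_one_of_odd_sylow {E : Subgroup G} (hE : Odd (Nat.card E)) {S : Sylow 2 G} {x : G} (hx : x ∈ E)
    (hxS : x ∈ (S : Subgroup G)) : x = 1 := by
  haveI : Fact (Nat.Prime 2) := ⟨Nat.prime_two⟩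
  obtain ⟨k, hk⟩ := IsPGroup.iff_orderOf.mp S.2 ⟨x, hxS⟩
  rw [Subgroup.orderOf_mk] at hk
  exact eq_one_of_odd_of_two_pow (Odd.of_dvd_nat hE (Subgroup.orderOf_dvd_natCard E hx))
    (by rw [← hk, pow_orderOf_eq_one])

/-- An element fixing an involution modulo a subgroup of odd order can be corrected to commute with it. -/
theorem exists_fix {E : Subgroup G} (hE : Odd (Nat.card E)) {t y : G} (ht : t * t = 1)
    (h : y * t * y⁻¹ * t ∈ E) : ∃ w ∈ E, Commute (w⁻¹ * y) t := by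
  set z := y * t * y⁻¹ * t with hz
  obtain ⟨m, hm⟩ := Odd.of_dvd_nat hE (Subgroup.orderOf_dvd_natCard E h)
  have hinv : t⁻¹ = t := inv_eq_of_mul_eq_one_right ht
  have htz : t * z * t⁻¹ = z⁻¹ := by
    rw [hz, hinv, _root_.mul_inv_rev, _root_.mul_inv_rev, _root_.mul_inv_rev, inv_inv, hinv]
    calc t * (y * t * y⁻¹ * t) * t = t * (y * t * y⁻¹) * (t * t) := by group
      _ = t * (y * (t * y⁻¹)) := by rw [ht]; group
  set w := z ^ (m + 1) with hw
  have hww : w * w = z := by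
    rw [hw, ← pow_add, show m + 1 + (m + 1) = (2 * m + 1) + 1 by ring, pow_succ, ← hm, pow_orderOf_eq_one, one_mul]
  have htw : t * w * t = w⁻¹ := by
    have := conj_pow (a := t) (b := z) (i := m + 1)
    rw [htz, inv_pow, ← hw, hinv] at this
    exact this.symm
  refine ⟨w, pow_mem h _, ?_⟩
  have h1 : w * t * w⁻¹ = z * t := by
    rw [← htw]
    calc w * t * (t * w * t) = w * (t * t) * w * t := by group
      _ = z * t := by rw [ht, mul_one, hww]
  have h2 : y * t * y⁻¹ = z * t := by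
    rw [hz, mul_assoc _ t t, ht, mul_one]
  show w⁻¹ * y * t = t * (w⁻¹ * y)
  calc w⁻¹ * y * t = w⁻¹ * (y * t * y⁻¹) * y := by group
    _ = w⁻¹ * (w * t * w⁻¹) * y := by rw [h1, h2]
    _ = t * (w⁻¹ * y) := by group

/-- `H` covers `C(t)` modulo its core. -/
def Cov (H : Subgroup G) (t : G) : Prop :=
  ∀ g, Commute g t → ∃ h ∈ H, Commute h t ∧ h⁻¹ * g ∈ Ot t

theorem Cov.mono {H K : Subgroup G} {t : G} (h : Cov H t) (hK : H ≤ K) : Cov K t := fun g hg => by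
  obtain ⟨x, hx, h1, h2⟩ := h g hg
  exact ⟨x, hK hx, h1, h2⟩

/-- Covering transports along conjugation. -/
theorem Cov.conj {H : Subgroup G} {t n : G} (h : Cov H t) (hn : n ∈ H) : Cov H (n * t * n⁻¹) := by
  intro g hg
  have h1 : Commute (n⁻¹ * g * n) t := by
    have h' := hg.map (MulAut.conj n⁻¹).toMonoidHom
    simp only [MulEquiv.coe_toMonoidHom, MulAut.conj_apply, inv_inv] at h'
    rwa [show n⁻¹ * (n * t * n⁻¹) * n = t by group] at h'
  obtain ⟨x, hx, hxt, hxo⟩ := h _ h1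
  refine ⟨n * x * n⁻¹, mul_mem (mul_mem hn hx) (inv_mem hn), hxt.map (MulAut.conj n).toMonoidHom, ?_⟩
  have := conj_mem_Ot n hxo
  rwa [show n * (x⁻¹ * (n⁻¹ * g * n)) * n⁻¹ = (n * x * n⁻¹)⁻¹ * g by group] at this

section Cov

variable {t : G} {H : Subgroup G}

theorem core_inf_le (hcov : Cov H t) : OC H ⊓ cT t ≤ Ot t := by
  set A := OC H ⊓ cT t with hA
  have hA2 : A ≤ cT t := inf_le_right
  have hAn : A ≤ Subgroup.normalizer (Ot t : Set G) := hA2.trans (OC_norm _)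
  refine le_trans le_sup_right (le_OC (sup_le (Ot_le t) hA2) (fun g hg => ?_) ?_)
  · obtain ⟨x, hx, hxt, hxo⟩ := hcov g (mem_cT.mp hg)
    have hxA : x ∈ Subgroup.normalizer (A : Set G) := by
      refine mem_normalizer_of_maps fun a ha => ⟨?_, ?_⟩
      · exact (Subgroup.mem_normalizer_iff.mp (OC_norm H hx) a).mp ha.1
      · exact (cT t).mul_mem ((cT t).mul_mem (mem_cT.mpr hxt) ha.2) ((cT t).inv_mem (mem_cT.mpr hxt))
    have hxX : x ∈ Subgroup.normalizer ((Ot t ⊔ A : Subgroup G) : Set G) :=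
      mem_normalizer_of_maps fun a ha => (sup_le
        (fun z hz => Subgroup.mem_sup_left (conj_Ot_mem hxt hz))
        (fun z hz => Subgroup.mem_sup_right ((Subgroup.mem_normalizer_iff.mp hxA z).mp hz)) :
        Ot t ⊔ A ≤ (Ot t ⊔ A).comap (MulAut.conj x).toMonoidHom) ha
    have : x⁻¹ * g ∈ Subgroup.normalizer ((Ot t ⊔ A : Subgroup G) : Set G) :=
      Subgroup.le_normalizer (Subgroup.mem_sup_left hxo)
    simpa using mul_mem hxX this
  · have h := HallE8.card_sup_mul hAn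
    exact Odd.of_dvd_nat ((OC_odd (cT t)).mul (Odd.of_dvd_nat (OC_odd H) (Subgroup.card_dvd_of_le inf_le_left)))
      (Dvd.intro _ h)

/-- An element of the normaliser of `S` in `C(t)` agrees on `S` with one of a covering subgroup. -/
theorem Cov.norm_lift (hcov : Cov H t) {S : Sylow 2 G} (hE : E8 (S : Subgroup G)) (hSH : (S : Subgroup G) ≤ H)
    (ht : t ∈ (S : Subgroup G)) {n : G} (hn : n ∈ Subgroup.normalizer ((S : Subgroup G) : Set G))
    (hnt : Commute n t) :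
    ∃ k ∈ H ⊓ Subgroup.normalizer ((S : Subgroup G) : Set G), Commute k t ∧
      ∀ s ∈ (S : Subgroup G), k * s * k⁻¹ = n * s * n⁻¹ := by
  haveI : Fact (Nat.Prime 2) := ⟨Nat.prime_two⟩
  obtain ⟨h, hh, hht, hho⟩ := hcov n hnt
  set o := h⁻¹ * n with ho
  -- the conjugate of `S` by `h` inside `(H ∩ O_t) S`
  set E := H ⊓ Ot t with hEdef
  have hSn : (S : Subgroup G) ≤ Subgroup.normalizer (E : Set G) := fun s hs => by
    refine mem_normalizer_of_maps fun a ha => ⟨H.mul_mem (H.mul_mem (hSH hs) ha.1) (H.inv_mem (hSH hs)), ?_⟩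
    exact conj_Ot_mem (hE.comm hs ht) ha.2
  have hEodd : Odd (Nat.card E) := Odd.of_dvd_nat (OC_odd _) (Subgroup.card_dvd_of_le inf_le_right)
  set X := E ⊔ (S : Subgroup G) with hX
  have hmem : ∀ s ∈ (S : Subgroup G), h * s * h⁻¹ ∈ X := by
    intro s hs
    have hs' : n * s * n⁻¹ ∈ (S : Subgroup G) := (Subgroup.mem_normalizer_iff.mp hn s).mp hs
    have e1 : h * s * h⁻¹ * (n * s * n⁻¹)⁻¹ = (h * (s * o * s⁻¹) * h⁻¹) * (h * o⁻¹ * h⁻¹) := by
      rw [ho]; group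
    have hin : h * s * h⁻¹ * (n * s * n⁻¹)⁻¹ ∈ E := by
      refine ⟨H.mul_mem (H.mul_mem (H.mul_mem hh (hSH hs)) (H.inv_mem hh)) (H.inv_mem (hSH hs')), ?_⟩
      rw [e1]
      exact mul_mem (conj_Ot_mem hht (conj_Ot_mem (hE.comm hs ht) hho))
        (conj_Ot_mem hht (inv_mem hho))
    have := mul_mem (Subgroup.mem_sup_left (T := (S : Subgroup G)) hin) (Subgroup.mem_sup_right (S := E) hs')
    rwa [inv_mul_cancel_right] at this
  let P : Sylow 2 X := S.subtype le_sup_right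
  have hQp : IsPGroup 2 (((S : Subgroup G).map (MulAut.conj h).toMonoidHom).subgroupOf X) :=
    (S.2.map _).comap_of_injective X.subtype X.subtype_injective
  obtain ⟨Q, hQ⟩ := hQp.exists_le_sylow
  obtain ⟨c, hc⟩ := MulAction.exists_smul_eq X Q P
  obtain ⟨e, he, s0, hs0, hes⟩ : ∃ e ∈ E, ∃ s ∈ (S : Subgroup G), s * e = (c : G) := by
    have hc' : (c : G) ∈ (S : Subgroup G) ⊔ E := by rw [sup_comm]; exact c.2
    obtain ⟨a, ha, b, hb, e⟩ := CfsgLib.mem_sup_of_le_normalizer hSn (x := (c : G)⁻¹) (inv_mem c.2)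
    exact ⟨a⁻¹, inv_mem ha, b⁻¹, inv_mem hb, by rw [← _root_.mul_inv_rev, e, inv_inv]⟩
  have hck : ∀ s ∈ (S : Subgroup G), e * h * s * (e * h)⁻¹ ∈ (S : Subgroup G) := by
    intro s hs
    have h1 : c * ⟨h * s * h⁻¹, hmem s hs⟩ * c⁻¹ ∈ ((c • Q : Sylow 2 X) : Subgroup X) := by
      rw [Sylow.coe_subgroup_smul]
      exact ⟨_, hQ (⟨s, hs, rfl⟩ : h * s * h⁻¹ ∈ (S : Subgroup G).map (MulAut.conj h).toMonoidHom), rfl⟩
    rw [hc] at h1
    have h2 : (c : G) * (h * s * h⁻¹) * (c : G)⁻¹ ∈ (S : Subgroup G) := h1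
    rw [← hes] at h2
    have h3 := mul_mem (mul_mem (inv_mem hs0) h2) hs0
    convert h3 using 1
    group
  have hkN : e * h ∈ Subgroup.normalizer ((S : Subgroup G) : Set G) := mem_normalizer_of_maps hck
  refine ⟨e * h, ⟨mul_mem he.1 hh, hkN⟩, (mem_cT.mp (Ot_le t he.2)).mul_left hht, fun s hs => ?_⟩
  -- the two actions agree
  set a := (e * h)⁻¹ * n with ha
  have haN : a ∈ Subgroup.normalizer ((S : Subgroup G) : Set G) := mul_mem (inv_mem hkN) hn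
  have haO : a ∈ Ot t := by
    rw [ha, show (e * h)⁻¹ * n = (h⁻¹ * e⁻¹ * h⁻¹⁻¹) * o by rw [ho]; group]
    exact mul_mem (conj_Ot_mem hht.inv_left (inv_mem he.2)) hho
  have h1 : a * s * a⁻¹ * s⁻¹ = 1 := by
    refine eq_one_of_odd_sylow (OC_odd (cT t)) ?_
      (mul_mem ((Subgroup.mem_normalizer_iff.mp haN s).mp hs) (inv_mem hs))
    rw [show a * s * a⁻¹ * s⁻¹ = a * (s * a⁻¹ * s⁻¹) by group]
    exact mul_mem haO (conj_Ot_mem (hE.comm hs ht) (inv_mem haO))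
  rw [mul_inv_eq_one] at h1
  calc e * h * s * (e * h)⁻¹ = e * h * (a * s * a⁻¹) * (e * h)⁻¹ := by rw [h1]
    _ = n * s * n⁻¹ := by rw [ha]; group

end Cov

/-- The quotient `C(t)/O_t`. -/
abbrev CQ (t : G) : Type u := ↥(cT t) ⧸ pPrimeCore 2 ↥(cT t)

/-- The canonical map. -/
abbrev br (t : G) : ↥(cT t) →* CQ t := bar 2 ↥(cT t)

theorem br_eq_one {t : G} {x : ↥(cT t)} : br t x = 1 ↔ (x : G) ∈ Ot t :=
  (QuotientGroup.eq_one_iff x).trans
    ⟨fun h => ⟨x, h, rfl⟩, fun ⟨y, hy, e⟩ => (Subtype.ext e : y = x) ▸ hy⟩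

theorem br_eq {t : G} {x y : ↥(cT t)} : br t x = br t y ↔ (x : G)⁻¹ * y ∈ Ot t := by
  rw [show (x : G)⁻¹ * y = ((x⁻¹ * y : ↥(cT t)) : G) from rfl, ← br_eq_one, map_mul, map_inv, inv_mul_eq_one]

/-- The product `⟨t⟩ × L` is direct. -/
theorem Coord.unique_two {X : Type u} [Group X] (C : Coord X) {i j : Fin 2}
    {v w : Matrix.ProjectiveSpecialLinearGroup (Fin 2) C.F}
    (h : C.t ^ (i : ℕ) * C.ι v = C.t ^ (j : ℕ) * C.ι w) : i = j ∧ v = w := by
  fin_cases i <;> fin_cases j <;> simp only [pow_zero, pow_one, one_mul] at h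
  · exact ⟨rfl, C.ι_inj h⟩
  · exact absurd (by rw [map_mul, map_inv, h, mul_inv_cancel_right] : C.ι (v * w⁻¹) = C.t) (C.ι_ne_t _)
  · exact absurd (by rw [map_mul, map_inv, ← h, mul_inv_cancel_right] : C.ι (w * v⁻¹) = C.t) (C.ι_ne_t _)
  · exact ⟨rfl, C.ι_inj (mul_left_cancel h)⟩

/-- Coordinates in `C(t)/O_t` in which the image of `S` is `⟨t⟩` times the fixed four-group. -/
structure Adapted {t : G} (S : Sylow 2 G) (C : Coord (CQ t))
    (g b c : Matrix.ProjectiveSpecialLinearGroup (Fin 2) C.F) : Prop where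
  t_eq : C.t = br t ⟨t, mem_cT.mpr (Commute.refl t)⟩
  a4 : IsA4 g b c
  fixed : ∀ e : RingAut C.F, fieldAut e g = g ∧ fieldAut e b = b ∧ fieldAut e c = c
  le : (S : Subgroup G) ≤ cT t
  form : ∀ x (hx : x ∈ (S : Subgroup G)), ∃ (i : Fin 2) (v : Matrix.ProjectiveSpecialLinearGroup (Fin 2) C.F),
    br t ⟨x, le hx⟩ = C.t ^ (i : ℕ) * C.ι v ∧ (v = 1 ∨ v = b ∨ v = c ∨ v = b * c)
  surj : ∀ (i : Fin 2) v, (v = 1 ∨ v = b ∨ v = c ∨ v = b * c) →
    ∃ x, ∃ hx : x ∈ (S : Subgroup G), br t ⟨x, le hx⟩ = C.t ^ (i : ℕ) * C.ι v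

theorem exists_adapted (B : Base G) {t : G} (ht : orderOf t = 2) (hns : ¬ Group.IsSolvable ↥(cT t))
    {S : Sylow 2 G} (htS : t ∈ (S : Subgroup G)) : ∃ C g b c, Adapted S (t := t) C g b c := by
  classical
  haveI : Fact (Nat.Prime 2) := ⟨Nat.prime_two⟩
  have hE := B.e8.sylow S
  have hle : (S : Subgroup G) ≤ cT t := fun s hs => mem_cT.mpr (hE.comm hs htS)
  obtain ⟨C, hC⟩ := exists_coord_quot B ht hns
  obtain ⟨g, b, c, hA, hfix⟩ := exists_fixed_A4 (F := C.F) C.two_ne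
  obtain ⟨-, hσb, hσc⟩ := hfix C.σ
  obtain ⟨T, hT, hT8⟩ := exists_bar_sylow hE hle
  -- the fixed Sylow subgroup
  let four := PSL2Klein.four b c hA.bb hA.cc hA.comm
  have hVp : IsPGroup 2 (four.map C.ι) := (IsPGroup.of_card (n := 2)
    ((PSL2Klein.four_klein hA.bb hA.cc hA.comm hA.b1 hA.c1 hA.bc).card_four)).map _
  have hWp : IsPGroup 2 ↥(four.map C.ι ⊔ Subgroup.zpowers C.t) := by
    refine IsPGroup.to_sup_of_normal_right' hVp
      (IsPGroup.of_card (n := 1) (by rw [Nat.card_zpowers, C.t_ord, pow_one])) ?_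
    rintro _ ⟨v, -, rfl⟩
    refine Subgroup.centralizer_le_normalizer _ ?_
    rintro _ ⟨k, rfl⟩
    exact ((C.t_ι v).zpow_left k).eq
  obtain ⟨R, hR⟩ := hWp.exists_le_sylow
  obtain ⟨y, hy⟩ := MulAction.exists_smul_eq (CQ t) R T
  have htc : ∀ z : CQ t, Commute z C.t := by
    intro z
    obtain ⟨z, rfl⟩ := bar_surjective 2 z
    rw [hC]
    exact (show Commute z (⟨t, _⟩ : ↥(cT t)) from Subtype.ext (mem_cT.mp z.2).eq).map (bar 2 ↥(cT t))
  have hyt : (MulAut.conj y).toMonoidHom C.t = C.t := by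
    show y * C.t * y⁻¹ = C.t
    rw [(htc y).eq, mul_inv_cancel_right]
  let C' : Coord (CQ t) := C.push (MulAut.conj y).toMonoidHom (MulAut.conj y).injective
    fun z _ => ⟨y⁻¹ * z * y, by simp [mul_assoc]⟩
  have ht' : C'.t = br t ⟨t, mem_cT.mpr (Commute.refl t)⟩ := hyt.trans hC
  have hmemT : ∀ (i : Fin 2) v, (v = 1 ∨ v = b ∨ v = c ∨ v = b * c) →
      C'.t ^ (i : ℕ) * C'.ι v ∈ (T : Subgroup (CQ t)) := by
    intro i v hv
    have h1 : C.t ^ (i : ℕ) * C.ι v ∈ (R : Subgroup (CQ t)) :=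
      hR (mul_mem (pow_mem (Subgroup.mem_sup_right (Subgroup.mem_zpowers _)) _)
        (Subgroup.mem_sup_left ⟨v, hv, rfl⟩))
    rw [← hy, Sylow.coe_subgroup_smul]
    refine ⟨_, h1, ?_⟩
    show y * (C.t ^ (i : ℕ) * C.ι v) * y⁻¹ = (y * C.t * y⁻¹) ^ (i : ℕ) * (y * C.ι v * y⁻¹)
    rw [conj_pow]; group
  let f : Fin 2 × four → ↥(T : Subgroup (CQ t)) := fun p =>
    ⟨C'.t ^ (p.1 : ℕ) * C'.ι p.2.1, hmemT p.1 _ p.2.2⟩
  have hf : Function.Injective f := by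
    rintro ⟨i, v⟩ ⟨j, w⟩ h
    have h' : C'.t ^ (i : ℕ) * C'.ι v.1 = C'.t ^ (j : ℕ) * C'.ι w.1 := congrArg Subtype.val h
    obtain ⟨h0, h1⟩ := C'.unique_two h'
    exact Prod.ext h0 (Subtype.ext h1)
  have hbij := hf.bijective_of_nat_card_le (by
    rw [hT8.1, Nat.card_prod, (PSL2Klein.four_klein hA.bb hA.cc hA.comm hA.b1 hA.c1 hA.bc).card_four]
    simp)
  refine ⟨C', g, b, c, ht', hA, hfix, hle, fun x hx => ?_, fun i v hv => ?_⟩
  · have hxT : br t ⟨x, hle hx⟩ ∈ (T : Subgroup (CQ t)) := hT ▸ ⟨⟨x, hle hx⟩, hx, rfl⟩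
    obtain ⟨⟨i, v⟩, hp⟩ := hbij.2 ⟨_, hxT⟩
    exact ⟨i, v.1, (congrArg Subtype.val hp).symm, v.2⟩
  · have h := hmemT i v hv
    rw [hT] at h
    obtain ⟨x, hx, e⟩ := h
    exact ⟨x, hx, e⟩

namespace Adapted

variable {t : G} {S : Sylow 2 G} {C : Coord (CQ t)}
  {g b c : Matrix.ProjectiveSpecialLinearGroup (Fin 2) C.F} (A : Adapted S C g b c) (hE : E8 (S : Subgroup G))
include A hE

theorem gbc : g * (b * c) * g⁻¹ = b := by
  rw [show g * (b * c) * g⁻¹ = (g * b * g⁻¹) * (g * c * g⁻¹) by group, A.a4.gb, A.a4.gc, A.a4.comm,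
    ← mul_assoc, A.a4.cc, one_mul]

/-- The four-group is cycled. -/
theorem g_four {v : Matrix.ProjectiveSpecialLinearGroup (Fin 2) C.F} (hv : v = 1 ∨ v = b ∨ v = c ∨ v = b * c) :
    (g * v * g⁻¹ = 1 ∨ g * v * g⁻¹ = b ∨ g * v * g⁻¹ = c ∨ g * v * g⁻¹ = b * c) ∧ (g * v * g⁻¹ = v → v = 1) := by
  rcases hv with rfl | rfl | rfl | rfl
  · simp
  · rw [A.a4.gb]
    exact ⟨Or.inr (Or.inr (Or.inl rfl)), fun h => absurd h.symm A.a4.bc⟩
  · rw [A.a4.gc]
    exact ⟨Or.inr (Or.inr (Or.inr rfl)), fun h => absurd (mul_eq_right.mp h) A.a4.b1⟩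
  · rw [A.gbc hE]
    exact ⟨Or.inr (Or.inl rfl), fun h => absurd (mul_eq_left.mp h.symm) A.a4.c1⟩

/-- An element of `C(t) ∩ N(S)` inducing the cycle. -/
theorem exists_k (ht : t ∈ (S : Subgroup G)) :
    ∃ n ∈ Subgroup.normalizer ((S : Subgroup G) : Set G), Commute n t ∧
      (∀ a ∈ (S : Subgroup G), n * a * n⁻¹ = a → a = 1 ∨ a = t) ∧
      ∀ x (hx : x ∈ (S : Subgroup G)), ∀ (i : Fin 2) (v : Matrix.ProjectiveSpecialLinearGroup (Fin 2) C.F),
        br t ⟨x, A.le hx⟩ = C.t ^ (i : ℕ) * C.ι v →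
          ∀ hx' : n * x * n⁻¹ ∈ (S : Subgroup G),
            br t ⟨n * x * n⁻¹, A.le hx'⟩ = C.t ^ (i : ℕ) * C.ι (g * v * g⁻¹) := by
  haveI : Fact (Nat.Prime 2) := ⟨Nat.prime_two⟩
  obtain ⟨y, hy⟩ := bar_surjective 2 (C.ι g)
  have hkconj : ∀ (i : Fin 2) v, C.ι g * (C.t ^ (i : ℕ) * C.ι v) * (C.ι g)⁻¹ = C.t ^ (i : ℕ) * C.ι (g * v * g⁻¹) := by
    intro i v
    rw [map_mul, map_mul, map_inv, ← mul_assoc, ((C.t_ι g).symm.pow_right (i : ℕ)).eq]
    group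
  obtain ⟨n, hn, hne⟩ := exists_centralizing_lift
    (IsPGroup.of_equiv S.2 (Subgroup.subgroupOfEquivOfLe A.le).symm) y (by
      rw [hy]
      refine mem_normalizer_of_maps ?_
      rintro _ ⟨x, hx, rfl⟩
      obtain ⟨i, v, e, hv⟩ := A.form x hx
      obtain ⟨x', hx', e'⟩ := A.surj i _ (A.g_four hE hv).1
      exact ⟨⟨x', A.le hx'⟩, hx', by rw [e', ← hkconj, ← e]⟩)
  have hnN : (n : G) ∈ Subgroup.normalizer ((S : Subgroup G) : Set G) := mem_normalizer_of_maps fun x hx =>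
    (Subgroup.mem_normalizer_iff.mp hn ⟨x, A.le hx⟩).mp hx
  have hact : ∀ x (hx : x ∈ (S : Subgroup G)), ∀ (i : Fin 2) v, br t ⟨x, A.le hx⟩ = C.t ^ (i : ℕ) * C.ι v →
      ∀ hx' : (n : G) * x * (n : G)⁻¹ ∈ (S : Subgroup G),
        br t ⟨(n : G) * x * (n : G)⁻¹, A.le hx'⟩ = C.t ^ (i : ℕ) * C.ι (g * v * g⁻¹) := by
    intro x hx i v e hx'
    rw [← hkconj, ← hy, ← hne, ← e, ← map_inv, ← map_mul, ← map_mul]
    rfl
  refine ⟨n, hnN, mem_cT.mp n.2, fun a ha hfix => ?_, hact⟩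
  obtain ⟨i, v, e, hv⟩ := A.form a ha
  have h1 := hact a ha i v e ((Subgroup.mem_normalizer_iff.mp hnN a).mp ha)
  have h2 : br t ⟨a, A.le ha⟩ = C.t ^ (i : ℕ) * C.ι (g * v * g⁻¹) := by
    rw [← h1]; exact congrArg _ (Subtype.ext hfix.symm)
  rw [e] at h2
  have hv1 := (A.g_four hE hv).2 (C.ι_inj (mul_left_cancel h2)).symm
  rw [hv1, map_one, mul_one] at e
  fin_cases i
  · simp only [pow_zero] at e
    exact Or.inl (congrArg Subtype.val (bar_inj hE A.le (a := ⟨a, A.le ha⟩) ha e))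
  · simp only [pow_one] at e
    rw [A.t_eq] at e
    refine Or.inr ?_
    have h3 := bar_inj hE A.le (a := (⟨a, A.le ha⟩ : ↥(cT t))⁻¹ * ⟨t, mem_cT.mpr (Commute.refl t)⟩)
      (mul_mem (inv_mem ha) ht) (by rw [map_mul, map_inv, inv_mul_eq_one]; exact e)
    exact inv_mul_eq_one.mp (congrArg Subtype.val h3)

end Adapted

end CfsgLib.Walter
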