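import Cfsg.Agent.Lib.Walter.CoreInf
import Cfsg.Agent.Lib.HallE8.Control
import Cfsg.Agent.Lib.HallE8.Strong

/-!
For an odd prime at which `O(C(t))` is not centralised by the Sylow two-subgroup: a local subgroup `N(ZJ(R))`,
`R` Sylow, covering `C(t)` modulo its core.

Blueprint: `blueprint/Walter.md`, G1 (1).
-/

set_option autoImplicit false
set_option linter.unusedSectionVars false
set_option linter.style.haveILetI false

namespace CfsgLib.Walter

open Cfsg CfsgLib.Comp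
open CfsgLib.PSL2 (fieldAut)
open scoped Pointwise

universe u

/-- A group with Sylow two-subgroups of order at most two. -/
theorem two_small {X : Type u} [Group X] [Finite X] (R : Sylow 2 X) (h : Nat.card (R : Subgroup X) ≤ 2) :
    Group.IsSolvable X ∧ pPrimeCore 2 X ⊔ (R : Subgroup X) = ⊤ := by
  haveI : Fact (Nat.Prime 2) := ⟨Nat.prime_two⟩
  have huniq : ∀ a ∈ (R : Subgroup X), ∀ b ∈ (R : Subgroup X), a ≠ 1 → b ≠ 1 → a = b := by
    intro a ha b hb ha1 hb1
    by_contra hne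
    let f : Fin 3 → (R : Subgroup X) := ![1, ⟨a, ha⟩, ⟨b, hb⟩]
    have hf : Function.Injective f := by
      intro i j e
      fin_cases i <;> fin_cases j <;>
        simp [f, Subtype.ext_iff, ha1, hb1, hne, Ne.symm ha1, Ne.symm hb1, Ne.symm hne] at e ⊢
    have := Nat.card_le_card_of_injective f hf
    rw [Nat.card_fin] at this
    omega
  have hle : Subgroup.normalizer ((R : Subgroup X) : Set X) ≤ Subgroup.centralizer ((R : Subgroup X) : Set X) := by
    intro g hg p hp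
    rcases eq_or_ne p 1 with rfl | hp1
    · rw [one_mul, mul_one]
    exact (mul_inv_eq_iff_eq_mul.mp (huniq _ ((Subgroup.mem_normalizer_iff.mp hg p).mp hp) p hp
      (fun e => hp1 (conj_eq_one_iff.mp e)) hp1)).symm
  have hcompl := MonoidHom.ker_transferSylow_isComplement' R hle
  set N := (MonoidHom.transferSylow R hle).ker with hN
  have hNodd : Odd (Nat.card N) := by
    have h2 := R.not_dvd_index
    rw [hcompl.index_eq_card] at h2
    exact Nat.odd_iff.mpr (by omega)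
  refine ⟨?_, top_le_iff.mp (hcompl.sup_eq_top ▸ sup_le_sup_right
    (le_pPrimeCore (N := N) (Nat.coprime_two_right.mpr hNodd)) _)⟩
  haveI : Group.IsSolvable N := Cfsg.Agent.S0205.result hNodd
  haveI : Group.IsSolvable (R : Subgroup X) := Group.isSolvable_of_comm fun a b => Subtype.ext (by
    rcases eq_or_ne (a : X) 1 with e | e
    · simp [e]
    rcases eq_or_ne (b : X) 1 with e' | e'
    · simp [e']
    · rw [Subgroup.coe_mul, Subgroup.coe_mul, huniq _ a.2 _ b.2 e e'])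
  exact Group.isSolvable_of_ker_le_range N.subtype (MonoidHom.transferSylow R hle)
    (Subgroup.range_subtype N).ge

variable {G : Type u} [Group G] [Finite G]

/-- An `S`-invariant Sylow `p`-subgroup of `O(C(t))`. -/
structure InvSyl (p : ℕ) (t : G) (S : Sylow 2 G) (P : Subgroup G) : Prop where
  le : P ≤ Ot t
  card : Nat.card P = p ^ (Nat.card (Ot t)).factorization p
  inv : (S : Subgroup G) ≤ Subgroup.normalizer (P : Set G)

/-- `S` centralises `P`. -/
def Ctr (S : Sylow 2 G) (P : Subgroup G) : Prop := ∀ s ∈ (S : Subgroup G), ∀ a ∈ P, Commute s a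

variable {p : ℕ} [Fact p.Prime] {t : G} {S : Sylow 2 G}

theorem InvSyl.isPGroup {P : Subgroup G} (h : InvSyl p t S P) : IsPGroup p P := IsPGroup.of_card h.card

theorem InvSyl.sylow {P : Subgroup G} (h : InvSyl p t S P) :
    ∃ R : Sylow p ↥(Ot t), (R : Subgroup ↥(Ot t)).map (Ot t).subtype = P :=
  ⟨Sylow.ofCard (P.subgroupOf (Ot t)) (by
    rw [Nat.card_congr (Subgroup.subgroupOfEquivOfLe h.le).toEquiv]; exact h.card),
    Subgroup.map_subgroupOf_eq_of_le h.le⟩

theorem S_le_norm_Ot (hE : E8 (S : Subgroup G)) (ht : t ∈ (S : Subgroup G)) :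
    (S : Subgroup G) ≤ Subgroup.normalizer (Ot t : Set G) := fun _ hs =>
  mem_normalizer_of_maps fun _ ha => conj_Ot_mem (hE.comm hs ht) ha

theorem S_coprime (S : Sylow 2 G) (hE : E8 (S : Subgroup G)) {K : Subgroup G} (hK : Odd (Nat.card K)) :
    (Nat.card (S : Subgroup G)).Coprime (Nat.card K) := by
  rw [hE.1, show (8 : ℕ) = 2 ^ 3 from rfl]
  exact Nat.Coprime.pow_left 3 (Nat.coprime_two_left.mpr hK)

theorem S_solv (hE : E8 (S : Subgroup G)) : Group.IsSolvable ↥(S : Subgroup G) :=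
  Group.isSolvable_of_comm fun a b => Subtype.ext (hE.comm a.2 b.2)

theorem exists_invSyl (p : ℕ) [Fact p.Prime] (hE : E8 (S : Subgroup G)) (ht : t ∈ (S : Subgroup G)) :
    ∃ P, InvSyl p t S P := by
  haveI := hE.isMulCommutative
  obtain ⟨R, hR⟩ := CfsgLib.coprime_exists_invariant_sylow (S_le_norm_Ot hE ht)
    (S_coprime S hE (OC_odd _)) (Or.inl (S_solv hE)) p
  refine ⟨_, Subgroup.map_subtype_le _, ?_, hR⟩
  rw [Subgroup.card_map_of_injective (Ot t).subtype_injective, R.card_eq_multiplicity]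

theorem InvSyl.ctr_iff {P P' : Subgroup G} (h : InvSyl p t S P) (h' : InvSyl p t S P') (hE : E8 (S : Subgroup G))
    (ht : t ∈ (S : Subgroup G)) (hc : Ctr S P) : Ctr S P' := by
  haveI := hE.isMulCommutative
  obtain ⟨R, rfl⟩ := h.sylow
  obtain ⟨R', rfl⟩ := h'.sylow
  obtain ⟨c, hcS, hce⟩ := CfsgLib.coprime_invariant_sylow_conj (S_le_norm_Ot hE ht)
    (S_coprime S hE (OC_odd _)) (Or.inl (S_solv hE)) R R' h.inv h'.inv
  rintro s hs _ ⟨a, ha, rfl⟩
  rw [← hce] at ha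
  obtain ⟨a', ha', rfl⟩ := ha
  exact (show Commute s (c : G) from hcS s hs).mul_right (hc s hs _ ⟨a', ha', rfl⟩)
    |>.mul_right (show Commute s (c : G) from hcS s hs).inv_right

variable (B : Base G)

/-- Frattini: `N(P)` covers `C(t)` modulo the core. -/
theorem InvSyl.cov {P : Subgroup G} (h : InvSyl p t S P) : Cov (Subgroup.normalizer (P : Set G)) t := by
  intro g hg
  obtain ⟨R, hR⟩ := h.sylow
  have hle : P.map (MulAut.conj g).toMonoidHom ≤ Ot t := by
    rintro _ ⟨a, ha, rfl⟩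
    exact conj_Ot_mem hg (h.le ha)
  let R' : Sylow p ↥(Ot t) := Sylow.ofCard ((P.map (MulAut.conj g).toMonoidHom).subgroupOf (Ot t)) (by
    rw [Nat.card_congr (Subgroup.subgroupOfEquivOfLe hle).toEquiv,
      Subgroup.card_map_of_injective (MulAut.conj g).injective]
    exact h.card)
  obtain ⟨o, ho⟩ := MulAction.exists_smul_eq ↥(Ot t) R' R
  refine ⟨o * g, ?_, (mem_cT.mp (Ot_le t o.2)).mul_left hg, ?_⟩
  · refine mem_normalizer_of_maps fun a ha => ?_
    have h1 : (o * ⟨g * a * g⁻¹, hle ⟨a, ha, rfl⟩⟩ * o⁻¹ : ↥(Ot t)) ∈ ((o • R' : Sylow p ↥(Ot t)) : Subgroup ↥(Ot t)) := by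
      rw [Sylow.coe_subgroup_smul]
      exact ⟨_, (⟨a, ha, rfl⟩ : g * a * g⁻¹ ∈ P.map (MulAut.conj g).toMonoidHom), rfl⟩
    rw [ho] at h1
    rw [← hR]
    exact ⟨_, h1, by simp [mul_assoc]⟩
  · have := conj_Ot_mem hg.inv_left (inv_mem o.2)
    rwa [inv_inv, show g⁻¹ * (o : G)⁻¹ * g = ((o : G) * g)⁻¹ * g by group] at this

section Faithful

variable (hns : ¬ Group.IsSolvable ↥(cT t)) (ht : t ∈ (S : Subgroup G)) (ht1 : t ≠ 1)
include B hns ht ht1

theorem faithful {P : Subgroup G} (h : InvSyl p t S P) (hnc : ¬ Ctr S P) {x : G} (hx : x ∈ (S : Subgroup G))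
    (hxP : ∀ a ∈ P, Commute x a) : x = 1 ∨ x = t := by
  haveI : Fact (Nat.Prime 2) := ⟨Nat.prime_two⟩
  have hE := B.e8.sylow S
  obtain ⟨C, g, b, c, A⟩ := exists_adapted B (hE.orderOf_eq_two ht ht1) hns ht
  obtain ⟨i, v, hv, hv4⟩ := A.form x hx
  by_cases hv1 : v = 1
  · rw [hv1, map_one, mul_one] at hv
    fin_cases i
    · simp only [pow_zero] at hv
      exact Or.inl (congrArg Subtype.val (bar_inj hE A.le (a := ⟨x, A.le hx⟩) hx hv))
    · simp only [pow_one] at hv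
      rw [A.t_eq] at hv
      have h3 := bar_inj hE A.le (a := (⟨x, A.le hx⟩ : ↥(cT t))⁻¹ * ⟨t, mem_cT.mpr (Commute.refl t)⟩)
        (mul_mem (inv_mem hx) ht) (by rw [map_mul, map_inv, inv_mul_eq_one]; exact hv)
      exact Or.inr (inv_mul_eq_one.mp (congrArg Subtype.val h3))
  exfalso
  apply hnc
  set Zb := ((Subgroup.centralizer (P : Set G)).subgroupOf (cT t)).map (br t) with hZb
  haveI : Zb.Normal := ⟨by
    rintro _ ⟨z, hz, rfl⟩ q
    obtain ⟨w, rfl⟩ := bar_surjective 2 q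
    obtain ⟨n, hn, hnt, hno⟩ := h.cov w (mem_cT.mp w.2)
    have e : br t ⟨n, mem_cT.mpr hnt⟩ = br t w := br_eq.mpr hno
    refine ⟨⟨n, mem_cT.mpr hnt⟩ * z * ⟨n, mem_cT.mpr hnt⟩⁻¹, ?_, by rw [map_mul, map_mul, map_inv, e]⟩
    intro a ha
    have h1 : n⁻¹ * a * n ∈ P := by simpa using (Subgroup.mem_normalizer_iff.mp (inv_mem hn) a).mp ha
    have h2 : n⁻¹ * a * n * (z : G) = (z : G) * (n⁻¹ * a * n) := hz _ h1
    show a * (n * z * n⁻¹) = n * z * n⁻¹ * a
    calc a * (n * z * n⁻¹) = n * (n⁻¹ * a * n * z) * n⁻¹ := by group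
      _ = n * (z * (n⁻¹ * a * n)) * n⁻¹ := by rw [h2]
      _ = _ := by group⟩
  have hxZ : br t ⟨x, A.le hx⟩ ∈ Zb := ⟨⟨x, A.le hx⟩, fun a ha => (hxP a ha).eq.symm, rfl⟩
  have hkey : C.ι (v * g * v⁻¹ * g⁻¹) ∈ Zb := by
    have h1 := mul_mem hxZ ((inferInstance : Zb.Normal).conj_mem _ (inv_mem hxZ) (C.ι g))
    rw [hv, _root_.mul_inv_rev] at h1
    convert h1 using 1
    have hτ : ∀ y, Commute (C.t ^ (i : ℕ)) (C.ι y) := fun y => (C.t_ι y).pow_left _
    have hkey : C.ι g * ((C.ι v)⁻¹ * (C.t ^ (i : ℕ))⁻¹) * (C.ι g)⁻¹ =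
        C.ι g * (C.ι v)⁻¹ * (C.ι g)⁻¹ * (C.t ^ (i : ℕ))⁻¹ := by
      simp only [mul_assoc]
      rw [((hτ g).inv_inv).eq]
    rw [hkey, show C.t ^ (i : ℕ) * C.ι v * (C.ι g * (C.ι v)⁻¹ * (C.ι g)⁻¹ * (C.t ^ (i : ℕ))⁻¹) =
      C.t ^ (i : ℕ) * (C.ι v * C.ι g * (C.ι v)⁻¹ * (C.ι g)⁻¹) * (C.t ^ (i : ℕ))⁻¹ by group,
      ← map_inv, ← map_inv, ← map_mul, ← map_mul, ← map_mul, (hτ _).eq, mul_inv_cancel_right]
  haveI := JankoReeMult.psl_simple (F := C.F) (by have := C.hq5; omega)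
  have hL : ∀ y, C.ι y ∈ Zb := by
    haveI : (Zb.comap C.ι).Normal := (inferInstance : Zb.Normal).comap C.ι
    have htop : Zb.comap C.ι = ⊤ := by
      refine (inferInstance : (Zb.comap C.ι).Normal).eq_bot_or_eq_top.resolve_left fun e => ?_
      have h1 : v * g * v⁻¹ * g⁻¹ ∈ Zb.comap C.ι := hkey
      rw [e, Subgroup.mem_bot, mul_inv_eq_one, mul_inv_eq_iff_eq_mul] at h1
      exact hv1 ((A.g_four hE hv4).2 (by rw [← h1, mul_inv_cancel_right]))
    exact fun y => (htop ▸ Subgroup.mem_top y : y ∈ Zb.comap C.ι)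
  have htZ : C.t ∈ Zb := ⟨⟨t, mem_cT.mpr (Commute.refl t)⟩,
    fun a ha => (mem_cT.mp (Ot_le t (h.le ha))).eq, A.t_eq.symm⟩
  intro s hs a ha
  obtain ⟨j, w, hw, -⟩ := A.form s hs
  have hsZ : br t ⟨s, A.le hs⟩ ∈ Zb := by rw [hw]; exact mul_mem (pow_mem htZ _) (hL w)
  obtain ⟨z, hz, hze⟩ := hsZ
  have ho : (z : G)⁻¹ * s ∈ Ot t := br_eq.mp hze
  set o := (z : G)⁻¹ * s with ho'
  have hact : ∀ a' ∈ P, o * a' * o⁻¹ = s * a' * s⁻¹ := by
    intro a' ha'
    have h1 : s * a' * s⁻¹ ∈ P := (Subgroup.mem_normalizer_iff.mp (h.inv hs) a').mp ha'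
    have h2 : s * a' * s⁻¹ * (z : G) = z * (s * a' * s⁻¹) := hz _ h1
    calc o * a' * o⁻¹ = (z : G)⁻¹ * (s * a' * s⁻¹ * z) := by rw [ho']; group
      _ = s * a' * s⁻¹ := by rw [h2, inv_mul_cancel_left]
  have hsi : s⁻¹ = s := inv_eq_of_mul_eq_one_right (hE.2 s hs)
  have h2 : Commute (o * o) a := by
    refine mul_inv_eq_iff_eq_mul.mp ?_
    calc o * o * a * (o * o)⁻¹ = o * (o * a * o⁻¹) * o⁻¹ := by group
      _ = s * (s * a * s⁻¹) * s⁻¹ := by
          rw [hact a ha, hact _ ((Subgroup.mem_normalizer_iff.mp (h.inv hs) a).mp ha)]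
      _ = a := by rw [hsi, show s * (s * a * s) * s = (s * s) * a * (s * s) by group, hE.2 s hs]; group
  obtain ⟨k, hk⟩ := Odd.of_dvd_nat (OC_odd (cT t)) (Subgroup.orderOf_dvd_natCard (Ot t) ho)
  have h3 : Commute o a := by
    have := h2.pow_left (k + 1)
    rwa [← pow_two, ← pow_mul, show 2 * (k + 1) = (2 * k + 1) + 1 by ring, pow_succ, ← hk, pow_orderOf_eq_one,
      one_mul] at this
  have h4 := hact a ha
  rw [h3.eq, mul_inv_cancel_right] at h4
  exact mul_inv_eq_iff_eq_mul.mp h4.symm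

end Faithful

theorem le_norm_zj (T : Subgroup G) : T ≤ Subgroup.normalizer (ZJ.zj 0 T : Set G) := fun x hx =>
  mem_normalizer_of_maps fun a ha => by
    have e : T.map (MulAut.conj x).toMonoidHom = T := by
      refine le_antisymm ?_ fun y hy => ⟨x⁻¹ * y * x, mul_mem (mul_mem (inv_mem hx) hy) hx, by simp [mul_assoc]⟩
      rintro _ ⟨y, hy, rfl⟩
      exact mul_mem (mul_mem hx hy) (inv_mem hx)
    have h := ZJ.zj_map 0 (f := (MulAut.conj x).toMonoidHom) (MulAut.conj x).injective T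
    rw [e] at h
    rw [h]
    exact ⟨a, ha, rfl⟩

/-- The family of the tower. -/
structure Fam (p : ℕ) (t : G) (S : Sylow 2 G) (H : Subgroup G) : Prop where
  proper : H ≠ ⊤
  sle : (S : Subgroup G) ≤ H
  cov : Cov H t
  inv : ∃ P, InvSyl p t S P ∧ P ≤ OC H

section Tower

variable (hns : ¬ Group.IsSolvable ↥(cT t)) (ht : t ∈ (S : Subgroup G)) (ht1 : t ≠ 1) (hp : p ≠ 2)
  (hnc : ∀ P, InvSyl p t S P → ¬ Ctr S P)
include B hns ht ht1 hp hnc

theorem normalizer_proper {Q : Subgroup G} (hQ : IsPGroup p Q) (hQ1 : Q ≠ ⊥) :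
    Subgroup.normalizer (Q : Set G) ≠ ⊤ := by
  haveI := B.simple
  intro h
  haveI : Q.Normal := Subgroup.normalizer_eq_top_iff.mp h
  rcases (inferInstance : Q.Normal).eq_bot_or_eq_top with e | e
  · exact hQ1 e
  · have h2 : 2 ∣ Nat.card G := (by norm_num : 2 ∣ 8).trans (B.e8.1 ▸ Subgroup.card_subgroup_dvd_card _)
    obtain ⟨k, hk⟩ := IsPGroup.iff_card.mp hQ
    rw [e, Subgroup.card_top] at hk
    rw [hk] at h2
    exact hp ((Nat.prime_dvd_prime_iff_eq Nat.prime_two Fact.out).mp (Nat.prime_two.dvd_of_dvd_pow h2)).symm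

theorem step {H : Subgroup G} (hF : Fam p t S H) :
    ∃ T₀ : Subgroup G, IsPGroup p T₀ ∧ T₀ ≤ H ∧ Nat.card T₀ = p ^ (Nat.card H).factorization p ∧
      Fam p t S (Subgroup.normalizer (ZJ.zj 0 T₀ : Set G)) := by
  classical
  haveI : Fact (Nat.Prime 2) := ⟨Nat.prime_two⟩
  have hE := B.e8.sylow S
  have hSH := hF.sle
  obtain ⟨P, hP, hPO⟩ := hF.inv
  have hPH : P ≤ H := hPO.trans (OC_le H)
  set S₂ : Sylow 2 ↥H := S.subtype hSH with hS₂
  set R := pPrimeCore p ↥H with hR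
  -- an element centralising `P` modulo `R` centralises it
  have hker : ∀ x ∈ (S : Subgroup G), ∀ hx : x ∈ H, (∀ a (ha : a ∈ P),
      (⟨x, hx⟩ : ↥H) * ⟨a, hPH ha⟩ * (⟨x, hx⟩ : ↥H)⁻¹ * (⟨a, hPH ha⟩ : ↥H)⁻¹ ∈ R) → x = 1 ∨ x = t := by
    intro x hxS hx hc
    refine faithful B hns ht ht1 hP (hnc P hP) hxS fun a ha => ?_
    set c := (⟨x, hx⟩ : ↥H) * ⟨a, hPH ha⟩ * (⟨x, hx⟩ : ↥H)⁻¹ * (⟨a, hPH ha⟩ : ↥H)⁻¹ with hcdef
    have hcP : (c : G) ∈ P := mul_mem ((Subgroup.mem_normalizer_iff.mp (hP.inv hxS) a).mp ha) (inv_mem ha)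
    have h1 : (orderOf c).Coprime p :=
      (card_pPrimeCore_coprime (G := ↥H) p).coprime_dvd_left (Subgroup.orderOf_dvd_natCard R (hc a ha))
    obtain ⟨k, hk⟩ := IsPGroup.iff_orderOf.mp hP.isPGroup ⟨c, hcP⟩
    rw [Subgroup.orderOf_mk, Subgroup.orderOf_coe] at hk
    rw [hk] at h1
    have h0 : c = 1 := by
      rw [← orderOf_eq_one_iff, hk]
      rcases Nat.eq_zero_or_pos k with rfl | hk0
      · rfl
      · exact absurd ((Nat.coprime_pow_left_iff hk0 p p).mp h1)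
          (by rw [Nat.coprime_self]; exact (Fact.out : p.Prime).ne_one)
    exact mul_inv_eq_iff_eq_mul.mp (mul_inv_eq_one.mp (congrArg Subtype.val h0))
  have hRS : ∀ z : ↥H, z ∈ R → (z : G) ∈ (S : Subgroup G) → (z : G) = 1 ∨ (z : G) = t := by
    intro z hzR hzS
    refine hker z hzS z.2 fun a ha => ?_
    rw [show z * ⟨a, hPH ha⟩ * z⁻¹ * (⟨a, hPH ha⟩ : ↥H)⁻¹ = z * (⟨a, hPH ha⟩ * z⁻¹ * (⟨a, hPH ha⟩ : ↥H)⁻¹) by group]
    exact mul_mem hzR ((inferInstance : R.Normal).conj_mem _ (inv_mem hzR) _)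
  have hsmall : ∀ N : Subgroup ↥H, N.Normal → (∀ z : ↥H, z ∈ N → (z : G) ∈ (S : Subgroup G) → (z : G) = 1 ∨ (z : G) = t) →
      ∃ R' : Sylow 2 N, Nat.card (R' : Subgroup N) ≤ 2 ∧ (R' : Subgroup N).map N.subtype ≤ (S₂ : Subgroup ↥H) := by
    intro N hN h
    obtain ⟨R', hR'⟩ := CfsgLib.CharPLocal.exists_sylow_subnormal S₂ hN.isSubnormal
    refine ⟨R', ?_, hR'.trans_le inf_le_left⟩
    rw [← Subgroup.card_map_of_injective N.subtype_injective, hR']
    let f : ↥((S₂ : Subgroup ↥H) ⊓ N) → Fin 2 := fun z => if ((z : ↥H) : G) = 1 then 0 else 1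
    refine (Nat.card_le_card_of_injective f ?_).trans (by simp)
    intro a b e
    refine Subtype.ext (Subtype.ext ?_)
    rcases h a a.2.2 a.2.1 with ha | ha <;> rcases h b b.2.2 b.2.1 with hb | hb <;>
      simp only [f, ha, hb] at e ⊢ <;> simp [ht1] at e
  -- `H` is `p`-constrained
  have hc : IsPConstrained p ↥H := by
    refine PLocal.isPConstrained_of_quotient ?_
    set F := pCore p (↥H ⧸ R) with hFdef
    set Cc := Subgroup.centralizer (F : Set (↥H ⧸ R)) with hCc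
    haveI : Cc.Normal := inferInstance
    set π := QuotientGroup.mk' R
    by_cases hex : ∃ z : ↥H, π z ∈ Cc ∧ (z : G) ∈ (S : Subgroup G) ∧ (z : G) ≠ 1 ∧ (z : G) ≠ t
    · exfalso
      obtain ⟨z, hzC, hzS, hz1, hzt⟩ := hex
      refine (hker z hzS z.2 fun a ha => ?_).elim hz1 hzt
      set Ob := (pPrimeCore 2 ↥H).map π with hOb
      haveI hObn : Ob.Normal := (inferInstance : (pPrimeCore 2 ↥H).Normal).map π (QuotientGroup.mk'_surjective R)
      have hObodd : Odd (Nat.card Ob) :=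
        Odd.of_dvd_nat (Nat.coprime_two_right.mp (card_pPrimeCore_coprime (G := ↥H) 2)) (Subgroup.card_map_dvd _ _)
      haveI : Group.IsSolvable Ob := Cfsg.Agent.S0205.result hObodd
      haveI hcn : ∀ M : Subgroup Ob, M.Characteristic → (M.map Ob.subtype).Normal := fun M hM =>
        ConjAct.normal_of_characteristic_of_normal
      have hO1 : pPrimeCore p Ob = ⊥ := by
        haveI := hcn (pPrimeCore p Ob) inferInstance
        have h1 : (pPrimeCore p Ob).map Ob.subtype ≤ pPrimeCore p (↥H ⧸ R) := le_pPrimeCore (by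
          rw [Subgroup.card_map_of_injective Ob.subtype_injective]; exact card_pPrimeCore_coprime p)
        rwa [pPrimeCore_quotient_eq_bot p, le_bot_iff,
          Subgroup.map_eq_bot_iff_of_injective _ Ob.subtype_injective] at h1
      haveI := hcn (pCore p Ob) inferInstance
      have hOF : (pCore p Ob).map Ob.subtype ≤ F := le_pCore ((isPGroup_pCore p).map _)
      have hcle := centralizer_pCore_le (G := Ob) (Fact.out : p.Prime) hO1
      set y := π ⟨a, hPH ha⟩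
      have hyO : y ∈ Ob := by
        obtain ⟨a', ha', e⟩ := hPO ha
        exact ⟨⟨a, hPH ha⟩, (Subtype.ext e : a' = ⟨a, hPH ha⟩) ▸ ha', rfl⟩
      set x := π z
      have hx2 : x * x = 1 := by rw [← map_mul, show z * z = 1 from Subtype.ext (hE.2 _ hzS), map_one]
      have hxi : x⁻¹ = x := inv_eq_of_mul_eq_one_right hx2
      set w : ↥Ob := ⟨y, hyO⟩⁻¹ * ⟨x * y * x⁻¹, hObn.conj_mem y hyO x⟩ with hw
      have hwF : (w : ↥H ⧸ R) ∈ F := by
        refine hOF ⟨w, hcle fun f hf => Subtype.ext ?_, rfl⟩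
        have hfF : (f : ↥H ⧸ R) ∈ F := hOF ⟨f, hf, rfl⟩
        have hyf : y * f * y⁻¹ ∈ F := (inferInstance : F.Normal).conj_mem _ hfF y
        show (f : ↥H ⧸ R) * (y⁻¹ * (x * y * x⁻¹)) = y⁻¹ * (x * y * x⁻¹) * f
        have e1 : y * f * y⁻¹ * x = x * (y * f * y⁻¹) := hzC _ hyf
        have e2 : (f : ↥H ⧸ R) * x = x * f := hzC _ hfF
        calc (f : ↥H ⧸ R) * (y⁻¹ * (x * y * x⁻¹)) = y⁻¹ * (y * f * y⁻¹ * x) * y * x⁻¹ := by group
          _ = y⁻¹ * x * y * f * x⁻¹ := by rw [e1]; group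
          _ = y⁻¹ * x * y * x⁻¹ * (x * f) * x⁻¹ := by group
          _ = y⁻¹ * (x * y * x⁻¹) * f := by rw [← e2]; group
      have hxw : x * (w : ↥H ⧸ R) * x⁻¹ = w := by rw [← hzC _ hwF, mul_inv_cancel_right]
      have hwcoe : (w : ↥H ⧸ R) = y⁻¹ * (x * y * x⁻¹) := rfl
      have hw2 : (w : ↥H ⧸ R) * w = 1 := by
        nth_rewrite 1 [← hxw]
        rw [hwcoe, hxi]
        calc x * (y⁻¹ * (x * y * x)) * x * (y⁻¹ * (x * y * x))
            = x * y⁻¹ * x * y * (x * x) * y⁻¹ * x * y * x := by group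
          _ = x * y⁻¹ * x * y * 1 * y⁻¹ * x * y * x := by rw [hx2]
          _ = x * y⁻¹ * (x * x) * y * x := by group
          _ = x * x := by conv_lhs => rw [hx2]
                          group
          _ = 1 := hx2
      have hw1 : w = 1 := eq_one_of_odd_of_two_pow (k := 1)
        (Odd.of_dvd_nat hObodd (orderOf_dvd_natCard w)) (Subtype.ext (by
          rw [pow_one, pow_two]; exact hw2))
      refine (QuotientGroup.eq_one_iff _).mp ?_
      show π (z * ⟨a, hPH ha⟩ * z⁻¹ * (⟨a, hPH ha⟩ : ↥H)⁻¹) = 1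
      rw [map_mul, map_mul, map_mul, map_inv, map_inv, mul_inv_eq_one]
      exact (inv_mul_eq_one.mp (hwcoe.symm.trans (congrArg Subtype.val hw1))).symm
    · push Not at hex
      obtain ⟨R', hR', -⟩ := hsmall (Cc.comap π) ((inferInstance : Cc.Normal).comap π) fun z hz hzS => by
        by_cases h1 : (z : G) = 1
        · exact Or.inl h1
        · exact Or.inr (hex z hz hzS h1)
      haveI := (two_small R' hR').1
      haveI : Group.IsSolvable Cc := Group.isSolvable_of_surjective (f := π.subgroupComap Cc)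
        (MonoidHom.subgroupComap_surjective_of_surjective π Cc (QuotientGroup.mk'_surjective R))
      exact PLocal.centralizer_pCore_le_of_isPSolvable (pPrimeCore_quotient_eq_bot p)
        (PLocal.isPSolvable_of_isSolvable _ _ rfl inferInstance)
  -- factorisation
  have hfree : ¬ Involves (Cfsg.qd p) (↥H ⧸ R) := by
    refine HallE8.free_of_abelian (S₂.mapSurjective (QuotientGroup.mk'_surjective R)) ?_ hp
    rintro _ ⟨a, ha, rfl⟩ _ ⟨b, hb, rfl⟩
    rw [← map_mul, ← map_mul]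
    exact congrArg _ (Subtype.ext (hE.comm ha hb))
  have hst := Quadratic.quadStable_of_isNormalizerPStable (Quadratic.isNormalizerPStable_of_free hp hfree)
  have hsup : ∀ T : Sylow p ↥H, R ⊔ Subgroup.normalizer (ZJ.zj 0 (T : Subgroup ↥H) : Set ↥H) = ⊤ := fun T =>
    StrongFusion.sup_normalizer_zj_of_closed hp (Or.inl rfl) hc hst T ⟨le_rfl, fun _ _ _ hg => hg⟩
  obtain ⟨R₂, hR₂c, hR₂S⟩ := hsmall R inferInstance hRS
  obtain ⟨T, hT⟩ : ∃ T : Sylow p ↥H,
      (S₂ : Subgroup ↥H) ≤ Subgroup.normalizer (ZJ.zj 0 (T : Subgroup ↥H) : Set ↥H) := by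
    obtain ⟨T⟩ : Nonempty (Sylow p ↥H) := inferInstance
    set N := Subgroup.normalizer (ZJ.zj 0 (T : Subgroup ↥H) : Set ↥H) with hN
    have hmul := HallE8.card_sup_mul (A := R) (B := N)
      (le_top.trans (Subgroup.normalizer_eq_top_iff.mpr inferInstance).ge)
    rw [hsup T, Subgroup.card_top] at hmul
    have h8H : 8 ∣ Nat.card ↥H := hE.1 ▸ Subgroup.card_dvd_of_le hSH
    have h4 : ¬ 4 ∣ Nat.card R := fun h4 => by
      have := R₂.pow_dvd_card_of_pow_dvd_card (n := 2) h4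
      have := Nat.le_of_dvd Nat.card_pos this
      omega
    have h8 : 8 ∣ Nat.card N := by
      by_cases hev : 2 ∣ Nat.card R
      · -- a conjugate of `t` centralises `T`
        obtain ⟨U, hU⟩ := CfsgLib.coprime_exists_invariant_sylow (A := (T : Subgroup ↥H)) (K := R)
          (le_top.trans (Subgroup.normalizer_eq_top_iff.mpr inferInstance).ge) (by
            obtain ⟨k, hk⟩ := IsPGroup.iff_card.mp T.2
            rw [hk]
            exact ((card_pPrimeCore_coprime (G := ↥H) p).pow_right k).symm)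
          (Or.inl (haveI := T.2.isNilpotent; inferInstance)) 2
        have hU2 : Nat.card (U : Subgroup R) = 2 := by
          have h1 : 2 ∣ Nat.card (U : Subgroup R) := U.dvd_card_of_dvd_card hev
          have h2 : Nat.card (U : Subgroup R) ≤ 2 := by
            rw [show Nat.card (U : Subgroup R) = Nat.card (R₂ : Subgroup R) from
              Nat.card_congr (U.equiv R₂).toEquiv]
            exact hR₂c
          exact le_antisymm h2 (Nat.le_of_dvd Nat.card_pos h1)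
        obtain ⟨u, hu1, huniq⟩ := (Nat.card_eq_two_iff' (1 : (U : Subgroup R))).mp hU2
        have huN : ((u : R) : ↥H) ∈ R ⊓ N := by
          refine ⟨(u : R).2, Subgroup.centralizer_le_normalizer _ fun w hw => ?_⟩
          have hwT := ZJ.zj_le 0 _ hw
          obtain ⟨u', hu', e⟩ := (Subgroup.mem_normalizer_iff.mp (hU hwT) _).mp (⟨u, u.2, rfl⟩ :
            ((u : R) : ↥H) ∈ (U : Subgroup R).map R.subtype)
          have h1 : (⟨u', hu'⟩ : (U : Subgroup R)) = u := huniq _ fun h => by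
            rw [show u' = 1 from congrArg Subtype.val h, map_one, eq_comm, conj_eq_one_iff] at e
            exact hu1 (Subtype.ext (Subtype.ext e))
          rw [show u' = (u : R) from congrArg Subtype.val h1] at e
          exact (mul_inv_eq_iff_eq_mul.mp e.symm)
        have h2 : 2 ∣ Nat.card ↥(R ⊓ N) := by
          have : orderOf ((u : R) : ↥H) = 2 := by
            rw [Subgroup.orderOf_coe, Subgroup.orderOf_coe]
            exact orderOf_eq_prime (by have := pow_card_eq_one' (x := u); rwa [hU2] at this) hu1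
          exact this ▸ Subgroup.orderOf_dvd_natCard _ huN
        obtain ⟨r, hr⟩ := hev
        have hrodd : Nat.Coprime 8 r := (Nat.coprime_two_left.mpr (Nat.odd_iff.mpr (by
          by_contra hr2
          exact h4 (by rw [hr]; exact Nat.mul_dvd_mul_left 2 (show 2 ∣ r by omega))))).pow_left 3
        have h16 : 2 * 8 ∣ 2 * (r * Nat.card N) := by
          rw [← mul_assoc, ← hr, ← hmul, mul_comm 2 8]
          exact Nat.mul_dvd_mul h8H h2
        exact hrodd.dvd_of_dvd_mul_left (Nat.dvd_of_mul_dvd_mul_left two_pos h16)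
      · refine Nat.Coprime.dvd_of_dvd_mul_left ?_ ((h8H.trans (dvd_mul_right _ _)).trans hmul.dvd)
        exact (Nat.coprime_two_left.mpr (Nat.odd_iff.mpr (by omega))).pow_left 3
    obtain ⟨U, hU⟩ := Sylow.exists_subgroup_card_pow_prime (G := ↥N) 2 (n := 3) h8
    obtain ⟨m, hm⟩ := HallE8.exists_conj_into_sylow S₂ ((IsPGroup.of_card hU).map N.subtype)
    refine ⟨m • T, fun s hs => ?_⟩
    have hcard : (U.map N.subtype).map (MulAut.conj m).toMonoidHom = (S₂ : Subgroup ↥H) := by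
      refine Subgroup.eq_of_le_of_card_ge ?_ ?_
      · rintro _ ⟨w, hw, rfl⟩; exact hm w hw
      · rw [Subgroup.card_map_of_injective (MulAut.conj m).injective,
          Subgroup.card_map_of_injective N.subtype_injective, hU,
          show (S₂ : Subgroup ↥H) = (S : Subgroup G).subgroupOf H from rfl,
          Nat.card_congr (Subgroup.subgroupOfEquivOfLe hSH).toEquiv, hE.1]
        norm_num
    rw [← hcard] at hs
    obtain ⟨_, ⟨w, -, rfl⟩, rfl⟩ := hs
    rw [Sylow.coe_subgroup_smul, ZJ.zj_conj]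
    exact mem_normalizer_of_maps fun a ha => by
      obtain ⟨a', ha', rfl⟩ := ha
      exact ⟨(w : ↥H) * a' * (w : ↥H)⁻¹, (Subgroup.mem_normalizer_iff.mp w.2 a').mp ha', by
        simp [mul_assoc]⟩
  -- the factor of odd order
  set T₀ := (T : Subgroup ↥H).map H.subtype with hT₀
  set M := Subgroup.normalizer (ZJ.zj 0 T₀ : Set G) with hM
  have hNM : ∀ z : ↥H, z ∈ Subgroup.normalizer (ZJ.zj 0 (T : Subgroup ↥H) : Set ↥H) → (z : G) ∈ M := fun z hz => by
    rw [hM, hT₀, ZJ.zj_map 0 H.subtype_injective]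
    exact Subgroup.le_normalizer_map H.subtype ⟨z, hz, rfl⟩
  have hSM : (S : Subgroup G) ≤ M := fun s hs => hNM ⟨s, hSH hs⟩ (hT hs)
  set O₂ := (pPrimeCore 2 R).map R.subtype with hO₂
  haveI hO₂n : O₂.Normal := ConjAct.normal_of_characteristic_of_normal
  set E := O₂.map H.subtype with hEdef
  have hEO : E ≤ OC H := Subgroup.map_mono (le_pPrimeCore (by
    rw [hO₂, Subgroup.card_map_of_injective R.subtype_injective]; exact card_pPrimeCore_coprime 2))
  have hEn : ∀ h ∈ H, ∀ e ∈ E, h * e * h⁻¹ ∈ E := by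
    rintro h hh _ ⟨e, he, rfl⟩
    exact ⟨⟨h, hh⟩ * e * ⟨h, hh⟩⁻¹, hO₂n.conj_mem e he _, rfl⟩
  have hEodd : Odd (Nat.card E) := Odd.of_dvd_nat (OC_odd H) (Subgroup.card_dvd_of_le hEO)
  have hEp : ¬ p ∣ Nat.card E := by
    rw [hEdef, Subgroup.card_map_of_injective H.subtype_injective, hO₂,
      Subgroup.card_map_of_injective R.subtype_injective]
    exact fun h => (Fact.out : p.Prime).coprime_iff_not_dvd.mp (card_pPrimeCore_coprime (G := ↥H) p).symm
      (h.trans (Subgroup.card_subgroup_dvd_card _))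
  have hdec : ∀ h ∈ H, ∃ o ∈ E, o⁻¹ * h ∈ M := by
    intro h hh
    obtain ⟨r, hr, n, hn, e⟩ : ∃ r ∈ R, ∃ n ∈ Subgroup.normalizer (ZJ.zj 0 (T : Subgroup ↥H) : Set ↥H),
        r * n = ⟨h, hh⟩ :=
      Subgroup.mem_sup_of_normal_left.mp (by rw [hsup T]; exact Subgroup.mem_top _)
    obtain ⟨o, ho, s, hs, e'⟩ : ∃ o ∈ pPrimeCore 2 R, ∃ s ∈ (R₂ : Subgroup R), o * s = ⟨r, hr⟩ :=
      Subgroup.mem_sup_of_normal_left.mp (by rw [(two_small R₂ hR₂c).2]; exact Subgroup.mem_top _)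
    refine ⟨(o : ↥H), ⟨o, ⟨o, ho, rfl⟩, rfl⟩, ?_⟩
    have : ((o : ↥H) : G)⁻¹ * h = ((s : ↥H) : G) * n := by
      have e1 : ((o : ↥H) : G) * (s : ↥H) = (r : G) := congrArg (fun z : R => ((z : ↥H) : G)) e'
      have e2 : (r : G) * n = h := congrArg Subtype.val e
      rw [← e2, ← e1]; group
    rw [this]
    exact mul_mem (hNM _ (hT (hR₂S ⟨s, hs, rfl⟩))) (hNM n hn)
  -- lifting centralising elements
  have hlift : ∀ h ∈ H, Commute h t → ∃ o ∈ E ⊓ cT t, o⁻¹ * h ∈ M := by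
    intro h hh hht
    obtain ⟨o, ho, hoM⟩ := hdec h hh
    set n := o⁻¹ * h with hn
    have hnH : n ∈ H := mul_mem (inv_mem (OC_le H (hEO ho))) hh
    have hti : t⁻¹ = t := inv_eq_of_mul_eq_one_right (hE.2 t ht)
    obtain ⟨w, hw, hwc⟩ := exists_fix (E := E ⊓ M) (Odd.of_dvd_nat hEodd (Subgroup.card_dvd_of_le inf_le_left))
      (t := t) (y := n) (hE.2 t ht) ⟨by
        rw [show n * t * n⁻¹ * t = o⁻¹ * (h * t * h⁻¹) * o * t by rw [hn]; group,
          show h * t * h⁻¹ = t by rw [hht.eq, mul_inv_cancel_right],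
          show o⁻¹ * t * o * t = o⁻¹ * (t * o * t⁻¹) by rw [hti]; group]
        exact E.mul_mem (E.inv_mem ho) (hEn t (hSH ht) o ho),
        M.mul_mem (M.mul_mem (M.mul_mem hoM (hSM ht)) (M.inv_mem hoM)) (hSM ht)⟩
    refine ⟨o * w, ⟨mul_mem ho hw.1, mem_cT.mpr ?_⟩, ?_⟩
    · rw [show o * w = h * (w⁻¹ * n)⁻¹ by rw [hn]; group]
      exact hht.mul_left hwc.inv_left
    · rw [show (o * w)⁻¹ * h = w⁻¹ * n by rw [hn]; group]
      exact mul_mem (inv_mem hw.2) hoM
  have hcovM : Cov M t := by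
    intro g hg
    obtain ⟨h, hh, hht, hho⟩ := hF.cov g hg
    obtain ⟨o, ho, hoM⟩ := hlift h hh hht
    have hot : Commute o t := mem_cT.mp ho.2
    have hnt : Commute (o⁻¹ * h) t := hot.inv_left.mul_left hht
    refine ⟨o⁻¹ * h, hoM, hnt, ?_⟩
    rw [show (o⁻¹ * h)⁻¹ * g = (h⁻¹ * o * h⁻¹⁻¹) * (h⁻¹ * g) by group]
    exact mul_mem (conj_Ot_mem hht.inv_left (core_inf_le hF.cov ⟨hEO ho.1, ho.2⟩)) hho
  have hT₀p : IsPGroup p T₀ := T.2.map _
  have hT₀c : Nat.card T₀ = p ^ (Nat.card H).factorization p := by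
    rw [hT₀, Subgroup.card_map_of_injective H.subtype_injective, T.card_eq_multiplicity]
  have hP1 : P ≠ ⊥ := fun e => hnc P hP fun s _ a ha => by
    rw [e, Subgroup.mem_bot] at ha; rw [ha]; exact Commute.one_right s
  have hT₀1 : T₀ ≠ ⊥ := fun e => hP1 (Subgroup.eq_bot_of_card_eq _ (by
    have h1 : Nat.card P ∣ Nat.card T₀ := by
      rw [hT₀c, hP.card]
      refine Nat.pow_dvd_pow p ?_
      have h2 : p ^ (Nat.card (Ot t)).factorization p ∣ Nat.card H := hP.card ▸ Subgroup.card_dvd_of_le hPH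
      exact ((Fact.out : p.Prime).pow_dvd_iff_le_factorization Nat.card_pos.ne').mp h2
    rw [e, Subgroup.card_bot, Nat.dvd_one] at h1
    exact h1))
  have hMtop : M ≠ ⊤ := normalizer_proper B hns ht ht1 hp hnc (hT₀p.to_le (ZJ.zj_le 0 T₀))
    (ZJ.zj_ne_bot (Or.inl rfl) hT₀p hT₀1)
  refine ⟨T₀, hT₀p, Subgroup.map_subtype_le _, hT₀c, hMtop, hSM, hcovM, ?_⟩
  -- a Sylow subgroup of the core inside
  set A := OC H ⊓ cT t with hA
  set AN := A ⊓ M with hAN
  have hANn : AN ≤ Subgroup.normalizer ((E ⊓ cT t : Subgroup G) : Set G) := fun a ha =>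
    mem_normalizer_of_maps fun e he => ⟨hEn a (OC_le H ha.1.1) e he.1,
      (cT t).mul_mem ((cT t).mul_mem ha.1.2 he.2) ((cT t).inv_mem ha.1.2)⟩
  have hAle : A ≤ E ⊓ cT t ⊔ AN := by
    intro a ha
    obtain ⟨o, ho, hoM⟩ := hlift a (OC_le H ha.1) (mem_cT.mp ha.2)
    have h1 : o⁻¹ * a ∈ AN := ⟨A.mul_mem (A.inv_mem ⟨hEO ho.1, ho.2⟩) ha, hoM⟩
    simpa using mul_mem (Subgroup.mem_sup_left (T := AN) ho) (Subgroup.mem_sup_right (S := E ⊓ cT t) h1)
  have hfac : (Nat.card (Ot t)).factorization p ≤ (Nat.card AN).factorization p := by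
    have h1 : Nat.card P ∣ Nat.card ↥(E ⊓ cT t) * Nat.card AN :=
      (Subgroup.card_dvd_of_le ((le_inf hPO (hP.le.trans (Ot_le t))).trans hAle)).trans
        (Dvd.intro _ (HallE8.card_sup_mul hANn))
    rw [hP.card] at h1
    have h2 : Nat.Coprime (p ^ (Nat.card (Ot t)).factorization p) (Nat.card ↥(E ⊓ cT t)) :=
      Nat.Coprime.pow_left _ ((Fact.out : p.Prime).coprime_iff_not_dvd.mpr fun h =>
        hEp (h.trans (Subgroup.card_dvd_of_le inf_le_left)))
    exact ((Fact.out : p.Prime).pow_dvd_iff_le_factorization Nat.card_pos.ne').mp (h2.dvd_of_dvd_mul_left h1)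
  have hANO : AN ≤ Ot t := inf_le_left.trans (core_inf_le hF.cov)
  haveI := hE.isMulCommutative
  have hSAN : (S : Subgroup G) ≤ Subgroup.normalizer (AN : Set G) := fun s hs => mem_normalizer_of_maps fun a ha =>
    ⟨⟨(Subgroup.mem_normalizer_iff.mp (OC_norm H (hSH hs)) a).mp ha.1.1,
      (cT t).mul_mem ((cT t).mul_mem (mem_cT.mpr (hE.comm hs ht)) ha.1.2)
        ((cT t).inv_mem (mem_cT.mpr (hE.comm hs ht)))⟩,
      M.mul_mem (M.mul_mem (hSM hs) ha.2) (M.inv_mem (hSM hs))⟩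
  obtain ⟨Q, hQ⟩ := CfsgLib.coprime_exists_invariant_sylow hSAN
    (S_coprime S hE (Odd.of_dvd_nat (OC_odd (cT t)) (Subgroup.card_dvd_of_le hANO))) (Or.inl (S_solv hE)) p
  refine ⟨_, ⟨(Subgroup.map_subtype_le _).trans hANO, ?_, hQ⟩, ?_⟩
  · rw [Subgroup.card_map_of_injective AN.subtype_injective, Q.card_eq_multiplicity]
    refine congrArg _ (le_antisymm ?_ hfac)
    exact (Nat.factorization_le_iff_dvd Nat.card_pos.ne' Nat.card_pos.ne').mpr (Subgroup.card_dvd_of_le hANO) p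
  · exact ((Subgroup.map_subtype_le _).trans (le_inf hANO inf_le_right)).trans
      (inf_core_le B hns hMtop hSM ht ht1 hcovM)

/-- A local subgroup `N(ZJ(R))` covering `C(t)`. -/
theorem exists_local :
    ∃ R : Sylow p G, Fam p t S (Subgroup.normalizer (ZJ.zj 0 (R : Subgroup G) : Set G)) ∧
      (R : Subgroup G) ≤ Subgroup.normalizer (ZJ.zj 0 (R : Subgroup G) : Set G) := by
  classical
  have hE := B.e8.sylow S
  obtain ⟨P, hP⟩ := exists_invSyl p hE ht
  have hP1 : P ≠ ⊥ := fun e => hnc P hP fun s _ a ha => by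
    rw [e, Subgroup.mem_bot] at ha; rw [ha]; exact Commute.one_right s
  have hN := normalizer_proper B hns ht ht1 hp hnc hP.isPGroup hP1
  have hne : Set.Nonempty {H : Subgroup G | Fam p t S H} :=
    ⟨_, hN, hP.inv, hP.cov, P, hP, le_OC Subgroup.le_normalizer le_rfl
      (Odd.of_dvd_nat (OC_odd (cT t)) (Subgroup.card_dvd_of_le hP.le))⟩
  obtain ⟨H, hH, hmax⟩ := Set.exists_max_image {H : Subgroup G | Fam p t S H}
    (fun H => (Nat.card H).factorization p) (Set.toFinite _) hne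
  obtain ⟨T₀, hT₀p, -, hT₀c, hM⟩ := step B hns ht ht1 hp hnc hH
  set M := Subgroup.normalizer (ZJ.zj 0 T₀ : Set G) with hMdef
  have hTM : T₀ ≤ M := le_norm_zj T₀
  have hfac : (Nat.card M).factorization p = (Nat.card H).factorization p := by
    refine le_antisymm (hmax M hM) ?_
    refine ((Fact.out : p.Prime).pow_dvd_iff_le_factorization Nat.card_pos.ne').mp ?_
    exact hT₀c ▸ Subgroup.card_dvd_of_le hTM
  let P₀ : Sylow p ↥M := Sylow.ofCard (T₀.subgroupOf M) (by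
    rw [Nat.card_congr (Subgroup.subgroupOfEquivOfLe hTM).toEquiv, hT₀c, hfac])
  have he : (P₀ : Subgroup ↥M).map M.subtype = T₀ := Subgroup.map_subgroupOf_eq_of_le hTM
  obtain ⟨R, hR⟩ := CfsgLib.BG.sylow_of_zj P₀ (by rw [he])
  rw [he] at hR
  exact ⟨R, by rw [hR]; exact hM, le_norm_zj _⟩

/-- `N(ZJ(R))` controls strong fusion in `R`. -/
theorem ctrl (R : Sylow p G) {A : Set G} (hA : A ⊆ (R : Subgroup G)) {x : G}
    (hx : ∀ a ∈ A, x * a * x⁻¹ ∈ (R : Subgroup G)) :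
    ∃ m ∈ Subgroup.normalizer (ZJ.zj 0 (R : Subgroup G) : Set G), ∀ a ∈ A, x * a * x⁻¹ = m * a * m⁻¹ := by
  have h := StrongFusion.controlsOf_zj hp
    (HallE8.free_of_abelian S (fun _ ha _ hb => (B.e8.sylow S).comm ha hb) hp) (Or.inl rfl) R
    (D := (R : Subgroup G)) ⟨le_rfl, fun _ _ _ hg => hg⟩ hA
  rw [StrongFusion.inducedFunctor_zjA, ← ZJ.zj_zero] at h
  exact h.2 x (by rintro _ ⟨a, ha, rfl⟩; exact hx a ha)

end Tower

end CfsgLib.Walter
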