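import Cfsg.Agent.Lib.Walter.CoreBalance
import Cfsg.Agent.S0217
import Cfsg.Agent.S1221

/-!
The signalizer `W` generated by the cores of the centralisers, and the end of G1 for `q ≥ 11`.

Blueprint: `blueprint/Walter.md`, G1 (4).
-/

set_option autoImplicit false
set_option linter.unusedSectionVars false
set_option linter.style.haveILetI false

namespace CfsgLib.Walter

open Cfsg CfsgLib.Comp
open CfsgLib.PSL2 (fieldAut)

universe u

/-- A subgroup holding the centralisers of the involutions of a Sylow subgroup it fuses has core in the core. -/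
theorem core_le_of_cent {X : Type u} [Group X] [Finite X] (S : Sylow 2 X) (hE : E8 (S : Subgroup X))
    {H : Subgroup X} (hSH : (S : Subgroup X) ≤ H) (hH : H ≠ ⊤)
    (hC : ∀ a ∈ (S : Subgroup X), a ≠ 1 → cT a ≤ H)
    (htr : ∀ a ∈ (S : Subgroup X), ∀ b ∈ (S : Subgroup X), a ≠ 1 → b ≠ 1 →
      ∃ n ∈ H ⊓ Subgroup.normalizer ((S : Subgroup X) : Set X), n * a * n⁻¹ = b) :
    OC H ≤ oddCore X := by
  haveI : Fact (Nat.Prime 2) := ⟨Nat.prime_two⟩
  obtain ⟨t, ht, ht1⟩ : ∃ t ∈ (S : Subgroup X), t ≠ 1 :=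
    (Subgroup.bot_or_exists_ne_one _).resolve_left fun e => by
      have := hE.1; rw [e, Subgroup.card_bot] at this; omega
  have hconj : ∀ j ∈ H, orderOf j = 2 → ∃ m ∈ H, m * t * m⁻¹ = j := by
    intro j hj hjo
    obtain ⟨Q, hQ⟩ := exists_mem_sylow (G := ↥H) (u := ⟨j, hj⟩) (by rw [Subgroup.orderOf_mk]; exact hjo)
    obtain ⟨c, hc⟩ := MulAction.exists_smul_eq ↥H (S.subtype hSH) Q
    rw [← hc, Sylow.coe_subgroup_smul] at hQ
    obtain ⟨s, hs, hsj⟩ := hQ
    have hsj' : (c : X) * s * (c : X)⁻¹ = j := congrArg Subtype.val hsj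
    have hs1 : (s : X) ≠ 1 := fun e => by
      rw [e, mul_one, mul_inv_cancel] at hsj'
      rw [← hsj', orderOf_one] at hjo
      omega
    obtain ⟨n, hn, hns⟩ := htr t ht s hs ht1 hs1
    exact ⟨c * n, mul_mem c.2 hn.1, by rw [← hsj', ← hns]; group⟩
  have hSE : IsStronglyEmbedded H := by
    refine ⟨hH, even_iff_two_dvd.mpr (hE.orderOf_eq_two ht ht1 ▸ Subgroup.orderOf_dvd_natCard H (hSH ht)),
      fun g hg => ?_⟩
    rw [← Nat.not_even_iff_odd, even_iff_two_dvd]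
    intro h2
    obtain ⟨⟨j, hjH, k, hk, hkj⟩, hj⟩ := exists_prime_orderOf_dvd_card' 2 h2
    rw [← Subgroup.orderOf_coe] at hj
    change orderOf j = 2 at hj
    have hkj' : g * k * g⁻¹ = j := hkj
    obtain ⟨m1, hm1, e1⟩ := hconj j hjH hj
    obtain ⟨m2, hm2, e2⟩ := hconj k hk (by rw [← hj, ← hkj', ← MulAut.conj_apply, MulEquiv.orderOf_eq])
    have hc : m1⁻¹ * g * m2 ∈ cT t := Subgroup.mem_centralizer_singleton_iff.mpr (by
      calc m1⁻¹ * g * m2 * t = m1⁻¹ * (g * (m2 * t * m2⁻¹) * g⁻¹) * g * m2 := by group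
        _ = t * (m1⁻¹ * g * m2) := by rw [e2, hkj', ← e1]; group)
    have h := H.mul_mem (H.mul_mem hm1 (hC t ht ht1 hc)) (H.inv_mem hm2)
    rw [show m1 * (m1⁻¹ * g * m2) * m2⁻¹ = g by group] at h
    exact hg h
  exact Cfsg.Agent.S1221.result H hSE

variable {G : Type u} [Group G] [Finite G]

/-- `C(t)/O_t`: an element commuting with the image of an involution lifts to one commuting with it. -/
theorem lift_cent {t x : G} (hx : x * x = 1) (hxt : Commute x t) {z : CQ t}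
    (hz : Commute z (br t ⟨x, mem_cT.mpr hxt⟩)) :
    ∃ u : ↥(cT t), Commute (u : G) x ∧ br t u = z := by
  obtain ⟨w₀, hw₀⟩ := bar_surjective 2 z
  set a : ↥(cT t) := ⟨x, mem_cT.mpr hxt⟩
  obtain ⟨w, hw, hwc⟩ := exists_fix (OC_odd (cT t)) (t := x) (y := (w₀ : G)) hx
    ((br_eq_one (x := w₀ * a * w₀⁻¹ * a)).mp (by
      rw [map_mul, map_mul, map_mul, map_inv, hw₀, hz.eq, mul_inv_cancel_right, ← map_mul,
        show a * a = 1 from Subtype.ext hx, map_one]))
  refine ⟨⟨w, Ot_le t hw⟩⁻¹ * w₀, hwc, ?_⟩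
  rw [map_mul, map_inv, br_eq_one.mpr hw, inv_one, one_mul, hw₀]

/-- The subgroup generated by the cores of the centralisers of the involutions of `S`. -/
def sig (S : Sylow 2 G) : Subgroup G := ⨆ a : {a : G // a ∈ (S : Subgroup G) ∧ a ≠ 1}, Ot (a : G)

theorem Ot_le_sig {S : Sylow 2 G} {a : G} (ha : a ∈ (S : Subgroup G)) (ha1 : a ≠ 1) : Ot a ≤ sig S :=
  le_iSup (fun a : {a : G // a ∈ (S : Subgroup G) ∧ a ≠ 1} => Ot (a : G)) ⟨a, ha, ha1⟩

section Sig

variable (B : Base G) (hns : ∀ u : G, orderOf u = 2 → ¬ Group.IsSolvable ↥(cT u)) (S : Sylow 2 G)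
include B hns

theorem bal {a b : G} (ha : a ∈ (S : Subgroup G)) (hb : b ∈ (S : Subgroup G)) (ha1 : a ≠ 1) (hb1 : b ≠ 1) :
    Ot a ⊓ cT b ≤ Ot b := by
  rcases eq_or_ne a b with rfl | h
  · exact inf_le_left
  · exact balance B hns ha hb ha1 hb1 h

theorem sig_spec : Odd (Nat.card (sig S)) ∧
    ∀ a ∈ (S : Subgroup G), a ≠ 1 → sig S ⊓ cT a = Ot a := by
  haveI : Fact (Nat.Prime 2) := ⟨Nat.prime_two⟩
  have hE := B.e8.sylow S
  have h := Cfsg.Agent.S0217.result (p := 2) (S : Subgroup G) (fun a ha b hb => hE.comm ha hb)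
    (fun a ha => by rw [pow_two]; exact hE.2 a ha) (by rw [hE.1]; norm_num) Ot
    (fun a _ _ => Ot_le a) (fun a _ _ h => Nat.not_even_iff_odd.mpr (OC_odd (cT a)) (even_iff_two_dvd.mpr h))
    (fun a ha _ b hb x hx => conj_Ot_mem (hE.comm hb ha) hx)
    (fun a _ _ => Cfsg.Agent.S0205.result (OC_odd (cT a)))
    (fun a ha ha1 b hb hb1 => bal B hns S ha hb ha1 hb1)
  exact ⟨Nat.odd_iff.mpr (Nat.two_dvd_ne_zero.mp h.1), h.2⟩

theorem norm_le_norm_sig : Subgroup.normalizer ((S : Subgroup G) : Set G) ≤ Subgroup.normalizer (sig S : Set G) := by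
  intro n hn
  refine mem_normalizer_of_maps fun z hz => ?_
  have hle : sig S ≤ (sig S).comap (MulAut.conj n).toMonoidHom := by
    refine iSup_le fun a => fun z hz => ?_
    exact Ot_le_sig ((Subgroup.mem_normalizer_iff.mp hn _).mp a.2.1)
      (fun e => a.2.2 (conj_eq_one_iff.mp e)) (conj_mem_Ot n hz)
  exact hle hz

theorem cent_le_norm_sig {a b : G} (ha : a ∈ (S : Subgroup G)) (hb : b ∈ (S : Subgroup G)) (ha1 : a ≠ 1)
    (hb1 : b ≠ 1) (hab : a ≠ b) : cT a ⊓ cT b ≤ Subgroup.normalizer (sig S : Set G) := by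
  haveI : Fact (Nat.Prime 2) := ⟨Nat.prime_two⟩
  have hE := B.e8.sylow S
  have haa := hE.2 a ha
  have hbb := hE.2 b hb
  have hcomm := hE.comm ha hb
  have hab1 : a * b ≠ 1 := fun e => hab ((mul_eq_one_iff_eq_inv.mp e).trans (inv_eq_of_mul_eq_one_right hbb))
  set V := PSL2Klein.four a b haa hbb hcomm
  haveI hK := PSL2Klein.four_klein haa hbb hcomm ha1 hb1 hab
  have hVS : V ≤ (S : Subgroup G) := by
    rintro x (rfl | rfl | rfl | rfl)
    exacts [one_mem _, ha, hb, mul_mem ha hb]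
  haveI : IsMulCommutative V := ⟨⟨fun a b => Subtype.ext (hE.comm (hVS a.2) (hVS b.2))⟩⟩
  set WB := Ot a ⊔ Ot b ⊔ Ot (a * b)
  have hVc : ∀ d ∈ V, d ≠ 1 → Ot d ≤ WB := by
    rintro d (rfl | rfl | rfl | rfl) hd
    · exact absurd rfl hd
    · exact le_sup_left.trans le_sup_left
    · exact le_sup_right.trans le_sup_left
    · exact le_sup_right
  have hW : sig S ≤ WB := by
    refine iSup_le fun c => ?_
    have h := CfsgLib.coprime_generated_by_centralizers (A := V) (K := Ot (c : G)) IsKleinFour.not_isCyclic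
      (hVS.trans (S_le_norm_Ot hE c.2.1))
      ((S_coprime S hE (OC_odd (cT (c : G)))).coprime_dvd_left (Subgroup.card_dvd_of_le hVS))
    rw [← h]
    exact iSup₂_le fun d hd => (bal B hns S c.2.1 (hVS hd.1) c.2.2 hd.2).trans (hVc d hd.1 hd.2)
  intro x hx
  have hxab : Commute x (a * b) := (mem_cT.mp hx.1).mul_right (mem_cT.mp hx.2)
  refine mem_normalizer_of_maps fun z hz => ?_
  have hle : WB ≤ (sig S).comap (MulAut.conj x).toMonoidHom := by
    refine sup_le (sup_le ?_ ?_) ?_ <;> intro z hz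
    · exact Ot_le_sig ha ha1 (conj_Ot_mem (mem_cT.mp hx.1) hz)
    · exact Ot_le_sig hb hb1 (conj_Ot_mem (mem_cT.mp hx.2) hz)
    · exact Ot_le_sig (mul_mem ha hb) hab1 (conj_Ot_mem hxab hz)
  exact hle (hW hz)

/-- For `q ≥ 11` the whole centraliser normalises `W`. -/
theorem cent_le_of_big {t : G} (ht : t ∈ (S : Subgroup G)) (ht1 : t ≠ 1) {C : Coord (CQ t)}
    {g b c : Matrix.ProjectiveSpecialLinearGroup (Fin 2) C.F} (A : Adapted S C g b c)
    (hq : 5 < Fintype.card C.F) : cT t ≤ Subgroup.normalizer (sig S : Set G) := by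
  haveI : Fact (Nat.Prime 2) := ⟨Nat.prime_two⟩
  have hE := B.e8.sylow S
  set N := Subgroup.normalizer (sig S : Set G)
  set Im := (N.subgroupOf (cT t)).map (br t) with hIm
  obtain ⟨x, hx, hxe⟩ := A.surj 0 b (Or.inr (Or.inl rfl))
  rw [show ((0 : Fin 2) : ℕ) = 0 from rfl, pow_zero, one_mul] at hxe
  have hx1 : x ≠ 1 := fun h => A.a4.b1 (C.ι_inj (by
    rw [map_one, ← hxe, show (⟨x, A.le hx⟩ : ↥(cT t)) = 1 from Subtype.ext h, map_one]))
  have hxt : x ≠ t := fun h => C.ι_ne_t b (by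
    rw [← hxe, A.t_eq]; exact congrArg (br t) (Subtype.ext h))
  have hcent : ∀ z, Commute z (C.ι b) → z ∈ Im := by
    intro z hz
    obtain ⟨u, hu, hue⟩ := lift_cent (hE.2 x hx) (hE.comm hx ht) (z := z) (by rw [hxe]; exact hz)
    exact ⟨u, cent_le_norm_sig B hns S ht hx ht1 hx1 (Ne.symm hxt) ⟨u.2, mem_cT.mpr hu⟩, hue⟩
  -- the cycle
  obtain ⟨n, hn, hnt, -, hact⟩ := A.exists_k hE ht
  set nb := br t ⟨n, mem_cT.mpr hnt⟩
  have hgI : C.ι g ∈ Im := by
    have hnI : nb ∈ Im := ⟨_, norm_le_norm_sig B hns S hn, rfl⟩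
    have hn' : nb * C.ι b * nb⁻¹ = C.ι c := by
      have h := hact x hx 0 b (by rw [hxe]; simp) ((Subgroup.mem_normalizer_iff.mp hn x).mp hx)
      rw [A.a4.gb, show ((0 : Fin 2) : ℕ) = 0 from rfl, pow_zero, one_mul] at h
      rw [← h, ← hxe, ← map_inv, ← map_mul, ← map_mul]
      rfl
    have hg' : C.ι g * C.ι b * (C.ι g)⁻¹ = C.ι c := by rw [← map_inv, ← map_mul, ← map_mul, A.a4.gb]
    have hz : Commute ((C.ι g)⁻¹ * nb) (C.ι b) := by
      refine mul_inv_eq_iff_eq_mul.mp ?_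
      calc (C.ι g)⁻¹ * nb * C.ι b * ((C.ι g)⁻¹ * nb)⁻¹ = (C.ι g)⁻¹ * (nb * C.ι b * nb⁻¹) * C.ι g := by group
        _ = C.ι b := by rw [hn', ← hg']; group
    have := mul_mem hnI (inv_mem (hcent _ hz))
    rwa [_root_.mul_inv_rev, inv_inv, ← mul_assoc, mul_inv_cancel, one_mul] at this
  have hb2 : b * b = 1 := A.a4.bb
  have hL : ∀ y, C.ι y ∈ Im := by
    have hco := cent_coatom C.hq hq hb2 A.a4.b1
    have hle : Subgroup.centralizer ({b} : Set _) ≤ Im.comap C.ι := fun y hy =>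
      hcent _ ((show Commute y b from Subgroup.mem_centralizer_singleton_iff.mp hy).map C.ι)
    have htop : Im.comap C.ι = ⊤ := by
      refine hco.2 _ (lt_of_le_of_ne hle fun h => ?_)
      have hg : g ∈ Im.comap C.ι := hgI
      rw [← h, Subgroup.mem_centralizer_singleton_iff] at hg
      exact A.a4.bc (by rw [← A.a4.gb, hg, mul_inv_cancel_right])
    exact fun y => (htop ▸ Subgroup.mem_top y : y ∈ Im.comap C.ι)
  intro y hy
  obtain ⟨i, v, j, e⟩ := C.cent (br t ⟨y, hy⟩) (by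
    rw [A.t_eq]
    exact (show Commute (⟨y, hy⟩ : ↥(cT t)) ⟨t, _⟩ from Subtype.ext (mem_cT.mp hy).eq).map (br t))
  have hyI : br t ⟨y, hy⟩ ∈ Im := by
    rw [e]
    exact mul_mem (mul_mem (pow_mem (hcent _ (C.t_ι b)) _) (hL v))
      (pow_mem (hcent _ (C.φ_comm (A.fixed C.σ).2.1)) _)
  obtain ⟨u, hu, hue⟩ := hyI
  have ho := br_eq.mp hue
  have h := N.mul_mem (show (u : G) ∈ N from hu) (Subgroup.le_normalizer (Ot_le_sig ht ht1 ho))
  rwa [mul_inv_cancel_left] at h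

/-- One covered centraliser is enough. -/
theorem sig_eq_bot_of_cent {t : G} (ht : t ∈ (S : Subgroup G)) (ht1 : t ≠ 1)
    (hC : cT t ≤ Subgroup.normalizer (sig S : Set G)) : sig S = ⊥ := by
  haveI := B.simple
  have hE := B.e8.sylow S
  by_contra hne
  have hsp := sig_spec B hns S
  have hN : Subgroup.normalizer (sig S : Set G) ≠ ⊤ := by
    intro h
    haveI : (sig S).Normal := Subgroup.normalizer_eq_top_iff.mp h
    rcases (inferInstance : (sig S).Normal).eq_bot_or_eq_top with e | e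
    · exact hne e
    · have h2 : 2 ∣ Nat.card G := (by norm_num : 2 ∣ 8).trans (B.e8.1 ▸ Subgroup.card_subgroup_dvd_card _)
      have h1 := hsp.1
      rw [e, Subgroup.card_top] at h1
      exact Nat.not_even_iff_odd.mpr h1 (even_iff_two_dvd.mpr h2)
  have hall : ∀ a ∈ (S : Subgroup G), a ≠ 1 → cT a ≤ Subgroup.normalizer (sig S : Set G) := by
    intro a ha ha1 z hz
    obtain ⟨n, hn, hna⟩ := B.trans S ht ha ht1 ha1
    have h1 : n⁻¹ * z * n ∈ cT t := by
      refine mem_cT.mpr ?_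
      have h := (mem_cT.mp hz).map (MulAut.conj n⁻¹).toMonoidHom
      simp only [MulEquiv.coe_toMonoidHom, MulAut.conj_apply, inv_inv] at h
      rwa [← hna, show n⁻¹ * (n * t * n⁻¹) * n = t by group] at h
    have hnN := norm_le_norm_sig B hns S hn
    have := mul_mem (mul_mem hnN (hC h1)) (inv_mem hnN)
    rwa [show n * (n⁻¹ * z * n) * n⁻¹ = z by group] at this
  have h1 := core_le_of_cent S hE
    (Subgroup.le_normalizer.trans (norm_le_norm_sig B hns S)) hN hall fun a ha b hb ha1 hb1 => by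
      obtain ⟨n, hn, hne⟩ := B.trans S ha hb ha1 hb1
      exact ⟨n, ⟨norm_le_norm_sig B hns S hn, hn⟩, hne⟩
  have h2 : oddCore G = ⊥ := (inferInstance : (oddCore G).Normal).eq_bot_or_eq_top.resolve_right fun e => by
    have h2 : 2 ∣ Nat.card G := (by norm_num : 2 ∣ 8).trans (B.e8.1 ▸ Subgroup.card_subgroup_dvd_card _)
    have h3 : (Nat.card (oddCore G)).Coprime 2 := card_pPrimeCore_coprime 2
    rw [e, Subgroup.card_top] at h3
    exact Nat.not_even_iff_odd.mpr (Nat.coprime_two_right.mp h3) (even_iff_two_dvd.mpr h2)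
  rw [h2, le_bot_iff] at h1
  exact hne (le_bot_iff.mp (h1 ▸ le_OC Subgroup.le_normalizer le_rfl hsp.1))

end Sig

end CfsgLib.Walter
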