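import Cfsg.Agent.Lib.Walter.EChars
import Cfsg.Agent.Lib.Blocks.KleinFour
import Cfsg.Agent.Lib.CharTheory.Twist

/-!
The principal 2-block of `E = L₂(q)⟨φ⟩`, `q ≡ 3 mod 8`.

Blueprint: `blueprint/Walter.md`, case (R).
-/

set_option autoImplicit false
set_option linter.unusedSectionVars false
set_option linter.style.haveILetI false

namespace CfsgLib.Walter.RB

open Cfsg CfsgLib CfsgLib.CharTheory CfsgLib.Blocks CfsgLib.PSL2
open scoped ComplexConjugate

universe u

variable {X : Type u} [Group X] [Finite X] (C : Coord X)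

local notation "LL" => Matrix.ProjectiveSpecialLinearGroup (Fin 2) C.F

/-- The four characters of the principal block of `E`. -/
structure EData [Fintype (E C)] (M : Ideal AlgInt) where
  St : IrrCharacter (E C)
  η : Fin 2 → IrrCharacter (E C)
  st_val : ∀ e, (St : E C → ℂ) e = line C e - 1
  η_deg : ∀ i, 2 * (η i : E C → ℂ) 1 = (Fintype.card C.F : ℂ) - 1
  η_inv : ∀ e, (η 1 : E C → ℂ) e = (η 0 : E C → ℂ) e⁻¹
  η_even : ∀ i (e : E C), 2 ∣ orderOf e → (η i : E C → ℂ) e = 1
  rel : ∀ e : E C, ¬ 2 ∣ orderOf e → (St : E C → ℂ) e = 1 + (η 0 : E C → ℂ) e + (η 1 : E C → ℂ) e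
  st_ne : St ≠ oneIrr (E C)
  η_ne : η 0 ≠ η 1
  η_ne_one : ∀ i, η i ≠ oneIrr (E C)
  η_ne_st : ∀ i, η i ≠ St
  st_mem : St ∈ principalBlock M (E C)
  η_mem : ∀ i, η i ∈ principalBlock M (E C)
  block : ∀ χ, χ ∈ principalBlock M (E C) → χ = oneIrr (E C) ∨ χ = St ∨ χ = η 0 ∨ χ = η 1
  galois : ∀ m : ℕ, m.Coprime (Nat.card (E C)) → (m : C.F) = -1 → ∀ e, (η 0 : E C → ℂ) (e ^ m) = (η 1 : E C → ℂ) e

variable (h3 : Fintype.card C.F % 8 = 3)
include h3

theorem eleven_le : 11 ≤ Fintype.card C.F := by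
  have := C.hq5
  omega

theorem card_LL : ∃ o, Odd o ∧ Nat.card LL = 4 * o := by
  classical
  obtain ⟨T, hδ, -⟩ := JankoThompson.tbl_neg (F := C.F) (y := (Fintype.card C.F + 1) / 4)
    (Nat.odd_iff.mpr (by omega)) (by omega)
  obtain ⟨hc, -⟩ := T.card_psl
  refine ⟨T.y * T.z * Fintype.card C.F, ?_, ?_⟩
  · exact (T.hy.mul T.coprimes.2.2.2).mul T.odd_card
  · have h : ((Nat.card LL : ℕ) : ℂ) = ((4 * (T.y * T.z * Fintype.card C.F) : ℕ) : ℂ) := by
      rw [hc]; push_cast; ring
    exact_mod_cast h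

/-- A Klein four Sylow subgroup of `E` and one class of involutions. -/
theorem exists_klein : ∃ P : Sylow 2 (E C), Nat.card P = 4 ∧ (∀ x : P, x * x = 1) ∧
    ∀ s t : E C, orderOf s = 2 → orderOf t = 2 → IsConj s t := by
  classical
  haveI : Fact (Nat.Prime 2) := ⟨Nat.prime_two⟩
  obtain ⟨g, b, c, hA, -⟩ := exists_fixed_A4 (F := C.F) C.two_ne
  have hK := PSL2Klein.four_klein hA.bb hA.cc hA.comm hA.b1 hA.c1 hA.bc
  set V := (PSL2Klein.four b c hA.bb hA.cc hA.comm).map (ιE C) with hV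
  have hV4 : Nat.card V = 4 := by
    rw [hV, Subgroup.card_map_of_injective (ιE_inj C)]
    exact hK.card_four
  obtain ⟨o, ho, hL⟩ := card_LL C h3
  have hfac : (Nat.card (E C)).factorization 2 = 2 := by
    rw [card_E, hL, mul_assoc, Nat.factorization_mul (by norm_num)
      (Nat.mul_ne_zero ho.pos.ne' C.odd_f.pos.ne'), Finsupp.add_apply,
      Nat.factorization_eq_zero_of_not_dvd (ho.mul C.odd_f).not_two_dvd_nat,
      show (4 : ℕ) = 2 ^ 2 by norm_num, Nat.prime_two.factorization_pow, Finsupp.single_eq_same]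
  let P : Sylow 2 (E C) := Sylow.ofCard V (by rw [hfac, hV4]; norm_num)
  have hsq : ∀ x ∈ V, x * x = 1 := by
    rintro _ ⟨v, hv, rfl⟩
    rw [← map_mul]
    rcases hv with rfl | rfl | rfl | rfl
    · rw [one_mul, map_one]
    · rw [hA.bb, map_one]
    · rw [hA.cc, map_one]
    · rw [show b * c * (b * c) = b * (c * b) * c by group, ← hA.comm, ← mul_assoc, hA.bb, one_mul, hA.cc, map_one]
  have hone : ∀ s : E C, orderOf s = 2 → IsConj s (ιE C b) := by
    intro s hs
    obtain ⟨Q, hQ'⟩ := (IsPGroup.of_card (n := 1) (by rw [Nat.card_zpowers, hs, pow_one]) :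
      IsPGroup 2 (Subgroup.zpowers s)).exists_le_sylow
    have hQ : s ∈ (Q : Subgroup (E C)) := hQ' (Subgroup.mem_zpowers s)
    obtain ⟨d, hd⟩ := MulAction.exists_smul_eq (E C) Q P
    have hm : d * s * d⁻¹ ∈ V := by
      show d * s * d⁻¹ ∈ (P : Subgroup (E C))
      rw [← hd, Sylow.coe_subgroup_smul]
      exact ⟨s, hQ, rfl⟩
    refine (isConj_iff.mpr ⟨d, rfl⟩ : IsConj s (d * s * d⁻¹)).trans ?_
    obtain ⟨v, hv, hvs⟩ := hm
    rw [← hvs]
    rcases hv with rfl | rfl | rfl | rfl
    · rw [map_one] at hvs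
      rw [conj_eq_one_iff.mp hvs.symm, orderOf_one] at hs
      omega
    · exact IsConj.refl _
    · exact ((ιE C).map_isConj (isConj_iff.mpr ⟨g, hA.gb⟩)).symm
    · refine ((ιE C).map_isConj ((isConj_iff.mpr ⟨g, hA.gb⟩).trans ?_)).symm
      exact isConj_iff.mpr ⟨g, hA.gc⟩
  exact ⟨P, hV4, fun x => Subtype.ext (hsq x x.2), fun s t hs ht => (hone s hs).trans (hone t ht).symm⟩

variable [Fintype (E C)] {M : Ideal AlgInt} (hM : IsPModular 2 M)
include hM

omit h3 in
theorem mem_principal_of_sum {χ : IrrCharacter (E C)}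
    (h : ∑ e ∈ Finset.univ.filter (fun e : E C => ¬ 2 ∣ orderOf e), (χ : E C → ℂ) e ≠ 0) :
    χ ∈ principalBlock M (E C) := by
  classical
  by_contra hc
  refine h ?_
  have h0 := regS_eq_zero hM (χ := χ) (ψ := oneIrr (E C)) (fun hs => hc (sameBlock_symm hM hs))
  rw [regS_eq_sum] at h0
  simpa [oneIrr] using h0

omit hM in
/-- A character extending half a principal series character of `L₂(q)`. -/
theorem exists_ext : ∃ ψ : IrrCharacter (E C),
    (∃ (f : LL → ℂ) (n : ℕ), 0 < n ∧ (∀ x, (ψ : E C → ℂ) (ιE C x) = n * f x) ∧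
      2 * f 1 = (Fintype.card C.F : ℂ) - 1 ∧ (∀ x : LL, Even (orderOf x) → f x = 1) ∧
      f (uu 1) ≠ f (uu 1)⁻¹) ∧
    ∑ e ∈ Finset.univ.filter (fun e : E C => ¬ 2 ∣ orderOf e), (ψ : E C → ℂ) e ≠ 0 := by
  classical
  letI : Fintype LL := Fintype.ofFinite _
  obtain ⟨f, hf, hf1, hfeven, hfu, hfs⟩ := exists_half (F := C.F) h3
  -- the function `f` on `L₂(q)`, zero outside
  set Ψ : E C → ℂ := Function.extend (ιE C) f 0 with hΨ
  have hΨι : ∀ x, Ψ (ιE C x) = f x := fun x => (ιE_inj C).extend_apply f 0 x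
  have hΨ0 : ∀ e : E C, proj C e ≠ 1 → Ψ e = 0 := fun e he =>
    Function.extend_apply' _ _ _ (by rintro ⟨x, rfl⟩; exact he (proj_ι C x))
  have hcomm : ∀ a b : Subgroup.zpowers C.φ, a * b * a⁻¹ = b := fun a b => by
    rw [mul_comm' a b, mul_inv_cancel_right]
  have hcl : IsClassFunction (E C) Ψ := by
    intro e g
    by_cases he : proj C e = 1
    · obtain ⟨y, rfl⟩ := proj_eq_one C he
      obtain ⟨x, j, rfl⟩ := exists_form C g
      rw [show ιE C x * φE C ^ j * ιE C y * (ιE C x * φE C ^ j)⁻¹ =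
          ιE C x * (φE C ^ j * ιE C y * (φE C ^ j)⁻¹) * (ιE C x)⁻¹ by group, conjE_pow, ← map_inv,
        ← map_mul, ← map_mul, hΨι, hΨι, isClassFunction_irr hf, hfs]
    · rw [hΨ0 e he, hΨ0 _ (by rwa [map_mul, map_mul, map_inv, hcomm])]
  have hsum : ∀ F : E C → ℂ, ∑ e, Ψ e * F e = ∑ x : LL, f x * F (ιE C x) := by
    intro F
    have h1 : ∑ x : LL, f x * F (ιE C x) = ∑ e ∈ Finset.univ.image (ιE C), Ψ e * F e := by
      rw [Finset.sum_image fun a _ b _ h => ιE_inj C h]
      exact Finset.sum_congr rfl fun x _ => by rw [hΨι]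
    rw [h1]
    refine (Finset.sum_subset (Finset.subset_univ _) fun e _ he => ?_).symm
    rw [hΨ0 e fun h => he (Finset.mem_image.mpr ?_), zero_mul]
    obtain ⟨x, rfl⟩ := proj_eq_one C h
    exact ⟨x, Finset.mem_univ _, rfl⟩
  -- restrictions
  have hres : ∀ ψ : IrrCharacter (E C), IsCharacter LL (fun x => (ψ : E C → ℂ) (ιE C x)) := fun ψ =>
    isCharacter_comp (isCharacter_of_irr ψ.2) (ιE C)
  choose N hN using fun (ψ : IrrCharacter (E C)) (φ : IrrCharacter LL) =>
    classInner_char_nat (hres ψ) (isCharacter_of_irr φ.2)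
  set f' : IrrCharacter LL := ⟨f, hf⟩ with hf'
  have hcoef : ∀ ψ : IrrCharacter (E C),
      classInner Ψ (ψ : E C → ℂ) = (Nat.card LL : ℂ) / Nat.card (E C) * (N ψ f' : ℂ) := by
    intro ψ
    have h1 : classInner f (fun x => (ψ : E C → ℂ) (ιE C x)) = (N ψ f' : ℂ) := by
      rw [← classInner_comm, hN ψ f', map_natCast]
    rw [← h1, classInner, classInner, hsum]
    have : (Nat.card LL : ℂ) ≠ 0 := Nat.cast_ne_zero.2 Nat.card_pos.ne'
    field_simp
  have hexp := eq_sum_irr hcl
  set w : ℂ := (Nat.card LL : ℂ) / Nat.card (E C)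
  have hw : w ≠ 0 := div_ne_zero (Nat.cast_ne_zero.2 Nat.card_pos.ne') (Nat.cast_ne_zero.2 Nat.card_pos.ne')
  -- constituents restrict to multiples of `f`
  have hmult : ∀ (ψ : IrrCharacter (E C)) (φ : IrrCharacter LL), φ ≠ f' → N ψ f' * N ψ φ = 0 := by
    intro ψ φ hφ
    have h0 : classInner f (φ : LL → ℂ) = 0 := classInner_irr_ne hf φ.2 fun e => hφ (Subtype.ext e.symm)
    have hf2 : f = fun x => ∑ χ : IrrCharacter (E C), w * (N χ f' : ℂ) * (χ : E C → ℂ) (ιE C x) := funext fun x => by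
      rw [← hΨι x]
      conv_lhs => rw [hexp]
      simp only [Finset.sum_apply, Pi.smul_apply, smul_eq_mul, hcoef]
    have h1 : classInner f (φ : LL → ℂ) = w * ∑ χ : IrrCharacter (E C), ((N χ f' * N χ φ : ℕ) : ℂ) := by
      rw [Finset.mul_sum, hf2]
      simp only [classInner, Finset.sum_mul, Finset.mul_sum]
      rw [Finset.sum_comm]
      refine Finset.sum_congr rfl fun χ _ => ?_
      push_cast
      rw [← hN χ φ, classInner, Finset.mul_sum, Finset.mul_sum, Finset.mul_sum]
      exact Finset.sum_congr rfl fun x _ => by ring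
    rw [h0, eq_comm, mul_eq_zero] at h1
    have h2 := h1.resolve_left hw
    rw [← Nat.cast_sum, Nat.cast_eq_zero] at h2
    exact (Finset.sum_eq_zero_iff.mp h2) ψ (Finset.mem_univ _)
  have hrest : ∀ ψ : IrrCharacter (E C), N ψ f' ≠ 0 → ∀ x, (ψ : E C → ℂ) (ιE C x) = N ψ f' * f x := by
    intro ψ hψ x
    have h := congrFun (eq_sum_irr (isClassFunction_char (hres ψ))) x
    simp only [Finset.sum_apply, Pi.smul_apply, smul_eq_mul] at h
    rw [h, Finset.sum_eq_single f' (fun φ _ hφ => by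
      rw [hN, (Nat.mul_eq_zero.mp (hmult ψ φ hφ)).resolve_left hψ, Nat.cast_zero, zero_mul]) (by simp), hN]
  -- one with a non-zero sum over the elements of odd order
  obtain ⟨ψ, hψN, hψS⟩ : ∃ ψ, N ψ f' ≠ 0 ∧
      ∑ e ∈ Finset.univ.filter (fun e : E C => ¬ 2 ∣ orderOf e), (ψ : E C → ℂ) e ≠ 0 := by
    by_contra hno
    push Not at hno
    have h0 : ∑ e ∈ Finset.univ.filter (fun e : E C => ¬ 2 ∣ orderOf e), Ψ e = 0 := by
      rw [Finset.sum_congr rfl fun e _ => congrFun hexp e]
      simp only [Finset.sum_apply, Pi.smul_apply, smul_eq_mul]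
      rw [Finset.sum_comm]
      refine Finset.sum_eq_zero fun χ _ => ?_
      rw [← Finset.mul_sum, hcoef]
      by_cases hχ : N χ f' = 0
      · rw [hχ]; simp
      · rw [hno χ hχ, mul_zero]
    have hord : ∀ x : LL, (¬ 2 ∣ orderOf (ιE C x)) ↔ ¬ Even (orderOf x) := fun x => by
      rw [orderOf_injective _ (ιE_inj C), even_iff_two_dvd]
    rw [Finset.sum_filter] at h0
    have h1 : ∑ x : LL, f x * (if ¬ Even (orderOf x) then (1 : ℂ) else 0) = 0 := by
      have := hsum fun e => if ¬ 2 ∣ orderOf e then (1 : ℂ) else 0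
      simp only [hord] at this
      refine (this.symm.trans ?_).trans h0
      exact Finset.sum_congr rfl fun e _ => by split <;> rename_i hc <;> simp [hc]
    have h2 : classInner f (fun _ => 1) = 0 := classInner_irr_ne hf isIrrCharacter_one fun e => by
      have h' := congrFun e 1
      rw [h'] at hf1
      have h'' : (Fintype.card C.F : ℂ) = 3 := by linear_combination -hf1
      have h''' : Fintype.card C.F = 3 := by exact_mod_cast h''
      have := C.hq5
      omega
    rw [classInner, mul_eq_zero] at h2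
    replace h2 := h2.resolve_left (inv_ne_zero (Nat.cast_ne_zero.2 Nat.card_pos.ne'))
    simp only [map_one, mul_one] at h2
    obtain ⟨g, b, c, hA, -⟩ := exists_fixed_A4 (F := C.F) C.two_ne
    have h3' : ∑ x : LL, (if Even (orderOf x) then (1 : ℂ) else 0) = 0 := by
      have e : ∀ x : LL, f x = f x * (if ¬ Even (orderOf x) then (1 : ℂ) else 0) +
          if Even (orderOf x) then (1 : ℂ) else 0 := fun x => by
        by_cases hx : Even (orderOf x)
        · simp [hx, hfeven x hx]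
        · simp [hx]
      rw [Finset.sum_congr rfl fun x _ => e x, Finset.sum_add_distrib, h1, zero_add] at h2
      exact h2
    rw [Finset.sum_boole, Nat.cast_eq_zero, Finset.card_eq_zero] at h3'
    have hb : b ∈ Finset.univ.filter fun x : LL => Even (orderOf x) := Finset.mem_filter.mpr
      ⟨Finset.mem_univ _, by
        rw [orderOf_eq_prime (p := 2) (by rw [pow_two]; exact hA.bb) hA.b1]; exact even_two⟩
    rw [h3'] at hb
    simp at hb
  exact ⟨ψ, ⟨f, N ψ f', Nat.pos_of_ne_zero hψN, hrest ψ hψN, hf1, hfeven, hfu⟩, hψS⟩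

/-- The principal block. -/
theorem exists_eData : Nonempty (EData C M) := by
  classical
  obtain ⟨P, hP4, hPexp, hPone⟩ := exists_klein C h3
  obtain ⟨a, hcard, ha1, hmem, hrel⟩ := klein_principal hM P hP4 hPexp hPone
  obtain ⟨St, hSt⟩ := exists_st C
  obtain ⟨η0, ⟨f, n, hn, hres, hf1, hfeven, hfu⟩, hη0S⟩ := exists_ext C h3
  have hq11 := eleven_le C h3
  have hη0mem := mem_principal_of_sum C hM hη0S
  obtain ⟨g, b, c, hA, -⟩ := exists_fixed_A4 (F := C.F) C.two_ne
  have hbo : orderOf b = 2 := orderOf_eq_prime (by rw [pow_two]; exact hA.bb) hA.b1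
  have hbE : orderOf (ιE C b) = 2 := by rw [orderOf_injective _ (ιE_inj C), hbo]
  have hn1 : n = 1 ∧ a η0 = 1 := by
    obtain ⟨ha, -, hv, -⟩ := hmem η0 hη0mem
    have h := hv _ hbE
    rw [hres, hfeven b (by rw [hbo]; exact even_two), mul_one] at h
    have h' : ((n : ℤ) : ℂ) = ((a η0 : ℤ) : ℂ) := by exact_mod_cast h
    have h'' : (n : ℤ) = a η0 := Int.cast_injective h'
    omega
  obtain ⟨rfl, haη⟩ := hn1
  simp only [Nat.cast_one, one_mul] at hres
  -- powers of `η0`
  have hpow : ∀ {m : ℕ} (hm : m.Coprime (Nat.card (E C))), powIrr hm η0 ∈ principalBlock M (E C) := by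
    intro m hm
    refine mem_principal_of_sum C hM ?_
    convert hη0S using 1
    refine Finset.sum_bijective (fun e : E C => e ^ m) (pow_bijective_coprime hm.symm) (fun e => ?_)
      (fun e _ => rfl)
    simp only [Finset.mem_filter, Finset.mem_univ, true_and]
    rw [Nat.Coprime.orderOf_pow (hm.symm.coprime_dvd_left (orderOf_dvd_natCard e))]
  set η1 := powIrr (coprime_card_sub_one (G := E C)) η0 with hη1
  have hη1v : ∀ e, (η1 : E C → ℂ) e = (η0 : E C → ℂ) e⁻¹ := fun e => by
    show (η0 : E C → ℂ) (e ^ (Nat.card (E C) - 1)) = _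
    rw [pow_card_sub_one]
  have hdeg0 : 2 * (η0 : E C → ℂ) 1 = (Fintype.card C.F : ℂ) - 1 := by rw [← map_one (ιE C), hres, hf1]
  have hdeg1 : 2 * (η1 : E C → ℂ) 1 = (Fintype.card C.F : ℂ) - 1 := by rw [hη1v, inv_one, hdeg0]
  have hSt1 : (St : E C → ℂ) 1 = (Fintype.card C.F : ℂ) := by rw [hSt, line_one]; ring
  have hnum : ∀ {χ : IrrCharacter (E C)}, 2 * (χ : E C → ℂ) 1 = (Fintype.card C.F : ℂ) - 1 →
      χ ≠ oneIrr (E C) ∧ χ ≠ St := by
    intro χ h
    constructor
    · rintro rfl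
      have h' : (Fintype.card C.F : ℂ) = 3 := by
        simp only [oneIrr] at h
        linear_combination -h
      have : Fintype.card C.F = 3 := by exact_mod_cast h'
      omega
    · rintro rfl
      rw [hSt1] at h
      have h' : (Fintype.card C.F : ℂ) + 1 = 0 := by linear_combination h
      exact absurd (by exact_mod_cast h' : Fintype.card C.F + 1 = 0) (by omega)
  have hStne : St ≠ oneIrr (E C) := fun e => by
    rw [e] at hSt1
    have : Fintype.card C.F = 1 := by exact_mod_cast (hSt1.symm.trans rfl : (Fintype.card C.F : ℂ) = 1)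
    omega
  have hStmem : St ∈ principalBlock M (E C) := by
    refine mem_principal_of_sum C hM ?_
    have h0 : ∑ e, (St : E C → ℂ) e = 0 := by
      have h := classInner_irr_ne St.2 isIrrCharacter_one fun e => hStne (Subtype.ext e)
      rw [classInner, mul_eq_zero] at h
      simpa using h.resolve_left (inv_ne_zero (Nat.cast_ne_zero.2 Nat.card_pos.ne'))
    rw [← Finset.sum_filter_add_sum_filter_not Finset.univ (fun e : E C => ¬ 2 ∣ orderOf e),
      Finset.sum_congr rfl (fun e (he : e ∈ Finset.univ.filter fun e : E C => ¬ ¬ 2 ∣ orderOf e) =>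
        (show (St : E C → ℂ) e = -1 by
          rw [hSt, line_even C h3 (not_not.mp (Finset.mem_filter.mp he).2), zero_sub])),
      Finset.sum_const, nsmul_eq_mul, mul_neg_one, add_neg_eq_zero] at h0
    rw [h0, Nat.cast_ne_zero, Finset.card_ne_zero]
    exact ⟨ιE C b, Finset.mem_filter.mpr ⟨Finset.mem_univ _, by rw [hbE]; decide⟩⟩
  have hη1mem : η1 ∈ principalBlock M (E C) := hpow _
  have hne01 : η0 ≠ η1 := fun e => hfu (by
    have h := congrFun (congrArg Subtype.val e) (ιE C (uu 1))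
    rw [hη1v, ← map_inv, hres, hres] at h
    exact h)
  have haSt : a St = -1 := by
    obtain ⟨-, -, hv, -⟩ := hmem St hStmem
    have h := hv _ hbE
    rw [hSt, line_even C h3 (by rw [hbE]), zero_sub] at h
    exact_mod_cast h.symm
  have haη1 : a η1 = 1 := by
    obtain ⟨-, -, hv, -⟩ := hmem η1 hη1mem
    have h := hv _ hbE
    rw [hη1v, ← map_inv, hres, hfeven _ (by rw [orderOf_inv, hbo]; exact even_two)] at h
    exact_mod_cast h.symm
  have hset : bset (principalBlock M (E C)) = {oneIrr (E C), St, η0, η1} := by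
    refine (Finset.eq_of_subset_of_card_le (fun χ hχ => mem_bset.mpr ?_) ?_).symm
    · simp only [Finset.mem_insert, Finset.mem_singleton] at hχ
      rcases hχ with rfl | rfl | rfl | rfl
      exacts [oneIrr_mem hM, hStmem, hη0mem, hη1mem]
    · rw [hcard, Finset.card_insert_of_notMem, Finset.card_insert_of_notMem, Finset.card_pair hne01]
      · simp [(hnum hdeg0).2.symm, (hnum hdeg1).2.symm]
      · simp [hStne.symm, (hnum hdeg0).1.symm, (hnum hdeg1).1.symm]
  have hblock : ∀ χ, χ ∈ principalBlock M (E C) → χ = oneIrr (E C) ∨ χ = St ∨ χ = η0 ∨ χ = η1 := fun χ hχ => by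
    have := mem_bset.mpr hχ
    rw [hset] at this
    simpa using this
  refine ⟨{
    St := St, η := ![η0, η1], st_val := hSt, η_deg := fun i => ?_, η_inv := fun e => hη1v e
    η_even := fun i e he => ?_, rel := fun e he => ?_, st_ne := hStne, η_ne := hne01
    η_ne_one := fun i => ?_, η_ne_st := fun i => ?_, st_mem := hStmem, η_mem := fun i => ?_
    block := hblock, galois := fun m hm hm1 e => ?_ }⟩
  · fin_cases i
    exacts [hdeg0, hdeg1]
  · fin_cases i
    · have := (hmem η0 hη0mem).2.2.2 e he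
      simpa [haη] using this
    · have := (hmem η1 hη1mem).2.2.2 e he
      simpa [haη1] using this
  · have h := hrel e he
    rw [hset, Finset.sum_insert (by simp [hStne.symm, (hnum hdeg0).1.symm, (hnum hdeg1).1.symm]),
      Finset.sum_insert (by simp [(hnum hdeg0).2.symm, (hnum hdeg1).2.symm]), Finset.sum_pair hne01,
      ha1, haSt, haη, haη1] at h
    simp only [oneIrr] at h
    push_cast at h
    show (St : E C → ℂ) e = 1 + (η0 : E C → ℂ) e + (η1 : E C → ℂ) e
    linear_combination -h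
  · fin_cases i
    exacts [(hnum hdeg0).1, (hnum hdeg1).1]
  · fin_cases i
    exacts [(hnum hdeg0).2, (hnum hdeg1).2]
  · fin_cases i
    exacts [hη0mem, hη1mem]
  · show (η0 : E C → ℂ) (e ^ m) = (η1 : E C → ℂ) e
    have hd : 2 * (powIrr hm η0 : E C → ℂ) 1 = (Fintype.card C.F : ℂ) - 1 := by
      show 2 * (η0 : E C → ℂ) (1 ^ m) = _
      rw [one_pow, hdeg0]
    rcases hblock _ (hpow hm) with h | h | h | h
    · exact absurd h (hnum hd).1
    · exact absurd h (hnum hd).2
    · exfalso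
      refine hfu ?_
      have h' := congrFun (congrArg Subtype.val h) (ιE C (uu 1))
      change (η0 : E C → ℂ) (ιE C (uu 1) ^ m) = (η0 : E C → ℂ) (ιE C (uu 1)) at h'
      rw [← map_pow, hres, hres] at h'
      rw [← h']
      congr 1
      rw [← map_pow, ← ofAdd_nsmul, nsmul_one, hm1, ← map_inv]
      rfl
    · exact congrFun (congrArg Subtype.val h) e

end CfsgLib.Walter.RB
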