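import Cfsg.Agent.Lib.Walter.EGroup
import Cfsg.Agent.Lib.CharTheory.PermChar
import Cfsg.Agent.Lib.JankoThompson.PSLChar

/-!
Characters of `E = L₂(q)⟨φ⟩`, `q ≡ 3 mod 8`: the Steinberg character from the action on the projective
line, and the halves of `L₂(q)`.

Blueprint: `blueprint/Walter.md`, case (R).
-/

set_option autoImplicit false
set_option linter.unusedSectionVars false
set_option linter.style.haveILetI false

namespace CfsgLib.Walter.RB

open Cfsg CfsgLib CfsgLib.CharTheory CfsgLib.PSL2
open scoped ComplexConjugate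

universe u

section Half

open CfsgLib.JankoThompson CfsgLib.SL2Char

variable {F : Type} [Field F] [Fintype F] [DecidableEq F]

local notation "PSL" => Matrix.ProjectiveSpecialLinearGroup (Fin 2) F

theorem mk_bor_uu {e : Fˣ} (he : e ^ 2 = 1) (x : F) :
    (mk (bor e x) : PSL) = uu (((e⁻¹ : Fˣ) : F) * x) := by
  have h : bor e x = bor e 0 * bor 1 (((e⁻¹ : Fˣ) : F) * x) := by
    rw [bor_mul, mul_one]; congr 1; simp
  rw [h, map_mul, JankoThompson.mk_bor_scalar he, one_mul, uu_eq]
  exact congrArg _ (Subtype.ext (by simp [coe_uSL]))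

theorem isConj_uu_sq {a : F} (ha : a ≠ 0) (y : F) : IsConj (uu y : PSL) (uu (a ^ 2 * y)) :=
  isConj_iff.mpr ⟨mk (dSL a ha), by
    rw [conj_uu_of_upper _ (by simp [coe_dSL]) y]; simp [coe_dSL]⟩

/-- An automorphism of the field preserves the classes of the unipotent elements. -/
theorem isConj_uu_aut (h2 : (2 : F) ≠ 0) (s : F ≃+* F) (y : F) : IsConj (uu y : PSL) (uu (s y)) := by
  by_cases hy : y = 0
  · rw [hy, map_zero]
  have hch : ringChar F ≠ 2 := fun e => h2 (by
    have := ringChar.Nat.cast_ringChar (R := F)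
    rw [e] at this
    exact_mod_cast this)
  have hsy : s y / y ≠ 0 := div_ne_zero (fun e => hy (s.injective (e.trans (map_zero s).symm))) hy
  obtain ⟨a, ha⟩ := (FiniteField.isSquare_iff hch hsy).mpr (by
    rw [div_pow, ← map_pow]
    rcases FiniteField.pow_dichotomy hch hy with e | e <;> rw [e] <;> simp)
  have hay : s y = a ^ 2 * y := by rw [pow_two, ← ha, div_mul_cancel₀ _ hy]
  rw [hay]
  exact isConj_uu_sq (fun e => hsy (by rw [ha, e, mul_zero])) y

/-- Half of a principal series character of `L₂(q)`, `q ≡ 3 mod 8`. -/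
theorem exists_half [Fintype PSL] (hq : Fintype.card F % 8 = 3) :
    ∃ f : PSL → ℂ, IsIrrCharacter PSL f ∧ 2 * f 1 = (Fintype.card F : ℂ) - 1 ∧
      (∀ x : PSL, Even (orderOf x) → f x = 1) ∧ f (uu 1) ≠ f (uu 1)⁻¹ ∧
      ∀ (s : F ≃+* F) (x : PSL), f (fieldAut s x) = f x := by
  classical
  obtain ⟨T, hδ, -⟩ := tbl_neg (F := F) (y := (Fintype.card F + 1) / 4)
    (Nat.odd_iff.mpr (by omega)) (by omega)
  have h2 := T.two_ne
  choose f hf hfv using fun i => exists_desc (T.f_irr i) (T.f_scalar i)
  obtain ⟨Δ, hΔ⟩ : ∃ Δ : PSL → ℂ, Δ = f 0 - f 1 := ⟨_, rfl⟩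
  have hne : f 0 ≠ f 1 := fun e => T.f_ne (funext fun g => by rw [hfv, hfv, e])
  have hcl : IsClassFunction PSL Δ :=
    hΔ ▸ isClassFunction_sub (isClassFunction_irr (hf 0)) (isClassFunction_irr (hf 1))
  have hdeg : ∀ i, 2 * f i 1 = (Fintype.card F : ℂ) - 1 := fun i => by
    have := T.f_deg i
    rw [hfv, map_one, hδ] at this
    rw [this]; push_cast; ring
  -- the difference lives on the unipotent elements
  have hsupp : ∀ g : PSL, Δ g ≠ 0 → ∃ y : F, y ≠ 0 ∧ IsConj g (uu y) := by
    intro g hg
    rcases T.kinds g with rfl | ⟨e, x, he, hx, h⟩ | ⟨a, ha, h1, h⟩ | ⟨b, hb, h1, h⟩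
    · exfalso
      refine hg ?_
      rw [hΔ, Pi.sub_apply]
      linear_combination (hdeg 0 - hdeg 1) / 2
    · exact ⟨_, mul_ne_zero (Units.ne_zero _) hx, mk_bor_uu he x ▸ h⟩
    · exfalso
      refine hg ?_
      rw [cl_eq hcl h, hΔ, Pi.sub_apply, ← hfv, ← hfv, T.f_A 0 a ha h1, T.f_A 1 a ha h1, sub_self]
    · exfalso
      refine hg ?_
      rw [cl_eq hcl h, hΔ, Pi.sub_apply, ← hfv, ← hfv, T.f_B 0 b hb h1, T.f_B 1 b hb h1, sub_self]
  refine ⟨f 0, hf 0, hdeg 0, fun x hx => ?_, fun heq => ?_, fun s => ?_⟩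
  · obtain ⟨a, ha, hay, h⟩ := T.invol_cases hx
    rw [cl_eq (isClassFunction_irr (hf 0)) h, ← hfv, T.f_A 0 a ha (fun e => hay (by rw [e, one_pow])),
      hδ, if_neg hay]
    simp
  · -- otherwise the difference is constant on the unipotent elements
    have hsum : ∀ y : F, y ≠ 0 → f 0 (uu y) + f 1 (uu y) = -1 := fun y hy => by
      have := T.f_unip 1 y (one_pow 2) hy
      rw [hfv, hfv, mk_bor_uu (one_pow 2), hδ] at this
      simpa using this
    have hinv : (uu 1 : PSL)⁻¹ = uu (-1) := inv_eq_of_mul_eq_one_right (by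
      rw [← map_mul, ← ofAdd_add, add_neg_cancel, ofAdd_zero, map_one])
    rw [hinv] at heq
    have hch : ringChar F ≠ 2 := fun e => h2 (by
      have := ringChar.Nat.cast_ringChar (R := F)
      rw [e] at this
      exact_mod_cast this)
    have hns : ¬ IsSquare (-1 : F) := fun h => by
      have := FiniteField.isSquare_neg_one_iff.mp h
      omega
    have hcls : ∀ y : F, y ≠ 0 → IsConj (uu y : PSL) (uu 1) ∨ IsConj (uu y : PSL) (uu (-1)) := by
      intro y hy
      by_cases hs : IsSquare y
      · obtain ⟨a, rfl⟩ := hs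
        left
        have := (isConj_uu_sq (F := F) (left_ne_zero_of_mul hy) 1).symm
        rwa [mul_one, pow_two] at this
      · right
        obtain ⟨a, ha⟩ : IsSquare (-y) := by
          rw [FiniteField.isSquare_iff hch (neg_ne_zero.mpr hy)]
          have h1 : y ^ (Fintype.card F / 2) = -1 := (FiniteField.pow_dichotomy hch hy).resolve_left
            fun e => hs ((FiniteField.isSquare_iff hch hy).mpr e)
          rw [neg_pow, h1, Odd.neg_one_pow (Nat.odd_iff.mpr (by omega)), neg_mul_neg, one_mul]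
        have hy' : y = a ^ 2 * -1 := by rw [pow_two, ← ha]; ring
        rw [hy']
        exact (isConj_uu_sq (F := F) (fun e => hy (by rw [hy', e]; ring)) (-1)).symm
    have hconst : ∀ y : F, y ≠ 0 → Δ (uu y) = Δ (uu 1) := by
      intro y hy
      rcases hcls y hy with h | h <;> rw [cl_eq hcl h]
      rw [hΔ, Pi.sub_apply, Pi.sub_apply]
      linear_combination (-2 : ℂ) * heq + hsum 1 one_ne_zero - hsum (-1) (neg_ne_zero.mpr one_ne_zero)
    set d := Δ (uu 1)
    have hval : ∀ g : PSL, Δ g = if Δ g = 0 then 0 else d := fun g => by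
      split_ifs with h
      · exact h
      · obtain ⟨y, hy, hc⟩ := hsupp g h
        rw [cl_eq hcl hc, hconst y hy]
    have hne0 : classInner (f 0) (fun _ => 1) = 0 ∧ classInner (f 1) (fun _ => 1) = 0 := by
      have h1 : ∀ i, f i ≠ fun _ => 1 := fun i e => (T.f_base i).1 (funext fun g => by rw [hfv, e])
      exact ⟨classInner_irr_ne (hf 0) isIrrCharacter_one (h1 0), classInner_irr_ne (hf 1) isIrrCharacter_one (h1 1)⟩
    have h0 : classInner Δ (fun _ => 1) = 0 := by rw [hΔ, classInner_sub_left, hne0.1, hne0.2, sub_zero]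
    rw [classInner, mul_eq_zero] at h0
    replace h0 := h0.resolve_left (inv_ne_zero (Nat.cast_ne_zero.2 Nat.card_pos.ne'))
    simp only [map_one, mul_one] at h0
    rw [Finset.sum_congr rfl fun g _ => hval g, Finset.sum_ite, Finset.sum_const_zero, zero_add,
      Finset.sum_const, nsmul_eq_mul, mul_eq_zero] at h0
    refine hne (funext fun g => sub_eq_zero.mp ?_)
    rw [← Pi.sub_apply, ← hΔ]
    rcases h0 with h0 | h0
    · by_contra hg
      rw [Nat.cast_eq_zero, Finset.card_eq_zero] at h0
      have : g ∈ Finset.univ.filter fun g => ¬ Δ g = 0 := Finset.mem_filter.mpr ⟨Finset.mem_univ _, hg⟩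
      rw [h0] at this
      simp at this
    · rw [hval g, h0, ite_self]
  · have hΔs : ∀ g, Δ (fieldAut s g) = Δ g := by
      intro g
      by_cases hg : Δ g = 0
      · by_contra hne'
        rw [hg] at hne'
        obtain ⟨y, -, hc⟩ := hsupp _ hne'
        have hc' : IsConj g (uu y) := by
          have h1 := (fieldAut s).symm.toMonoidHom.map_isConj hc
          simp only [MulEquiv.coe_toMonoidHom, MulEquiv.symm_apply_apply] at h1
          refine h1.trans ?_
          have e : (fieldAut s).symm (uu y : PSL) = uu (s.symm y) := by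
            rw [MulEquiv.symm_apply_eq, fieldAut_uu, RingEquiv.apply_symm_apply]
          rw [e]
          exact (isConj_uu_aut h2 s.symm y).symm
        refine hne' ?_
        rw [cl_eq hcl hc, ← cl_eq hcl hc', hg]
      · obtain ⟨y, -, hc⟩ := hsupp g hg
        have h1 : IsConj (fieldAut s g) (fieldAut s (uu y)) := (fieldAut s).toMonoidHom.map_isConj hc
        rw [fieldAut_uu] at h1
        rw [cl_eq hcl h1, ← cl_eq hcl (isConj_uu_aut h2 s y), cl_eq hcl hc]
    have hi : IsIrrCharacter PSL (fun g => f 0 (fieldAut s g)) :=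
      isIrrCharacter_comp_surjective (hf 0) (fieldAut s).toMonoidHom (fieldAut s).surjective
    have hin : classInner (fun g => f 0 (fieldAut s g)) Δ = 1 := by
      have e : classInner (fun g => f 0 (fieldAut s g)) Δ = classInner (f 0) Δ := by
        simp only [classInner]
        congr 1
        exact Fintype.sum_equiv (fieldAut s).toEquiv _ _ fun g => by
          show f 0 (fieldAut s g) * _ = f 0 (fieldAut s g) * _
          rw [show (fieldAut s).toEquiv g = fieldAut s g from rfl, hΔs]
      rw [e, hΔ, classInner_sub_right, classInner_irr_self (hf 0), classInner_irr_ne (hf 0) (hf 1) hne, sub_zero]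
    have heq : (fun g => f 0 (fieldAut s g)) = f 0 := by
      by_contra h'
      rw [hΔ, classInner_sub_right, classInner_irr_ne hi (hf 0) h', zero_sub] at hin
      by_cases h1 : (fun g => f 0 (fieldAut s g)) = f 1
      · rw [h1, classInner_irr_self (hf 1)] at hin
        norm_num at hin
      · rw [classInner_irr_ne hi (hf 1) h1] at hin
        norm_num at hin
    exact fun g => congrFun heq g

end Half

variable {X : Type u} [Group X] [Finite X] (C : Coord X)

local notation "LL" => Matrix.ProjectiveSpecialLinearGroup (Fin 2) C.F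

/-- The permutation character on the projective line. -/
noncomputable def line (e : E C) : ℂ := (permChar (Hb C) e : ℂ)

theorem line_pow (n : ℕ) :
    line C (φE C ^ n) = 1 + (Nat.card {a : C.F // (C.σ ^ n : RingAut C.F) a = a} : ℂ) := by
  classical
  have h1 : Nat.card (MulAction.fixedBy (E C ⧸ Hb C) (φE C ^ n)) =
      Nat.card (Option {a : C.F // (C.σ ^ n : RingAut C.F) a = a}) := by
    have hmem : ∀ o : Option {a : C.F // (C.σ ^ n : RingAut C.F) a = a},
        cos C (o.map Subtype.val) ∈ MulAction.fixedBy (E C ⧸ Hb C) (φE C ^ n) := by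
      intro o
      rw [MulAction.mem_fixedBy, smul_cos]
      rcases o with _ | ⟨a, ha⟩
      · rfl
      · exact congrArg _ (congrArg some ha)
    refine (Nat.card_congr (Equiv.ofBijective (fun o => ⟨cos C (o.map Subtype.val), hmem o⟩) ⟨?_, ?_⟩)).symm
    · intro a b h
      exact Option.map_injective Subtype.val_injective ((cos_bij C).1 (congrArg Subtype.val h))
    · rintro ⟨c, hc⟩
      obtain ⟨o, rfl⟩ := (cos_bij C).2 c
      rw [MulAction.mem_fixedBy, smul_cos] at hc
      have := (cos_bij C).1 hc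
      rcases o with _ | a
      · exact ⟨none, rfl⟩
      · exact ⟨some ⟨a, Option.some.inj this⟩, rfl⟩
  rw [line, permChar, h1, Finite.card_option]
  push_cast
  ring

theorem line_one : line C 1 = (Fintype.card C.F : ℂ) + 1 := by
  rw [← pow_zero (φE C), line_pow]
  have : Nat.card {a : C.F // (C.σ ^ 0 : RingAut C.F) a = a} = Fintype.card C.F := by
    rw [← Nat.card_eq_fintype_card]
    exact Nat.card_congr (Equiv.subtypeUnivEquiv fun a => by rw [pow_zero]; rfl)
  rw [this]
  ring

theorem line_conj (a g : E C) : line C (g * a * g⁻¹) = line C a := by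
  rw [line, line, permChar_conj]

theorem line_pow_coprime (e : E C) {m : ℕ} (hm : m.Coprime (Nat.card (E C))) :
    line C (e ^ m) = line C e := by
  rw [line, line]
  congr 1
  refine permChar_zpowers _ (le_antisymm (Subgroup.zpowers_le.mpr (Subgroup.pow_mem _ (Subgroup.mem_zpowers e) m)) ?_)
  exact Subgroup.zpowers_le.mpr (mem_of_pow_mem_of_coprime
    (hm.symm.coprime_dvd_left (orderOf_dvd_natCard e)) (Subgroup.mem_zpowers _))

variable (h3 : Fintype.card C.F % 8 = 3)
include h3

/-- The Borel subgroup has odd order. -/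
theorem Hb_no_involution {e : E C} (he : e ∈ Hb C) (h2 : e * e = 1) : e = 1 := by
  obtain ⟨x, rfl⟩ := involution_ι C h2
  rw [← map_mul, ← map_one (ιE C)] at h2
  have hx2 := ιE_inj C h2
  rw [ι_mem_Hb] at he
  obtain ⟨A, rfl⟩ := QuotientGroup.mk'_surjective _ x
  by_contra hne
  have htr := (PSL2Klein.invol_iff C.two_ne).mp ⟨fun e' => hne (by
    show ιE C (mk A) = 1
    rw [e', map_one]), hx2⟩
  have hdet := A.2
  rw [Matrix.det_fin_two, (mem_NU C).mp he, mul_zero, sub_zero] at hdet
  rw [Matrix.trace_fin_two] at htr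
  have hneg : IsSquare (-1 : C.F) := ⟨A.1 0 0, by linear_combination hdet - A.1 0 0 * htr⟩
  have := FiniteField.isSquare_neg_one_iff.mp hneg
  omega

theorem line_even {e : E C} (he : 2 ∣ orderOf e) : line C e = 0 := by
  rw [line, permChar, Int.cast_natCast, Nat.cast_eq_zero, Nat.card_eq_zero]
  left
  refine ⟨fun ⟨c, hc⟩ => ?_⟩
  obtain ⟨y, rfl⟩ := QuotientGroup.mk_surjective c
  rw [MulAction.mem_fixedBy, fix_mk_iff] at hc
  have ho : orderOf (y⁻¹ * e * y) = orderOf e := by
    simpa [MulAut.conj_apply] using MulEquiv.orderOf_eq (MulAut.conj y⁻¹) e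
  set d := y⁻¹ * e * y
  obtain ⟨k, hk⟩ := he
  have hk' : orderOf (d ^ k) = 2 := by
    have hk0 : k ≠ 0 := fun e0 => (orderOf_pos e).ne' (by rw [hk, e0, mul_zero])
    rw [orderOf_pow' _ hk0, ho, hk, Nat.gcd_mul_left_left, Nat.mul_div_cancel _ (Nat.pos_of_ne_zero hk0)]
  have h1 : d ^ k = 1 := Hb_no_involution C h3 ((Hb C).pow_mem hc k) (by
    rw [← pow_two, ← hk', pow_orderOf_eq_one])
  rw [h1, orderOf_one] at hk'
  omega

omit h3 in
theorem orbit_cases (o : Option C.F) :
    cos C o ∈ MulAction.orbit (Hb C) (cos C none) ∨ cos C o ∈ MulAction.orbit (Hb C) (cos C (some 0)) := by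
  rcases o with _ | a
  · exact Or.inl (MulAction.mem_orbit_self _)
  · exact Or.inr ⟨⟨ιE C (uu a), (ι_mem_Hb C).mpr (uu_mem_NU C a)⟩, by
      show ιE C (uu a) • cos C (some 0) = cos C (some a)
      rw [uu_smul_cos, add_zero]⟩

omit h3 in
theorem sum_line_Hb [Fintype (Hb C)] :
    ∑ h : Hb C, line C (h : E C) = 2 * (Nat.card (Hb C) : ℂ) := by
  classical
  haveI : Fintype (E C ⧸ Hb C) := Fintype.ofFinite _
  haveI : ∀ h : Hb C, Fintype (MulAction.fixedBy (E C ⧸ Hb C) h) := fun h => Fintype.ofFinite _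
  haveI : Fintype (Quotient (MulAction.orbitRel (Hb C) (E C ⧸ Hb C))) := Fintype.ofFinite _
  have h := MulAction.sum_card_fixedBy_eq_card_orbits_mul_card_group (Hb C) (E C ⧸ Hb C)
  have h2 : Fintype.card (Quotient (MulAction.orbitRel (Hb C) (E C ⧸ Hb C))) = 2 := by
    rw [← Nat.card_eq_fintype_card, Nat.card_eq_two_iff]
    refine ⟨Quotient.mk _ (cos C none), Quotient.mk _ (cos C (some 0)), fun e => ?_, ?_⟩
    · obtain ⟨⟨g, hg⟩, hgs⟩ := (Quotient.exact e : cos C none ∈ MulAction.orbit (Hb C) (cos C (some 0)))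
      have hgs' : g • cos C (some 0) = cos C none := hgs
      rw [cos, cos, MulAction.Quotient.smul_coe, smul_eq_mul, QuotientGroup.eq, mul_one, inv_mem_iff,
        Subgroup.mul_mem_cancel_left _ hg, ι_mem_Hb, Subgroup.mul_mem_cancel_left _ (uu_mem_NU C 0)] at hgs'
      exact ww_not_mem C hgs'
    · refine Set.eq_univ_of_forall fun q => ?_
      obtain ⟨c, rfl⟩ := Quotient.exists_rep q
      obtain ⟨o, rfl⟩ := (cos_bij C).2 c
      rcases orbit_cases C o with ho | ho
      · exact Or.inl (Quotient.sound ho)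
      · exact Or.inr (Quotient.sound ho)
  rw [h2] at h
  rw [Nat.card_eq_fintype_card, ← Nat.cast_ofNat, ← Nat.cast_mul, ← h, Nat.cast_sum]
  refine Finset.sum_congr rfl fun g _ => ?_
  rw [line, permChar, Int.cast_natCast, ← Nat.card_eq_fintype_card]
  rfl

omit h3 in
/-- The Steinberg character. -/
theorem exists_st [Fintype (E C)] :
    ∃ St : IrrCharacter (E C), ∀ e, (St : E C → ℂ) e = line C e - 1 := by
  classical
  haveI : Fintype (Hb C) := Fintype.ofFinite _
  have hind : indFun (Hb C) (fun _ => (1 : ℂ)) = line C := funext fun e => indFun_one_eq_permChar _ e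
  have hchar : IsCharacter (E C) (line C) := hind ▸ isCharacter_indFun _ isCharacter_one
  have hgen : IsGeneralizedCharacter (E C) (fun e => line C e - 1) :=
    isGenChar_sub (isGenChar_of_char hchar) (isGenChar_of_char isCharacter_one)
  have h11 : classInner (line C) (fun _ => 1) = 1 := by
    rw [← hind, frobenius_reciprocity _ _ isClassFunction_one]
    simp [classInner, Nat.card_eq_fintype_card]
  have h22 : classInner (line C) (line C) = 2 := by
    conv_lhs => arg 1; rw [← hind]
    rw [frobenius_reciprocity _ _ (isClassFunction_char hchar)]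
    simp only [classInner, one_mul]
    rw [← map_sum, sum_line_Hb]
    simp only [map_mul, map_natCast, map_ofNat]
    have : (Nat.card (Hb C) : ℂ) ≠ 0 := Nat.cast_ne_zero.2 Nat.card_pos.ne'
    field_simp
  have hn : classInner (fun e => line C e - 1) (fun e => line C e - 1) = 1 := by
    have h12 : classInner (fun _ => (1 : ℂ)) (line C) = 1 := by
      rw [← classInner_comm (line C) (fun _ => (1 : ℂ)), h11, map_one]
    have e : (fun e => line C e - 1) = line C - (fun _ : E C => (1 : ℂ)) := funext fun _ => rfl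
    rw [e, classInner_sub_left, classInner_sub_right, classInner_sub_right, h22, h11, h12,
      classInner_irr_self (χ := fun _ : E C => (1 : ℂ)) isIrrCharacter_one]
    norm_num
  rcases irr_or_neg_of_norm_one hgen hn with h | h
  · exact ⟨⟨_, h⟩, fun e => rfl⟩
  · exfalso
    obtain ⟨d, hd, hd'⟩ := irr_degree_pos h
    rw [Pi.neg_apply, line_one] at hd'
    have h0 : (Fintype.card C.F : ℂ) + d = 0 := by linear_combination -hd'
    exact absurd (by exact_mod_cast h0 : Fintype.card C.F + d = 0) (by omega)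

end CfsgLib.Walter.RB
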