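import Cfsg.Agent.Lib.Walter.CoordLemmas
import Cfsg.Agent.Lib.PSL2.BorelUnique

/-!
The group `E = L₂(q)⟨φ⟩` inside the centraliser of `t`, its Borel subgroup and the cosets of that.

Blueprint: `blueprint/Walter.md`, case (R).
-/

set_option autoImplicit false
set_option linter.unusedSectionVars false
set_option linter.style.haveILetI false

namespace CfsgLib.Walter.RB

open CfsgLib.PSL2 (fieldAut mk uu)

universe u

variable {X : Type u} [Group X] (C : Coord X)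

local notation "LL" => Matrix.ProjectiveSpecialLinearGroup (Fin 2) C.F

theorem φ_pow_inv (j : ℕ) : (C.φ ^ j)⁻¹ = C.φ ^ (j * (orderOf C.σ - 1)) := by
  refine inv_eq_of_mul_eq_one_right ?_
  have hpos := C.odd_f.pos
  rw [← pow_add, show j + j * (orderOf C.σ - 1) = orderOf C.σ * j by
    obtain ⟨n, hn⟩ : ∃ n, orderOf C.σ = n + 1 := ⟨orderOf C.σ - 1, by omega⟩
    rw [hn, Nat.add_sub_cancel]; ring, pow_mul, ← C.φ_ord, pow_orderOf_eq_one, one_pow]

theorem form_mul (x y : LL) (i j : ℕ) :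
    C.ι x * C.φ ^ i * (C.ι y * C.φ ^ j) = C.ι (x * fieldAut (C.σ ^ i) y) * C.φ ^ (i + j) := by
  rw [map_mul, ← C.conj_pow i y, pow_add]
  group

theorem form_inj {x y : LL} {i j : ℕ} (h : C.ι x * C.φ ^ i = C.ι y * C.φ ^ j) :
    x = y ∧ C.φ ^ i = C.φ ^ j := by
  have h1 : C.t ^ ((0 : Fin 2) : ℕ) * C.ι (y⁻¹ * x) * C.φ ^ (i + j * (orderOf C.σ - 1)) = 1 := by
    rw [Fin.val_zero, pow_zero, one_mul, pow_add, ← φ_pow_inv, map_mul, map_inv,
      show (C.ι y)⁻¹ * C.ι x * (C.φ ^ i * (C.φ ^ j)⁻¹) = (C.ι y)⁻¹ * (C.ι x * C.φ ^ i) * (C.φ ^ j)⁻¹ by group, h]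
    group
  obtain ⟨-, h2, h3⟩ := C.unique h1
  refine ⟨(inv_mul_eq_one.mp h2).symm, ?_⟩
  rw [pow_add, ← φ_pow_inv] at h3
  exact mul_inv_eq_one.mp h3

/-- `L₂(q)⟨φ⟩`. -/
def E : Subgroup X where
  carrier := {g | ∃ (x : LL) (j : ℕ), g = C.ι x * C.φ ^ j}
  one_mem' := ⟨1, 0, by simp⟩
  mul_mem' := by
    rintro _ _ ⟨x, i, rfl⟩ ⟨y, j, rfl⟩
    exact ⟨_, _, form_mul C x y i j⟩
  inv_mem' := by
    rintro _ ⟨x, j, rfl⟩
    refine ⟨fieldAut (C.σ ^ (j * (orderOf C.σ - 1))) x⁻¹, j * (orderOf C.σ - 1), ?_⟩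
    rw [← C.conj_pow, ← φ_pow_inv, map_inv]
    group

theorem mem_E {g : X} : g ∈ E C ↔ ∃ (x : LL) (j : ℕ), g = C.ι x * C.φ ^ j := Iff.rfl

/-- `L₂(q)` inside `E`. -/
def ιE : LL →* E C where
  toFun x := ⟨C.ι x, x, 0, by simp⟩
  map_one' := Subtype.ext (map_one C.ι)
  map_mul' x y := Subtype.ext (map_mul C.ι x y)

/-- `φ` inside `E`. -/
def φE : E C := ⟨C.φ, 1, 1, by simp⟩

@[simp] theorem coe_ιE (x : LL) : ((ιE C x : E C) : X) = C.ι x := rfl

@[simp] theorem coe_φE : ((φE C : E C) : X) = C.φ := rfl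

theorem ιE_inj : Function.Injective (ιE C) := fun _ _ h => C.ι_inj (congrArg Subtype.val h)

theorem exists_form (e : E C) : ∃ (x : LL) (j : ℕ), e = ιE C x * φE C ^ j := by
  obtain ⟨x, j, h⟩ := e.2
  exact ⟨x, j, Subtype.ext (by simpa using h)⟩

theorem conjE_pow (j : ℕ) (x : LL) : φE C ^ j * ιE C x * (φE C ^ j)⁻¹ = ιE C (fieldAut (C.σ ^ j) x) :=
  Subtype.ext (by simpa using C.conj_pow j x)

theorem φE_comm_ιE (j : ℕ) (x : LL) : φE C ^ j * ιE C x = ιE C (fieldAut (C.σ ^ j) x) * φE C ^ j := by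
  rw [← conjE_pow, inv_mul_cancel_right]

theorem formE_inj {x y : LL} {i j : ℕ} (h : ιE C x * φE C ^ i = ιE C y * φE C ^ j) :
    x = y ∧ φE C ^ i = φE C ^ j := by
  have h' := form_inj C (by simpa using congrArg Subtype.val h)
  exact ⟨h'.1, Subtype.ext (by simpa using h'.2)⟩

/-- An exponent of `φ` in the normal form. -/
noncomputable def expo (e : E C) : ℕ := (exists_form C e).choose_spec.choose

theorem expo_spec (e : E C) : ∃ x : LL, e = ιE C x * φE C ^ expo C e :=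
  ⟨_, (exists_form C e).choose_spec.choose_spec⟩

theorem φE_expo (x : LL) (j : ℕ) : φE C ^ expo C (ιE C x * φE C ^ j) = φE C ^ j := by
  obtain ⟨y, hy⟩ := expo_spec C (ιE C x * φE C ^ j)
  exact (formE_inj C hy).2.symm

theorem φ_pow_of_φE {i j : ℕ} (h : φE C ^ i = φE C ^ j) : C.φ ^ i = C.φ ^ j := by
  have := congrArg (fun e : E C => (e : X)) h
  simpa using this

/-- The projection to `⟨φ⟩`. -/
noncomputable def proj : E C →* Subgroup.zpowers C.φ :=
  MonoidHom.mk' (fun e => ⟨C.φ ^ expo C e, Subgroup.pow_mem _ (Subgroup.mem_zpowers _) _⟩)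
    fun a b => by
      obtain ⟨x, hx⟩ := expo_spec C a
      obtain ⟨y, hy⟩ := expo_spec C b
      refine Subtype.ext (Eq.trans ?_ (pow_add _ _ _))
      refine φ_pow_of_φE C ?_
      conv_lhs => rw [hx, hy, show ιE C x * φE C ^ expo C a * (ιE C y * φE C ^ expo C b) =
        ιE C x * (φE C ^ expo C a * ιE C y) * φE C ^ expo C b by group, φE_comm_ιE,
        show ιE C x * (ιE C (fieldAut (C.σ ^ expo C a) y) * φE C ^ expo C a) * φE C ^ expo C b =
          ιE C (x * fieldAut (C.σ ^ expo C a) y) * φE C ^ (expo C a + expo C b) by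
            rw [map_mul, pow_add]; group]
      exact φE_expo C _ _

theorem proj_form (x : LL) (j : ℕ) : (proj C (ιE C x * φE C ^ j) : X) = C.φ ^ j :=
  φ_pow_of_φE C (φE_expo C x j)

theorem proj_ι (x : LL) : proj C (ιE C x) = 1 := Subtype.ext (by simpa using proj_form C x 0)

theorem proj_φ (j : ℕ) : (proj C (φE C ^ j) : X) = C.φ ^ j := by
  simpa using proj_form C 1 j

theorem proj_eq_one {e : E C} (h : proj C e = 1) : ∃ x, e = ιE C x := by
  obtain ⟨x, j, rfl⟩ := exists_form C e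
  have h' : C.φ ^ j = 1 := by rw [← proj_form C x j, h]; rfl
  exact ⟨x, Subtype.ext (by simp [h'])⟩

/-- An involution of `E` lies in `L₂(q)`. -/
theorem involution_ι [Finite X] {e : E C} (he : e * e = 1) : ∃ x, e = ιE C x := by
  refine proj_eq_one C ?_
  have h2 : proj C e ^ 2 = 1 := by rw [pow_two, ← map_mul, he, map_one]
  have h3 : orderOf (proj C e) ∣ orderOf C.σ :=
    C.φ_ord ▸ Nat.card_zpowers C.φ ▸ orderOf_dvd_natCard _
  rw [← orderOf_eq_one_iff]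
  exact Nat.eq_one_of_dvd_coprimes (Nat.coprime_two_left.mpr C.odd_f) (orderOf_dvd_of_pow_eq_one h2) h3

/-- The order of `E`. -/
theorem card_E : Nat.card (E C) = Nat.card LL * orderOf C.σ := by
  rw [← C.φ_ord, ← Nat.card_zpowers C.φ, ← Nat.card_prod]
  refine (Nat.card_congr (Equiv.ofBijective
    (fun p : LL × Subgroup.zpowers C.φ => (⟨C.ι p.1 * p.2, ?_⟩ : E C)) ⟨?_, ?_⟩)).symm
  · obtain ⟨j, hj⟩ : ∃ j : ℕ, C.φ ^ j = (p.2 : X) :=
      Submonoid.mem_powers_iff _ _ |>.mp ((orderOf_pos_iff.mp (C.φ_ord ▸ C.odd_f.pos)).mem_powers_iff_mem_zpowers.mpr p.2.2)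
    exact ⟨p.1, j, by rw [hj]⟩
  · rintro ⟨x, a, ha⟩ ⟨y, b, hb⟩ h
    have hfo : IsOfFinOrder C.φ := orderOf_pos_iff.mp (C.φ_ord ▸ C.odd_f.pos)
    obtain ⟨i, rfl⟩ := Submonoid.mem_powers_iff _ _ |>.mp (hfo.mem_powers_iff_mem_zpowers.mpr ha)
    obtain ⟨j, rfl⟩ := Submonoid.mem_powers_iff _ _ |>.mp (hfo.mem_powers_iff_mem_zpowers.mpr hb)
    obtain ⟨h1, h2⟩ := form_inj C (congrArg Subtype.val h)
    exact Prod.ext h1 (Subtype.ext h2)
  · intro e
    obtain ⟨x, j, rfl⟩ := exists_form C e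
    exact ⟨(x, ⟨C.φ ^ j, Subgroup.pow_mem _ (Subgroup.mem_zpowers _) _⟩), Subtype.ext (by simp)⟩

/-! ### The Borel subgroup -/

local notation "UR" => MonoidHom.range (PSL2.uHom : Multiplicative C.F →* LL)

/-- The elementary element exchanging the two fixed points. -/
def wSL : Matrix.SpecialLinearGroup (Fin 2) C.F := ⟨!![0, -1; 1, 0], by simp [Matrix.det_fin_two_of]⟩

theorem coe_wSL : (wSL C).1 = !![0, -1; 1, 0] := rfl

/-- Its image. -/
def ww : LL := mk (wSL C)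

theorem fieldAut_ww (s : RingAut C.F) : fieldAut s (ww C) = ww C := by
  rw [ww, PSL2.fieldAut_apply]
  refine congrArg _ (Subtype.ext (Matrix.ext fun i j => ?_))
  show s ((wSL C).1 i j) = (wSL C).1 i j
  fin_cases i <;> fin_cases j <;> simp [wSL]

/-- The upper triangular elements. -/
abbrev NU : Subgroup LL := Subgroup.normalizer (UR : Set LL)

theorem mem_NU {A : Matrix.SpecialLinearGroup (Fin 2) C.F} : (mk A : LL) ∈ NU C ↔ A.1 1 0 = 0 :=
  ⟨fun h => PSL2.upper_of_normalizes A ((Subgroup.mem_normalizer_iff.mp h (uu 1)).mp ⟨_, rfl⟩),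
    PSL2.upper_mem_normalizer A⟩

theorem uu_mem_NU (a : C.F) : (uu a : LL) ∈ NU C := by
  rw [PSL2.uu_eq, mem_NU]; simp [PSL2.coe_uSL]

theorem NU_fieldAut (s : RingAut C.F) {x : LL} (hx : x ∈ NU C) : fieldAut s x ∈ NU C := by
  obtain ⟨A, rfl⟩ := QuotientGroup.mk'_surjective _ x
  rw [PSL2.fieldAut_apply, mem_NU]
  show s (A.1 1 0) = 0
  rw [(mem_NU C).mp hx, map_zero]

theorem ww_uu_not_mem {a : C.F} (ha : a ≠ 0) : (ww C)⁻¹ * uu a * ww C ∉ NU C := by
  rw [ww, PSL2.uu_eq, ← map_inv, ← map_mul, ← map_mul, mem_NU]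
  simpa [coe_wSL, PSL2.coe_uSL, Matrix.SpecialLinearGroup.coe_mul, Matrix.SpecialLinearGroup.coe_inv, Matrix.adjugate_fin_two, Matrix.mul_apply,
    Fin.sum_univ_two] using ha

theorem ww_not_mem : ww C ∉ NU C := by
  rw [ww, mem_NU]; simp [wSL]

/-- Bruhat. -/
theorem bruhat {x : LL} (hx : x ∉ NU C) : ∃ s : C.F, (uu s * ww C)⁻¹ * x ∈ NU C := by
  obtain ⟨A, rfl⟩ := QuotientGroup.mk'_surjective _ x
  have hc : A.1 1 0 ≠ 0 := fun h => hx ((mem_NU C).mpr h)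
  refine ⟨A.1 0 0 / A.1 1 0, ?_⟩
  rw [ww, PSL2.uu_eq, ← map_mul, ← map_inv, ← map_mul, mem_NU]
  simp [coe_wSL, PSL2.coe_uSL, Matrix.SpecialLinearGroup.coe_mul, Matrix.SpecialLinearGroup.coe_inv, Matrix.adjugate_fin_two, Matrix.mul_apply,
    Fin.sum_univ_two]
  field_simp
  ring

/-- The Borel subgroup of `E`. -/
def Hb : Subgroup (E C) where
  carrier := {e | ∃ (x : LL) (j : ℕ), x ∈ NU C ∧ e = ιE C x * φE C ^ j}
  one_mem' := ⟨1, 0, one_mem _, by simp⟩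
  mul_mem' := by
    rintro _ _ ⟨x, i, hx, rfl⟩ ⟨y, j, hy, rfl⟩
    refine ⟨x * fieldAut (C.σ ^ i) y, i + j, mul_mem hx (NU_fieldAut C _ hy), ?_⟩
    rw [map_mul, pow_add, ← conjE_pow]
    group
  inv_mem' := by
    rintro _ ⟨x, j, hx, rfl⟩
    have e : (φE C ^ j)⁻¹ = φE C ^ (j * (orderOf C.σ - 1)) :=
      Subtype.ext (by simpa using φ_pow_inv C j)
    refine ⟨fieldAut (C.σ ^ (j * (orderOf C.σ - 1))) x⁻¹, j * (orderOf C.σ - 1),
      NU_fieldAut C _ (inv_mem hx), ?_⟩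
    rw [← conjE_pow, ← e, map_inv]
    group

theorem φE_mem_Hb (j : ℕ) : φE C ^ j ∈ Hb C := ⟨1, j, one_mem _, by simp⟩

theorem form_mem_Hb {x : LL} {j : ℕ} : ιE C x * φE C ^ j ∈ Hb C ↔ x ∈ NU C := by
  refine ⟨?_, fun h => ⟨x, j, h, rfl⟩⟩
  rintro ⟨y, i, hy, e⟩
  exact (formE_inj C e).1 ▸ hy

theorem ι_mem_Hb {x : LL} : ιE C x ∈ Hb C ↔ x ∈ NU C := by
  simpa using form_mem_Hb C (x := x) (j := 0)

/-- The cosets as the points of the projective line. -/
def cos : Option C.F → E C ⧸ Hb C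
  | none => ((1 : E C) : E C ⧸ Hb C)
  | some s => ((ιE C (uu s * ww C) : E C) : E C ⧸ Hb C)

theorem cos_bij : Function.Bijective (cos C) := by
  constructor
  · rintro (_ | a) (_ | b) h
    · rfl
    · exfalso
      rw [cos, cos, QuotientGroup.eq, inv_one, one_mul, ι_mem_Hb, Subgroup.mul_mem_cancel_left _ (uu_mem_NU C b)] at h
      exact ww_not_mem C h
    · exfalso
      rw [cos, cos, QuotientGroup.eq, mul_one, inv_mem_iff, ι_mem_Hb,
        Subgroup.mul_mem_cancel_left _ (uu_mem_NU C a)] at h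
      exact ww_not_mem C h
    · rw [cos, cos, QuotientGroup.eq, ← map_inv, ← map_mul, ι_mem_Hb] at h
      by_contra hne
      refine ww_uu_not_mem C (a := b - a) (sub_ne_zero.mpr fun e => hne (by rw [e])) ?_
      convert h using 1
      rw [show (uu (b - a) : LL) = (uu a)⁻¹ * uu b by
        rw [eq_inv_mul_iff_mul_eq, ← map_mul]
        exact congrArg _ (by rw [← ofAdd_add, add_sub_cancel])]
      group
  · intro c
    obtain ⟨e, rfl⟩ := QuotientGroup.mk_surjective c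
    obtain ⟨x, j, rfl⟩ := exists_form C e
    rw [QuotientGroup.mk_mul_of_mem _ (φE_mem_Hb C j)]
    by_cases hx : x ∈ NU C
    · exact ⟨none, QuotientGroup.eq.mpr (by simpa [ι_mem_Hb] using hx)⟩
    · obtain ⟨s, hs⟩ := bruhat C hx
      exact ⟨some s, QuotientGroup.eq.mpr (by rw [← map_inv, ← map_mul, ι_mem_Hb]; exact hs)⟩

theorem smul_cos (n : ℕ) : ∀ o : Option C.F, φE C ^ n • cos C o = cos C (o.map (C.σ ^ n : RingAut C.F))
  | none => by
      show φE C ^ n • ((1 : E C) : E C ⧸ Hb C) = ((1 : E C) : E C ⧸ Hb C)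
      rw [MulAction.Quotient.smul_coe, smul_eq_mul, mul_one]
      exact QuotientGroup.eq.mpr (by simpa using inv_mem (φE_mem_Hb C n))
  | some s => by
      show φE C ^ n • ((ιE C (uu s * ww C) : E C) : E C ⧸ Hb C) =
        ((ιE C (uu ((C.σ ^ n : RingAut C.F) s) * ww C) : E C) : E C ⧸ Hb C)
      rw [MulAction.Quotient.smul_coe, smul_eq_mul, φE_comm_ιE, map_mul (fieldAut (C.σ ^ n)),
        fieldAut_ww, PSL2.fieldAut_uu, QuotientGroup.mk_mul_of_mem _ (φE_mem_Hb C n)]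

theorem uu_smul_cos (a s : C.F) : ιE C (uu a) • cos C (some s) = cos C (some (a + s)) := by
  show ιE C (uu a) • ((ιE C (uu s * ww C) : E C) : E C ⧸ Hb C) = _
  rw [MulAction.Quotient.smul_coe, smul_eq_mul, ← map_mul, ← mul_assoc, ← map_mul (PSL2.uHom), ← ofAdd_add]
  rfl

end CfsgLib.Walter.RB
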