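import Cfsg.Agent.Lib.Walter.Main
import Cfsg.Agent.Lib.WalterUse.SimpleCases
import Cfsg.Agent.Lib.DihedralShape
import Cfsg.Agent.S0016
import Cfsg.Agent.S0201

/-!
The simple groups with Sylow 2-subgroups of order eight.

Blueprint: `blueprint/Walter.md`.
-/

set_option autoImplicit false
set_option linter.unusedSectionVars false
set_option linter.style.haveILetI false

namespace CfsgLib.Walter

open Cfsg CfsgLib

universe u

local notation "PSL₂[" K "]" => Matrix.ProjectiveSpecialLinearGroup (Fin 2) K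

/-- A non-abelian group of order eight is quaternion or dihedral. -/
theorem eight_nonabelian {T : Type u} [Group T] [Finite T] (h8 : Nat.card T = 8) (hna : ¬ IsMulCommutative T) :
    Nonempty (T ≃* QuaternionGroup (2 ^ (0 + 1))) ∨ Nonempty (T ≃* DihedralGroup 4) := by
  classical
  haveI : Fact (Nat.Prime 2) := ⟨Nat.prime_two⟩
  have hp : IsPGroup 2 T := IsPGroup.of_card (n := 3) (by rw [h8]; norm_num)
  by_cases huniq : ∀ H K : Subgroup T, Nat.card H = 2 → Nat.card K = 2 → H = K
  · rcases Cfsg.Agent.S0016.result 2 hp huniq with hc | ⟨-, n, ⟨e⟩⟩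
    · exact absurd (⟨⟨fun a b => IsMulCommutative.is_comm.comm a b⟩⟩ : IsMulCommutative T) hna
    · haveI : NeZero (2 ^ n) := ⟨pow_ne_zero _ two_ne_zero⟩
      have hc := Nat.card_congr e.toEquiv
      rw [h8, Nat.card_eq_fintype_card, QuaternionGroup.card] at hc
      have hn : n = 1 := Nat.pow_right_injective (le_refl 2) (show 2 ^ n = 2 ^ 1 by norm_num; omega)
      subst hn
      exact Or.inl ⟨e⟩
  · push Not at huniq
    obtain ⟨H, K, hH, hK, hne⟩ := huniq
    have hexp : ∀ x : T, orderOf x ∣ 2 ^ 3 := fun x => (orderOf_dvd_natCard x).trans (by rw [h8]; norm_num)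
    obtain ⟨c, hc⟩ : ∃ c : T, orderOf c = 4 := by
      by_contra hno
      push Not at hno
      refine hna ⟨⟨fun a b => ?_⟩⟩
      have hsq : ∀ x : T, x * x = 1 := by
        intro x
        obtain ⟨k, hk, hk'⟩ := (Nat.dvd_prime_pow Nat.prime_two).mp (hexp x)
        have h1 : x ^ 2 ^ k = 1 := hk' ▸ pow_orderOf_eq_one x
        interval_cases k
        · rw [show x = 1 by simpa using h1, one_mul]
        · simpa [pow_two] using h1
        · exact absurd (by simpa using hk') (hno x)
        · exfalso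
          refine hno (x ^ 2) ?_
          rw [orderOf_pow' x two_ne_zero, hk']; norm_num
      have hi : ∀ z : T, z⁻¹ = z := fun z => inv_eq_of_mul_eq_one_right (hsq z)
      rw [← hi (a * b), _root_.mul_inv_rev, hi a, hi b]
    obtain ⟨t, ht2, htc⟩ : ∃ t : T, t * t = 1 ∧ t ∉ Subgroup.zpowers c := by
      by_contra hno
      push Not at hno
      have hsub : ∀ L : Subgroup T, Nat.card L = 2 → L = Subgroup.zpowers (c ^ 2) := by
        intro L hL
        refine Subgroup.eq_of_le_of_card_ge (fun x hx => ?_) ?_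
        · have hx2 : x * x = 1 := by
            have h1 := Subgroup.orderOf_dvd_natCard L hx
            rw [hL] at h1
            rw [← pow_two]; exact orderOf_dvd_iff_pow_eq_one.mp h1
          obtain ⟨j, hj⟩ := hno x hx2
          have hj' : c ^ j = x := hj
          rw [← hj', ← zpow_add] at hx2
          have hd : ((4 : ℕ) : ℤ) ∣ j + j := hc ▸ orderOf_dvd_iff_zpow_eq_one.mpr hx2
          obtain ⟨e, he⟩ : ∃ e, j = 2 * e := ⟨j / 2, by omega⟩
          exact ⟨e, by
            show (c ^ 2) ^ e = x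
            rw [← hj', he, zpow_mul, zpow_ofNat]⟩
        · rw [hL, Nat.card_zpowers, orderOf_pow' c two_ne_zero, hc]; norm_num
      exact hne ((hsub H hH).trans (hsub K hK).symm)
    have hidx : (Subgroup.zpowers c).index = 2 := by
      have := (Subgroup.zpowers c).index_mul_card
      rw [Nat.card_zpowers, hc, h8] at this
      omega
    haveI := Subgroup.normal_of_index_eq_two hidx
    obtain ⟨i, hi⟩ := (inferInstance : (Subgroup.zpowers c).Normal).conj_mem c (Subgroup.mem_zpowers c) t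
    have hi' : c ^ i = t * c * t⁻¹ := hi
    have hmod : c ^ i = c ^ (i % 4) := by
      rw [← zpow_mod_orderOf, hc]; norm_num
    have hinv : t * c * t⁻¹ = c⁻¹ := by
      have hord : orderOf (t * c * t⁻¹) = 4 := by rw [← MulAut.conj_apply, MulEquiv.orderOf_eq, hc]
      rw [← hi', hmod] at hord ⊢
      have h0 : 0 ≤ i % 4 := Int.emod_nonneg _ (by norm_num)
      have h4 : i % 4 < 4 := Int.emod_lt_of_pos _ (by norm_num)
      obtain ⟨m, hm⟩ := Int.eq_ofNat_of_zero_le h0
      rw [hm] at hord ⊢ h4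
      rw [zpow_natCast] at hord ⊢
      have hm4 : m < 4 := by omega
      interval_cases m
      · simp at hord
      · exfalso
        refine hna ⟨⟨fun a b => ?_⟩⟩
        have hct : Commute t c := by
          have : t * c * t⁻¹ = c := by rw [← hi', hmod, hm, zpow_natCast, pow_one]
          exact mul_inv_eq_iff_eq_mul.mp this
        have hall : ∀ x : T, Commute x c ∧ Commute x t := by
          intro x
          rcases em (x ∈ Subgroup.zpowers c) with hx | hx
          · obtain ⟨j, rfl⟩ := hx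
            exact ⟨(Commute.refl c).zpow_left j, hct.symm.zpow_left j⟩
          · obtain ⟨j, hj⟩ := (Subgroup.mul_mem_iff_of_index_two hidx).mpr (iff_of_false hx htc : x ∈ _ ↔ t ∈ _)
            have hx' : x = c ^ j * t⁻¹ := by rw [show c ^ j = x * t from hj, mul_inv_cancel_right]
            rw [hx']
            exact ⟨((Commute.refl c).zpow_left j).mul_left hct.inv_left,
              (hct.symm.zpow_left j).mul_left (Commute.refl t).inv_left⟩
        rcases em (b ∈ Subgroup.zpowers c) with hb | hb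
        · obtain ⟨j, rfl⟩ := hb
          exact ((hall a).1.zpow_right j).eq
        · obtain ⟨j, hj⟩ := (Subgroup.mul_mem_iff_of_index_two hidx).mpr (iff_of_false hb htc : b ∈ _ ↔ t ∈ _)
          have hb' : b = c ^ j * t⁻¹ := by rw [show c ^ j = b * t from hj, mul_inv_cancel_right]
          rw [hb']
          exact (((hall a).1.zpow_right j).mul_right (hall a).2.inv_right).eq
      · rw [orderOf_pow' c two_ne_zero, hc] at hord
        norm_num at hord
      · refine eq_inv_of_mul_eq_one_left ?_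
        rw [← pow_succ, show 3 + 1 = 4 from rfl, ← hc]; exact pow_orderOf_eq_one c
    exact Or.inr (CfsgLib.DihedralShape.equiv_dihedral hc (by rw [h8]) ht2 htc hinv)

theorem sixteen_cases {q : ℕ} (hq : Odd q) (h4 : 2 ^ 4 ∣ q * (q ^ 2 - 1)) (h5 : ¬ 2 ^ 5 ∣ q * (q ^ 2 - 1)) :
    q % 16 = 7 ∨ q % 16 = 9 := by
  have hd : 2 ^ 4 ∣ q ^ 2 - 1 := ((Nat.coprime_two_left.mpr hq).pow_left 4).dvd_of_dvd_mul_left h4
  have hn : ¬ 2 ^ 5 ∣ q ^ 2 - 1 := fun h => h5 (Dvd.dvd.mul_left h q)
  have hodd := Nat.odd_iff.mp hq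
  obtain ⟨c, r, hr, hqc⟩ : ∃ c r, r < 16 ∧ q = 16 * c + r := ⟨q / 16, q % 16, Nat.mod_lt _ (by norm_num), by omega⟩
  subst hqc
  rw [show (16 * c + r) ^ 2 = 32 * (8 * c * c + c * r) + r ^ 2 by ring] at hd hn
  interval_cases r <;> omega

variable {G : Type u} [Group G] [Finite G] [IsSimpleGroup G]

/-- Dihedral Sylow subgroups of order eight. -/
theorem dihedral_eight (hG : ¬ IsMulCommutative G) (T : Sylow 2 G) (hT : Nat.card (T : Subgroup G) = 8)
    (e : (T : Subgroup G) ≃* DihedralGroup 4) :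
    (∃ (F : Type) (_ : Field F) (_ : Fintype F), (Fintype.card F % 16 = 7 ∨ Fintype.card F % 16 = 9) ∧
      Nonempty (G ≃* PSL₂[F])) ∨ Nonempty (G ≃* alternatingGroup (Fin 7)) := by
  classical
  haveI : Fact (Nat.Prime 2) := ⟨Nat.prime_two⟩
  rcases WalterUse.dihedralKind hG T (by norm_num) e with ⟨F, iF, iFt, hodd, -, ⟨eF⟩⟩ | hA
  · left
    have hfac : (Nat.card G).factorization 2 = 3 :=
      Nat.pow_right_injective (le_refl 2) ((T.card_eq_multiplicity.symm.trans hT).trans (by norm_num))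
    have h3 : 2 ^ 3 ∣ Nat.card G := (Nat.prime_two.pow_dvd_iff_le_factorization Nat.card_pos.ne').2 hfac.ge
    have h4 : ¬ 2 ^ 4 ∣ Nat.card G := fun hd => by
      have := (Nat.prime_two.pow_dvd_iff_le_factorization Nat.card_pos.ne').1 hd; omega
    rw [Nat.card_congr eF.toEquiv] at h3 h4
    have hcard := two_mul_card_psl (F := F) (Nat.odd_iff.mp hodd)
    refine ⟨F, iF, iFt, sixteen_cases hodd (hcard ▸ ?_) (fun hd => h4 ?_), ⟨eF⟩⟩
    · rw [pow_succ']; exact Nat.mul_dvd_mul_left 2 h3
    · rw [← hcard, pow_succ' 2 4] at hd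
      exact Nat.dvd_of_mul_dvd_mul_left (by norm_num) hd
  · exact Or.inr hA

/-- Abelian Sylow subgroups of order eight. -/
theorem abelian_eight (hG : ¬ IsMulCommutative G) (T : Sylow 2 G) (hT : Nat.card (T : Subgroup G) = 8)
    (hab : IsMulCommutative (T : Subgroup G)) :
    (∃ (F : Type) (_ : Field F) (_ : Fintype F), Fintype.card F = 8 ∧ Nonempty (G ≃* PSL₂[F])) ∨
      Cfsg.IsJ1 G ∨ Cfsg.IsRee G := by
  classical
  haveI : Fact (Nat.Prime 2) := ⟨Nat.prime_two⟩
  have hE := WalterUse.e8_of_abelian hG T hab hT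
  have hfac : (Nat.card G).factorization 2 = 3 :=
    Nat.pow_right_injective (le_refl 2) ((T.card_eq_multiplicity.symm.trans hT).trans (by norm_num))
  have h3 : 2 ^ 3 ∣ Nat.card G := (Nat.prime_two.pow_dvd_iff_le_factorization Nat.card_pos.ne').2 hfac.ge
  have h4 : ¬ 2 ^ 4 ∣ Nat.card G := fun hd => by
    have := (Nat.prime_two.pow_dvd_iff_le_factorization Nat.card_pos.ne').1 hd; omega
  by_cases hsol : ∀ t : G, orderOf t = 2 → Group.IsSolvable ↥(Subgroup.centralizer ({t} : Set G))
  · left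
    rcases Cfsg.Agent.S3188.result T hab hsol with hs | ⟨F, iF, iFt, hF, N, hN, ⟨e⟩, -⟩
    · exact absurd (IsSimpleGroup.comm_iff_isSolvable.mpr hs) fun hc => hG ⟨⟨hc⟩⟩
    have hbot := CfsgLib.CentralFour.oddCore_eq_bot (X := G) (even_iff_two_dvd.mpr ((by norm_num : 2 ∣ 2 ^ 3).trans h3))
    let e0 : G ⧸ Cfsg.oddCore G ≃* G := (QuotientGroup.quotientMulEquivOfEq hbot).trans QuotientGroup.quotientBot
    haveI : Nontrivial (G ⧸ Cfsg.oddCore G) := e0.toEquiv.nontrivial
    haveI : IsSimpleGroup (G ⧸ Cfsg.oddCore G) := IsSimpleGroup.isSimpleGroup_of_surjective e0.symm.toMonoidHom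
      e0.symm.surjective
    have hNt : N = ⊤ := by
      refine (IsSimpleGroup.eq_bot_or_eq_top_of_normal N hN).resolve_left fun hb => ?_
      subst hb
      obtain ⟨a, b, hab'⟩ := JankoThompson.psl_two_nonabelian (F := F)
      exact hab' (e.symm.injective (Subsingleton.elim _ _))
    subst hNt
    let e' : G ≃* PSL₂[F] := e0.symm.trans (Subgroup.topEquiv.symm.trans e)
    rw [Nat.card_congr e'.toEquiv] at h3 h4
    rcases hF with ⟨hmod, -⟩ | ⟨n, hn, hq⟩
    · exfalso
      have hcard := two_mul_card_psl (F := F) (by omega)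
      have hd : 2 ^ 4 ∣ Fintype.card F * (Fintype.card F ^ 2 - 1) := by
        rw [← hcard, pow_succ']; exact Nat.mul_dvd_mul_left 2 h3
      have hd2 : 2 ^ 4 ∣ Fintype.card F ^ 2 - 1 :=
        ((Nat.coprime_two_left.mpr (Nat.odd_iff.mpr (by omega))).pow_left 4).dvd_of_dvd_mul_left hd
      obtain ⟨c, hc⟩ : ∃ c, Fintype.card F = 8 * c + 3 ∨ Fintype.card F = 8 * c + 5 :=
        ⟨Fintype.card F / 8, by omega⟩
      rcases hc with h | h <;> rw [h] at hd2
      · rw [show (8 * c + 3) ^ 2 = 16 * (4 * c * c + 3 * c) + 9 by ring] at hd2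
        omega
      · rw [show (8 * c + 5) ^ 2 = 16 * (4 * c * c + 5 * c + 1) + 9 by ring] at hd2
        omega
    · have hmul := CfsgLib.SLCard.gcd_mul_card_PSL (F := F) (n := 2) (by norm_num)
      rw [CfsgLib.SLCard.card_SL_two] at hmul
      have hodd : (Fintype.card F - 1) % 2 = 1 := by
        obtain ⟨d, hd⟩ : 2 ∣ Fintype.card F := hq ▸ dvd_pow_self 2 (by omega)
        have := Fintype.one_lt_card (α := F)
        omega
      rw [show Nat.gcd 2 (Fintype.card F - 1) = 1 from Nat.coprime_two_left.mpr (Nat.odd_iff.mpr hodd), one_mul] at hmul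
      rw [hmul] at h3 h4
      have h1 : 2 ^ n ∣ Fintype.card F * (Fintype.card F ^ 2 - 1) := Dvd.dvd.mul_right (hq ▸ dvd_rfl) _
      refine ⟨F, iF, iFt, ?_, ⟨e'⟩⟩
      rcases Nat.lt_or_ge n 3 with hlt | hge
      · exfalso
        have hn2 : n = 2 := by omega
        rw [hq, hn2] at h3
        norm_num at h3
      · rcases eq_or_lt_of_le hge with h | h
        · rw [hq, ← h]; norm_num
        · exact absurd ((pow_dvd_pow 2 (show 4 ≤ n by omega)).trans h1) h4
  · push Not at hsol
    obtain ⟨t, ht, hns⟩ := hsol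
    obtain ⟨F, _, _, hF, ⟨e⟩⟩ := p_all G ‹_› T hE t ht hns
    have hab' : ∀ P : Sylow 2 G, ∀ a b : P, a * b = b * a := fun P a b => by
      apply (Sylow.equiv P T).injective
      rw [map_mul, map_mul]
      exact hab.1.comm _ _
    have hq : 3 ≤ Fintype.card F := by
      rcases hF with h5 | ⟨m, hm, h⟩
      · omega
      · rw [h]; exact Nat.le_self_pow (by omega) 3
    rcases Cfsg.Agent.S0343.result hab' hq t ht ⟨e⟩ with ⟨m, hm, -, hc⟩ | ⟨-, hJ⟩
    · exact Or.inr (Or.inr ⟨‹_›, m, hm, hc⟩)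
    · exact Or.inr (Or.inl hJ)

/-- Simple groups with Sylow 2-subgroups of order eight. -/
theorem order_eight (hG : ¬ IsMulCommutative G) (T : Sylow 2 G) (hT : Nat.card (T : Subgroup G) = 8) :
    (∃ (F : Type) (_ : Field F) (_ : Fintype F), Fintype.card F = 8 ∧ Nonempty (G ≃* PSL₂[F])) ∨
      (∃ (F : Type) (_ : Field F) (_ : Fintype F), (Fintype.card F % 16 = 7 ∨ Fintype.card F % 16 = 9) ∧
        Nonempty (G ≃* PSL₂[F])) ∨ Nonempty (G ≃* alternatingGroup (Fin 7)) ∨ Cfsg.IsJ1 G ∨ Cfsg.IsRee G := by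
  classical
  haveI : Fact (Nat.Prime 2) := ⟨Nat.prime_two⟩
  by_cases hab : IsMulCommutative (T : Subgroup G)
  · rcases abelian_eight hG T hT hab with h | h
    · exact Or.inl h
    · exact Or.inr (Or.inr (Or.inr h))
  rcases eight_nonabelian hT hab with ⟨⟨e⟩⟩ | ⟨⟨e⟩⟩
  · exfalso
    have h2 : 2 ∣ Nat.card G := ((by rw [hT]; norm_num : 2 ∣ Nat.card (T : Subgroup G))).trans
      (Subgroup.card_subgroup_dvd_card _)
    have hO : ∀ N : Subgroup G, N.Normal → Odd (Nat.card N) → N = ⊥ := fun N hN ho =>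
      (hN.eq_bot_or_eq_top).resolve_right fun he => by
        rw [he, Subgroup.card_top] at ho
        exact Nat.not_odd_iff_even.mpr (even_iff_two_dvd.mpr h2) ho
    have hc := Cfsg.Agent.S0201.result T 0 e hO
    rcases (inferInstance : (Subgroup.center G).Normal).eq_bot_or_eq_top with hb | hb
    · rw [hb, Subgroup.card_bot] at hc; omega
    · exact hG (Subgroup.center_eq_top_iff.mp hb)
  · rcases dihedral_eight hG T hT e with h | h
    · exact Or.inr (Or.inl h)
    · exact Or.inr (Or.inr (Or.inl h))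

end CfsgLib.Walter
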