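import Mathlib

/-!
Arithmetic for case (R): the budget of a defect central block on a section, Parseval on the `N`th roots of
unity, and the equations between the degrees.

Blueprint: `blueprint/Walter.md`, case (R).
-/

set_option autoImplicit false
set_option linter.unusedSectionVars false

namespace CfsgLib.Walter.RB

open scoped ComplexConjugate

/-- `r Σ n² - (Σ n)²`, the budget taken by one coset. -/
def spread {ι : Type*} [Fintype ι] (n : ι → ℤ) : ℤ :=
  Fintype.card ι * ∑ c, n c ^ 2 - (∑ c, n c) ^ 2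

theorem two_spread {ι : Type*} [Fintype ι] (n : ι → ℤ) : 2 * spread n = ∑ a, ∑ b, (n a - n b) ^ 2 := by
  have h : ∀ a, ∑ b, (n a - n b) ^ 2 = Fintype.card ι * n a ^ 2 - 2 * n a * ∑ b, n b + ∑ b, n b ^ 2 := by
    intro a
    rw [Finset.mul_sum, ← Finset.card_univ, ← nsmul_eq_mul, ← Finset.sum_const, ← Finset.sum_sub_distrib,
      ← Finset.sum_add_distrib]
    exact Finset.sum_congr rfl fun b _ => by ring
  simp only [h, Finset.sum_add_distrib, Finset.sum_sub_distrib, ← Finset.mul_sum, ← Finset.sum_mul,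
    Finset.sum_const, Finset.card_univ, nsmul_eq_mul, spread]
  ring

theorem spread_nonneg {ι : Type*} [Fintype ι] (n : ι → ℤ) : 0 ≤ spread n := by
  have h : 0 ≤ ∑ a, ∑ b, (n a - n b) ^ 2 := Finset.sum_nonneg fun a _ => Finset.sum_nonneg fun b _ => sq_nonneg _
  rw [← two_spread] at h
  omega

theorem spread_two {ι : Type*} [Fintype ι] [DecidableEq ι] (n : ι → ℤ) {a b : ι} :
    (Fintype.card ι : ℤ) * (n a - n b) ^ 2 ≤ 2 * spread n := by
  rcases eq_or_ne a b with rfl | hab
  · have := spread_nonneg n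
    simp; omega
  rw [two_spread]
  set others := (Finset.univ : Finset ι) \ {a, b} with ho
  have hsplit : ∀ g : ι → ℤ, ∑ x, g x = ∑ x ∈ others, g x + (g a + g b) := fun g => by
    rw [ho, ← Finset.sum_pair hab (f := g), Finset.sum_sdiff (Finset.subset_univ _)]
  have hcard : (Fintype.card ι : ℤ) = others.card + 2 := by
    have := hsplit fun _ => 1
    simp only [Finset.sum_const, Finset.card_univ, nsmul_eq_mul, mul_one] at this
    linarith
  have hrow : ∀ x, (n x - n a) ^ 2 + (n x - n b) ^ 2 ≤ ∑ c, (n x - n c) ^ 2 := fun x => by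
    rw [← Finset.sum_pair hab (f := fun c => (n x - n c) ^ 2)]
    exact Finset.sum_le_sum_of_subset_of_nonneg (Finset.subset_univ _) fun c _ _ => sq_nonneg _
  have hP : (others.card : ℤ) * (n a - n b) ^ 2 ≤ 2 * ∑ x ∈ others, ((n x - n a) ^ 2 + (n x - n b) ^ 2) := by
    rw [← nsmul_eq_mul, ← Finset.sum_const, Finset.mul_sum]
    exact Finset.sum_le_sum fun x _ => by nlinarith [sq_nonneg (n a - 2 * n x + n b)]
  have h1 : ∑ x ∈ others, ((n x - n a) ^ 2 + (n x - n b) ^ 2) ≤ ∑ x ∈ others, ∑ c, (n x - n c) ^ 2 :=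
    Finset.sum_le_sum fun x _ => hrow x
  have hab' : ∑ c, (n a - n c) ^ 2 + ∑ c, (n b - n c) ^ 2 =
      ∑ x ∈ others, ((n x - n a) ^ 2 + (n x - n b) ^ 2) + 2 * (n a - n b) ^ 2 := by
    rw [← Finset.sum_add_distrib, hsplit, Finset.sum_congr rfl fun x _ =>
      show (n a - n x) ^ 2 + (n b - n x) ^ 2 = (n x - n a) ^ 2 + (n x - n b) ^ 2 by ring]
    ring
  rw [hsplit (fun x => ∑ c, (n x - n c) ^ 2), hcard, hab']
  linarith

/-- Budget at most `r`: constant, or constant up to one entry changed by one. -/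
theorem spread_le {ι : Type*} [Fintype ι] [DecidableEq ι] (n : ι → ℤ) (h5 : 5 ≤ Fintype.card ι)
    (h : spread n ≤ Fintype.card ι) :
    (∃ k, ∀ c, n c = k) ∨ (∃ c₀ k ε, (ε = 1 ∨ ε = -1) ∧ (∀ c, n c = k + if c = c₀ then ε else 0) ∧
      (Fintype.card ι : ℤ) - 1 ≤ spread n) := by
  obtain ⟨i₀⟩ : Nonempty ι := Fintype.card_pos_iff.1 (by omega)
  obtain ⟨b, -, hb⟩ := Finset.exists_min_image Finset.univ n ⟨i₀, Finset.mem_univ _⟩
  have hr : (5 : ℤ) ≤ (Fintype.card ι : ℤ) := by exact_mod_cast h5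
  have hval : ∀ c, n c = n b ∨ n c = n b + 1 := by
    intro c
    have h1 := spread_two n (a := c) (b := b)
    have h2 : (n c - n b) ^ 2 ≤ 2 := le_of_mul_le_mul_left (by linarith) (by linarith : (0 : ℤ) < Fintype.card ι)
    have h0 := hb c (Finset.mem_univ _)
    have : n c - n b ≤ 1 := by nlinarith
    omega
  set S := Finset.univ.filter fun c => n c = n b + 1 with hS
  have hs : spread n = (S.card : ℤ) * ((Fintype.card ι : ℤ) - S.card) := by
    have e : ∀ c, n c = n b + if c ∈ S then 1 else 0 := fun c => by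
      by_cases hc : n c = n b + 1
      · simp [hS, hc]
      · simp [hS, hc, (hval c).resolve_right hc]
    have e1 : ∑ c, n c = Fintype.card ι * n b + S.card := by
      rw [Finset.sum_congr rfl fun c _ => e c, Finset.sum_add_distrib, Finset.sum_const, Finset.card_univ,
        Finset.sum_ite_mem, Finset.univ_inter, Finset.sum_const, nsmul_eq_mul, nsmul_eq_mul, mul_one]
    have e2 : ∑ c, n c ^ 2 = Fintype.card ι * n b ^ 2 + S.card * (2 * n b + 1) := by
      rw [Finset.sum_congr rfl fun c _ => show n c ^ 2 = n b ^ 2 + if c ∈ S then 2 * n b + 1 else 0 by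
        rw [e c]; split_ifs <;> ring, Finset.sum_add_distrib, Finset.sum_const, Finset.card_univ,
        Finset.sum_ite_mem, Finset.univ_inter, Finset.sum_const, nsmul_eq_mul, nsmul_eq_mul]
    rw [spread, e1, e2]
    ring
  have hle : S.card ≤ Fintype.card ι := Finset.card_le_univ S
  rcases Nat.eq_zero_or_pos S.card with h0 | hpos
  · left
    refine ⟨n b, fun c => (hval c).resolve_right fun hc => ?_⟩
    have : c ∈ S := by simp [hS, hc]
    rw [Finset.card_eq_zero.1 h0] at this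
    simp at this
  have hbS : b ∉ S := by simp [hS]
  have hlt : S.card < Fintype.card ι := lt_of_le_of_ne hle fun e =>
    hbS (Finset.eq_univ_of_card S e ▸ Finset.mem_univ b)
  right
  have hcases : S.card = 1 ∨ S.card + 1 = Fintype.card ι := by
    by_contra hc
    push Not at hc
    have ha : (2 : ℤ) ≤ S.card := by omega
    have hb' : (2 : ℤ) ≤ (Fintype.card ι : ℤ) - S.card := by omega
    nlinarith [mul_nonneg (sub_nonneg.2 ha) (sub_nonneg.2 hb')]
  have hbud : (Fintype.card ι : ℤ) - 1 ≤ spread n := by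
    rw [hs]
    rcases hcases with e | e
    · rw [e]; norm_num
    · have e' : (Fintype.card ι : ℤ) = S.card + 1 := by exact_mod_cast e.symm
      rw [e']; ring_nf; omega
  rcases hcases with e | e
  · obtain ⟨c₀, hc₀⟩ := Finset.card_eq_one.1 e
    refine ⟨c₀, n b, 1, Or.inl rfl, fun c => ?_, hbud⟩
    by_cases hc : c = c₀
    · subst hc
      have : c ∈ S := by simp [hc₀]
      simpa [hS] using (Finset.mem_filter.1 this).2
    · have : c ∉ S := by simp [hc₀, hc]
      simpa [hc] using (hval c).resolve_right fun h' => this (by simp [hS, h'])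
  · obtain ⟨c₀, hc₀⟩ := Finset.card_eq_one.1 (show Sᶜ.card = 1 by rw [Finset.card_compl]; omega)
    refine ⟨c₀, n b + 1, -1, Or.inr rfl, fun c => ?_, hbud⟩
    by_cases hc : c = c₀
    · subst hc
      have : c ∈ Sᶜ := by simp [hc₀]
      have h' : n c ≠ n b + 1 := by simpa [hS] using this
      simp [(hval c).resolve_right h']
    · have : c ∈ S := by
        by_contra h'
        have : c ∈ Sᶜ := Finset.mem_compl.2 h'
        simp [hc₀, hc] at this
      simpa [hc] using (Finset.mem_filter.1 this).2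

/-- Budgets of several cosets of total at most `r`: at most one is not constant. -/
theorem spread_family {β ι : Type*} [Fintype β] [Fintype ι] [DecidableEq ι] [DecidableEq β] (n : β → ι → ℤ)
    (h5 : 5 ≤ Fintype.card ι) (h : ∑ b, spread (n b) ≤ Fintype.card ι) :
    (∀ b, ∃ k, ∀ c, n b c = k) ∨ ∃ b₀ c₀ ε, (ε = 1 ∨ ε = -1) ∧ (∃ k, ∀ c, n b₀ c = k + if c = c₀ then ε else 0) ∧
      ∀ b, b ≠ b₀ → ∃ k, ∀ c, n b c = k := by
  have hle : ∀ b, spread (n b) ≤ Fintype.card ι := fun b =>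
    (Finset.single_le_sum (fun b _ => spread_nonneg (n b)) (Finset.mem_univ b)).trans h
  by_cases hall : ∀ b, ∃ k, ∀ c, n b c = k
  · exact Or.inl hall
  push Not at hall
  obtain ⟨b₀, hb₀⟩ := hall
  obtain ⟨c₀, k, ε, hε, hn, hbud⟩ := (spread_le (n b₀) h5 (hle b₀)).resolve_left (by push Not; exact hb₀)
  refine Or.inr ⟨b₀, c₀, ε, hε, ⟨k, hn⟩, fun b hb => ?_⟩
  refine ((spread_le (n b) h5 (hle b)).resolve_right fun ⟨_, _, _, _, _, hbud'⟩ => ?_)
  have h2 : spread (n b₀) + spread (n b) ≤ Fintype.card ι := by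
    rw [← Finset.sum_pair hb.symm (f := fun b => spread (n b))]
    exact (Finset.sum_le_sum_of_subset_of_nonneg (Finset.subset_univ _) fun b _ _ => spread_nonneg _).trans h
  have : (5 : ℤ) ≤ (Fintype.card ι : ℤ) := by exact_mod_cast h5
  linarith

theorem geom_root {N : ℕ} {ξ : ℂ} (hN : ξ ^ N = 1) :
    ∑ i ∈ Finset.range N, ξ ^ i = if ξ = 1 then (N : ℂ) else 0 := by
  split_ifs with h
  · simp [h]
  · have := geom_sum_mul ξ N
    rw [hN, sub_self] at this
    exact (mul_eq_zero.1 this).resolve_right (sub_ne_zero.2 h)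

theorem conj_root {ξ : ℂ} {N : ℕ} (hN : N ≠ 0) (h : ξ ^ N = 1) : conj ξ = ξ⁻¹ := by
  rw [Complex.inv_def, Complex.normSq_eq_norm_sq, Complex.norm_eq_one_of_pow_eq_one h hN]
  simp

/-- Parseval on the `N`th roots of unity. -/
theorem parseval {N : ℕ} [NeZero N] {ξ : ℂ} (hξ : IsPrimitiveRoot ξ N) (f : Fin N → ℂ) :
    ∑ i ∈ Finset.range N, (∑ a : Fin N, f a * ξ ^ ((a : ℕ) * i)) * conj (∑ a : Fin N, f a * ξ ^ ((a : ℕ) * i)) =
      N * ∑ a : Fin N, f a * conj (f a) := by
  classical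
  have hc : conj ξ = ξ⁻¹ := conj_root (NeZero.ne N) hξ.pow_eq_one
  simp only [map_sum, map_mul, map_pow, hc, Finset.sum_mul_sum]
  rw [Finset.sum_comm, Finset.mul_sum]
  refine Finset.sum_congr rfl fun a _ => ?_
  rw [Finset.sum_comm]
  have h1 : ∀ b : Fin N, ∀ i, f a * ξ ^ ((a : ℕ) * i) * (conj (f b) * ξ⁻¹ ^ ((b : ℕ) * i)) =
      f a * conj (f b) * (ξ ^ (a : ℕ) * ξ⁻¹ ^ (b : ℕ)) ^ i := fun b i => by
    rw [mul_pow, ← pow_mul, ← pow_mul]; ring
  simp only [h1, ← Finset.mul_sum]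
  have h2 : ∀ b : Fin N, ξ ^ (a : ℕ) * ξ⁻¹ ^ (b : ℕ) = 1 ↔ b = a := fun b => by
    rw [inv_pow, mul_inv_eq_one₀ (pow_ne_zero _ (hξ.ne_zero (NeZero.ne N)))]
    exact ⟨fun e => Fin.ext (hξ.pow_inj b.2 a.2 e.symm), fun e => by rw [e]⟩
  have h3 : ∀ b : Fin N, (ξ ^ (a : ℕ) * ξ⁻¹ ^ (b : ℕ)) ^ N = 1 := fun b => by
    rw [mul_pow, ← pow_mul, ← pow_mul, mul_comm (a : ℕ), mul_comm (b : ℕ), pow_mul, pow_mul, inv_pow,
      hξ.pow_eq_one]
    simp
  rw [Finset.sum_eq_single a (fun b _ hb => by rw [geom_root (h3 b), if_neg (mt (h2 b).1 hb), mul_zero])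
    (by simp), geom_root (h3 a), if_pos ((h2 a).2 rfl)]
  ring

/-- A root of unity of order a power of a prime `r ≥ 5` with rational real part is one. -/
theorem root_eq_one {r k : ℕ} (hr : r.Prime) (h5 : 5 ≤ r) {ω : ℂ} (hω : ω ^ r ^ k = 1) {x : ℚ}
    (hx : (ω.re : ℝ) = (x : ℝ)) : ω = 1 := by
  by_contra hne
  have hd : orderOf ω ∣ r ^ k := orderOf_dvd_of_pow_eq_one hω
  obtain ⟨j, -, hj⟩ := (Nat.dvd_prime_pow hr).1 hd
  rcases Nat.eq_zero_or_pos j with rfl | hj0
  · exact hne (orderOf_eq_one_iff.1 (by rw [hj, pow_zero]))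
  have hp : IsPrimitiveRoot ω (r ^ j) := hj ▸ IsPrimitiveRoot.orderOf ω
  have hpos : 0 < r ^ j := pow_pos hr.pos _
  have hdeg : (minpoly ℚ ω).natDegree = Nat.totient (r ^ j) := by
    rw [← Polynomial.cyclotomic_eq_minpoly_rat hp hpos, Polynomial.natDegree_cyclotomic]
  have hsum : ω + conj ω = 2 * (x : ℂ) := by
    rw [Complex.add_conj, hx]; push_cast; ring
  rw [conj_root hpos.ne' hp.pow_eq_one] at hsum
  let P : Polynomial ℚ := Polynomial.X ^ 2 - Polynomial.C (2 * x) * Polynomial.X + 1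
  have hP : Polynomial.aeval ω P = 0 := by
    simp only [P, map_add, map_sub, map_mul, map_pow, map_one, Polynomial.aeval_X, Polynomial.aeval_C,
      eq_ratCast]
    push_cast
    have h0 : ω * ω⁻¹ = 1 := mul_inv_cancel₀ (hp.ne_zero hpos.ne')
    linear_combination ω * hsum - h0
  have hP0 : P ≠ 0 := fun e => by
    have := congrArg (fun p => Polynomial.coeff p 0) e
    simp [P] at this
  have hle := (Polynomial.natDegree_le_natDegree (minpoly.degree_le_of_ne_zero ℚ ω hP0 hP)).trans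
    (show P.natDegree ≤ 2 by simp only [P]; compute_degree)
  rw [hdeg, Nat.totient_prime_pow hr hj0] at hle
  have : 4 ≤ r ^ (j - 1) * (r - 1) := le_mul_of_one_le_of_le (Nat.one_le_pow _ _ hr.pos) (by omega)
  omega

/-- The four degrees in the twisted block, pattern (110), (101). -/
theorem degrees_mixed {q U X : ℚ} (hU : U ≠ 0) (hX : X ≠ 0) (hsum : X + X = 1 + U)
    (h : ((q + 1) / 2) ^ 2 / X + ((q + 1) / 2) ^ 2 / X = 1 + q ^ 2 / U) : U = q := by
  field_simp at h
  have e : (U - q) ^ 2 = 0 := by linear_combination (-1 / 2 : ℚ) * h + (-(U + q ^ 2)) * hsum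
  linarith [pow_eq_zero_iff (two_ne_zero) |>.1 e]

/-- The four degrees in the twisted block, pattern (100), (111). -/
theorem degrees_split {q U E X : ℚ} (hU : U ≠ 0) (hE : E ≠ 0) (hX : X ≠ 0) (hsum : E + X = 1 + U)
    (h : 1 / E + q ^ 2 / X = 1 + q ^ 2 / U) : E = 1 ∨ E * (U + q ^ 2) = U * (1 + U) := by
  have hX' : X = 1 + U - E := by linarith
  field_simp at h
  subst hX'
  have e : (E - 1) * (E * (U + q ^ 2) - U * (1 + U)) = 0 := by linear_combination h
  rcases mul_eq_zero.1 e with h1 | h1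
  · exact Or.inl (sub_eq_zero.1 h1)
  · exact Or.inr (sub_eq_zero.1 h1)

/-- The central characters at the class of `t` in the split pattern. -/
theorem omega_split {q U V W E N : ℂ} (hV : V ≠ 0) (hW : W ≠ 0) (hE : E ≠ 0) (hsum : 1 + W + V + U = 0)
    (h : E * (U + q ^ 2) = U * (1 + U)) :
    N / E * (-U * (N * q / V + q * (N / W))) = (U + q ^ 2) * (N / W) * (N * q / V) := by
  field_simp
  linear_combination (-(N ^ 2 * q)) * h + (-(N ^ 2 * q * U)) * hsum

end CfsgLib.Walter.RB
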