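import Cfsg.Agent.Lib.Walter.Transfer
import Cfsg.Agent.Lib.Walter.CoreW
import Cfsg.Agent.Lib.SLCard
import Cfsg.Agent.Lib.JankoReeMult.PSLTwo

/-!
The centraliser of a non-trivial power of `φ`: its core lies in `⟨φ⟩`, and the centraliser of `t` in it is
`⟨t⟩ × L₂(q')⟨φ⟩`, where `q'` is the size of the fixed field.

Blueprint: `blueprint/Walter.md`, G2.
-/

set_option autoImplicit false
set_option linter.unusedSectionVars false
set_option linter.style.haveILetI false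

namespace CfsgLib.Walter

open CfsgLib.PSL2 (fieldAut)
open CfsgLib.Comp

universe u

local notation "PSL₂[" K "]" => Matrix.ProjectiveSpecialLinearGroup (Fin 2) K

section Small

variable {F : Type} [Field F] [Fintype F]

theorem two_mul_card_psl (hq : Fintype.card F % 2 = 1) :
    2 * Nat.card PSL₂[F] = Fintype.card F * (Fintype.card F ^ 2 - 1) := by
  have h := CfsgLib.SLCard.gcd_mul_card_PSL (F := F) (n := 2) (by norm_num)
  rw [Nat.gcd_eq_left (show 2 ∣ Fintype.card F - 1 by omega), CfsgLib.SLCard.card_SL_two] at h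
  exact h

/-- For `q ≡ 3, 5 mod 8` there is no normal subgroup of odd order other than the trivial one. -/
theorem psl_odd_normal (hq : Fintype.card F % 8 = 3 ∨ Fintype.card F % 8 = 5) (N : Subgroup PSL₂[F]) [N.Normal]
    (hN : Odd (Nat.card N)) : N = ⊥ := by
  obtain ⟨g, b, c, hA, -⟩ := exists_fixed_A4 (F := F) (two_ne_zero_of_mod hq)
  have hb2 : orderOf b = 2 := orderOf_eq_prime (by rw [pow_two]; exact hA.bb) hA.b1
  have hbN : b ∉ N := fun h => by
    have := hN.of_dvd_nat (hb2 ▸ N.orderOf_dvd_natCard h)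
    exact absurd this (by decide)
  by_cases h3 : 3 < Fintype.card F
  · haveI := CfsgLib.JankoReeMult.psl_simple (F := F) h3
    refine ((inferInstance : N.Normal).eq_bot_or_eq_top).resolve_right fun e => hbN ?_
    rw [e]; exact Subgroup.mem_top _
  -- the case `q = 3`
  have hq3 : Fintype.card F = 3 := by omega
  have hcard : Nat.card PSL₂[F] = 12 := by
    have := two_mul_card_psl (F := F) (by omega)
    rw [hq3] at this
    norm_num at this
    omega
  by_contra hne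
  have hcN : Nat.card N = 3 := by
    have hd : Nat.card N ∣ 3 * 4 := by
      have := N.card_subgroup_dvd_card
      rwa [hcard] at this
    have hd3 : Nat.card N ∣ 3 := ((Nat.coprime_two_right.mpr hN).pow_right 2).dvd_of_dvd_mul_right hd
    exact ((Nat.dvd_prime Nat.prime_three).mp hd3).resolve_left fun e => hne (Subgroup.card_eq_one.mp e)
  have hidx : N.index = 4 := by
    have := N.index_mul_card
    rw [hcN, hcard] at this
    omega
  have hg3 : g ^ 3 = 1 := hA.g3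
  have hgN : g ∈ N := by
    have h4 : g ^ 4 ∈ N := by
      have h := pow_card_eq_one' (x := (g : PSL₂[F] ⧸ N))
      rw [← Subgroup.index_eq_card, hidx, ← QuotientGroup.mk_pow] at h
      exact (QuotientGroup.eq_one_iff _).mp h
    rwa [show g ^ 4 = g ^ 3 * g from pow_succ g 3, hg3, one_mul] at h4
  have hbc : b * c ∈ N := by
    have h := N.mul_mem ((inferInstance : N.Normal).conj_mem g hgN b) (N.inv_mem hgN)
    have e : b * g * b⁻¹ * g⁻¹ = b * c := by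
      have hgb : g * b * g⁻¹ = c := hA.gb
      calc b * g * b⁻¹ * g⁻¹ = b * (g * b * g⁻¹)⁻¹ := by group
        _ = b * c := by rw [hgb, inv_eq_of_mul_eq_one_right hA.cc]
    rwa [e] at h
  have hbc2 : orderOf (b * c) = 2 := orderOf_eq_prime
    (by rw [pow_two, show b * c * (b * c) = b * (c * b) * c by group, ← hA.comm, ← mul_assoc, hA.bb, one_mul, hA.cc])
    fun e => hA.bc ((mul_eq_one_iff_eq_inv.mp e).trans (inv_eq_of_mul_eq_one_right hA.cc))
  exact absurd (hN.of_dvd_nat (hbc2 ▸ N.orderOf_dvd_natCard hbc)) (by decide)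

end Small

namespace Coord

variable {X : Type u} [Group X] (C : Coord X)

/-- The centraliser of a power of `φ`. -/
abbrev Cs (k : ℕ) : Subgroup X := Subgroup.centralizer ({C.φ ^ k} : Set X)

/-- The fixed field of a power of `σ`. -/
abbrev Fx (k : ℕ) : Subfield C.F := fixField (C.σ ^ k)

theorem σ_pow_eq_one {k : ℕ} : C.σ ^ k = 1 ↔ C.φ ^ k = 1 := by
  rw [← orderOf_dvd_iff_pow_eq_one, ← orderOf_dvd_iff_pow_eq_one, C.φ_ord]

theorem odd_pow (k : ℕ) : Odd (orderOf (C.σ ^ k)) :=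
  C.odd_f.of_dvd_nat (orderOf_pow_dvd k)

theorem mem_Cs {k : ℕ} {x : X} : x ∈ C.Cs k ↔ Commute x (C.φ ^ k) := Subgroup.mem_centralizer_singleton_iff

theorem φ_mem_Cs (k : ℕ) : C.φ ∈ C.Cs k := C.mem_Cs.mpr ((Commute.refl C.φ).pow_right k)

theorem t_mem_Cs (k : ℕ) : C.t ∈ C.Cs k := C.mem_Cs.mpr (C.t_φ.pow_right k)

/-- `L₂(q')`. -/
noncomputable def ιk (k : ℕ) : PSL₂[C.Fx k] →* X := C.ι.comp (subMap (C.Fx k).subtype)

theorem ιk_inj (k : ℕ) : Function.Injective (C.ιk k) :=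
  C.ι_inj.comp (subMap_injective _)

theorem ιk_t (k : ℕ) (y : PSL₂[C.Fx k]) : Commute C.t (C.ιk k y) := C.t_ι _

theorem ιk_mem (k : ℕ) (y : PSL₂[C.Fx k]) : C.ιk k y ∈ C.Cs k := by
  refine C.mem_Cs.mpr ?_
  have h := C.conj_pow k (subMap (C.Fx k).subtype y)
  rw [fieldAut_subMap _ _ (fun a => mem_fixField.1 a.2) y] at h
  exact (show Commute (C.φ ^ k) (C.ιk k y) from mul_inv_eq_iff_eq_mul.mp h).symm

/-- The centraliser of `t` in `C(φ ^ k)`. -/
theorem cs_form {k : ℕ} {x : X} (hxk : x ∈ C.Cs k) (hxt : Commute x C.t) :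
    ∃ (i : Fin 2) (y : PSL₂[C.Fx k]) (j : ℕ), x = C.t ^ (i : ℕ) * C.ιk k y * C.φ ^ j := by
  obtain ⟨i, y, j, rfl⟩ := C.cent x hxt
  have hy : fieldAut (C.σ ^ k) y = y := by
    refine C.ι_inj ?_
    rw [← C.conj_pow k y, mul_inv_eq_iff_eq_mul]
    have h1 : Commute (C.t ^ (i : ℕ) * C.ι y * C.φ ^ j) (C.φ ^ k) := C.mem_Cs.mp hxk
    have h2 : Commute ((C.t ^ (i : ℕ))⁻¹ * (C.t ^ (i : ℕ) * C.ι y * C.φ ^ j) * (C.φ ^ j)⁻¹) (C.φ ^ k) :=
      (((C.t_φ.pow_pow (i : ℕ) k).inv_left).mul_left h1).mul_left ((Commute.refl C.φ).pow_pow j k).inv_left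
    rw [show (C.t ^ (i : ℕ))⁻¹ * (C.t ^ (i : ℕ) * C.ι y * C.φ ^ j) * (C.φ ^ j)⁻¹ = C.ι y by group] at h2
    exact h2.symm
  obtain ⟨y', hy'⟩ := fixed_range C.two_ne (C.odd_pow k) hy
  exact ⟨i, y', j, by rw [← hy']; rfl⟩

/-- The size of the fixed field. -/
noncomputable def qk (k : ℕ) : ℕ := Nat.card (C.Fx k)

theorem qk_pow (k : ℕ) : C.qk k ^ orderOf (C.σ ^ k) = Fintype.card C.F := card_fixField _

theorem qk_mod (k : ℕ) : C.qk k % 8 = 3 ∨ C.qk k % 8 = 5 := by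
  obtain ⟨d, hd⟩ := C.odd_pow k
  have h := C.qk_pow k
  have hq := C.hq
  rw [← h, hd, pow_succ, pow_mul, Nat.mul_mod, Nat.pow_mod] at hq
  have hlt : C.qk k % 8 < 8 := Nat.mod_lt _ (by norm_num)
  set a := C.qk k with ha
  have hodd : a ^ 2 % 8 = 0 ∨ a ^ 2 % 8 = 1 ∨ a ^ 2 % 8 = 4 := by
    rw [Nat.pow_mod]
    interval_cases (a % 8) <;> simp
  have ha2 : a % 2 = 1 := by
    by_contra hne
    have h2 : 2 ∣ a := Nat.dvd_of_mod_eq_zero (by omega)
    have : 2 ∣ Fintype.card C.F := h ▸ hd ▸ (h2.trans (dvd_pow_self _ (Nat.succ_ne_zero _)))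
    have := C.hq
    omega
  have h1 : a ^ 2 % 8 = 1 := by
    rw [Nat.pow_mod]
    have : a % 8 % 2 = 1 := by omega
    interval_cases (a % 8) <;> simp_all
  rw [h1, one_pow] at hq
  norm_num at hq
  exact hq

end Coord

section Core

variable {G : Type u} [Group G] [Finite G]

/-- The core of `C(φ ^ k)` lies in `⟨φ⟩`. -/
theorem core_le_zpowers (B : Base G) (C : Coord G) (k : ℕ) : OC (C.Cs k) ≤ Subgroup.zpowers C.φ := by
  haveI : Fact (Nat.Prime 2) := ⟨Nat.prime_two⟩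
  letI : Fintype (C.Fx k) := Fintype.ofFinite _
  obtain ⟨S, g, b, c, Fr⟩ := exists_frame B C
  set O := OC (C.Cs k)
  have hO := OC_odd (C.Cs k)
  have hN : Subgroup.normalizer ((S : Subgroup G) : Set G) ≤ C.Cs k := fun n hn =>
    C.mem_Cs.mpr ((Fr.norm_comm n hn).pow_right k)
  have hSH : (S : Subgroup G) ≤ C.Cs k := Subgroup.le_normalizer.trans hN
  have hq : Fintype.card (C.Fx k) % 8 = 3 ∨ Fintype.card (C.Fx k) % 8 = 5 := by
    rw [← Nat.card_eq_fintype_card]; exact C.qk_mod k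
  have hbot : O.comap (C.ιk k) = ⊥ := by
    haveI : (O.comap (C.ιk k)).Normal := ⟨fun x hx y => by
      show C.ιk k (y * x * y⁻¹) ∈ O
      rw [map_mul, map_mul, map_inv]
      exact (Subgroup.mem_normalizer_iff.mp (OC_norm _ (C.ιk_mem k y)) _).mp hx⟩
    refine psl_odd_normal hq _ (hO.of_dvd_nat ?_)
    rw [← Subgroup.card_map_of_injective (C.ιk_inj k)]
    exact Subgroup.card_dvd_of_le (Subgroup.map_comap_le _ _)
  have hfixb : ∀ v, (v = b ∨ v = c) → Commute C.φ (C.ι v) ∧ C.ι v ∈ (S : Subgroup G) := by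
    rintro v (rfl | rfl)
    · exact ⟨C.φ_comm (Fr.fixed _).2.1, Fr.b_mem⟩
    · exact ⟨C.φ_comm (Fr.fixed _).2.2, Fr.c_mem⟩
  have ht : O ⊓ cT C.t ≤ Subgroup.zpowers C.φ := by
    rintro x ⟨hxO, hxt⟩
    have hxk : x ∈ C.Cs k := OC_le _ hxO
    obtain ⟨y, j, rfl⟩ := C.odd_form (mem_cT.mp hxt) (hO.of_dvd_nat (Subgroup.orderOf_dvd_natCard O hxO))
    have hcomm : ∀ v, (v = b ∨ v = c) → v * y = y * v := by
      intro v hv
      obtain ⟨hφv, hvS⟩ := hfixb v hv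
      have hm : C.ι y * C.φ ^ j * (C.ι v * (C.ι y * C.φ ^ j)⁻¹ * (C.ι v)⁻¹) ∈ O :=
        mul_mem hxO ((Subgroup.mem_normalizer_iff.mp (OC_norm _ (hSH hvS)) _).mp (inv_mem hxO))
      rw [show C.ι y * C.φ ^ j * (C.ι v * (C.ι y * C.φ ^ j)⁻¹ * (C.ι v)⁻¹) =
        C.ι y * (C.φ ^ j * C.ι v * (C.φ ^ j)⁻¹) * (C.ι y)⁻¹ * (C.ι v)⁻¹ by group,
        (hφv.pow_left j).eq, mul_inv_cancel_right, ← map_inv, ← map_inv, ← map_mul, ← map_mul, ← map_mul] at hm
      obtain ⟨i, z, l, hz⟩ := C.cs_form (OC_le _ hm) (C.t_ι _).symm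
      have h1 := C.unique (i := i) (x := (y * v * y⁻¹ * v⁻¹)⁻¹ * subMap (C.Fx k).subtype z) (j := l) (by
        rw [map_mul, ← mul_assoc, ((C.t_ι _).pow_left _).eq, map_inv, mul_assoc (C.ι (y * v * y⁻¹ * v⁻¹))⁻¹, mul_assoc,
          inv_mul_eq_one]
        exact hz)
      have hzO : z ∈ O.comap (C.ιk k) := by
        show C.ι (subMap (C.Fx k).subtype z) ∈ O
        rw [← inv_mul_eq_one.mp h1.2.1]; exact hm
      rw [hbot, Subgroup.mem_bot] at hzO
      have h2 := inv_mul_eq_one.mp h1.2.1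
      rw [hzO, map_one, mul_inv_eq_one, mul_inv_eq_iff_eq_mul] at h2
      exact h2.symm
    have hy := four_cent C.two_ne Fr.a4.bb Fr.a4.b1 Fr.a4.cc Fr.a4.c1 Fr.a4.bc Fr.a4.comm (x := y)
      (hcomm b (Or.inl rfl)).symm (hcomm c (Or.inr rfl)).symm
    suffices y = 1 by rw [this, map_one, one_mul]; exact Subgroup.pow_mem _ (Subgroup.mem_zpowers _) j
    have hfix : Commute C.φ (C.ι y) ∧ C.ι y ∈ (S : Subgroup G) := by
      rcases hy with rfl | rfl | rfl | rfl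
      · rw [map_one]; exact ⟨Commute.one_right _, one_mem _⟩
      · exact hfixb _ (Or.inl rfl)
      · exact hfixb _ (Or.inr rfl)
      · rw [map_mul]
        exact ⟨(hfixb _ (Or.inl rfl)).1.mul_right (hfixb _ (Or.inr rfl)).1, mul_mem Fr.b_mem Fr.c_mem⟩
    have hp : (C.ι y * C.φ ^ j) ^ orderOf C.σ ∈ O := pow_mem hxO _
    rw [(hfix.1.pow_left j).symm.mul_pow, ← pow_mul, mul_comm j, pow_mul, ← C.φ_ord, pow_orderOf_eq_one, one_pow,
      mul_one] at hp
    have h1 := eq_one_of_odd_sylow hO hp (pow_mem hfix.2 _)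
    obtain ⟨d, hd⟩ := C.odd_f
    rw [C.φ_ord, hd, pow_succ, pow_mul, pow_two, (B.e8.sylow S).2 _ hfix.2, one_pow, one_mul] at h1
    exact C.ι_inj (h1.trans (map_one _).symm)
  -- the other involutions
  have hEcomm := B.e8.sylow S
  set V := PSL2Klein.four (C.ι b) (C.ι c) (hEcomm.2 _ Fr.b_mem) (hEcomm.2 _ Fr.c_mem)
    (hEcomm.comm Fr.b_mem Fr.c_mem)
  have hb1 : C.ι b ≠ 1 := fun e => Fr.a4.b1 (C.ι_inj (e.trans (map_one _).symm))
  have hc1 : C.ι c ≠ 1 := fun e => Fr.a4.c1 (C.ι_inj (e.trans (map_one _).symm))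
  have hbc : C.ι b ≠ C.ι c := fun e => Fr.a4.bc (C.ι_inj e)
  haveI hK := PSL2Klein.four_klein (hEcomm.2 _ Fr.b_mem) (hEcomm.2 _ Fr.c_mem)
    (hEcomm.comm Fr.b_mem Fr.c_mem) hb1 hc1 hbc
  have hVS : V ≤ (S : Subgroup G) := by
    rintro x (rfl | rfl | rfl | rfl)
    exacts [one_mem _, Fr.b_mem, Fr.c_mem, mul_mem Fr.b_mem Fr.c_mem]
  haveI : IsMulCommutative V := ⟨⟨fun a b => Subtype.ext (hEcomm.comm (hVS a.2) (hVS b.2))⟩⟩
  have h := CfsgLib.coprime_generated_by_centralizers (A := V) (K := O) IsKleinFour.not_isCyclic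
    ((hVS.trans hSH).trans (OC_norm _)) ((S_coprime S hEcomm hO).coprime_dvd_left (Subgroup.card_dvd_of_le hVS))
  rw [← h]
  refine iSup₂_le fun d hd => ?_
  obtain ⟨n, hn, hne⟩ := B.trans S Fr.t_mem (hVS hd.1) C.t_ne hd.2
  intro x hx
  have hxc : Commute x d := mem_cT.mp hx.2
  have hmem : n⁻¹ * x * n ∈ O ⊓ cT C.t := by
    refine ⟨(Subgroup.mem_normalizer_iff''.mp (OC_norm _ (hN hn)) _).mp hx.1, mem_cT.mpr ?_⟩
    calc n⁻¹ * x * n * C.t = n⁻¹ * (x * (n * C.t * n⁻¹)) * n := by group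
      _ = n⁻¹ * ((n * C.t * n⁻¹) * x) * n := by rw [hne, hxc.eq]
      _ = C.t * (n⁻¹ * x * n) := by group
  obtain ⟨i, hi⟩ := ht hmem
  refine ⟨i, ?_⟩
  show C.φ ^ i = x
  have hni : n * C.φ ^ i = C.φ ^ i * n := ((Fr.norm_comm n hn).zpow_right i).eq
  have hi' : C.φ ^ i = n⁻¹ * x * n := hi
  rw [← mul_inv_cancel_right (C.φ ^ i) n, ← hni, hi']
  group

end Core

end CfsgLib.Walter
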