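import Cfsg.Agent.Lib.Walter.Setup
import Cfsg.Agent.Lib.AbCentMax.Main
import Cfsg.Agent.Lib.Comp.CoreBalance
import Cfsg.Agent.Lib.CharPLocal
import Cfsg.Agent.S0205

/-!
The quotient lemma: the shape of `H / O(H)` for a proper subgroup `H` over the Sylow subgroup.
-/

set_option autoImplicit false
set_option linter.unusedSectionVars false
set_option linter.style.haveILetI false

namespace CfsgLib.Walter

open Cfsg CfsgLib.Comp
open scoped commutatorElement
open CfsgLib.AbCentMax (cls self_mem_cls conj_mem_cls odd_cls)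

universe u

variable {G : Type u} [Group G] [Finite G]

/-- A subgroup of the normaliser of `S` over `S`, with an element fixing only `t`, fixes `t` or is transitive. -/
theorem fixed_or_trans {S : Sylow 2 G} (hE : E8 (S : Subgroup G)) {L : Subgroup G} (hSL : (S : Subgroup G) ≤ L)
    (hL : L ≤ Subgroup.normalizer ((S : Subgroup G) : Set G)) {t k : G} (ht : t ∈ (S : Subgroup G)) (ht1 : t ≠ 1)
    (hk : k ∈ L) (hkfix : ∀ a ∈ (S : Subgroup G), k * a * k⁻¹ = a → a = 1 ∨ a = t) (hkt : k * t * k⁻¹ = t) :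
    (∀ n ∈ L, n * t * n⁻¹ = t) ∨
      ∀ a ∈ (S : Subgroup G), ∀ b ∈ (S : Subgroup G), a ≠ 1 → b ≠ 1 → ∃ n ∈ L, n * a * n⁻¹ = b := by
  by_cases hfix : ∀ n ∈ L, n * t * n⁻¹ = t
  · exact Or.inl hfix
  push Not at hfix
  obtain ⟨n, hn, hnt⟩ := hfix
  refine Or.inr ?_
  set A : Set G := ((S : Subgroup G) : Set G) \ {1} with hA
  have hA7 : A.ncard = 7 := by
    rw [hA, Set.ncard_sdiff_singleton_of_mem (one_mem _), ← Nat.card_coe_set_eq,
      show Nat.card ((S : Subgroup G) : Set G) = 8 from hE.1]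
  have hcls : ∀ (L' : Subgroup G), L' ≤ L → ∀ a ∈ A, cls L' a ⊆ A := by
    rintro L' hL' a ⟨ha, ha1⟩ _ ⟨m, hm, rfl⟩
    exact ⟨(Subgroup.mem_normalizer_iff.mp (hL (hL' hm)) a).mp ha, fun e => ha1 (conj_eq_one_iff.mp e)⟩
  have hodd : ∀ (L' : Subgroup G), (S : Subgroup G) ≤ L' → ∀ a ∈ A, Odd (cls L' a).ncard := fun L' h a ha =>
    odd_cls S L' h a fun s hs => hE.comm hs ha.1
  -- the orbit of `t` has more than three elements
  set x := n * t * n⁻¹
  have hxA : x ∈ A := hcls L le_rfl t ⟨ht, ht1⟩ ⟨n, hn, rfl⟩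
  set L' := Subgroup.zpowers k ⊔ (S : Subgroup G) with hL'
  have hL'L : L' ≤ L := sup_le (Subgroup.zpowers_le.mpr hk) hSL
  have hx3 : 3 ≤ (cls L' x).ncard := by
    obtain ⟨j, hj⟩ := hodd L' le_sup_right x hxA
    have hkx : k * x * k⁻¹ ≠ x := fun e => by
      rcases hkfix x hxA.1 e with e' | e'
      · exact hxA.2 e'
      · exact hnt e'
    have : 1 < (cls L' x).ncard := (Set.one_lt_ncard (Set.toFinite _)).mpr ⟨x, self_mem_cls _ _,
      k * x * k⁻¹, conj_mem_cls (self_mem_cls _ _) (Subgroup.mem_sup_left (Subgroup.mem_zpowers k)), hkx.symm⟩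
    omega
  have hL't : ∀ m ∈ L', m * t * m⁻¹ = t := by
    have hle : L' ≤ Subgroup.centralizer ({t} : Set G) := by
      refine sup_le (Subgroup.zpowers_le.mpr ?_) fun s hs => ?_
      · exact Subgroup.mem_centralizer_singleton_iff.mpr (mul_inv_eq_iff_eq_mul.mp hkt)
      · exact Subgroup.mem_centralizer_singleton_iff.mpr (hE.comm hs ht)
    intro m hm
    rw [Subgroup.mem_centralizer_singleton_iff.mp (hle hm), mul_inv_cancel_right]
  have htx : t ∉ cls L' x := by
    rintro ⟨m, hm, e⟩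
    refine hnt ?_
    have h := hL't m⁻¹ (inv_mem hm)
    rw [inv_inv] at h
    rw [← h, ← e]
    group
  have h4 : 4 ≤ (cls L t).ncard := by
    have hsub : insert t (cls L' x) ⊆ cls L t := by
      rintro z (rfl | ⟨m, hm, rfl⟩)
      · exact self_mem_cls _ _
      · exact conj_mem_cls ⟨n, hn, rfl⟩ (hL'L hm)
    have := Set.ncard_le_ncard hsub (Set.toFinite _)
    rw [Set.ncard_insert_of_notMem htx (Set.toFinite _)] at this
    omega
  have hfull : cls L t = A := by
    refine Set.Subset.antisymm (hcls L le_rfl t ⟨ht, ht1⟩) fun a ha => ?_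
    by_contra hna
    have hd : Disjoint (cls L t) (cls L a) := by
      rw [Set.disjoint_left]
      rintro z ⟨m, hm, rfl⟩ ⟨m', hm', e⟩
      exact hna ⟨m'⁻¹ * m, mul_mem (inv_mem hm') hm, by
        calc m'⁻¹ * m * t * (m'⁻¹ * m)⁻¹ = m'⁻¹ * (m * t * m⁻¹) * m' := by group
          _ = a := by rw [← e]; group⟩
    have hu := Set.ncard_le_ncard (Set.union_subset (hcls L le_rfl t ⟨ht, ht1⟩) (hcls L le_rfl a ha))
      (Set.toFinite _)
    rw [Set.ncard_union_eq hd (Set.toFinite _) (Set.toFinite _), hA7] at hu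
    obtain ⟨i, hi⟩ := hodd L hSL a ha
    obtain ⟨j, hj⟩ := hodd L hSL t ⟨ht, ht1⟩
    have hla : (cls L a).ncard = 1 := by omega
    have hall : ∀ m ∈ L, m * a * m⁻¹ = a := fun m hm =>
      Set.ncard_le_one (Set.toFinite _) |>.mp hla.le _ ⟨m, hm, rfl⟩ _ (self_mem_cls _ _)
    rcases hkfix a ha.1 (hall k hk) with e | e
    · exact ha.2 e
    · exact hna (e ▸ self_mem_cls _ _)
  intro a ha b hb ha1 hb1
  obtain ⟨m, hm, hma⟩ : a ∈ cls L t := hfull.symm ▸ (⟨ha, ha1⟩ : a ∈ A)
  obtain ⟨m', hm', hmb⟩ : b ∈ cls L t := hfull.symm ▸ (⟨hb, hb1⟩ : b ∈ A)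
  exact ⟨m' * m⁻¹, mul_mem hm' (inv_mem hm), by rw [← hma, ← hmb]; group⟩

/-- An involution of the Sylow subgroup fixed by the normaliser in `H` is central modulo the core. -/
theorem isolated {S : Sylow 2 G} (hE : E8 (S : Subgroup G)) {H : Subgroup G} (hSH : (S : Subgroup G) ≤ H) {t : G}
    (ht : t ∈ (S : Subgroup G)) (ht1 : t ≠ 1)
    (hfix : ∀ n ∈ H ⊓ Subgroup.normalizer ((S : Subgroup G) : Set G), n * t * n⁻¹ = t) (x : ↥H) :
    (⟨t, hSH ht⟩ : ↥H) * x * (⟨t, hSH ht⟩ : ↥H)⁻¹ * x⁻¹ ∈ oddCore ↥H := by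
  haveI : Fact (Nat.Prime 2) := ⟨Nat.prime_two⟩
  refine ZStar.commutator_mem ?_ ?_ x
  · rw [← Subgroup.orderOf_coe]
    exact hE.orderOf_eq_two ht ht1
  intro h hh
  set v : G := (h : G) * t * (h : G)⁻¹
  have hvt : Commute t v := congrArg Subtype.val hh.eq
  have hvH : v ∈ H := mul_mem (mul_mem h.2 (hSH ht)) (inv_mem h.2)
  -- conjugate `v` into `S` inside `C_H(t)`
  set CH := H ⊓ Subgroup.centralizer ({t} : Set G) with hCH
  have hSC : (S : Subgroup G) ≤ CH :=
    le_inf hSH fun s hs => Subgroup.mem_centralizer_singleton_iff.mpr (hE.comm hs ht)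
  have hvC : v ∈ CH := ⟨hvH, Subgroup.mem_centralizer_singleton_iff.mpr hvt.eq.symm⟩
  have hvp : IsPGroup 2 (Subgroup.zpowers (⟨v, hvC⟩ : ↥CH)) := by
    refine IsPGroup.of_card (n := 1) ?_
    rw [Nat.card_zpowers, Subgroup.orderOf_mk, pow_one, ZStar.orderOf_conj]
    exact hE.orderOf_eq_two ht ht1
  obtain ⟨Q, hQ⟩ := hvp.exists_le_sylow
  obtain ⟨c, hc⟩ := MulAction.exists_smul_eq ↥CH Q (S.subtype hSC)
  have hcv : (c : G) * v * (c : G)⁻¹ ∈ (S : Subgroup G) := by
    have hm : c * ⟨v, hvC⟩ * c⁻¹ ∈ ((c • Q : Sylow 2 ↥CH) : Subgroup ↥CH) := by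
      rw [Sylow.coe_subgroup_smul]
      exact ⟨_, hQ (Subgroup.mem_zpowers _), rfl⟩
    rw [hc] at hm
    exact hm
  have hct : (c : G) * t = t * c := Subgroup.mem_centralizer_singleton_iff.mp c.2.2
  obtain ⟨n, hn, hne⟩ := AbCentMax.fusion S hE.isMulCommutative hSH ht (g := (c : G) * h)
    (mul_mem c.2.1 h.2) (by rw [show (c : G) * h * t * ((c : G) * h)⁻¹ = c * v * (c : G)⁻¹ by simp only [v]; group]; exact hcv)
  rw [hfix n hn] at hne
  refine Subtype.ext ?_
  show v = t
  calc v = (c : G)⁻¹ * ((c : G) * h * t * ((c : G) * h)⁻¹) * c := by simp only [v]; group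
    _ = (c : G)⁻¹ * (t * c) := by rw [← hne]; group
    _ = t := by rw [← hct]; group

/-- The simple normal subgroup of `H / O(H)`. -/
structure Layer (H : Subgroup G) (S : Sylow 2 G) (K : Subgroup (↥H ⧸ pPrimeCore 2 ↥H)) : Prop where
  normal : K.Normal
  simple : IsSimpleGroup K
  noncomm : ¬ IsMulCommutative K
  sylow_le : ((S : Subgroup G).subgroupOf H).map (bar 2 ↥H) ≤ K
  cent : Subgroup.centralizer (K : Set (↥H ⧸ pPrimeCore 2 ↥H)) = ⊥
  odd : Odd K.index
  e8 : ∀ T : Sylow 2 K, E8 (T : Subgroup K)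

section Bar

variable {S : Sylow 2 G} (hE : E8 (S : Subgroup G)) {H : Subgroup G} (hSH : (S : Subgroup G) ≤ H)
include hE hSH

theorem bar_inj {a : ↥H} (ha : (a : G) ∈ (S : Subgroup G)) (h : bar 2 ↥H a = 1) : a = 1 := by
  by_contra hne
  have h2 : orderOf a = 2 := by
    rw [← Subgroup.orderOf_coe]
    exact hE.orderOf_eq_two ha fun e => hne (Subtype.ext e)
  have hd : orderOf a ∣ Nat.card (pPrimeCore 2 ↥H) :=
    Subgroup.orderOf_dvd_natCard _ ((QuotientGroup.eq_one_iff a).mp h)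
  have hodd := Nat.coprime_two_right.mp (card_pPrimeCore_coprime (G := ↥H) 2)
  rw [h2] at hd
  exact Nat.not_even_iff_odd.mpr hodd (even_iff_two_dvd.mpr hd)

/-- The image of the Sylow subgroup. -/
theorem exists_bar_sylow : ∃ T : Sylow 2 (↥H ⧸ pPrimeCore 2 ↥H),
    (T : Subgroup (↥H ⧸ pPrimeCore 2 ↥H)) = ((S : Subgroup G).subgroupOf H).map (bar 2 ↥H) ∧
      E8 (T : Subgroup (↥H ⧸ pPrimeCore 2 ↥H)) := by
  haveI : Fact (Nat.Prime 2) := ⟨Nat.prime_two⟩
  refine ⟨(S.subtype hSH).mapSurjective (bar_surjective 2), rfl, ?_, ?_⟩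
  · show Nat.card (((S : Subgroup G).subgroupOf H).map (bar 2 ↥H)) = 8
    rw [← hE.1, ← Nat.card_congr (Subgroup.subgroupOfEquivOfLe hSH).toEquiv]
    refine (Nat.card_eq_of_bijective
      (fun z => ⟨bar 2 ↥H z.1, Subgroup.mem_map_of_mem _ z.2⟩) ⟨fun a b e => ?_, ?_⟩).symm
    · have e' : bar 2 ↥H (a.1⁻¹ * b.1) = 1 := by
        rw [map_mul, map_inv, inv_mul_eq_one]; exact congrArg Subtype.val e
      exact Subtype.ext (inv_mul_eq_one.mp (bar_inj hE hSH (mul_mem (inv_mem a.2) b.2) e'))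
    · rintro ⟨_, z, hz, rfl⟩
      exact ⟨⟨z, hz⟩, rfl⟩
  · rintro _ ⟨z, hz, rfl⟩
    rw [← map_mul, show z * z = 1 from Subtype.ext (hE.2 _ hz), map_one]

variable (htr : ∀ a ∈ (S : Subgroup G), ∀ b ∈ (S : Subgroup G), a ≠ 1 → b ≠ 1 →
  ∃ n ∈ H ⊓ Subgroup.normalizer ((S : Subgroup G) : Set G), n * a * n⁻¹ = b)
include htr

/-- Transitivity on the involutions: the Sylow subgroup is normal modulo the core, or there is a simple layer. -/
theorem trans_cases :
    (∀ x : ↥H, ∃ o ∈ pPrimeCore 2 ↥H, ∃ n : ↥H,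
      (n : G) ∈ Subgroup.normalizer ((S : Subgroup G) : Set G) ∧ o * n = x) ∨ ∃ K, Layer H S K := by
  classical
  haveI : Fact (Nat.Prime 2) := ⟨Nat.prime_two⟩
  obtain ⟨T, hT, hT8⟩ := exists_bar_sylow hE hSH
  let Q := ↥H ⧸ pPrimeCore 2 ↥H
  have hO : pPrimeCore 2 Q = ⊥ := pPrimeCore_quotient_eq_bot 2
  have htrT : ∀ a ∈ (T : Subgroup Q), ∀ b ∈ (T : Subgroup Q), a ≠ 1 → b ≠ 1 → ∃ y : Q, y * a * y⁻¹ = b := by
    intro a ha b hb ha1 hb1
    rw [hT] at ha hb
    obtain ⟨a', ha', rfl⟩ := ha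
    obtain ⟨b', hb', rfl⟩ := hb
    obtain ⟨n, hn, hne⟩ := htr a' ha' b' hb'
      (fun e => ha1 (by rw [show a' = 1 from Subtype.ext e, map_one]))
      (fun e => hb1 (by rw [show b' = 1 from Subtype.ext e, map_one]))
    refine ⟨bar 2 ↥H ⟨n, hn.1⟩, ?_⟩
    rw [← map_inv, ← map_mul, ← map_mul]
    exact congrArg _ (Subtype.ext hne)
  -- normal subgroups meet `T` trivially or contain it
  have hnorm : ∀ M : Subgroup Q, M.Normal → M ≠ ⊥ → (T : Subgroup Q) ≤ M := by
    intro M hM hne a ha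
    haveI := hM
    obtain ⟨R, hR⟩ := CfsgLib.CharPLocal.exists_sylow_subnormal T hM.isSubnormal
    have hne' : (T : Subgroup Q) ⊓ M ≠ ⊥ := by
      intro e
      rw [e] at hR
      have hR1 : Nat.card (R : Subgroup M) = 1 := by
        rw [← Subgroup.card_map_of_injective M.subtype_injective, hR, Subgroup.card_bot]
      have hodd : ¬ 2 ∣ Nat.card M := fun h => by
        have := R.dvd_card_of_dvd_card h
        rw [hR1] at this; omega
      have hle : M ≤ pPrimeCore 2 Q := le_pPrimeCore (Nat.coprime_two_right.mpr (Nat.odd_iff.mpr (by omega)))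
      exact hne (le_bot_iff.mp (hO ▸ hle))
    obtain ⟨x, hx, hx1⟩ := (Subgroup.bot_or_exists_ne_one _).resolve_left hne'
    by_cases ha1 : a = 1
    · rw [ha1]; exact one_mem M
    obtain ⟨y, hy⟩ := htrT x hx.1 a ha hx1 ha1
    exact hy ▸ hM.conj_mem x hx.2 y
  -- a minimal normal subgroup
  have htop : (⊤ : Subgroup Q) ≠ ⊥ := fun e => by
    have h1 := Subgroup.card_le_of_le (le_top : (T : Subgroup Q) ≤ ⊤)
    rw [e, Subgroup.card_bot, hT8.1] at h1
    omega
  obtain ⟨M, ⟨hMn, hMne⟩, hMmin⟩ := Set.exists_min_image {M : Subgroup Q | M.Normal ∧ M ≠ ⊥}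
    (fun M => Nat.card M) (Set.toFinite _) ⟨⊤, inferInstance, htop⟩
  haveI := hMn
  have hmin : ∀ M' : Subgroup Q, M'.Normal → M' ≤ M → M' ≠ ⊥ → M' = M := fun M' h1 h2 h3 =>
    Subgroup.eq_of_le_of_card_ge h2 (hMmin M' ⟨h1, h3⟩)
  have hTM := hnorm M hMn hMne
  have top_map_M : (⊤ : Subgroup M).map M.subtype = M := by
    rw [← MonoidHom.range_eq_map, Subgroup.range_subtype]
  by_cases hsolv : Group.IsSolvable M
  · -- `M` is the Sylow subgroup
    left
    have hcomm : ∀ x ∈ M, ∀ y ∈ M, x * y = y * x := by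
      haveI : ((commutator M).map M.subtype).Normal := by
        rw [Subgroup.map_subtype_commutator]; infer_instance
      have hlt : (commutator M).map M.subtype ≠ M := by
        intro e
        haveI : Nontrivial M := (Subgroup.nontrivial_iff_ne_bot M).mpr hMne
        exact (Group.IsSolvable.commutator_lt_top_of_nontrivial M).ne
          (Subgroup.map_injective M.subtype_injective (e.trans top_map_M.symm))
      have hbot : (commutator M).map M.subtype = ⊥ := by
        by_contra hne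
        exact hlt (hmin _ inferInstance (Subgroup.map_subtype_le _) hne)
      intro x hx y hy
      have h : ⁅(⟨x, hx⟩ : M), ⟨y, hy⟩⁆ ∈ commutator M :=
        Subgroup.commutator_mem_commutator (Subgroup.mem_top _) (Subgroup.mem_top _)
      have h' := Subgroup.mem_map_of_mem M.subtype h
      rw [hbot, Subgroup.mem_bot] at h'
      exact commutatorElement_eq_one_iff_mul_comm.mp h'
    have hTn : (T : Subgroup Q).Normal := by
      haveI : IsMulCommutative M := ⟨⟨fun a b => Subtype.ext (hcomm a a.2 b b.2)⟩⟩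
      letI : CommGroup M := { (inferInstance : Group M) with mul_comm := IsMulCommutative.is_comm.comm }
      haveI : ((T.subtype hTM : Sylow 2 M) : Subgroup M).Normal := inferInstance
      haveI := Sylow.characteristic_of_normal (T.subtype hTM) inferInstance
      have : (((T.subtype hTM : Sylow 2 M) : Subgroup M).map M.subtype).Normal :=
        ConjAct.normal_of_characteristic_of_normal
      have e : ((T.subtype hTM : Sylow 2 M) : Subgroup M).map M.subtype = (T : Subgroup Q) :=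
        Subgroup.map_subgroupOf_eq_of_le hTM
      rwa [e] at this
    intro x
    obtain ⟨n, hn, hne⟩ := exists_centralizing_lift
      (IsPGroup.of_equiv S.2 (Subgroup.subgroupOfEquivOfLe hSH).symm) x (by
        rw [← hT, Subgroup.normalizer_eq_top_iff.mpr hTn]
        exact Subgroup.mem_top _)
    refine ⟨x * n⁻¹, ?_, n, ?_, inv_mul_cancel_right x n⟩
    · rw [← QuotientGroup.eq_one_iff]
      show bar 2 ↥H (x * n⁻¹) = 1
      rw [map_mul, map_inv, mul_inv_eq_one]
      exact hne.symm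
    · refine Subgroup.mem_normalizer_fintype fun a ha => ?_
      exact (Subgroup.mem_normalizer_iff.mp hn ⟨a, hSH ha⟩).mp ha
  right
  -- a minimal normal subgroup of `M`
  obtain ⟨K, ⟨hKn, hKne⟩, hKmin⟩ := Set.exists_min_image {K : Subgroup M | K.Normal ∧ K ≠ ⊥}
    (fun K => Nat.card K) (Set.toFinite _) ⟨⊤, inferInstance, fun e => hMne (by
      have := congrArg (Subgroup.map M.subtype) e
      rwa [← MonoidHom.range_eq_map, Subgroup.range_subtype, Subgroup.map_bot] at this)⟩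
  haveI := hKn
  haveI : Nontrivial M := (Subgroup.nontrivial_iff_ne_bot M).mpr hMne
  have hOM : pPrimeCore 2 ↥M = ⊥ := by
    refine (Subgroup.eq_bot_iff_forall _).mpr fun y hy => ?_
    have hle := subnormal_coprime_le (p := 2)
      ((inferInstance : (pPrimeCore 2 ↥M).Normal).isSubnormal.trans' hMn.isSubnormal)
      (by rw [Subgroup.card_map_of_injective M.subtype_injective]; exact card_pPrimeCore_coprime 2)
      (Subgroup.mem_map_of_mem M.subtype hy)
    rw [hO, Subgroup.mem_bot] at hle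
    exact Subtype.ext hle
  suffices hKtop : K = ⊤ by
    have hsimple : IsSimpleGroup M := ⟨fun K' hK' => by
      by_cases h : K' = ⊥
      · exact Or.inl h
      · refine Or.inr (Subgroup.eq_top_of_le_card _ ?_)
        rw [← Subgroup.card_top, ← hKtop]
        exact hKmin K' ⟨hK', h⟩⟩
    haveI := hsimple
    have hnc : ¬ IsMulCommutative M := fun h => hsolv (Group.isSolvable_of_comm h.is_comm.comm)
    have hodd : Odd M.index := Nat.odd_iff.mpr (by
      have : ¬ 2 ∣ M.index := fun h => T.not_dvd_index (h.trans (Subgroup.index_dvd_of_le hTM))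
      omega)
    refine ⟨M, hMn, hsimple, hnc, hT ▸ hTM, ?_, hodd, fun R => ?_⟩
    · by_contra hC
      haveI : (Subgroup.centralizer (M : Set Q)).Normal := Subgroup.normal_centralizer
      have hTC := hnorm _ inferInstance hC
      have hcen : Subgroup.center M = ⊥ :=
        ((inferInstance : (Subgroup.center M).Normal).eq_bot_or_eq_top).resolve_right fun e =>
          hnc (Subgroup.center_eq_top_iff.mp e)
      have hT1 : (T : Subgroup Q) = ⊥ := by
        refine (Subgroup.eq_bot_iff_forall _).mpr fun x hx => ?_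
        have hz : (⟨x, hTM hx⟩ : M) ∈ Subgroup.center M :=
          Subgroup.mem_center_iff.mpr fun y => Subtype.ext (hTC hx y y.2)
        rw [hcen, Subgroup.mem_bot] at hz
        exact congrArg Subtype.val hz
      have h8 := hT8.1
      rw [hT1, Subgroup.card_bot] at h8
      omega
    · refine E8.sylow ?_ R (T := T.subtype hTM)
      refine ⟨(Nat.card_congr (Subgroup.subgroupOfEquivOfLe hTM).toEquiv).trans hT8.1, fun z hz => ?_⟩
      exact Subtype.ext (hT8.2 z hz)
  by_contra hKtop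
  set K' := K.map M.subtype with hK'
  have hK'M : K' ≤ M := Subgroup.map_subtype_le _
  obtain ⟨R, hR⟩ := CfsgLib.CharPLocal.exists_sylow_subnormal (T.subtype hTM) hKn.isSubnormal
  set V := (T : Subgroup Q) ⊓ K' with hV
  have hcV : Nat.card V = Nat.card (R : Subgroup K) := by
    rw [← Subgroup.card_map_of_injective K.subtype_injective, hR]
    have e : ((T.subtype hTM : Sylow 2 M) : Subgroup M) ⊓ K = V.subgroupOf M := by
      ext z
      constructor
      · rintro ⟨h1, h2⟩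
        exact ⟨h1, z, h2, rfl⟩
      · rintro ⟨h1, k, hk, e⟩
        exact ⟨h1, (Subtype.ext e : k = z) ▸ hk⟩
    rw [e]
    exact (Nat.card_congr (Subgroup.subgroupOfEquivOfLe (inf_le_left.trans hTM)).toEquiv).symm
  -- conjugates of `K` are equal or meet trivially
  have hmeet : ∀ y : Q, (∃ x ∈ K', x ≠ 1 ∧ y * x * y⁻¹ ∈ K') → ∀ x ∈ K', y * x * y⁻¹ ∈ K' := by
    rintro y ⟨x₀, hx₀, hx₀1, hyx₀⟩ x hx
    let α : MulAut M := MulAut.conjNormal y
    have hKα : K.map α.toMonoidHom ⊓ K ≠ ⊥ := by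
      obtain ⟨k₀, hk₀, rfl⟩ := hx₀
      intro e
      have hmem : α k₀ ∈ K.map α.toMonoidHom ⊓ K := by
        refine ⟨⟨k₀, hk₀, rfl⟩, ?_⟩
        obtain ⟨k₁, hk₁, e₁⟩ := hyx₀
        have : α k₀ = k₁ := Subtype.ext ((MulAut.conjNormal_apply y k₀).trans e₁.symm)
        rw [this]; exact hk₁
      rw [e, Subgroup.mem_bot, MulEquiv.map_eq_one_iff] at hmem
      exact hx₀1 (by rw [hmem]; rfl)
    haveI : (K.map α.toMonoidHom).Normal := hKn.map _ α.surjective
    have h1 : K.map α.toMonoidHom ⊓ K = K :=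
      Subgroup.eq_of_le_of_card_ge inf_le_right (hKmin _ ⟨inferInstance, hKα⟩)
    have h2 : K.map α.toMonoidHom = K := (Subgroup.eq_of_le_of_card_ge (h1.symm.le.trans inf_le_left)
      (Subgroup.card_map_of_injective α.injective).le).symm
    obtain ⟨k₁, hk₁, rfl⟩ := hx
    refine ⟨α k₁, ?_, MulAut.conjNormal_apply y k₁⟩
    rw [← h2]
    exact ⟨k₁, hk₁, rfl⟩
  have hVne : V ≠ ⊥ := by
    intro e
    rw [e, Subgroup.card_bot] at hcV
    have hodd : ¬ 2 ∣ Nat.card K := fun h => by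
      have := R.dvd_card_of_dvd_card h
      rw [← hcV] at this; omega
    have hle : K ≤ pPrimeCore 2 ↥M := le_pPrimeCore (Nat.coprime_two_right.mpr (Nat.odd_iff.mpr (by omega)))
    exact hKne (le_bot_iff.mp (hOM ▸ hle))
  have hVT : V ≠ (T : Subgroup Q) := by
    intro e
    refine hKtop ?_
    have hTK : (T : Subgroup Q) ≤ K' := e ▸ inf_le_right
    haveI : K'.Normal := ⟨fun x hx y => hmeet y (by
      obtain ⟨z, hz, hz1⟩ := (Subgroup.bot_or_exists_ne_one _).resolve_left hVne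
      obtain ⟨Q', hQ'⟩ : ∃ Q' : Sylow 2 Q, y * z * y⁻¹ ∈ (Q' : Subgroup Q) :=
        exists_mem_sylow (by rw [ZStar.orderOf_conj]; exact hT8.orderOf_eq_two hz.1 hz1)
      haveI := hMn
      obtain ⟨g, hg⟩ := MulAction.exists_smul_eq ↥M (T.subtype hTM) ((Q'.subtype (by
        obtain ⟨d, hd⟩ := MulAction.exists_smul_eq Q T Q'
        rw [← hd, Sylow.coe_subgroup_smul]
        rintro _ ⟨a, ha, rfl⟩
        exact hMn.conj_mem a (hTM ha) d) : Sylow 2 ↥M))
      have hm : (⟨y * z * y⁻¹, hMn.conj_mem z (hTM hz.1) y⟩ : ↥M) ∈ ((g • T.subtype hTM : Sylow 2 ↥M) : Subgroup ↥M) :=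
        hg ▸ hQ'
      rw [Sylow.coe_subgroup_smul] at hm
      obtain ⟨a, ha, hae⟩ := hm
      obtain ⟨ka, hka, hkae⟩ := hTK ha
      refine ⟨z, hz.2, hz1, ?_⟩
      have : ka = a := Subtype.ext hkae
      exact ⟨g * a * g⁻¹, hKn.conj_mem _ (this ▸ hka) g, congrArg Subtype.val hae⟩) x hx⟩
    have := hmin K' inferInstance hK'M fun h => hKne
      ((Subgroup.map_eq_bot_iff_of_injective _ M.subtype_injective).mp h)
    exact Subgroup.map_injective M.subtype_injective (this.trans top_map_M.symm)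
  -- so `V` has order two
  have hV2 : Nat.card V = 2 := by
    have hd : Nat.card V ∣ 2 ^ 3 := by
      rw [show (2 : ℕ) ^ 3 = 8 from rfl, ← hT8.1]; exact Subgroup.card_dvd_of_le inf_le_left
    obtain ⟨i, hi, hVi⟩ := (Nat.dvd_prime_pow Nat.prime_two).mp hd
    have hi0 : i ≠ 0 := fun h => hVne (Subgroup.card_eq_one.mp (by rw [hVi, h, pow_zero]))
    have hi3 : i ≠ 3 := fun h => hVT (Subgroup.eq_of_le_of_card_ge inf_le_left (by rw [hT8.1, hVi, h]; norm_num))
    rcases (show i = 1 ∨ i = 2 by omega) with rfl | rfl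
    · rw [hVi]; norm_num
    exfalso
    -- a four-group moved by a transitive group is met by its image
    obtain ⟨z, hz, hzV⟩ : ∃ z ∈ (T : Subgroup Q), z ∉ V := by
      by_contra hcon
      push Not at hcon
      exact hVT (le_antisymm inf_le_left hcon)
    obtain ⟨v, hv, hv1⟩ := (Subgroup.bot_or_exists_ne_one _).resolve_left hVne
    rw [hT] at hz
    obtain ⟨z', hz', rfl⟩ := hz
    have hv0 : v ∈ ((S : Subgroup G).subgroupOf H).map (bar 2 ↥H) := hT ▸ hv.1
    obtain ⟨v', hv', rfl⟩ := hv0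
    obtain ⟨n, hn, hne⟩ := htr v' hv' z' hz'
      (fun e => hv1 (by rw [show v' = 1 from Subtype.ext e, map_one]))
      (fun e => hzV (by rw [show z' = 1 from Subtype.ext e, map_one]; exact one_mem V))
    set y := bar 2 ↥H ⟨n, hn.1⟩
    have hyT : ∀ a ∈ (T : Subgroup Q), y * a * y⁻¹ ∈ (T : Subgroup Q) := by
      rw [hT]
      rintro _ ⟨a, ha, rfl⟩
      exact ⟨⟨n, hn.1⟩ * a * ⟨n, hn.1⟩⁻¹, (Subgroup.mem_normalizer_iff.mp hn.2 a).mp ha, by
        rw [map_mul, map_mul, map_inv]⟩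
    have hyz : y * bar 2 ↥H v' * y⁻¹ = bar 2 ↥H z' := by
      rw [← map_inv, ← map_mul, ← map_mul]
      exact congrArg _ (Subtype.ext hne)
    -- the four-group and its image meet
    have hex : ∃ x ∈ K', x ≠ 1 ∧ y * x * y⁻¹ ∈ K' := by
      by_contra hcon
      push Not at hcon
      let f : ↥V × ↥V → ↥(T : Subgroup Q) := fun p =>
        ⟨(p.1 : Q) * (y * (p.2 : Q) * y⁻¹), mul_mem p.1.2.1 (hyT _ p.2.2.1)⟩
      have hf : Function.Injective f := by
        rintro ⟨a, b⟩ ⟨a', b'⟩ he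
        have he' : (a : Q) * (y * b * y⁻¹) = a' * (y * b' * y⁻¹) := congrArg Subtype.val he
        have hbb : y * ((b : Q) * (b' : Q)⁻¹) * y⁻¹ ∈ K' := by
          have : y * ((b : Q) * (b' : Q)⁻¹) * y⁻¹ = (a : Q)⁻¹ * a' := by
            calc y * ((b : Q) * (b' : Q)⁻¹) * y⁻¹ = (a : Q)⁻¹ * ((a : Q) * (y * b * y⁻¹)) * (y * b' * y⁻¹)⁻¹ := by
                  group
              _ = (a : Q)⁻¹ * a' := by rw [he']; group
          rw [this]
          exact mul_mem (inv_mem a.2.2) a'.2.2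
        have hbe : b = b' := by
          by_contra hne'
          exact hcon _ (mul_mem b.2.2 (inv_mem b'.2.2))
            (fun h => hne' (Subtype.ext (mul_inv_eq_one.mp h))) hbb
        subst hbe
        exact Prod.ext (Subtype.ext (mul_right_cancel he')) rfl
      have := Nat.card_le_card_of_injective f hf
      rw [Nat.card_prod, hVi, hT8.1] at this
      norm_num at this
    refine hzV ⟨hT ▸ Subgroup.mem_map_of_mem _ hz', ?_⟩
    rw [← hyz]
    exact hmeet y hex _ hv.2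
  -- a normal subgroup with Sylow subgroups of order two
  have hR2 : Nat.card (R : Subgroup K) = 2 := hcV ▸ hV2
  have hle : Subgroup.normalizer ((R : Subgroup K) : Set K) ≤ Subgroup.centralizer ((R : Subgroup K) : Set K) := by
    intro g hg p hp
    obtain ⟨u, -, huniq⟩ := (Nat.card_eq_two_iff' (1 : (R : Subgroup K))).mp hR2
    rcases eq_or_ne p 1 with rfl | hp1
    · rw [one_mul, mul_one]
    have h1 : (⟨g * p * g⁻¹, (Subgroup.mem_normalizer_iff.mp hg p).mp hp⟩ : (R : Subgroup K)) = u :=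
      huniq _ fun e => hp1 (conj_eq_one_iff.mp (congrArg Subtype.val e))
    have h2 : (⟨p, hp⟩ : (R : Subgroup K)) = u := huniq _ fun e => hp1 (congrArg Subtype.val e)
    have h3 := congrArg Subtype.val (h1.trans h2.symm)
    exact (mul_inv_eq_iff_eq_mul.mp h3).symm
  have hcompl := MonoidHom.ker_transferSylow_isComplement' R hle
  set N := (MonoidHom.transferSylow R hle).ker with hN
  have hNodd : ¬ 2 ∣ Nat.card N := fun h => by
    have := hcompl.index_eq_card
    have h2 := R.not_dvd_index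
    rw [this] at h2
    exact h2 h
  have hNle : N.map K.subtype ≤ pPrimeCore 2 ↥M := by
    refine subnormal_coprime_le ((inferInstance : N.Normal).isSubnormal.trans' hKn.isSubnormal) ?_
    rw [Subgroup.card_map_of_injective K.subtype_injective]
    exact Nat.coprime_two_right.mpr (Nat.odd_iff.mpr (Nat.two_dvd_ne_zero.mp hNodd))
  rw [hOM, le_bot_iff, Subgroup.map_eq_bot_iff_of_injective _ K.subtype_injective] at hNle
  have hK2 : Nat.card K = 2 := by
    have h := hcompl.card_mul_card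
    rw [hNle, Subgroup.card_bot, one_mul, hR2] at h
    exact h.symm
  -- a normal subgroup of order two is central
  obtain ⟨u, hu1, huniq⟩ := (Nat.card_eq_two_iff' (1 : K)).mp hK2
  have huc : (u : M) ∈ Subgroup.center M := Subgroup.mem_center_iff.mpr fun m => by
    have h1 : (⟨m * u * m⁻¹, hKn.conj_mem _ u.2 m⟩ : K) = u :=
      huniq _ fun e => hu1 (Subtype.ext (conj_eq_one_iff.mp (congrArg Subtype.val e)))
    exact mul_inv_eq_iff_eq_mul.mp (congrArg Subtype.val h1)
  haveI : ((Subgroup.center M).map M.subtype).Normal := ConjAct.normal_of_characteristic_of_normal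
  have hcM : (Subgroup.center M).map M.subtype = M := hmin _ inferInstance (Subgroup.map_subtype_le _) fun e => by
    rw [Subgroup.map_eq_bot_iff_of_injective _ M.subtype_injective] at e
    rw [e, Subgroup.mem_bot] at huc
    exact hu1 (Subtype.ext huc)
  refine hsolv (Group.isSolvable_of_comm fun a b => ?_)
  have htop' : Subgroup.center M = ⊤ :=
    Subgroup.map_injective M.subtype_injective (hcM.trans top_map_M.symm)
  exact (Subgroup.mem_center_iff.mp (htop' ▸ Subgroup.mem_top b) a)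

end Bar

namespace Layer

variable {H : Subgroup G} {S : Sylow 2 G} {K : Subgroup (↥H ⧸ pPrimeCore 2 ↥H)} (L : Layer H S K)
include L

theorem tbar_mem (hSH : (S : Subgroup G) ≤ H) {t : G} (ht : t ∈ (S : Subgroup G)) :
    bar 2 ↥H ⟨t, hSH ht⟩ ∈ K :=
  L.sylow_le ⟨⟨t, hSH ht⟩, ht, rfl⟩

/-- A perfect subgroup lies in the layer. -/
theorem perfect_le {P : Subgroup (↥H ⧸ pPrimeCore 2 ↥H)} (hP : ⁅P, P⁆ = P) : P ≤ K := by
  haveI := L.normal
  haveI : Group.IsSolvable ((↥H ⧸ pPrimeCore 2 ↥H) ⧸ K) :=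
    Cfsg.Agent.S0205.result (by rw [← Subgroup.index_eq_card]; exact L.odd)
  set f := QuotientGroup.mk' K
  have h : ∀ n, P.map f ≤ derivedSeries ((↥H ⧸ pPrimeCore 2 ↥H) ⧸ K) n := by
    intro n
    induction n with
    | zero => exact le_top
    | succ n ih =>
      rw [← hP, Subgroup.map_commutator, derivedSeries_succ]
      exact Subgroup.commutator_mono ih ih
  obtain ⟨n, hn⟩ := (inferInstance : Group.IsSolvable ((↥H ⧸ pPrimeCore 2 ↥H) ⧸ K)).solvable
  intro x hx
  have := hn ▸ h n ⟨x, hx, rfl⟩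
  exact (QuotientGroup.eq_one_iff x).mp (Subgroup.mem_bot.mp this)

/-- A non-soluble involution centraliser in the layer has the known shape. -/
theorem shape (B : Base G) (hH : H ≠ ⊤) (hSH : (S : Subgroup G) ≤ H) {t : G} (ht : t ∈ (S : Subgroup G))
    (ht1 : t ≠ 1) (hns : ¬ Group.IsSolvable ↥(H ⊓ Subgroup.centralizer ({t} : Set G))) :
    Shape ↥K ⟨bar 2 ↥H ⟨t, hSH ht⟩, L.tbar_mem hSH ht⟩ := by
  haveI : Fact (Nat.Prime 2) := ⟨Nat.prime_two⟩
  have hE := B.e8.sylow S
  set τ : ↥H := ⟨t, hSH ht⟩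
  have hτ : orderOf (bar 2 ↥H τ) = 2 := by
    refine orderOf_eq_prime (by rw [← map_pow, show τ ^ 2 = 1 from Subtype.ext (by
      show t ^ 2 = 1
      rw [pow_two]; exact hE.2 t ht), map_one]) fun e => ht1 ?_
    exact congrArg Subtype.val (bar_inj hE hSH (a := τ) ht e)
  have hlt : Nat.card K < Nat.card G :=
    ((Subgroup.card_le_card_group K).trans (Nat.le_of_dvd Nat.card_pos (Subgroup.card_quotient_dvd_card _))).trans_lt
      (lt_of_le_of_ne (Subgroup.card_le_card_group H) fun e => hH (Subgroup.eq_top_of_card_eq H e))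
  obtain ⟨T⟩ : Nonempty (Sylow 2 K) := inferInstance
  refine B.ih ↥K hlt L.simple T (L.e8 T) _ (by rw [← Subgroup.orderOf_coe]; exact hτ) fun hsol => hns ?_
  haveI := L.normal
  haveI : Group.IsSolvable ((↥H ⧸ pPrimeCore 2 ↥H) ⧸ K) :=
    Cfsg.Agent.S0205.result (by rw [← Subgroup.index_eq_card]; exact L.odd)
  set Cb := Subgroup.centralizer ({bar 2 ↥H τ} : Set (↥H ⧸ pPrimeCore 2 ↥H))
  -- the centraliser in the quotient
  haveI : Group.IsSolvable Cb := by
    let j : ↥(Subgroup.centralizer ({(⟨bar 2 ↥H τ, L.tbar_mem hSH ht⟩ : ↥K)} : Set ↥K)) →* ↥Cb :=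
      { toFun := fun x => ⟨((x : ↥K) : ↥H ⧸ pPrimeCore 2 ↥H), Subgroup.mem_centralizer_singleton_iff.mpr
          (congrArg Subtype.val (Subgroup.mem_centralizer_singleton_iff.mp x.2))⟩
        map_one' := rfl
        map_mul' := fun _ _ => rfl }
    haveI := hsol
    refine Group.isSolvable_of_ker_le_range j ((QuotientGroup.mk' K).comp Cb.subtype) ?_
    intro x hx
    have hxK : (x : ↥H ⧸ pPrimeCore 2 ↥H) ∈ K := (QuotientGroup.eq_one_iff _).mp hx
    exact ⟨⟨⟨x, hxK⟩, Subgroup.mem_centralizer_singleton_iff.mpr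
      (Subtype.ext (Subgroup.mem_centralizer_singleton_iff.mp x.2))⟩, rfl⟩
  let g : ↥(H ⊓ Subgroup.centralizer ({t} : Set G)) →* ↥Cb :=
    { toFun := fun x => ⟨bar 2 ↥H ⟨x, x.2.1⟩, Subgroup.mem_centralizer_singleton_iff.mpr (by
        rw [← map_mul, ← map_mul]
        exact congrArg _ (Subtype.ext (Subgroup.mem_centralizer_singleton_iff.mp x.2.2)))⟩
      map_one' := Subtype.ext (map_one (bar 2 ↥H))
      map_mul' := fun a b => Subtype.ext (map_mul (bar 2 ↥H) ⟨a, a.2.1⟩ ⟨b, b.2.1⟩) }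
  haveI : Group.IsSolvable g.ker := Cfsg.Agent.S0205.result (by
    refine Odd.of_dvd_nat (Nat.coprime_two_right.mp (card_pPrimeCore_coprime (G := ↥H) 2)) ?_
    rw [← Subgroup.card_map_of_injective (Subgroup.inclusion_injective
      (inf_le_left : H ⊓ Subgroup.centralizer ({t} : Set G) ≤ H))]
    refine Subgroup.card_dvd_of_le ?_
    rintro _ ⟨x, hx, rfl⟩
    exact (QuotientGroup.eq_one_iff _).mp (congrArg Subtype.val hx))
  exact Group.isSolvable_of_ker_le_range g.ker.subtype g (Subgroup.range_subtype _).ge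

/-- Every element is one of the layer times one of the centraliser of the involution. -/
theorem frattini (hSH : (S : Subgroup G) ≤ H) {t : G} (ht : t ∈ (S : Subgroup G)) (ht1 : t ≠ 1)
    (hE : E8 (S : Subgroup G)) (x : ↥H ⧸ pPrimeCore 2 ↥H) :
    ∃ k ∈ K, Commute (k * x) (bar 2 ↥H ⟨t, hSH ht⟩) := by
  haveI : Fact (Nat.Prime 2) := ⟨Nat.prime_two⟩
  haveI := L.normal
  set τ := bar 2 ↥H ⟨t, hSH ht⟩
  have hτK : τ ∈ K := L.tbar_mem hSH ht
  have hτ1 : τ ≠ 1 := fun e => ht1 (congrArg Subtype.val (bar_inj hE hSH (a := (⟨t, hSH ht⟩ : ↥H)) ht e))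
  have hτ2 : τ * τ = 1 := by
    rw [← map_mul, show (⟨t, hSH ht⟩ : ↥H) * ⟨t, hSH ht⟩ = 1 from Subtype.ext (hE.2 t ht), map_one]
  have hinv : ∀ {z : ↥K}, z ≠ 1 → z * z = 1 → orderOf z = 2 := fun h1 h2 =>
    orderOf_eq_prime (by rw [pow_two]; exact h2) h1
  have hno : ∀ M : Subgroup ↥K, M.index ≠ 2 := by
    intro M hM
    haveI := L.simple
    haveI := Subgroup.normal_of_index_eq_two hM
    rcases (inferInstance : M.Normal).eq_bot_or_eq_top with e | e
    · rw [e, Subgroup.index_bot] at hM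
      obtain ⟨T⟩ : Nonempty (Sylow 2 K) := inferInstance
      have h8 : 8 ∣ Nat.card K := (L.e8 T).1 ▸ Subgroup.card_subgroup_dvd_card _
      omega
    · rw [e, Subgroup.index_top] at hM
      omega
  set a : ↥K := ⟨x * τ * x⁻¹, L.normal.conj_mem _ hτK x⟩
  set b : ↥K := ⟨τ, hτK⟩
  have hb : orderOf b = 2 := hinv (fun e => hτ1 (congrArg Subtype.val e)) (Subtype.ext hτ2)
  have ha : orderOf a = 2 := hinv (fun e => hτ1 (conj_eq_one_iff.mp (congrArg Subtype.val e)))
    (Subtype.ext (by show x * τ * x⁻¹ * (x * τ * x⁻¹) = 1; rw [conj_mul, hτ2, mul_one, mul_inv_cancel]))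
  obtain ⟨R, hR⟩ := exists_mem_sylow ha
  obtain ⟨R', hR'⟩ := exists_mem_sylow hb
  obtain ⟨d, hd⟩ := MulAction.exists_smul_eq ↥K R R'
  have hm : d * a * d⁻¹ ∈ (R' : Subgroup ↥K) := by
    rw [← hd, Sylow.coe_subgroup_smul]
    exact ⟨a, hR, rfl⟩
  have hR8 := L.e8 R'
  haveI := hR8.isMulCommutative
  obtain ⟨n, -, hn⟩ := E8Solv.transitive hno R' hR8.1 _ hm b hR'
    (fun e => by rw [conj_eq_one_iff.mp e, orderOf_one] at ha; omega)
    (fun e => by rw [e, orderOf_one] at hb; omega)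
  refine ⟨((n * d : ↥K) : ↥H ⧸ pPrimeCore 2 ↥H), (n * d).2, mul_inv_eq_iff_eq_mul.mp ?_⟩
  have h' : (n : ↥H ⧸ pPrimeCore 2 ↥H) * ((d : ↥H ⧸ pPrimeCore 2 ↥H) * (x * τ * x⁻¹) * (d : ↥H ⧸ pPrimeCore 2 ↥H)⁻¹) *
      (n : ↥H ⧸ pPrimeCore 2 ↥H)⁻¹ = τ := congrArg Subtype.val hn
  rw [Subgroup.coe_mul]
  exact Eq.trans (by group) h'

end Layer

end CfsgLib.Walter
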