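import Cfsg.Agent.Lib.Walter.Fixed
import Cfsg.Agent.Lib.Walter.Quot

/-!
For a fixed field of at least five elements the centraliser of the power of `φ` has a simple layer modulo its core,
with centraliser `2 × L₂(q')` of the involution.

Blueprint: `blueprint/Walter.md`, G2.
-/

set_option autoImplicit false
set_option linter.unusedSectionVars false
set_option linter.style.haveILetI false

namespace CfsgLib.Walter

open Cfsg
open CfsgLib.PSL2 (fieldAut)
open CfsgLib.Comp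
open scoped commutatorElement

universe u

local notation "PSL₂[" K "]" => Matrix.ProjectiveSpecialLinearGroup (Fin 2) K

variable {G : Type u} [Group G]

namespace Coord

variable (C : Coord G)

/-- `C(φ ^ k)` modulo its core. -/
abbrev HQ (k : ℕ) : Type u := ↥(C.Cs k) ⧸ pPrimeCore 2 ↥(C.Cs k)

/-- `t` in the quotient. -/
abbrev tq (k : ℕ) : C.HQ k := bar 2 ↥(C.Cs k) ⟨C.t, C.t_mem_Cs k⟩

/-- `φ` in the quotient. -/
abbrev φq (k : ℕ) : C.HQ k := bar 2 ↥(C.Cs k) ⟨C.φ, C.φ_mem_Cs k⟩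

/-- `L₂(q')` in the quotient. -/
noncomputable def ψ (k : ℕ) : PSL₂[C.Fx k] →* C.HQ k :=
  (bar 2 ↥(C.Cs k)).comp ((C.ιk k).codRestrict _ (C.ιk_mem k))

theorem ψ_apply (k : ℕ) (y : PSL₂[C.Fx k]) : C.ψ k y = bar 2 ↥(C.Cs k) ⟨C.ιk k y, C.ιk_mem k y⟩ := rfl

/-- An element of `L₂(q)` commuting with `φ ^ k` lies in `L₂(q')`. -/
theorem mem_range_ιk {k : ℕ} {x : PSL₂[C.F]} (h : C.ι x ∈ C.Cs k) : C.ι x ∈ (C.ιk k).range := by
  have hy : fieldAut (C.σ ^ k) x = x := by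
    refine C.ι_inj ?_
    rw [← C.conj_pow k x, mul_inv_eq_iff_eq_mul]
    exact (C.mem_Cs.mp h).eq.symm
  obtain ⟨y, hy⟩ := fixed_range C.two_ne (C.odd_pow k) hy
  exact ⟨y, congrArg C.ι hy⟩

/-- `L₂(q')` is normalised by the centraliser of `t` and `φ ^ k`. -/
theorem conj_range_ιk {k : ℕ} {a w : G} (ha : a ∈ C.Cs k) (hat : Commute a C.t) (hw : w ∈ (C.ιk k).range) :
    a * w * a⁻¹ ∈ (C.ιk k).range := by
  obtain ⟨y, rfl⟩ := hw
  have hmem : a * C.ιk k y * a⁻¹ ∈ C.Cs k := mul_mem (mul_mem ha (C.ιk_mem k y)) (inv_mem ha)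
  obtain ⟨z, hz⟩ := C.normal_ι hat (subMap (C.Fx k).subtype y)
  have hz' : C.ι z = a * C.ιk k y * a⁻¹ := hz
  rw [← hz'] at hmem ⊢
  exact C.mem_range_ιk hmem

/-- The commutators in `C(t) ∩ C(φ ^ k)` lie in `L₂(q')`. -/
theorem commutator_mem {k : ℕ} {x y : G} (hx : x ∈ C.Cs k) (hxt : Commute x C.t) (hy : y ∈ C.Cs k)
    (hyt : Commute y C.t) : ⁅x, y⁆ ∈ (C.ιk k).range := by
  obtain ⟨i, u, j, rfl⟩ := C.cs_form hx hxt
  obtain ⟨i', u', j', rfl⟩ := C.cs_form hy hyt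
  set a := C.t ^ (i : ℕ) * C.φ ^ j with ha
  set a' := C.t ^ (i' : ℕ) * C.φ ^ j' with ha'
  have hA : ∀ (i : Fin 2) (j : ℕ), C.t ^ (i : ℕ) * C.φ ^ j ∈ C.Cs k ∧ Commute (C.t ^ (i : ℕ) * C.φ ^ j) C.t :=
    fun i j => ⟨mul_mem (pow_mem (C.t_mem_Cs k) _) (pow_mem (C.φ_mem_Cs k) _),
      ((Commute.refl C.t).pow_left _).mul_left (C.t_φ.symm.pow_left _)⟩
  have haa : a * a' = a' * a :=
    ((((Commute.refl C.t).pow_pow _ _).mul_right (C.t_φ.pow_pow _ _)).mul_left
      (((C.t_φ.symm).pow_pow _ _).mul_right ((Commute.refl C.φ).pow_pow _ _))).eq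
  have h1 : C.t ^ (i : ℕ) * C.ιk k u * C.φ ^ j = C.ιk k u * a := by
    rw [((C.ιk_t k u).pow_left _).eq, ha, mul_assoc]
  have h2 : C.t ^ (i' : ℕ) * C.ιk k u' * C.φ ^ j' = C.ιk k u' * a' := by
    rw [((C.ιk_t k u').pow_left _).eq, ha', mul_assoc]
  rw [h1, h2, commutatorElement_def]
  have e : C.ιk k u * a * (C.ιk k u' * a') * (C.ιk k u * a)⁻¹ * (C.ιk k u' * a')⁻¹ =
      C.ιk k u * (a * C.ιk k u' * a⁻¹) * ((a * a') * a⁻¹ * (C.ιk k u)⁻¹ * a'⁻¹) * (C.ιk k u')⁻¹ := by group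
  rw [e, haa, mul_inv_cancel_right]
  exact mul_mem (mul_mem (mul_mem ⟨u, rfl⟩ (C.conj_range_ιk (hA i j).1 (hA i j).2 ⟨u', rfl⟩))
    (C.conj_range_ιk (hA i' j').1 (hA i' j').2 (inv_mem ⟨u, rfl⟩))) (inv_mem ⟨u', rfl⟩)

end Coord

variable [Finite G] (B : Base G) (C : Coord G)
include B

theorem cs_ne_top {k : ℕ} (hk : C.φ ^ k ≠ 1) : C.Cs k ≠ ⊤ := by
  intro e
  haveI := B.simple
  have hc : C.φ ^ k ∈ Subgroup.center G := Subgroup.mem_center_iff.mpr fun g =>
    (C.mem_Cs.mp (e ▸ Subgroup.mem_top g : g ∈ C.Cs k)).eq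
  rcases (inferInstance : (Subgroup.center G).Normal).eq_bot_or_eq_top with h | h
  · rw [h, Subgroup.mem_bot] at hc
    exact hk hc
  · exact B.not_comm (Subgroup.center_eq_top_iff.mp h)

theorem cs_core {k : ℕ} {x : ↥(C.Cs k)} (hx : bar 2 ↥(C.Cs k) x = 1) : ∃ l : ℕ, (x : G) = C.φ ^ l := by
  have h : (x : G) ∈ Subgroup.zpowers C.φ :=
    core_le_zpowers B C k ⟨x, (QuotientGroup.eq_one_iff x).1 hx, rfl⟩
  obtain ⟨l, hl⟩ := Submonoid.mem_powers_iff _ _ |>.mp
    ((orderOf_pos_iff.mp (C.φ_ord ▸ C.odd_f.pos)).mem_powers_iff_mem_zpowers.mpr h)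
  exact ⟨l, hl.symm⟩

/-- Commuting with `t` modulo the core is commuting with `t`. -/
theorem cs_comm_iff {k : ℕ} {x : ↥(C.Cs k)} : Commute (bar 2 ↥(C.Cs k) x) (C.tq k) ↔ Commute (x : G) C.t := by
  constructor
  · intro h
    set τ : ↥(C.Cs k) := ⟨C.t, C.t_mem_Cs k⟩
    obtain ⟨l, hl⟩ := cs_core B C (x := x * τ * x⁻¹ * τ⁻¹) (by
      rw [map_mul, map_mul, map_mul, map_inv, map_inv, h.eq, mul_inv_cancel_right, mul_inv_cancel])
    have hl' : (x : G) * C.t * (x : G)⁻¹ * C.t⁻¹ = C.φ ^ l := hl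
    have h1 : (x : G) * C.t * (x : G)⁻¹ = C.φ ^ l * C.t := by rw [← hl']; group
    have h2 : (C.φ ^ l * C.t) * (C.φ ^ l * C.t) = 1 := by
      rw [← h1, show (x : G) * C.t * (x : G)⁻¹ * ((x : G) * C.t * (x : G)⁻¹) = x * (C.t * C.t) * (x : G)⁻¹ by group,
        C.tt, mul_one, mul_inv_cancel]
    rw [(C.t_φ.symm.pow_left l).symm.mul_mul_mul_comm, C.tt, mul_one] at h2
    rw [C.φ_pow_two h2, one_mul] at h1
    exact mul_inv_eq_iff_eq_mul.mp h1
  · intro h
    exact (show Commute x ⟨C.t, C.t_mem_Cs k⟩ from Subtype.ext h.eq).map (bar 2 ↥(C.Cs k))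

theorem ψ_inj (k : ℕ) : Function.Injective (C.ψ k) := by
  refine (injective_iff_map_eq_one _).mpr fun y hy => ?_
  obtain ⟨l, hl⟩ := cs_core B C (x := ⟨C.ιk k y, C.ιk_mem k y⟩) hy
  have hl' : C.ι (subMap (C.Fx k).subtype y) = C.φ ^ l := hl
  have hn : l ≤ orderOf C.σ * l := Nat.le_mul_of_pos_left l C.odd_f.pos
  have h := C.unique (i := 0) (x := subMap (C.Fx k).subtype y) (j := orderOf C.σ * l - l) (by
    rw [Fin.val_zero, pow_zero, one_mul, hl', ← pow_add, Nat.add_sub_cancel' hn, pow_mul, ← C.φ_ord,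
      pow_orderOf_eq_one, one_pow])
  exact subMap_injective _ (h.2.1.trans (map_one _).symm)

/-- The index of `C(t)` in `C(φ ^ k)` is counted in any normal subgroup supplementing it modulo the core. -/
theorem cs_relIndex {k : ℕ} {K : Subgroup (C.HQ k)} [K.Normal] (ht : C.tq k ∈ K)
    (hfr : ∀ x : C.HQ k, ∃ c ∈ K, Commute (c * x) (C.tq k)) :
    C.Ct.relIndex (C.Cs k) = (Subgroup.centralizer ({(⟨C.tq k, ht⟩ : ↥K)} : Set ↥K)).index := by
  set Cb := Subgroup.centralizer ({C.tq k} : Set (C.HQ k)) with hCb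
  have h1 : C.Ct.subgroupOf (C.Cs k) = Cb.comap (bar 2 ↥(C.Cs k)) := by
    ext x
    show (x : G) ∈ C.Ct ↔ bar 2 ↥(C.Cs k) x ∈ Cb
    rw [hCb, Subgroup.mem_centralizer_singleton_iff, Subgroup.mem_centralizer_singleton_iff]
    exact (cs_comm_iff B C).symm
  show (C.Ct.subgroupOf (C.Cs k)).index = _
  rw [h1, Subgroup.index_comap_of_surjective _ (bar_surjective 2)]
  set CK := Subgroup.centralizer ({(⟨C.tq k, ht⟩ : ↥K)} : Set ↥K)
  have hCK : ∀ z : ↥K, z ∈ CK ↔ (z : C.HQ k) ∈ Cb := fun z => by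
    rw [Subgroup.mem_centralizer_singleton_iff, hCb, Subgroup.mem_centralizer_singleton_iff]
    exact ⟨fun h => congrArg Subtype.val h, fun h => Subtype.ext h⟩
  let f : ↥K ⧸ CK → C.HQ k ⧸ Cb :=
    Quotient.lift (fun z : ↥K => ((z : C.HQ k) : C.HQ k ⧸ Cb))
      fun a b hab => QuotientGroup.eq.mpr ((hCK (a⁻¹ * b)).mp (QuotientGroup.leftRel_apply.mp hab))
  have hf : Function.Bijective f := by
    constructor
    · rintro ⟨a⟩ ⟨b⟩ e
      refine Quotient.sound (QuotientGroup.leftRel_apply.mpr ((hCK _).mpr ?_))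
      have e' : ((a : C.HQ k) : C.HQ k ⧸ Cb) = ((b : C.HQ k) : C.HQ k ⧸ Cb) := e
      exact QuotientGroup.eq.mp e'
    · intro q
      obtain ⟨x, rfl⟩ := QuotientGroup.mk_surjective q
      obtain ⟨c, hc, hcx⟩ := hfr x
      refine ⟨Quotient.mk'' ⟨c⁻¹, inv_mem hc⟩, ?_⟩
      show ((c⁻¹ : C.HQ k) : C.HQ k ⧸ Cb) = x
      rw [QuotientGroup.eq, inv_inv]
      exact Subgroup.mem_centralizer_singleton_iff.mpr hcx
  rw [Subgroup.index_eq_card, Subgroup.index_eq_card]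
  exact (Nat.card_eq_of_bijective f hf).symm

/-- What a fixed field of at least five elements gives. -/
structure Big (k : ℕ) (K : Subgroup (C.HQ k)) : Prop where
  normal : K.Normal
  simple : IsSimpleGroup K
  cent : Subgroup.centralizer (K : Set (C.HQ k)) = ⊥
  odd : Odd K.index
  e8 : ∀ T : Sylow 2 K, E8 (T : Subgroup K)
  sup : K ⊔ Subgroup.zpowers (C.φq k) = ⊤
  size : C.qk k = 5 ∨ ∃ m, 1 ≤ m ∧ C.qk k = 3 ^ (2 * m + 1)
  count : ∃ ht : C.tq k ∈ K,
    C.Ct.relIndex (C.Cs k) = (Subgroup.centralizer ({(⟨C.tq k, ht⟩ : ↥K)} : Set ↥K)).index ∧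
      ∃ (F' : Type) (_ : Field F') (_ : Fintype F'), Fintype.card F' = C.qk k ∧
        Nonempty (Subgroup.centralizer ({(⟨C.tq k, ht⟩ : ↥K)} : Set ↥K) ≃*
          Multiplicative (ZMod 2) × PSL₂[F'])

theorem exists_big {k : ℕ} (hk : C.φ ^ k ≠ 1) (h5 : 5 ≤ C.qk k) : ∃ K, Big C k K := by
  classical
  haveI : Fact (Nat.Prime 2) := ⟨Nat.prime_two⟩
  letI : Fintype (C.Fx k) := Fintype.ofFinite _
  have hcardFx : Fintype.card (C.Fx k) = C.qk k := Nat.card_eq_fintype_card.symm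
  haveI hsim : IsSimpleGroup PSL₂[C.Fx k] := JankoReeMult.psl_simple (by omega)
  have hncF : ¬ IsMulCommutative PSL₂[C.Fx k] := by
    refine JankoReeMult.psl_nonabelian (Nat.odd_iff.mpr ?_) (by omega)
    have := C.qk_mod k
    omega
  have hperfF : commutator PSL₂[C.Fx k] = ⊤ :=
    (Subgroup.Normal.eq_bot_or_eq_top (inferInstance : (commutator PSL₂[C.Fx k]).Normal)).resolve_left fun e =>
      hncF (Subgroup.center_eq_top_iff.mp (top_le_iff.mp fun x _ => Subgroup.mem_center_iff.mpr fun y => by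
        have h := Subgroup.commutator_mem_commutator (Subgroup.mem_top y) (Subgroup.mem_top x)
        rw [← commutator_def, e, Subgroup.mem_bot] at h
        exact commutatorElement_eq_one_iff_mul_comm.mp h))
  obtain ⟨S, g, b, c, Fr⟩ := exists_frame B C
  have hE := B.e8.sylow S
  have hN : Subgroup.normalizer ((S : Subgroup G) : Set G) ≤ C.Cs k := fun n hn =>
    C.mem_Cs.mpr ((Fr.norm_comm n hn).pow_right k)
  have hSH : (S : Subgroup G) ≤ C.Cs k := Subgroup.le_normalizer.trans hN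
  rcases trans_cases hE hSH (fun a ha b hb ha1 hb1 => by
    obtain ⟨n, hn, hne⟩ := B.trans S ha hb ha1 hb1
    exact ⟨n, ⟨hN hn, hn⟩, hne⟩) with hA | ⟨K, L⟩
  · -- the Sylow subgroup is not normal, as `L₂(q')` is simple
    exfalso
    have hnorm : ∀ y, C.ιk k y ∈ Subgroup.normalizer ((S : Subgroup G) : Set G) := by
      intro y
      obtain ⟨o, ho, n, hn, hon⟩ := hA ⟨C.ιk k y, C.ιk_mem k y⟩
      have hoc : (o : G) ∈ Subgroup.centralizer ((S : Subgroup G) : Set G) := by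
        obtain ⟨l, hl⟩ := cs_core B C ((QuotientGroup.eq_one_iff o).2 ho)
        rw [hl]; exact Subgroup.pow_mem _ Fr.φ_cent l
      have e : C.ιk k y = (o : G) * n := (congrArg Subtype.val hon).symm
      rw [e]
      exact mul_mem (Subgroup.centralizer_le_normalizer _ hoc) hn
    set V := (S : Subgroup G).comap (C.ιk k)
    haveI : V.Normal := ⟨fun x hx y => by
      show C.ιk k (y * x * y⁻¹) ∈ (S : Subgroup G)
      rw [map_mul, map_mul, map_inv]
      exact (Subgroup.mem_normalizer_iff.mp (hnorm y) _).mp hx⟩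
    rcases (inferInstance : V.Normal).eq_bot_or_eq_top with e | e
    · obtain ⟨y, hy⟩ := fixed_range C.two_ne (C.odd_pow k) (Fr.fixed (C.σ ^ k)).2.1
      have : y ∈ V := by
        show C.ι (subMap (C.Fx k).subtype y) ∈ (S : Subgroup G)
        rw [hy]; exact Fr.b_mem
      rw [e, Subgroup.mem_bot] at this
      rw [this, map_one] at hy
      exact Fr.a4.b1 hy.symm
    · refine hncF ⟨⟨fun x y => C.ιk_inj k ?_⟩⟩
      rw [map_mul, map_mul]
      exact hE.comm (show x ∈ V by rw [e]; trivial) (show y ∈ V by rw [e]; trivial)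
  haveI := L.normal
  have htK : C.tq k ∈ K := L.tbar_mem hSH Fr.t_mem
  have hns : ¬ Group.IsSolvable ↥(C.Cs k ⊓ Subgroup.centralizer ({C.t} : Set G)) := by
    intro h
    have : Group.IsSolvable PSL₂[C.Fx k] := Group.isSolvable_of_isSolvable_injective
      (f := (C.ιk k).codRestrict (C.Cs k ⊓ Subgroup.centralizer ({C.t} : Set G)) fun y =>
        ⟨C.ιk_mem k y, Subgroup.mem_centralizer_singleton_iff.mpr (C.ιk_t k y).symm.eq⟩)
      fun x y e => C.ιk_inj k (congrArg Subtype.val e)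
    exact hncF ⟨⟨IsSimpleGroup.comm_iff_isSolvable.mpr this⟩⟩
  obtain ⟨F', iF, iFF, hF', ⟨e⟩⟩ := L.shape B (cs_ne_top B C hk) hSH Fr.t_mem C.t_ne hns
  letI := iF
  letI := iFF
  have hψK : ∀ y, C.ψ k y ∈ K := by
    have hp : ⁅(C.ψ k).range, (C.ψ k).range⁆ = (C.ψ k).range := by
      rw [MonoidHom.range_eq_map, ← Subgroup.map_commutator, ← commutator_def, hperfF]
    exact fun y => L.perfect_le hp ⟨y, rfl⟩
  have hfr : ∀ x : C.HQ k, ∃ z ∈ K, Commute (z * x) (C.tq k) := L.frattini hSH Fr.t_mem C.t_ne hE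
  -- the sizes agree
  have h3' : 3 < Fintype.card F' := by
    rcases hF' with h | ⟨m, hm, h⟩
    · omega
    · rw [h]
      calc 3 < 3 ^ 3 := by norm_num
        _ ≤ _ := Nat.pow_le_pow_right (by norm_num) (by omega)
  have hodd' : Odd (Fintype.card F') := by
    rcases hF' with h | ⟨m, -, h⟩
    · rw [h]; decide
    · rw [h]; exact Odd.pow (by decide)
  haveI := JankoReeMult.psl_simple (F := F') h3'
  have hnc' := JankoReeMult.psl_nonabelian hodd' h3'
  set CK := Subgroup.centralizer ({(⟨C.tq k, htK⟩ : ↥K)} : Set ↥K)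
  let ψK : PSL₂[C.Fx k] →* ↥CK :=
    ((C.ψ k).codRestrict K hψK).codRestrict CK fun y => Subgroup.mem_centralizer_singleton_iff.mpr (Subtype.ext
      (((cs_comm_iff B C (x := ⟨C.ιk k y, C.ιk_mem k y⟩)).mpr (C.ιk_t k y).symm).eq))
  have hle1 : Nat.card PSL₂[C.Fx k] ≤ Nat.card PSL₂[F'] := by
    let g : PSL₂[C.Fx k] →* PSL₂[F'] := (MonoidHom.snd _ _).comp (e.toMonoidHom.comp ψK)
    refine Nat.card_le_card_of_injective g ?_
    rw [← MonoidHom.ker_eq_bot_iff]
    refine ((inferInstance : g.ker.Normal).eq_bot_or_eq_top).resolve_right fun h => hncF ⟨⟨fun x y => ?_⟩⟩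
    have hinj : Function.Injective (e.toMonoidHom.comp ψK) := e.injective.comp fun a b hab =>
      ψ_inj B C k (congrArg Subtype.val (congrArg Subtype.val hab))
    refine hinj (Prod.ext ?_ ?_)
    · show ((e.toMonoidHom.comp ψK) (x * y)).1 = ((e.toMonoidHom.comp ψK) (y * x)).1
      rw [map_mul, map_mul, Prod.fst_mul, Prod.fst_mul, mul_comm]
    · have hx : g x = 1 := MonoidHom.mem_ker.mp (h ▸ Subgroup.mem_top x)
      have hy : g y = 1 := MonoidHom.mem_ker.mp (h ▸ Subgroup.mem_top y)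
      show g (x * y) = g (y * x)
      rw [map_mul, map_mul, hx, hy]
  have hle2 : Nat.card PSL₂[F'] ≤ Nat.card PSL₂[C.Fx k] := by
    let g : PSL₂[F'] →* C.HQ k :=
      K.subtype.comp (CK.subtype.comp (e.symm.toMonoidHom.comp (MonoidHom.inr _ _)))
    have hginj : Function.Injective g := K.subtype_injective.comp (CK.subtype_injective.comp
      (e.symm.injective.comp (fun _ _ h => congrArg Prod.snd h)))
    have hperf : commutator PSL₂[F'] = ⊤ :=
      (Subgroup.Normal.eq_bot_or_eq_top (inferInstance : (commutator PSL₂[F']).Normal)).resolve_left fun h =>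
        hnc' (Subgroup.center_eq_top_iff.mp (top_le_iff.mp fun x _ => Subgroup.mem_center_iff.mpr fun y => by
          have h' := Subgroup.commutator_mem_commutator (Subgroup.mem_top y) (Subgroup.mem_top x)
          rw [← commutator_def, h, Subgroup.mem_bot] at h'
          exact commutatorElement_eq_one_iff_mul_comm.mp h'))
    have hr : g.range ≤ (C.ψ k).range := by
      rw [MonoidHom.range_eq_map g, ← hperf, commutator_def, Subgroup.map_commutator, Subgroup.commutator_le]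
      rintro _ ⟨a, -, rfl⟩ _ ⟨b', -, rfl⟩
      have hg : ∀ a, Commute (g a) (C.tq k) := fun a =>
        congrArg Subtype.val (Subgroup.mem_centralizer_singleton_iff.mp (e.symm (1, a)).2)
      obtain ⟨x, hx⟩ := bar_surjective 2 (g a)
      obtain ⟨y, hy⟩ := bar_surjective 2 (g b')
      obtain ⟨z, hz⟩ := C.commutator_mem x.2 ((cs_comm_iff B C).mp (hx ▸ hg a)) y.2
        ((cs_comm_iff B C).mp (hy ▸ hg b'))
      refine ⟨z, ?_⟩
      rw [← hx, ← hy, ← map_commutatorElement, C.ψ_apply]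
      exact congrArg _ (Subtype.ext hz)
    calc Nat.card PSL₂[F'] = Nat.card g.range := Nat.card_congr (MonoidHom.ofInjective hginj).toEquiv
      _ ≤ Nat.card (C.ψ k).range := Subgroup.card_le_of_le hr
      _ ≤ _ := Nat.card_le_card_of_surjective _ (C.ψ k).rangeRestrict_surjective
  have hsz : Fintype.card F' = C.qk k := by
    have h1 := two_mul_card_psl (F := F') (Nat.odd_iff.mp hodd')
    have h2 := two_mul_card_psl (F := C.Fx k) (by rw [hcardFx]; have := C.qk_mod k; omega)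
    rw [le_antisymm hle2 hle1, h2, hcardFx] at h1
    have hmono : ∀ a b : ℕ, 1 < a → a < b → a * (a ^ 2 - 1) < b * (b ^ 2 - 1) := by
      intro a b h1 h2
      refine Nat.mul_lt_mul_of_lt_of_le h2 ?_ ?_
      · exact Nat.sub_le_sub_right (Nat.pow_le_pow_left h2.le 2) 1
      · have : 4 ≤ b ^ 2 := Nat.pow_le_pow_left (show 2 ≤ b by omega) 2
        omega
    rcases lt_trichotomy (Fintype.card F') (C.qk k) with h | h | h
    · exact absurd h1 (hmono _ _ (by omega) h).ne'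
    · exact h
    · exact absurd h1 (hmono _ _ (by omega) h).ne
  refine ⟨K, L.normal, L.simple, L.cent, L.odd, L.e8, ?_, ?_, htK,
    cs_relIndex B C htK hfr, F', iF, iFF, hsz, ⟨e⟩⟩
  · refine top_le_iff.mp fun x _ => ?_
    obtain ⟨z, hz, hzx⟩ := hfr x
    obtain ⟨w, hw⟩ := bar_surjective 2 (z * x)
    obtain ⟨i, y, j, hwy⟩ := C.cs_form w.2 ((cs_comm_iff B C).mp (hw ▸ hzx))
    have hw' : w = ⟨C.t, C.t_mem_Cs k⟩ ^ (i : ℕ) * ⟨C.ιk k y, C.ιk_mem k y⟩ * ⟨C.φ, C.φ_mem_Cs k⟩ ^ j :=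
      Subtype.ext (by simpa using hwy)
    rw [hw', map_mul, map_mul, map_pow, map_pow] at hw
    have hx : x = z⁻¹ * (C.tq k ^ (i : ℕ) * C.ψ k y) * C.φq k ^ j := by
      rw [C.ψ_apply, mul_assoc, hw, inv_mul_cancel_left]
    rw [hx]
    exact mul_mem (Subgroup.mem_sup_left (mul_mem (inv_mem hz) (mul_mem (pow_mem htK _) (hψK y))))
      (Subgroup.mem_sup_right (Subgroup.pow_mem _ (Subgroup.mem_zpowers _) j))
  · rcases hF' with h | ⟨m, hm, h⟩
    · exact Or.inl (hsz ▸ h)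
    · exact Or.inr ⟨m, hm, hsz ▸ h⟩

end CfsgLib.Walter
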