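import Cfsg.Agent.Lib.JankoThompson.Main
import Cfsg.Agent.Lib.JankoThompson.Local

/-!
Two irreducible characters of a simple group with `C(t) ≅ 2 × L₂(q)`, `q = 3 ^ (2 m + 1) ≥ 27`:
degrees `q² - q + 1` and `q (q² - q + 1)`, values `± 1` and `± q` at `t`.

Blueprint: `blueprint/Walter.md`, case (R).
-/

set_option autoImplicit false
set_option linter.unusedSectionVars false
set_option linter.style.haveILetI false

namespace CfsgLib.Walter.RB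

open Cfsg CfsgLib CfsgLib.CharTheory CfsgLib.JankoThompson

universe u v

variable {G : Type u} [Group G] [Fintype G]

theorem unit_natAbs {s : ℤ} {d : ℤ} {n : ℕ} (hs : s = 1 ∨ s = -1) (hd : 0 < d) (h : s * d = -(n : ℤ)) :
    d = n := by
  rcases hs with rfl | rfl <;> omega

theorem cfg_chars {L : Type v} [Group L] [Fintype L] (C : Cfg G L) :
    C.D.δ = -1 ∧ (Nat.card G : ℤ) = (C.D.q : ℤ) ^ 3 * ((C.D.q : ℤ) ^ 3 + 1) * ((C.D.q : ℤ) - 1) ∧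
    ∃ z v : IrrCharacter G,
      ((z : G → ℂ) 1 = (C.D.q : ℂ) ^ 2 - C.D.q + 1 ∧ ((z : G → ℂ) C.t = 1 ∨ (z : G → ℂ) C.t = -1)) ∧
      ((v : G → ℂ) 1 = (C.D.q : ℂ) * ((C.D.q : ℂ) ^ 2 - C.D.q + 1) ∧
        ((v : G → ℂ) C.t = C.D.q ∨ (v : G → ℂ) C.t = -(C.D.q : ℂ))) := by
  classical
  obtain ⟨hδ, hG⟩ := C.outcome
  refine ⟨hδ, hG, ?_⟩
  obtain ⟨u, v, z, r, s, h, hv, hz⟩ : ∃ u v z r s, Cfg.Conf1 C u v z r s ∧ C.P v = C.va v ∧
      C.P z = -C.va z := by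
    rcases C.exists_conf with ⟨u, v, z, r, s, h⟩ | ⟨u, v, r, s, h⟩
    · rcases h.P_cases with ⟨u', v', h', hv, hz⟩ | ⟨r', s', h', hP⟩
      · exact ⟨u', v', z, r, s, h', hv, hz⟩
      · exact (h'.caseB hP).elim
    · rcases h.P_cases with ⟨hv, hu, hr, hs⟩ | ⟨hs, -, -, -⟩
      · exact (h.false_v hv hu hr hs).elim
      · exact (h.false_s hs).elim
  have uv := h.sA.hb
  have uz := h.sA.hd
  have hPv : C.P v ≠ 0 := by rw [hv]; rcases uv with e | e <;> rw [e] <;> norm_num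
  have hPz : C.P z ≠ 0 := by rw [hz]; rcases uz with e | e <;> rw [e] <;> norm_num
  have hvz : v ≠ z := h.sA.bd
  have hdq : (C.D.δ : ℚ) = -1 := by rw [hδ]; simp
  have hq := C.q_eq
  have hzq := C.z_eq
  rw [hdq] at hq hzq
  have Tv : (C.T v : ℚ) = (C.va v : ℚ) * C.D.q := by
    rw [C.T_of_unique (C.free_P hPv) (Or.inl hPv), h.v_eq, h.v_eq, hδ]
    push_cast
    rw [hq, hzq]
    ring
  have Tz : (C.T z : ℚ) = (C.va z : ℚ) * 1 := by
    rw [C.T_of_unique (C.free_P hPz) (Or.inl hPz), h.z_b, h.z_b]; simp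
  obtain ⟨W, hW⟩ : ∃ W : ℚ, W = (C.va z : ℚ) * C.deg z := ⟨_, rfl⟩
  obtain ⟨V, hV⟩ : ∃ V : ℚ, V = (C.va v : ℚ) * C.deg v := ⟨_, rfl⟩
  have hW0 : W ≠ 0 := hW ▸ C.unit_deg_ne uz z
  have hV0 : V ≠ 0 := hV ▸ C.unit_deg_ne uv v
  have hQ : (C.Qv : ℚ) = W - V := by
    rw [C.deg_P_eq hvz hPv hPz, hv, hz, hW, hV]; push_cast; ring
  have hQ0 : (C.Qv : ℚ) ≠ 0 := Int.cast_ne_zero.2 C.Qv_ne
  have hq2 := C.two_le_q
  have hq0 : (C.D.q : ℚ) ≠ 0 := by linarith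
  have hwP := C.wsum_P_eq hvz hPv hPz
  rw [hv, hz, Int.cast_neg, neg_mul, wterm uv Tv, wterm uz Tz, ← hV, ← hW, hQ] at hwP
  rw [hQ] at hQ0
  have hz2 : 2 * (C.D.z : ℚ) = C.D.q - 1 := by rw [hq, hzq]; ring
  have hVW : V = (C.D.q : ℚ) * W := by
    field_simp at hwP
    have e : (V - (C.D.q : ℚ) * W) ^ 2 = 0 := by
      linear_combination hwP - (V * W * (2 * C.D.z + C.D.q - 1)) * hz2
    linarith [pow_eq_zero_iff (two_ne_zero) |>.1 e]
  -- the degree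
  have hL : 2 * (Nat.card L : ℚ) = (C.D.q : ℚ) * ((C.D.q : ℚ) ^ 2 - 1) := by exact_mod_cast C.D.card
  have hG' : (Nat.card G : ℚ) = (C.D.q : ℚ) ^ 3 * ((C.D.q : ℚ) ^ 3 + 1) * ((C.D.q : ℚ) - 1) := by
    exact_mod_cast hG
  have hK0 := C.K_eq
  rw [Cfg.Kq, show 4 * (Nat.card L : ℚ) ^ 2 = (2 * (Nat.card L : ℚ)) ^ 2 by ring, hL, hG', hQ, hVW, hdq] at hK0
  have hn : (C.D.q : ℚ) ^ 2 - C.D.q + 1 ≠ 0 := by nlinarith
  have hq1 : (C.D.q : ℚ) - 1 ≠ 0 := by linarith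
  have hq3 : (C.D.q : ℚ) ^ 3 + 1 ≠ 0 := by positivity
  have hWval : W = -((C.D.q : ℚ) ^ 2 - C.D.q + 1) := by
    rw [div_mul_eq_mul_div, div_eq_iff (mul_ne_zero (mul_ne_zero (pow_ne_zero 3 hq0) hq3) hq1)] at hK0
    rw [show 4 * (-1 : ℚ) * (C.D.z : ℚ) ^ 2 = -(2 * (C.D.z : ℚ)) ^ 2 by ring, hz2] at hK0
    apply mul_left_cancel₀ (mul_ne_zero (pow_ne_zero 3 hq0)
      (mul_ne_zero (pow_ne_zero 2 (show (C.D.q : ℚ) + 1 ≠ 0 by linarith)) (pow_ne_zero 3 hq1)))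
    linear_combination -hK0
  have hdz : C.deg z = (C.D.q ^ 2 - C.D.q + 1 : ℕ) := by
    refine unit_natAbs uz (C.deg_spec z).2 ?_
    apply Int.cast_injective (α := ℚ)
    rw [Int.cast_mul, ← hW, hWval, Int.cast_neg, Int.cast_natCast, Nat.cast_add, Nat.cast_sub
      (Nat.le_self_pow two_ne_zero _)]
    push_cast
    ring
  have hdv : C.deg v = (C.D.q * (C.D.q ^ 2 - C.D.q + 1) : ℕ) := by
    refine unit_natAbs uv (C.deg_spec v).2 ?_
    apply Int.cast_injective (α := ℚ)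
    rw [Int.cast_mul, ← hV, hVW, hWval, Int.cast_neg, Int.cast_natCast, Nat.cast_mul, Nat.cast_add,
      Nat.cast_sub (Nat.le_self_pow two_ne_zero _)]
    push_cast
    ring
  refine ⟨z, v, ⟨?_, ?_⟩, ?_, ?_⟩
  · rw [(C.deg_spec z).1, hdz]
    push_cast [Nat.cast_sub (Nat.le_self_pow two_ne_zero C.D.q)]
    ring
  · rw [C.T_spec z]
    have e : C.T z = C.va z := by exact_mod_cast (by simpa using Tz : (C.T z : ℚ) = C.va z)
    rcases uz with a | a <;> rw [e, a] <;> simp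
  · rw [(C.deg_spec v).1, hdv]
    push_cast [Nat.cast_sub (Nat.le_self_pow two_ne_zero C.D.q)]
    ring
  · rw [C.T_spec v]
    have e : C.T v = C.va v * C.D.q := by exact_mod_cast Tv
    rcases uv with a | a <;> rw [e, a] <;> simp

variable [IsSimpleGroup G]

/-- The order and the two characters. -/
theorem ree_chars (hab : ∀ P : Sylow 2 G, ∀ a b : P, a * b = b * a) {F : Type v} [Field F] [Fintype F]
    {m : ℕ} (hm : 1 ≤ m) (hF : Fintype.card F = 3 ^ (2 * m + 1)) {t : G} (ht : orderOf t = 2)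
    (e : Subgroup.centralizer ({t} : Set G) ≃* Multiplicative (ZMod 2) ×
      Matrix.ProjectiveSpecialLinearGroup (Fin 2) F) :
    (Nat.card G : ℤ) = (Fintype.card F : ℤ) ^ 3 * ((Fintype.card F : ℤ) ^ 3 + 1) * ((Fintype.card F : ℤ) - 1) ∧
    ∃ z v : IrrCharacter G,
      ((z : G → ℂ) 1 = (Fintype.card F : ℂ) ^ 2 - Fintype.card F + 1 ∧
        ((z : G → ℂ) t = 1 ∨ (z : G → ℂ) t = -1)) ∧
      ((v : G → ℂ) 1 = (Fintype.card F : ℂ) * ((Fintype.card F : ℂ) ^ 2 - Fintype.card F + 1) ∧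
        ((v : G → ℂ) t = Fintype.card F ∨ (v : G → ℂ) t = -(Fintype.card F : ℂ))) := by
  classical
  have h27 : 27 ≤ Fintype.card F := by
    rw [hF]; exact (show 27 = 3 ^ 3 by norm_num) ▸ Nat.pow_le_pow_right (by norm_num) (by omega)
  have h8 : Fintype.card F % 8 = 3 ∨ Fintype.card F % 8 = 5 := Or.inl (by
    rw [hF, pow_succ, pow_mul, Nat.mul_mod, Nat.pow_mod]; norm_num)
  letI : Fintype (Matrix.ProjectiveSpecialLinearGroup (Fin 2) F) := Fintype.ofFinite _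
  obtain ⟨D, hDq, -, -⟩ := exists_lData h8
  obtain ⟨C, hC⟩ := exists_cfg hab t ht e (by omega) h8 D hDq
  obtain ⟨-, hG, z, v, hz, hv⟩ := cfg_chars C
  have hq : C.D.q = Fintype.card F := by rw [hC, hDq]
  obtain ⟨g, hg⟩ := C.all_conj t ht
  have key : ∀ χ : IrrCharacter G, (χ : G → ℂ) t = (χ : G → ℂ) C.t := fun χ => by
    rw [← hg]; exact (isClassFunction_irr χ.2) C.t g
  rw [hq] at hz hv hG
  exact ⟨hG, z, v, ⟨hz.1, by rw [key]; exact hz.2⟩, ⟨hv.1, by rw [key]; exact hv.2⟩⟩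

end CfsgLib.Walter.RB
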