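import Cfsg.Agent.Lib.Walter.Quot
import Cfsg.Agent.Lib.GW.Final
import Cfsg.Agent.Lib.GW.Conseq.AltSeven
import Cfsg.Agent.Lib.GW.Conseq.Basic
import Cfsg.Agent.Lib.GW.Conseq.QDCentre.AutModel
import Cfsg.Agent.Lib.JankoReeMult.PSLTwo
import Cfsg.Agent.Lib.DicksonFull.Subgroups

/-!
Coordinates for the centraliser of an involution modulo its core, from the Gorenstein–Walter theorem.
-/

set_option autoImplicit false
set_option linter.unusedSectionVars false
set_option linter.style.haveILetI false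

namespace CfsgLib.Walter

open Cfsg CfsgLib.Comp CfsgLib.GW CfsgLib.GWConseq
open CfsgLib.PSL2 (fieldAut fieldPart diagAut dil)
open scoped commutatorElement

universe u

variable {X : Type u} [Group X] [Finite X]

/-- The last term of the derived series of a non-soluble group is perfect, normal and non-trivial. -/
theorem exists_perfect_residual (h : ¬ Group.IsSolvable X) :
    ∃ W : Subgroup X, W.Normal ∧ W ≠ ⊥ ∧ ⁅W, W⁆ = W := by
  classical
  have hex : ∃ k, ∃ m, Nat.card (derivedSeries X m) = k := ⟨_, 0, rfl⟩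
  obtain ⟨m, hm⟩ := Nat.find_spec hex
  refine ⟨derivedSeries X m, inferInstance, fun e => h ⟨⟨m, e⟩⟩, ?_⟩
  rw [← derivedSeries_succ]
  exact Subgroup.eq_of_le_of_card_ge (derivedSeries_antitone X (Nat.le_succ _))
    (hm ▸ Nat.find_min' hex ⟨m + 1, rfl⟩)

/-- An element of a perfect group that is central and lies in an abelian Sylow subgroup of the same prime is
trivial. -/
theorem perfect_central_trivial [Group.IsPerfect X] {p : ℕ} [Fact p.Prime] {z : X} (hz : z ∈ Subgroup.center X)
    (R : Sylow p X) [IsMulCommutative (R : Subgroup X)] (hzR : z ∈ (R : Subgroup X)) : z = 1 := by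
  letI : CommGroup (R : Subgroup X) := { (inferInstance : Group (R : Subgroup X)) with
    mul_comm := fun a b => (inferInstance : IsMulCommutative (R : Subgroup X)).1.comm a b }
  let v : X →* (R : Subgroup X) := MonoidHom.transfer (MonoidHom.id (R : Subgroup X))
  have hv : v z = (⟨z, hzR⟩ : (R : Subgroup X)) ^ (R : Subgroup X).index := by
    refine (MonoidHom.transfer_eq_pow _ z fun k g₀ _ => ?_).trans (Subtype.ext (by simp))
    rw [mul_assoc, ← Subgroup.mem_center_iff.mp (pow_mem hz k) g₀, inv_mul_cancel_left]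
  have h0 : v z = 1 := by
    have hs : commutator X ≤ v.ker := Abelianization.commutator_subset_ker v
    rw [Group.IsPerfect.commutator_eq_top] at hs
    exact hs (Subgroup.mem_top z)
  rw [h0] at hv
  obtain ⟨k, hk⟩ := IsPGroup.iff_orderOf.mp R.2 ⟨z, hzR⟩
  have h1 := orderOf_dvd_of_pow_eq_one hv.symm
  rw [hk] at h1
  rcases Nat.eq_zero_or_pos k with rfl | hk0
  · rw [pow_zero, orderOf_eq_one_iff] at hk
    exact congrArg Subtype.val hk
  · exact absurd ((dvd_pow_self p hk0.ne').trans h1) R.not_dvd_index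

/-- The size of the field from the two-part of `PSL₂`. -/
theorem mod_eight {F : Type} [Field F] [Fintype F] (ho : Odd (Fintype.card F))
    (h : ¬ 8 ∣ Nat.card (Matrix.ProjectiveSpecialLinearGroup (Fin 2) F)) :
    Fintype.card F % 8 = 3 ∨ Fintype.card F % 8 = 5 := by
  set q := Fintype.card F with hq
  have hcard := DicksonFull.card_psl (F := F)
  rw [← hq] at hcard
  have hq1 : 1 < q := Fintype.one_lt_card
  obtain ⟨k, hk⟩ := ho
  have hg : Nat.gcd 2 (q - 1) = 2 := Nat.gcd_eq_left (by omega)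
  rw [hg] at hcard
  by_contra hcon
  refine h ?_
  -- otherwise `16 ∣ q ^ 2 - 1`
  have h16 : 16 ∣ q ^ 2 - 1 := by
    have h8 : q % 8 = 1 ∨ q % 8 = 7 := by omega
    have e : q ^ 2 - 1 = (q + 1) * (q - 1) := by
      rw [show (1 : ℕ) = 1 ^ 2 from rfl, Nat.sq_sub_sq]
      rfl
    rw [e]
    rcases h8 with h8 | h8
    · exact (Nat.mul_dvd_mul (show 2 ∣ q + 1 by omega) (show 8 ∣ q - 1 by omega)).trans dvd_rfl
    · exact (Nat.mul_dvd_mul (show 8 ∣ q + 1 by omega) (show 2 ∣ q - 1 by omega)).trans dvd_rfl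
  obtain ⟨c, hc⟩ := h16
  rw [hc] at hcard
  have h2 : Nat.card (Matrix.ProjectiveSpecialLinearGroup (Fin 2) F) = 8 * (q * c) := by
    have : q * (16 * c) = 2 * (8 * (q * c)) := by ring
    omega
  exact h2 ▸ dvd_mul_right 8 _

open Matrix in
/-- Coordinates in a group with trivial core and a central involution in a Sylow subgroup of order eight. -/
theorem exists_coord {t : X} (ht : orderOf t = 2) (htc : t ∈ Subgroup.center X) (T : Sylow 2 X)
    (hT : E8 (T : Subgroup X)) (hO : oddCore X = ⊥) (hns : ¬ Group.IsSolvable X) :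
    ∃ C : Coord X, C.t = t := by
  classical
  haveI : Fact (Nat.Prime 2) := ⟨Nat.prime_two⟩
  set Z := Subgroup.zpowers t with hZ
  have hZc : Z ≤ Subgroup.center X := Subgroup.zpowers_le.mpr htc
  haveI hZn : Z.Normal := ⟨fun z hz x => by
    rw [Subgroup.mem_center_iff.mp (hZc hz) x, mul_inv_cancel_right]; exact hz⟩
  have hZ2 : Nat.card Z = 2 := by rw [hZ, Nat.card_zpowers, ht]
  have hZmem : ∀ z ∈ Z, z = 1 ∨ z = t := fun z hz => (E8Solv.mem_zpowers_invol ht).mp hz
  have htT : t ∈ (T : Subgroup X) := by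
    obtain ⟨S, hS⟩ := exists_mem_sylow ht
    obtain ⟨g, rfl⟩ := MulAction.exists_smul_eq X S T
    rw [Sylow.coe_subgroup_smul]
    exact ⟨t, hS, by
      show g * t * g⁻¹ = t
      rw [Subgroup.mem_center_iff.mp htc g, mul_inv_cancel_right]⟩
  have ht1 : t ≠ 1 := fun e => by simp [e] at ht
  let D := X ⧸ Z
  set π : X →* D := QuotientGroup.mk' Z with hπ
  have hπs : Function.Surjective π := QuotientGroup.mk'_surjective Z
  have hπZ : ∀ x, π x = 1 ↔ x ∈ Z := fun x => QuotientGroup.eq_one_iff x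
  have hOD : oddCore D = ⊥ := core_quotient_central hO Z hZ2 hZc
  -- the image of `T`
  set TD : Sylow 2 D := T.mapSurjective hπs with hTD
  have hTDc : Nat.card (TD : Subgroup D) = 4 := by
    have h1 := (π.comp (T : Subgroup X).subtype).ker.card_mul_index
    rw [Subgroup.index_ker, MonoidHom.range_comp, Subgroup.range_subtype, hT.1] at h1
    have hk : Nat.card (π.comp (T : Subgroup X).subtype).ker = 2 := by
      refine Eq.trans ?_ hZ2
      rw [hπ, ← MonoidHom.comap_ker, QuotientGroup.ker_mk']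
      exact Nat.card_congr (Subgroup.subgroupOfEquivOfLe (Subgroup.zpowers_le.mpr htT)).toEquiv
    rw [hk] at h1
    show Nat.card ((T : Subgroup X).map π) = 4
    omega
  have hTDe : ∀ a ∈ (TD : Subgroup D), a * a = 1 := by
    rintro _ ⟨b, hb, rfl⟩
    rw [← map_mul, hT.2 b hb, map_one]
  have hnsD : ¬ Group.IsSolvable D := fun hs => hns (by
    haveI := hs
    haveI : Group.IsSolvable Z := Group.isSolvable_of_comm fun a b => Subtype.ext
      ((Subgroup.mem_center_iff.mp (hZc b.2) a.1))
    exact Group.isSolvable_of_ker_le_range Z.subtype π (by rw [hπ, QuotientGroup.ker_mk', Subgroup.range_subtype]))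
  obtain ⟨W, hWn, hWne, hWp⟩ := exists_perfect_residual hnsD
  haveI := hWn
  haveI hperfW : Group.IsPerfect W := by
    refine ⟨Subgroup.map_injective W.subtype_injective ?_⟩
    rw [Subgroup.map_subtype_commutator, hWp, ← MonoidHom.range_eq_map, Subgroup.range_subtype]
  have hOW : oddCore ↥W = ⊥ := by
    refine (Subgroup.eq_bot_iff_forall _).mpr fun y hy => ?_
    have hle := subnormal_coprime_le (p := 2)
      ((inferInstance : (oddCore ↥W).Normal).isSubnormal.trans' hWn.isSubnormal)
      (by rw [Subgroup.card_map_of_injective W.subtype_injective]; exact card_pPrimeCore_coprime 2)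
      (Subgroup.mem_map_of_mem W.subtype hy)
    rw [show pPrimeCore 2 D = ⊥ from hOD, Subgroup.mem_bot] at hle
    exact Subtype.ext hle
  obtain ⟨R, hR⟩ := CfsgLib.CharPLocal.exists_sylow_subnormal TD hWn.isSubnormal
  have hRc : Nat.card (R : Subgroup W) = Nat.card ↥((TD : Subgroup D) ⊓ W) := by
    rw [← hR, Subgroup.card_map_of_injective W.subtype_injective]
  have hRe : ∀ a ∈ (R : Subgroup W), a * a = 1 := fun a ha => by
    have h : (a : D) ∈ (TD : Subgroup D) ⊓ W := hR ▸ Subgroup.mem_map_of_mem W.subtype ha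
    exact Subtype.ext (hTDe _ h.1)
  haveI hRcomm : IsMulCommutative (R : Subgroup W) := ⟨⟨fun a b => Subtype.ext (by
    have hi : ∀ z ∈ (R : Subgroup W), z⁻¹ = z := fun z hz => inv_eq_of_mul_eq_one_right (hRe z hz)
    show (a : W) * b = b * a
    rw [← hi _ (mul_mem a.2 b.2), _root_.mul_inv_rev, hi _ a.2, hi _ b.2])⟩⟩
  -- the Sylow subgroup of `W` is a four-group
  have hR4 : Nat.card (R : Subgroup W) = 4 := by
    have hd : Nat.card (R : Subgroup W) ∣ 2 ^ 2 := by
      rw [hRc, show (2 : ℕ) ^ 2 = 4 from rfl, ← hTDc]; exact Subgroup.card_dvd_of_le inf_le_left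
    obtain ⟨i, hi, hRi⟩ := (Nat.dvd_prime_pow Nat.prime_two).mp hd
    rcases (show i ≤ 1 ∨ i = 2 by omega) with hi1 | rfl
    swap
    · rw [hRi]; norm_num
    exfalso
    have hle : Subgroup.normalizer ((R : Subgroup W) : Set W) ≤ Subgroup.centralizer ((R : Subgroup W) : Set W) := by
      intro g hg p hp
      rcases eq_or_ne p 1 with rfl | hp1
      · rw [one_mul, mul_one]
      have hR2 : Nat.card (R : Subgroup W) = 2 := by
        rcases (show i = 0 ∨ i = 1 by omega) with rfl | rfl
        · rw [pow_zero, Subgroup.card_eq_one] at hRi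
          exact absurd (Subgroup.mem_bot.mp (hRi ▸ hp)) hp1
        · rw [hRi]; norm_num
      obtain ⟨u, -, huniq⟩ := (Nat.card_eq_two_iff' (1 : (R : Subgroup W))).mp hR2
      have h1 : (⟨g * p * g⁻¹, (Subgroup.mem_normalizer_iff.mp hg p).mp hp⟩ : (R : Subgroup W)) = u :=
        huniq _ fun e => hp1 (conj_eq_one_iff.mp (congrArg Subtype.val e))
      have h2 : (⟨p, hp⟩ : (R : Subgroup W)) = u := huniq _ fun e => hp1 (congrArg Subtype.val e)
      exact (mul_inv_eq_iff_eq_mul.mp (congrArg Subtype.val (h1.trans h2.symm))).symm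
    have hcompl := MonoidHom.ker_transferSylow_isComplement' R hle
    have htop : (MonoidHom.transferSylow R hle).ker = ⊤ := by
      refine top_le_iff.mp fun x _ => ?_
      letI : CommGroup (R : Subgroup W) := { (inferInstance : Group (R : Subgroup W)) with
        mul_comm := hRcomm.is_comm.comm }
      have hs : commutator W ≤ (MonoidHom.transferSylow R hle).ker := Abelianization.commutator_subset_ker _
      rw [Group.IsPerfect.commutator_eq_top] at hs
      exact hs (Subgroup.mem_top x)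
    have h1 : Nat.card (R : Subgroup W) = 1 := by
      have h := hcompl.card_mul_card
      rw [htop, Subgroup.card_top] at h
      exact (Nat.mul_eq_left Nat.card_pos.ne').mp h
    have hodd : Odd (Nat.card W) := Nat.odd_iff.mpr (by
      have : ¬ 2 ∣ Nat.card W := fun h => by have := R.dvd_card_of_dvd_card h; omega
      omega)
    haveI : Group.IsSolvable W := Cfsg.Agent.S0205.result hodd
    haveI : Nontrivial W := (Subgroup.nontrivial_iff_ne_bot W).mpr hWne
    exact (Group.IsSolvable.commutator_lt_top_of_nontrivial W).ne Group.IsPerfect.commutator_eq_top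
  have hk : IsKleinFour (R : Subgroup W) :=
    ⟨hR4, Nat.dvd_antisymm (Monoid.exponent_dvd_of_forall_pow_eq_one fun a => Subtype.ext (by
      show (a : W) ^ 2 = 1
      rw [pow_two]; exact hRe a a.2)) (by
      obtain ⟨x, hx⟩ : ∃ x : (R : Subgroup W), x ≠ 1 := by
        haveI : Nontrivial (R : Subgroup W) := Finite.one_lt_card_iff_nontrivial.mp (by omega)
        exact exists_ne 1
      refine (orderOf_eq_prime (x := x) (p := 2) (Subtype.ext (by
        show (x : W) ^ 2 = 1
        rw [pow_two]; exact hRe x x.2)) hx).symm.dvd.trans (Monoid.order_dvd_exponent x))⟩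
  haveI := hk
  haveI : IsKleinFour (DihedralGroup 2) := inferInstance
  obtain ⟨eR⟩ : Nonempty ((R : Subgroup W) ≃* DihedralGroup 2) := IsKleinFour.nonempty_mulEquiv
  rcases GWThm.model gwThm ⟨R, 2, le_rfl, ⟨eR⟩⟩ hOW with ⟨F, _, _, hFo, hF3, ⟨e⟩⟩ | hA7
  swap
  · exfalso
    obtain ⟨e⟩ := hA7
    have h1 := Sylow.card_eq_multiplicity R
    rw [hR4, Nat.card_congr e.toEquiv, A7.card_two_part] at h1
    norm_num at h1
  have h8 : ¬ 8 ∣ Nat.card (Matrix.ProjectiveSpecialLinearGroup (Fin 2) F) := by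
    rw [← Nat.card_congr e.toEquiv]
    intro h8
    have h1 : 3 ≤ (Nat.card W).factorization 2 :=
      (Nat.prime_two.pow_dvd_iff_le_factorization Nat.card_pos.ne').mp (show 2 ^ 3 ∣ Nat.card W from h8)
    have h2 := Sylow.card_eq_multiplicity R
    rw [hR4] at h2
    have h3 := Nat.pow_le_pow_right (show 0 < 2 by norm_num) h1
    omega
  have hq := mod_eight hFo h8
  have hq5 : 5 ≤ Fintype.card F := by omega
  haveI := JankoReeMult.psl_simple (F := F) hF3
  haveI hWs : IsSimpleGroup W := MulEquiv.isSimpleGroup e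
  -- the centraliser of `W`
  have hTW : (TD : Subgroup D) ≤ W :=
    inf_eq_left.mp (Subgroup.eq_of_le_of_card_ge inf_le_left (by rw [hTDc, ← hRc, hR4]))
  have hCW : Subgroup.centralizer (W : Set D) = ⊥ := by
    haveI : (Subgroup.centralizer (W : Set D)).Normal := Subgroup.normal_centralizer
    obtain ⟨P, hP⟩ := CfsgLib.CharPLocal.exists_sylow_subnormal TD
      (inferInstance : (Subgroup.centralizer (W : Set D)).Normal).isSubnormal
    have hcen : Subgroup.center W = ⊥ :=
      ((inferInstance : (Subgroup.center W).Normal).eq_bot_or_eq_top).resolve_right fun e' => by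
        haveI : Nontrivial W := (Subgroup.nontrivial_iff_ne_bot W).mpr hWne
        haveI : IsMulCommutative W := ⟨⟨fun a b => (Subgroup.mem_center_iff.mp (e' ▸ Subgroup.mem_top b) a)⟩⟩
        exact not_subsingleton _ (Group.IsPerfect.subsingleton_of_isMulCommutative (G := W))
    have hbot : (TD : Subgroup D) ⊓ Subgroup.centralizer (W : Set D) = ⊥ := by
      refine (Subgroup.eq_bot_iff_forall _).mpr fun x hx => ?_
      have hz : (⟨x, hTW hx.1⟩ : W) ∈ Subgroup.center W :=
        Subgroup.mem_center_iff.mpr fun y => Subtype.ext (hx.2 y y.2)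
      rw [hcen, Subgroup.mem_bot] at hz
      exact congrArg Subtype.val hz
    rw [hbot] at hP
    have hodd : ¬ 2 ∣ Nat.card (Subgroup.centralizer (W : Set D)) := fun h => by
      have h' := P.dvd_card_of_dvd_card h
      rw [← Subgroup.card_map_of_injective (Subgroup.subtype_injective _), hP, Subgroup.card_bot] at h'
      omega
    exact le_bot_iff.mp (hOD ▸ le_pPrimeCore (Nat.coprime_two_right.mpr (Nat.odd_iff.mpr (by omega))))
  -- the lift of `W`
  set P := W.comap π with hPdef
  set W' := ⁅P, P⁆ with hW'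
  have hW'P : W' ≤ P := Subgroup.commutator_le_self P
  haveI : P.Normal := hWn.comap π
  haveI hW'n : W'.Normal := Subgroup.commutator_normal P P
  have hW'map : W'.map π = W := by
    rw [hW', Subgroup.map_commutator, hPdef, Subgroup.map_comap_eq_self_of_surjective hπs, hWp]
  have hsplit : ∀ x ∈ P, ∃ z ∈ Z, ∃ w ∈ W', x = z * w := by
    intro x hx
    obtain ⟨w, hw, hwx⟩ : π x ∈ W'.map π := by rw [hW'map]; exact hx
    refine ⟨x * w⁻¹, (hπZ _).mp (by rw [map_mul, map_inv, hwx, mul_inv_cancel]), w, hw, by group⟩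
  have hW'perf : ⁅W', W'⁆ = W' := by
    refine le_antisymm (Subgroup.commutator_le_self _) ?_
    conv_lhs => rw [hW']
    rw [Subgroup.commutator_le]
    intro a ha b hb
    obtain ⟨za, hza, wa, hwa, rfl⟩ := hsplit a ha
    obtain ⟨zb, hzb, wb, hwb, rfl⟩ := hsplit b hb
    have c1 : ∀ y, Commute za y := fun y => (Subgroup.mem_center_iff.mp (hZc hza) y).symm
    have c2 : ∀ y, Commute zb y := fun y => (Subgroup.mem_center_iff.mp (hZc hzb) y).symm
    have e' : ⁅za * wa, zb * wb⁆ = ⁅wa, wb⁆ := by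
      rw [commutatorElement_def, commutatorElement_def, _root_.mul_inv_rev, _root_.mul_inv_rev]
      calc za * wa * (zb * wb) * (wa⁻¹ * za⁻¹) * (wb⁻¹ * zb⁻¹)
          = za * (wa * zb) * wb * wa⁻¹ * (za⁻¹ * wb⁻¹) * zb⁻¹ := by group
        _ = za * (zb * wa) * wb * wa⁻¹ * (wb⁻¹ * za⁻¹) * zb⁻¹ := by rw [← (c2 wa).eq, ((c1 wb⁻¹).inv_left).eq]
        _ = za * zb * (wa * wb * wa⁻¹ * wb⁻¹) * (za⁻¹ * zb⁻¹) := by group
        _ = wa * wb * wa⁻¹ * wb⁻¹ := by
          rw [((c1 _).mul_left (c2 _)).eq, mul_assoc, show za * zb * (za⁻¹ * zb⁻¹) = 1 by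
            rw [(c1 zb).eq]; group, mul_one]
    rw [e']
    exact Subgroup.commutator_mem_commutator hwa hwb
  have htW' : t ∉ W' := by
    intro htW
    haveI : Group.IsPerfect W' := by
      refine ⟨Subgroup.map_injective W'.subtype_injective ?_⟩
      rw [Subgroup.map_subtype_commutator, hW'perf, ← MonoidHom.range_eq_map, Subgroup.range_subtype]
    obtain ⟨Q, hQ⟩ := CfsgLib.CharPLocal.exists_sylow_subnormal T hW'n.isSubnormal
    have hQT : ∀ a : (Q : Subgroup W'), ((a : W') : X) ∈ (T : Subgroup X) ⊓ W' := fun a =>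
      hQ ▸ Subgroup.mem_map_of_mem W'.subtype a.2
    haveI : IsMulCommutative (Q : Subgroup W') := ⟨⟨fun a b => Subtype.ext (Subtype.ext
      (hT.comm (hQT a).1 (hQT b).1))⟩⟩
    have htQ : (⟨t, htW⟩ : W') ∈ (Q : Subgroup W') := by
      obtain ⟨a, ha, hae⟩ : t ∈ (Q : Subgroup W').map W'.subtype := by rw [hQ]; exact ⟨htT, htW⟩
      exact (show a = ⟨t, htW⟩ from Subtype.ext hae) ▸ ha
    exact ht1 (congrArg Subtype.val (perfect_central_trivial (z := (⟨t, htW⟩ : W'))
      (Subgroup.mem_center_iff.mpr fun y => Subtype.ext (Subgroup.mem_center_iff.mp htc y)) Q htQ))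
  have hinjW : ∀ a ∈ W', ∀ b ∈ W', π a = π b → a = b := by
    intro a ha b hb hab
    rcases hZmem _ ((hπZ (a⁻¹ * b)).mp (by rw [map_mul, map_inv, hab, inv_mul_cancel])) with e' | e'
    · exact inv_mul_eq_one.mp e'
    · exact absurd (e' ▸ mul_mem (inv_mem ha) hb) htW'
  let ψ : W' →* W := (π.comp W'.subtype).codRestrict W fun a => hW'map ▸ Subgroup.mem_map_of_mem π a.2
  have hψ : Function.Bijective ψ := by
    refine ⟨fun a b hab => Subtype.ext (hinjW _ a.2 _ b.2 (congrArg Subtype.val hab)), fun w => ?_⟩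
    obtain ⟨a, ha, hae⟩ : (w : D) ∈ W'.map π := by rw [hW'map]; exact w.2
    exact ⟨⟨a, ha⟩, Subtype.ext hae⟩
  let eW' : W' ≃* W := MulEquiv.ofBijective ψ hψ
  let ι : Matrix.ProjectiveSpecialLinearGroup (Fin 2) F →* X :=
    W'.subtype.comp (e.symm.trans eW'.symm).toMonoidHom
  have hιW : ∀ x, π (ι x) = (e.symm x : D) := fun x =>
    congrArg Subtype.val (eW'.apply_symm_apply (e.symm x))
  have hιmem : ∀ x, ι x ∈ W' := fun x => ((e.symm.trans eW'.symm) x).2
  have hιinj : Function.Injective ι := W'.subtype_injective.comp (e.symm.trans eW'.symm).injective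
  -- the automorphisms induced on `W`
  let α : D →* MulAut (Matrix.ProjectiveSpecialLinearGroup (Fin 2) F) :=
    { toFun := fun d => e.symm.trans ((MulAut.conjNormal d : MulAut W).trans e)
      map_one' := MulEquiv.ext fun x => by simp
      map_mul' := fun a b => MulEquiv.ext fun x => by simp [MulAut.mul_apply] }
  have hαapp : ∀ d x, (e.symm (α d x) : D) = d * (e.symm x : D) * d⁻¹ := fun d x => by
    show (e.symm (e ((MulAut.conjNormal d : MulAut W) (e.symm x))) : D) = _
    rw [e.symm_apply_apply, MulAut.conjNormal_apply]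
  have hαinj : Function.Injective α := by
    refine (injective_iff_map_eq_one α).mpr fun d hd => ?_
    rw [← Subgroup.mem_bot, ← hCW]
    intro w hw
    have h := hαapp d (e ⟨w, hw⟩)
    rw [hd, MulAut.one_apply, e.symm_apply_apply] at h
    exact (mul_inv_eq_iff_eq_mul.mp h.symm).symm
  let A := α.range
  let I := (MulAut.conj (G := Matrix.ProjectiveSpecialLinearGroup (Fin 2) F)).range
  haveI hIn : I.Normal := QDCentre.conj_range_normal
  have hαW : ∀ w : W, α (w : D) = MulAut.conj (e w) := fun w => MulEquiv.ext fun x => e.symm.injective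
    (Subtype.ext (by rw [hαapp, MulAut.conj_apply, map_mul, map_mul, map_inv, e.symm_apply_apply]; rfl))
  have hIA : I ≤ A := by
    rintro _ ⟨x, rfl⟩
    exact ⟨(e.symm x : D), by rw [hαW, e.apply_symm_apply]⟩
  set out := QuotientGroup.mk' I with hout
  have hWodd : Odd W.index := Nat.odd_iff.mpr (by
    have : ¬ 2 ∣ W.index := fun h => TD.not_dvd_index (h.trans (Subgroup.index_dvd_of_le hTW))
    omega)
  have hOodd : ∀ a ∈ A, out a ^ W.index = 1 := by
    rintro _ ⟨d, rfl⟩
    have hmem : d ^ W.index ∈ W := by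
      rw [← QuotientGroup.eq_one_iff, QuotientGroup.mk_pow, Subgroup.index_eq_card]
      exact pow_card_eq_one'
    rw [← map_pow, ← map_pow, show d ^ W.index = ((⟨_, hmem⟩ : W) : D) from rfl, hαW]
    exact (QuotientGroup.eq_one_iff _).mpr ⟨_, rfl⟩
  obtain ⟨p, n, hp, hn, hcp, -, -, hcard⟩ := odd_degree hq
  haveI : Fact p.Prime := ⟨hp⟩
  haveI := hcp
  haveI := CfsgLib.Chev.ringAut_cyclic_finite F
  haveI : Finite (RingAut F) := Finite.of_injective (fun τ : RingAut F => (τ : F → F)) DFunLike.coe_injective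
  -- a generator of the field parts
  let S := A.map (fieldPart (F := F) p)
  haveI : IsCyclic S := Subgroup.isCyclic S
  obtain ⟨⟨σ, hσS⟩, hgen⟩ := IsCyclic.exists_generator (α := S)
  obtain ⟨a₀, ha₀, hσ⟩ := hσS
  obtain ⟨g, e', hge⟩ := PSL2.exists_diag_field p a₀
  have he' : e' = σ := (PSL2.fieldPart_eq p hge).symm.trans hσ
  rw [he'] at hge
  clear he' e'
  obtain ⟨c, M, rfl⟩ := PSL2.exists_dil_mul g
  rw [map_mul, PSL2.diagAut_toGL] at hge
  have hodd' : Odd (orderOf σ) := odd_orderOf hq σ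
  have hfield : (fieldAut σ : MulAut (Matrix.ProjectiveSpecialLinearGroup (Fin 2) F)) ∈ A := by
    set β : MulAut (Matrix.ProjectiveSpecialLinearGroup (Fin 2) F) := fieldAut σ
    have h1 : out a₀ = out (diagAut (dil c)) * out β := by
      rw [hge, map_mul, map_mul, show out (MulAut.conj (PSL2.mk M)) = 1 from
        (QuotientGroup.eq_one_iff _).mpr ⟨_, rfl⟩, mul_one]
    have hc2 : out (diagAut (dil c)) * out (diagAut (dil c)) = 1 := by
      rw [← map_mul, ← map_mul, ← map_mul]
      obtain ⟨x, hx⟩ := (PSL2.dil_inner_iff (c * c)).mpr ⟨c, pow_two c⟩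
      exact (QuotientGroup.eq_one_iff _).mpr ⟨x, hx.symm⟩
    have hcomm : Commute (out (diagAut (dil c))) (out β) := by
      rw [← commutatorElement_eq_one_iff_commute, ← map_commutatorElement]
      exact (QuotientGroup.eq_one_iff _).mpr (QDCentre.commutator_mem_inner _ _)
    have hβ : out β ^ orderOf σ = 1 := by
      rw [← map_pow, fieldAut_pow, pow_orderOf_eq_one,
        show (1 : RingAut F) = RingEquiv.refl F from rfl, PSL2.fieldAut_refl, map_one]
    have hd : out (diagAut (dil c)) = out (a₀ ^ orderOf σ) := by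
      rw [map_pow, h1, hcomm.mul_pow, hβ, mul_one]
      obtain ⟨k, hk⟩ := hodd'
      rw [hk, pow_succ, pow_mul, pow_two, hc2, one_pow, one_mul]
    have hd1 : out (diagAut (dil c)) = 1 := by
      have h := hOodd _ (pow_mem ha₀ (orderOf σ))
      rw [← hd] at h
      obtain ⟨k, hk⟩ := hWodd
      rwa [hk, pow_succ, pow_mul, pow_two, hc2, one_pow, one_mul] at h
    rw [hd1, one_mul, hout, QuotientGroup.mk'_apply, QuotientGroup.mk'_apply] at h1
    have h2 := mul_mem ha₀ (hIA (QuotientGroup.eq.mp h1))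
    rwa [mul_inv_cancel_left] at h2
  obtain ⟨d, hd⟩ := hfield
  obtain ⟨z, hz⟩ := hπs d
  have hpow : d ^ orderOf σ = 1 := hαinj (by
    rw [map_pow, hd, fieldAut_pow, pow_orderOf_eq_one, map_one,
      show (1 : RingAut F) = RingEquiv.refl F from rfl, PSL2.fieldAut_refl])
  have hzk : z ^ orderOf σ ∈ Z := (hπZ _).mp (by rw [map_pow, hz, hpow])
  set φ := z ^ (orderOf σ + 1) with hφ
  have hφd : π φ = d := by rw [hφ, map_pow, hz, pow_succ, hpow, one_mul]
  have hφk : φ ^ orderOf σ = 1 := by
    rw [hφ, ← pow_mul, mul_comm, pow_mul]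
    obtain ⟨k, hk⟩ := hodd'
    rcases hZmem _ hzk with e' | e'
    · rw [e', one_pow]
    · rw [e', hk, show 2 * k + 1 + 1 = 2 * (k + 1) by ring, pow_mul, ← ht, pow_orderOf_eq_one, one_pow]
  have htpow : ∀ (i : Fin 2) (x : X), Commute (t ^ (i : ℕ)) x := fun i x =>
    (show Commute t x from (Subgroup.mem_center_iff.mp htc x).symm).pow_left _
  refine ⟨{ F := F, instField := inferInstance, instFintype := inferInstance, hq := hq, hq5 := hq5, σ := σ,
            t := t, ι := ι, φ := φ, ι_inj := hιinj, t_ord := ht,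
            t_ι := fun x => (Subgroup.mem_center_iff.mp htc _).symm,
            t_φ := (Subgroup.mem_center_iff.mp htc _).symm, conj := ?_, φ_ord := ?_, cent := ?_ }, rfl⟩
  · intro x
    refine hinjW _ (hW'n.conj_mem _ (hιmem x) φ) _ (hιmem _) ?_
    rw [map_mul, map_mul, map_inv, hφd, hιW, hιW, ← hd, hαapp]
  · refine Nat.dvd_antisymm (orderOf_dvd_of_pow_eq_one hφk) (orderOf_dvd_of_pow_eq_one ?_)
    have h2 := congrArg α (congrArg π (pow_orderOf_eq_one φ))
    rw [map_pow, hφd, map_pow, hd, fieldAut_pow, map_one, map_one] at h2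
    exact fieldAut_inj (h2.trans (PSL2.fieldAut_refl (F := F)).symm)
  · intro y _
    set dy := π y
    have hs : fieldPart (F := F) p (α dy) ∈ S := Subgroup.mem_map_of_mem _ ⟨dy, rfl⟩
    obtain ⟨j, hj⟩ := ((isOfFinOrder_of_finite (⟨σ, hσ ▸ Subgroup.mem_map_of_mem _ ha₀⟩ : S)).mem_powers_iff_mem_zpowers).mpr
      (hgen ⟨_, hs⟩)
    have hj' : σ ^ j = fieldPart (F := F) p (α dy) := congrArg Subtype.val hj
    set δ := dy * (d ^ j)⁻¹
    have hδf : fieldPart p (α δ) = 1 := by
      rw [map_mul, map_mul, map_inv, map_inv, map_pow, map_pow, hd,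
        PSL2.fieldPart_eq p (φ := fieldAut σ) (g := 1) (e := σ) (by rw [map_one, one_mul]), hj', mul_inv_cancel]
    obtain ⟨g', hg'⟩ := PSL2.exists_of_fieldPart_eq_one p hδf
    obtain ⟨c', M', rfl⟩ := PSL2.exists_dil_mul g'
    rw [show diagAut (dil c' * Matrix.SpecialLinearGroup.toGL M') = diagAut (dil c') * MulAut.conj (PSL2.mk M') by
      rw [map_mul, PSL2.diagAut_toGL]] at hg'
    have h1 : out (diagAut (dil c')) = out (α δ) := by
      rw [hg', map_mul, show out (MulAut.conj (PSL2.mk M')) = 1 from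
        (QuotientGroup.eq_one_iff _).mpr ⟨_, rfl⟩, mul_one]
    have hc2 : out (diagAut (dil c')) * out (diagAut (dil c')) = 1 := by
      rw [← map_mul, ← map_mul, ← map_mul]
      obtain ⟨x, hx⟩ := (PSL2.dil_inner_iff (c' * c')).mpr ⟨c', pow_two c'⟩
      exact (QuotientGroup.eq_one_iff _).mpr ⟨x, hx.symm⟩
    have h2 : out (α δ) = 1 := by
      have h := hOodd _ ⟨δ, rfl⟩
      rw [← h1] at h ⊢
      obtain ⟨k, hk⟩ := hWodd
      rwa [hk, pow_succ, pow_mul, pow_two, hc2, one_pow, one_mul] at h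
    obtain ⟨x, hx⟩ := (QuotientGroup.eq_one_iff _).mp h2
    have hδW : δ = (e.symm x : D) := hαinj (by rw [hαW, e.apply_symm_apply]; exact hx.symm)
    have hy : π y = π (ι x * φ ^ j) := by
      rw [map_mul, map_pow, hφd, hιW, ← hδW]
      show dy = dy * (d ^ j)⁻¹ * d ^ j
      rw [inv_mul_cancel_right]
    rcases hZmem _ ((hπZ (y * (ι x * φ ^ j)⁻¹)).mp (by rw [map_mul, map_inv, hy, mul_inv_cancel])) with e' | e'
    · exact ⟨0, x, j, by rw [mul_inv_eq_one] at e'; simpa using e'⟩
    · exact ⟨1, x, j, by rw [mul_inv_eq_iff_eq_mul, ← mul_assoc] at e'; simpa using e'⟩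

/-- Coordinates along an embedding whose image holds the centraliser. -/
def Coord.push {Y : Type u} [Group Y] (C : Coord X) (f : X →* Y) (hf : Function.Injective f)
    (hc : ∀ y, Commute y (f C.t) → ∃ x, f x = y) : Coord Y where
  F := C.F
  instField := C.instField
  instFintype := C.instFintype
  hq := C.hq
  hq5 := C.hq5
  σ := C.σ
  t := f C.t
  ι := f.comp C.ι
  φ := f C.φ
  ι_inj := hf.comp C.ι_inj
  t_ord := (orderOf_injective f hf _).trans C.t_ord
  t_ι := fun x => (C.t_ι x).map f
  t_φ := C.t_φ.map f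
  conj := fun x => by
    show f C.φ * f (C.ι x) * (f C.φ)⁻¹ = f (C.ι (fieldAut C.σ x))
    rw [← map_inv, ← map_mul, ← map_mul, C.conj]
  φ_ord := (orderOf_injective f hf _).trans C.φ_ord
  cent := fun y hy => by
    obtain ⟨x, rfl⟩ := hc y hy
    obtain ⟨i, v, j, rfl⟩ := C.cent x (hf (by rw [map_mul, map_mul]; exact hy))
    exact ⟨i, v, j, by simp [map_mul, map_pow]⟩

section Centralizer

variable {G : Type u} [Group G] [Finite G] (B : Base G) {t : G} (ht : orderOf t = 2)
  (hns : ¬ Group.IsSolvable ↥(Subgroup.centralizer ({t} : Set G)))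
include B ht hns

/-- Coordinates in the centraliser of an involution modulo its core. -/
theorem exists_coord_quot :
    ∃ C : Coord (↥(Subgroup.centralizer ({t} : Set G)) ⧸ pPrimeCore 2 ↥(Subgroup.centralizer ({t} : Set G))),
      C.t = bar 2 ↥(Subgroup.centralizer ({t} : Set G)) ⟨t, Subgroup.mem_centralizer_singleton_iff.mpr rfl⟩ := by
  haveI : Fact (Nat.Prime 2) := ⟨Nat.prime_two⟩
  obtain ⟨S, hS⟩ := exists_mem_sylow ht
  have hE := B.e8.sylow S
  set H := Subgroup.centralizer ({t} : Set G)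
  have hSH : (S : Subgroup G) ≤ H := fun s hs => Subgroup.mem_centralizer_singleton_iff.mpr (hE.comm hs hS)
  obtain ⟨T, -, hT8⟩ := exists_bar_sylow hE hSH
  have ht1 : t ≠ 1 := fun e => by simp [e] at ht
  refine exists_coord ?_ ?_ T hT8 (pPrimeCore_quotient_eq_bot 2) fun hs => hns ?_
  · refine orderOf_eq_prime ?_ fun e => ht1 (congrArg Subtype.val
      (bar_inj hE hSH (a := (⟨t, Subgroup.mem_centralizer_singleton_iff.mpr rfl⟩ : ↥H)) hS e))
    rw [← map_pow, show (⟨t, _⟩ : ↥H) ^ 2 = 1 from Subtype.ext (by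
      show t ^ 2 = 1
      rw [pow_two]; exact hE.2 t hS), map_one]
  · refine Subgroup.mem_center_iff.mpr fun z => ?_
    obtain ⟨x, rfl⟩ := bar_surjective 2 z
    rw [← map_mul, ← map_mul]
    exact congrArg _ (Subtype.ext (Subgroup.mem_centralizer_singleton_iff.mp x.2))
  · haveI := hs
    haveI : Group.IsSolvable (pPrimeCore 2 ↥H) :=
      Cfsg.Agent.S0205.result (Nat.coprime_two_right.mp (card_pPrimeCore_coprime 2))
    exact Group.isSolvable_of_ker_le_range (pPrimeCore 2 ↥H).subtype (bar 2 ↥H)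
      (by rw [QuotientGroup.ker_mk', Subgroup.range_subtype])

/-- Coordinates in `G` when the core of the centraliser is trivial. -/
theorem exists_coord_of_core (hO : pPrimeCore 2 ↥(Subgroup.centralizer ({t} : Set G)) = ⊥) :
    ∃ C : Coord G, C.t = t := by
  obtain ⟨C, hC⟩ := exists_coord_quot B ht hns
  let e : ↥(Subgroup.centralizer ({t} : Set G)) ⧸ pPrimeCore 2 ↥(Subgroup.centralizer ({t} : Set G)) ≃*
      ↥(Subgroup.centralizer ({t} : Set G)) :=
    (QuotientGroup.quotientMulEquivOfEq hO).trans QuotientGroup.quotientBot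
  let f := (Subgroup.centralizer ({t} : Set G)).subtype.comp e.toMonoidHom
  have hft : f C.t = t := by rw [hC]; rfl
  exact ⟨C.push f ((Subgroup.subtype_injective _).comp e.injective) fun y hy =>
    ⟨e.symm ⟨y, Subgroup.mem_centralizer_singleton_iff.mpr (by rw [← hft]; exact hy.eq)⟩,
      congrArg Subtype.val (e.apply_symm_apply _)⟩, hft⟩

end Centralizer

end CfsgLib.Walter
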