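import Mathlib

/-!
Arithmetic for case (R): three integer vectors of norm four and product two, the possible rows, and congruences.

Blueprint: `blueprint/Walter.md`, case (R).
-/

set_option autoImplicit false
set_option linter.unusedSectionVars false

namespace CfsgLib.Walter.RB

/-- The shape of three integer vectors of norm four and product two orthogonal to positive weights. -/
structure Pattern {ι : Type*} [Fintype ι] [DecidableEq ι] (v : Option (Fin 2) → ι → ℤ) : Prop where
  unit : ∀ k i, v k i = 0 ∨ v k i = 1 ∨ v k i = -1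
  agree : ∀ k l i, v k i ≠ 0 → v l i ≠ 0 → v k i = v l i
  four : ∀ k, (Finset.univ.filter fun i => v k i ≠ 0).card = 4
  two : ∀ k l, k ≠ l → (Finset.univ.filter fun i => v k i ≠ 0 ∧ v l i ≠ 0).card = 2

theorem small_entries {ι : Type*} [Fintype ι] [DecidableEq ι] (w d : ι → ℤ) (hd : ∀ i, 0 < d i)
    (hn : ∑ i, w i * w i = 4) (ho : ∑ i, d i * w i = 0) (i : ι) : w i = 0 ∨ w i = 1 ∨ w i = -1 := by
  have hle : w i * w i ≤ 4 := hn ▸ Finset.single_le_sum (fun j _ => mul_self_nonneg (w j)) (Finset.mem_univ i)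
  have h1 : -2 ≤ w i ∧ w i ≤ 2 := ⟨by nlinarith, by nlinarith⟩
  by_contra h
  push Not at h
  have h2 : w i = 2 ∨ w i = -2 := by omega
  have hsq : w i * w i = 4 := by rcases h2 with e | e <;> rw [e] <;> norm_num
  have hz : ∀ j, j ≠ i → w j = 0 := by
    intro j hj
    have := Finset.sum_le_sum_of_subset_of_nonneg (s := {i, j}) (Finset.subset_univ _)
      (fun x _ _ => mul_self_nonneg (w x))
    rw [Finset.sum_pair hj.symm, hn, hsq] at this
    exact mul_self_eq_zero.1 (le_antisymm (by linarith) (mul_self_nonneg _))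
  rw [Finset.sum_eq_single i (fun j _ hj => by rw [hz j hj, mul_zero]) (by simp)] at ho
  have := hd i
  rcases h2 with e | e <;> rw [e] at ho <;> linarith

theorem sq_ite {x : ℤ} (h : x = 0 ∨ x = 1 ∨ x = -1) : x * x = if x ≠ 0 then 1 else 0 := by
  rcases h with e | e | e <;> rw [e] <;> simp

theorem pattern {ι : Type*} [Fintype ι] [DecidableEq ι] (v : Option (Fin 2) → ι → ℤ) (d : ι → ℤ)
    (hd : ∀ i, 0 < d i) (hg : ∀ k l, ∑ i, v k i * v l i = if k = l then 4 else 2)
    (ho : ∀ k, ∑ i, d i * v k i = 0) : Pattern v := by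
  have hu : ∀ k i, v k i = 0 ∨ v k i = 1 ∨ v k i = -1 := fun k i =>
    small_entries (v k) d hd (by rw [hg, if_pos rfl]) (ho k) i
  have hf : ∀ k, (Finset.univ.filter fun i => v k i ≠ 0).card = 4 := by
    intro k
    have h := hg k k
    rw [if_pos rfl, Finset.sum_congr rfl fun i _ => sq_ite (hu k i), Finset.sum_boole] at h
    exact_mod_cast h
  have hpair : ∀ k l, k ≠ l → (Finset.univ.filter fun i => v k i ≠ 0 ∧ v l i ≠ 0).card = 2 ∧
      ∀ i, v k i ≠ 0 → v l i ≠ 0 → v k i = v l i := by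
    intro k l hkl
    set P := Finset.univ.filter fun i => v k i ≠ 0 ∧ v l i ≠ 0
    have hsum : ∑ i ∈ P, v k i * v l i = 2 := by
      rw [Finset.sum_filter_of_ne, hg, if_neg hkl]
      intro i _ hne
      exact mul_ne_zero_iff.1 hne
    have hle : P.card ≤ 4 := hf k ▸ Finset.card_le_card (fun i hi => by
      simp only [P, Finset.mem_filter] at hi ⊢
      exact ⟨hi.1, hi.2.1⟩)
    have hprod : ∀ i ∈ P, v k i * v l i = 1 ∨ v k i * v l i = -1 := by
      intro i hi
      obtain ⟨-, h1, h2⟩ := Finset.mem_filter.1 hi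
      rcases (hu k i).resolve_left h1 with e | e <;> rcases (hu l i).resolve_left h2 with e' | e' <;>
        rw [e, e'] <;> norm_num
    have hpar : ((P.card : ℤ) - 2) % 2 = 0 := by
      have e : ∑ i ∈ P, (1 - v k i * v l i) = (P.card : ℤ) - 2 := by
        rw [Finset.sum_sub_distrib, hsum]; simp
      rw [← e]
      refine Int.emod_eq_zero_of_dvd (Finset.dvd_sum fun i hi => ?_)
      rcases hprod i hi with e | e <;> rw [e] <;> norm_num
    have hge : (2 : ℤ) ≤ P.card := by
      calc (2 : ℤ) = ∑ i ∈ P, v k i * v l i := hsum.symm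
        _ ≤ ∑ i ∈ P, (1 : ℤ) := Finset.sum_le_sum fun i hi => by rcases hprod i hi with e | e <;> rw [e] <;> norm_num
        _ = P.card := by simp
    have hne4 : P.card ≠ 4 := by
      intro h4
      have hk : P = Finset.univ.filter fun i => v k i ≠ 0 :=
        Finset.eq_of_subset_of_card_le (fun i hi => by
          simp only [P, Finset.mem_filter] at hi ⊢
          exact ⟨hi.1, hi.2.1⟩) (by rw [hf k, h4])
      have hl : P = Finset.univ.filter fun i => v l i ≠ 0 :=
        Finset.eq_of_subset_of_card_le (fun i hi => by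
          simp only [P, Finset.mem_filter] at hi ⊢
          exact ⟨hi.1, hi.2.2⟩) (by rw [hf l, h4])
      have hn : ∑ i, (v k i - v l i) * (v k i - v l i) = 4 := by
        have e : ∀ i, (v k i - v l i) * (v k i - v l i) = v k i * v k i + v l i * v l i - 2 * (v k i * v l i) :=
          fun i => by ring
        simp only [e, Finset.sum_sub_distrib, Finset.sum_add_distrib, ← Finset.mul_sum, hg, if_pos rfl, if_neg hkl]
        norm_num
      have hs := small_entries _ d hd hn (by simp [mul_sub, Finset.sum_sub_distrib, ho])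
      have h0 : ∀ i, v k i - v l i = 0 := by
        intro i
        by_cases hi : v k i = 0
        · have : i ∉ P := fun h => (Finset.mem_filter.1 h).2.1 hi
          rw [hl] at this
          simp only [Finset.mem_filter, Finset.mem_univ, true_and, not_not] at this
          rw [hi, this, sub_zero]
        · have : i ∈ P := by rw [hk]; simp [hi]
          have h2 := (Finset.mem_filter.1 this).2.2
          have h1' := (hu k i).resolve_left hi
          have h2' := (hu l i).resolve_left h2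
          have h3 := hs i
          omega
      simp [h0] at hn
    have h2 : P.card = 2 := by omega
    refine ⟨h2, fun i h1 h1' => ?_⟩
    have hi : i ∈ P := by simp [P, h1, h1']
    rcases hprod i hi with e | e
    · rcases (hu k i).resolve_left h1 with a | a <;> rcases (hu l i).resolve_left h1' with b | b <;>
        rw [a, b] at e ⊢ <;> first | rfl | (norm_num at e)
    · exfalso
      rw [← Finset.add_sum_erase P _ hi, e] at hsum
      have h4 : ∑ x ∈ P.erase i, v k x * v l x ≤ ((P.erase i).card : ℤ) := by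
        calc _ ≤ ∑ x ∈ P.erase i, (1 : ℤ) := Finset.sum_le_sum fun x hx => by
              rcases hprod x (Finset.mem_of_mem_erase hx) with e | e <;> rw [e] <;> norm_num
          _ = _ := by simp
      rw [Finset.card_erase_of_mem hi, h2] at h4
      norm_num at h4
      omega
  refine ⟨hu, fun k l i h1 h2 => ?_, hf, fun k l hkl => (hpair k l hkl).1⟩
  rcases eq_or_ne k l with rfl | hkl
  · rfl
  · exact (hpair k l hkl).2 i h1 h2

theorem row_small {A B C z : ℤ} {n : ℕ} (hA : A = 0 ∨ A = 1 ∨ A = -1) (hB : B = 0 ∨ B = 1 ∨ B = -1)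
    (hC : C = 0 ∨ C = 1 ∨ C = -1) (hAB : A ≠ 0 → B ≠ 0 → A = B) (hAC : A ≠ 0 → C ≠ 0 → A = C)
    (hBC : B ≠ 0 → C ≠ 0 → B = C) (hn : Odd n) (hlt : (n : ℤ) < z)
    (h : A + (B + C) * z = n ∨ A + (B + C) * z = -n) : n = 1 ∧ A ≠ 0 ∧ B = 0 ∧ C = 0 := by
  obtain ⟨j, rfl⟩ := hn
  rcases hA with rfl | rfl | rfl <;> rcases hB with rfl | rfl | rfl <;> rcases hC with rfl | rfl | rfl <;>
    first
      | (norm_num at hAB; done)
      | (norm_num at hAC; done)
      | (norm_num at hBC; done)
      | (push_cast at h hlt ⊢; omega)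
      | (refine ⟨?_, by norm_num, rfl, rfl⟩; norm_num at h; omega)

theorem row_large {A B C z : ℤ} {n : ℕ} (hA : A = 0 ∨ A = 1 ∨ A = -1) (hB : B = 0 ∨ B = 1 ∨ B = -1)
    (hC : C = 0 ∨ C = 1 ∨ C = -1) (hAB : A ≠ 0 → B ≠ 0 → A = B) (hAC : A ≠ 0 → C ≠ 0 → A = C)
    (hBC : B ≠ 0 → C ≠ 0 → B = C) (hn : Odd n) (hz : 2 ≤ z)
    (h : A + (B + C) * z = n * (2 * z + 1) ∨ A + (B + C) * z = -(n * (2 * z + 1))) :
    n = 1 ∧ A ≠ 0 ∧ B = A ∧ C = A := by
  obtain ⟨j, rfl⟩ := hn
  have hbig : (2 * z + 1) * (j : ℤ) ≥ 0 := by positivity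
  rcases Nat.eq_zero_or_pos j with rfl | hj
  · rcases hA with rfl | rfl | rfl <;> rcases hB with rfl | rfl | rfl <;> rcases hC with rfl | rfl | rfl <;>
      first
        | (norm_num at hAB; done)
        | (norm_num at hAC; done)
        | (norm_num at hBC; done)
        | (push_cast at h ⊢; omega)
        | (refine ⟨rfl, by norm_num, rfl, rfl⟩)
  · exfalso
    have hj' : (1 : ℤ) ≤ j := by exact_mod_cast hj
    have : (2 * z + 1) * 1 ≤ (2 * z + 1) * (j : ℤ) := mul_le_mul_of_nonneg_left hj' (by linarith)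
    push_cast at h
    rcases hA with rfl | rfl | rfl <;> rcases hB with rfl | rfl | rfl <;> rcases hC with rfl | rfl | rfl <;>
      rcases h with h | h <;> nlinarith

/-- Congruent to one at the orders prime to three, to two modulo three, prime to `N`. -/
theorem exists_twist {N : ℕ} (hN : N ≠ 0) :
    ∃ m : ℕ, m.Coprime N ∧ (∀ o, o ∣ N → ¬ 3 ∣ o → m ≡ 1 [MOD o]) ∧ m % 3 = 2 := by
  set a := N.factorization 3
  set N' := N / 3 ^ a with hN'
  have h3 : ¬ 3 ∣ N' := Nat.not_dvd_ordCompl Nat.prime_three hN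
  have hcop : (3 ^ (a + 1)).Coprime N' :=
    Nat.Coprime.pow_left _ ((Nat.prime_three.coprime_iff_not_dvd).2 h3)
  obtain ⟨m, hm1, hm2⟩ := Nat.chineseRemainder hcop (3 ^ (a + 1) - 1) 1
  have hm3 : m % 3 = 2 := by
    have h := hm1.of_dvd (dvd_pow_self 3 (Nat.succ_ne_zero a))
    rw [h]
    obtain ⟨c, hc⟩ : 3 ∣ 3 ^ (a + 1) := dvd_pow_self 3 (Nat.succ_ne_zero a)
    have : 0 < 3 ^ (a + 1) := pow_pos (by norm_num) _
    rw [hc] at this ⊢
    omega
  refine ⟨m, ?_, fun o ho h3o => hm2.of_dvd ?_, hm3⟩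
  · rw [← Nat.ordProj_mul_ordCompl_eq_self N 3]
    refine Nat.Coprime.mul_right (Nat.Coprime.pow_right _ ?_) ?_
    · exact ((Nat.prime_three.coprime_iff_not_dvd).2 (by omega)).symm
    · rw [Nat.coprime_iff_gcd_eq_one]
      have := hm2.gcd_eq
      rwa [Nat.gcd_one_left] at this
  · refine (Nat.Coprime.dvd_of_dvd_mul_left ?_ (by rwa [Nat.ordProj_mul_ordCompl_eq_self]))
    exact (Nat.Coprime.pow_right _ ((Nat.prime_three.coprime_iff_not_dvd).2 h3o).symm)

/-- Raising to the power `r ^ k` does nothing modulo `r`. -/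
theorem pow_r_mod {r : ℕ} (hr : r.Prime) (x k : ℕ) : ((x ^ r ^ k : ℕ) : ZMod r) = (x : ZMod r) := by
  haveI : Fact r.Prime := ⟨hr⟩
  induction k with
  | zero => rw [pow_zero, pow_one]
  | succ k ih => rw [pow_succ r k, pow_mul, Nat.cast_pow, ih, ZMod.pow_card]

end CfsgLib.Walter.RB
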