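import Cfsg.Agent.Lib.Blocks.CentralDefect
import Cfsg.Agent.Lib.Blocks.LocalBlocks
import Cfsg.Agent.Lib.CharTheory.Induced
import Cfsg.Agent.Lib.Blocks.Reynolds

/-!
The blocks of `C(σ)` of unit central character at `t`: their defect group is `⟨σ⟩`.

Blueprint: `blueprint/Walter.md`, case (R).
-/

set_option autoImplicit false
set_option linter.unusedSectionVars false
set_option linter.style.haveILetI false

namespace CfsgLib.Walter.Suz

open Cfsg CfsgLib CfsgLib.CharTheory CfsgLib.Blocks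
open scoped ComplexConjugate

universe u

/-- The hypotheses: an `r`-element `σ` with the TI property and an element `t` of `C(σ)`. -/
structure Hyp {G : Type u} [Group G] (r k : ℕ) (σ t : G) : Prop where
  hr : r.Prime
  h5 : 5 ≤ r
  hk : 1 ≤ k
  ord : orderOf σ = r ^ k
  mem : t ∈ Subgroup.centralizer ({σ} : Set G)
  t_reg : ¬ r ∣ orderOf t
  norm : ∀ g : G, g * σ * g⁻¹ ∈ Subgroup.zpowers σ → g ∈ Subgroup.centralizer ({σ} : Set G)
  fus : ∀ g : G, g * t * g⁻¹ ∈ Subgroup.centralizer ({σ} : Set G) →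
    ∃ h ∈ Subgroup.centralizer ({σ} : Set G), h * t * h⁻¹ = g * t * g⁻¹
  valC : (Nat.card (Subgroup.centralizer ({⟨t, mem⟩} : Set (Subgroup.centralizer ({σ} : Set G))))).factorization r = k

/-- `C(σ)`. -/
abbrev Hs {G : Type u} [Group G] (σ : G) : Subgroup G := Subgroup.centralizer ({σ} : Set G)

/-- `σ` in `C(σ)`. -/
def ρ {G : Type u} [Group G] (σ : G) : Hs σ := ⟨σ, Subgroup.mem_centralizer_singleton_iff.2 rfl⟩

/-- `⟨σ⟩` in `C(σ)`. -/
abbrev Zs {G : Type u} [Group G] (σ : G) : Subgroup (Hs σ) := Subgroup.zpowers (ρ σ)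

variable {G : Type u} [Group G] [Fintype G] {r k : ℕ} {σ t : G}

theorem ρ_comm (g : Hs σ) : Commute (ρ σ) g :=
  Subtype.ext (Subgroup.mem_centralizer_singleton_iff.1 g.2).symm

instance zs_normal : (Zs σ).Normal := ⟨fun n hn g => by
  obtain ⟨i, rfl⟩ := hn
  rw [← ((ρ_comm g).zpow_left i).eq, mul_inv_cancel_right]
  exact ⟨i, rfl⟩⟩

theorem zs_cent : Subgroup.centralizer ((Zs σ : Subgroup (Hs σ)) : Set (Hs σ)) = ⊤ := by
  rw [eq_top_iff]
  rintro g - _ ⟨i, rfl⟩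
  exact ((ρ_comm g).zpow_left i).eq

theorem zs_sup : Zs σ ⊔ Subgroup.centralizer ((Zs σ : Subgroup (Hs σ)) : Set (Hs σ)) = ⊤ := by
  rw [zs_cent, sup_top_eq]

theorem orderOf_ρ : orderOf (ρ σ) = orderOf σ := (Subgroup.orderOf_coe _).symm

theorem mem_Zs {u : Hs σ} : u ∈ Zs σ ↔ ∃ j : ℕ, ρ σ ^ j = u := by
  rw [← mem_powers_iff_mem_zpowers, Submonoid.mem_powers_iff]

section

variable (H : Hyp r k σ t)
include H

theorem card_Zs : Nat.card (Zs σ) = r ^ k := by rw [Nat.card_zpowers, orderOf_ρ, H.ord]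

theorem zs_pgroup : IsPGroup r (Zs σ) := IsPGroup.of_card (card_Zs H)

/-- `t` in `C(σ)`. -/
def τ : Hs σ := ⟨t, H.mem⟩

end

variable [Fintype (Hs σ)] {M : Ideal AlgInt}

/-- The central character at `t` is a unit. -/
def IsUnitAt (M : Ideal AlgInt) (H : Hyp r k σ t) (ψ : IrrCharacter (Hs σ)) : Prop :=
  ¬ MemLocalIdeal M (centralChar (ψ : Hs σ → ℂ) (τ H))

variable (hM : IsPModular r M) (H : Hyp r k σ t)
include hM H

theorem isUnitAt_iff (ψ : IrrCharacter (Hs σ)) :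
    IsUnitAt M H ψ ↔ res hM (centralChar (ψ : Hs σ → ℂ) (τ H)) ≠ 0 :=
  not_congr (res_eq_zero_iff hM (memRing_clv hM (τ H) ψ)).symm

theorem isUnitAt_congr {ψ φ : IrrCharacter (Hs σ)} (h : SameBlock M (ψ : Hs σ → ℂ) (φ : Hs σ → ℂ)) :
    IsUnitAt M H ψ ↔ IsUnitAt M H φ := by
  rw [isUnitAt_iff hM H, isUnitAt_iff hM H]
  exact (congrArg (· ≠ 0) ((sameBlock_iff_res hM ψ φ).1 h (τ H))).to_iff

theorem dv_of_unit {ψ : IrrCharacter (Hs σ)} (hψ : IsUnitAt M H ψ) :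
    (Nat.card (Hs σ)).factorization r ≤ dv r (ψ : Hs σ → ℂ) + k := by
  haveI := res_isDomain hM
  haveI := res_charP hM
  set ind := (Subgroup.centralizer ({τ H} : Set (Hs σ))).index
  have hcard : (Nat.card (Hs σ)).factorization r = ind.factorization r + k := by
    rw [← Subgroup.index_mul_card (Subgroup.centralizer ({τ H} : Set (Hs σ))),
      Nat.factorization_mul Subgroup.index_ne_zero_of_finite Nat.card_pos.ne', Finsupp.add_apply]
    exact congrArg _ H.valC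
  rw [hcard, add_le_add_iff_right]
  by_contra hlt
  push Not at hlt
  refine hψ ((res_eq_zero_iff hM (memRing_clv hM (τ H) ψ)).1 ?_)
  obtain ⟨d, hd0, hd⟩ := irr_degree_pos ψ.2
  have hdv : dv r (ψ : Hs σ → ℂ) = d.factorization r := dv_of_one hd
  rw [hdv] at hlt
  set a := ind.factorization r
  set b := d.factorization r
  obtain ⟨i', hi'⟩ : r ^ a ∣ ind := Nat.ordProj_dvd _ _
  set d' := d / r ^ b
  have hd' : d = r ^ b * d' := (Nat.ordProj_mul_ordCompl_eq_self d r).symm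
  have hd'r : ¬ r ∣ d' := Nat.not_dvd_ordCompl H.hr hd0.ne'
  have e : centralChar (ψ : Hs σ → ℂ) (τ H) =
      (r : ℂ) * ((r : ℂ) ^ (a - b - 1) * i' * (ψ : Hs σ → ℂ) (τ H) * (d' : ℂ)⁻¹) := by
    rw [centralChar, hd, show (ind : ℂ) = (r : ℂ) ^ a * i' by rw [hi']; push_cast; rfl, hd']
    push_cast
    have hr0 : (r : ℂ) ≠ 0 := Nat.cast_ne_zero.2 H.hr.ne_zero
    have hd0' : (d' : ℂ) ≠ 0 := Nat.cast_ne_zero.2 fun h => hd'r (h ▸ dvd_zero r)
    rw [show (r : ℂ) ^ a = (r : ℂ) ^ b * ((r : ℂ) * (r : ℂ) ^ (a - b - 1)) by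
      rw [← pow_succ', ← pow_add]; congr 1; omega]
    field_simp
  have hm : MemLocalRing M ((r : ℂ) ^ (a - b - 1) * i' * (ψ : Hs σ → ℂ) (τ H) * (d' : ℂ)⁻¹) :=
    (loc hM).mul_mem ((loc hM).mul_mem ((loc hM).mul_mem ((loc hM).pow_mem (memRing_natCast hM r) _)
      (memRing_natCast hM i')) (memRing_irr hM ψ _)) (natCast_inv_mem hM hd'r)
  show res hM (centralChar (ψ : Hs σ → ℂ) (τ H)) = 0
  rw [e, res_mul hM (memRing_natCast hM r) hm, natCast_p_mem, zero_mul]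

/-- The defect group of a block of unit central character at `t` is `⟨σ⟩`. -/
theorem defect_unit {ψ : IrrCharacter (Hs σ)} (hψ : IsUnitAt M H ψ) :
    IsDefectGroup r M (blockOf M (ψ : Hs σ → ℂ)) (Zs σ) ∧
      Nat.card (Zs σ) = r ^ blockDefect r (blockOf M (ψ : Hs σ → ℂ)) := by
  haveI : Fact r.Prime := ⟨H.hr⟩
  have hB : IsPBlock M (blockOf M (ψ : Hs σ → ℂ)) := blockOf_isPBlock ψ
  obtain ⟨D, hD⟩ := exists_defectGroup hM hB
  have hdef : blockDefect r (blockOf M (ψ : Hs σ → ℂ)) ≤ k := by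
    obtain ⟨φ, hφ, hmin⟩ : ∃ φ ∈ blockOf M (ψ : Hs σ → ℂ), dv r (φ : Hs σ → ℂ) = minDv r (blockOf M (ψ : Hs σ → ℂ)) :=
      Nat.sInf_mem (Set.Nonempty.image _ ⟨ψ, mem_blockOf_self hM ψ⟩)
    have := dv_of_unit hM H ((isUnitAt_congr hM H hφ).1 hψ)
    rw [blockDefect_eq, ← hmin]
    omega
  have hle : Zs σ ≤ D := by
    obtain ⟨g, -, P, rfl⟩ := id hD
    have hgZ : Zs σ ≤ Subgroup.centralizer ({g} : Set (Hs σ)) :=
      Subgroup.zpowers_le.2 (Subgroup.mem_centralizer_singleton_iff.2 (ρ_comm g).eq)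
    set Z' := (Zs σ).subgroupOf (Subgroup.centralizer ({g} : Set (Hs σ)))
    have hZ' : IsPGroup r Z' := (zs_pgroup H).of_equiv (Subgroup.subgroupOfEquivOfLe hgZ).symm
    haveI : Z'.Normal := Subgroup.Normal.subgroupOf inferInstance _
    have hsup : Z' ≤ (P : Subgroup (Subgroup.centralizer ({g} : Set (Hs σ)))) := by
      rw [← P.is_maximal' (hZ'.to_sup_of_normal_left P.isPGroup') le_sup_right]
      exact le_sup_left
    intro z hz
    exact ⟨⟨z, hgZ hz⟩, hsup hz, rfl⟩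
  have hDZ : Zs σ = D := Subgroup.eq_of_le_of_card_ge hle (by
    rw [card_defectGroup hM hB hD, card_Zs H]; exact Nat.pow_le_pow_right H.hr.pos hdef)
  exact ⟨hDZ ▸ hD, hDZ ▸ card_defectGroup hM hB hD⟩

/-- The characters of unit central character with `σ` in the kernel. -/
def IsBase (M : Ideal AlgInt) (H : Hyp r k σ t) (θ : IrrCharacter (Hs σ)) : Prop :=
  IsUnitAt M H θ ∧ ∀ x ∈ Zs σ, (θ : Hs σ → ℂ) x = (θ : Hs σ → ℂ) 1

theorem base_orth {θ θ' : IrrCharacter (Hs σ)} (hθ : IsBase M H θ) (hθ' : IsBase M H θ') [Decidable (θ = θ')] :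
    ∑ y ∈ Finset.univ.filter (fun y : Hs σ => ¬ r ∣ orderOf y), (θ : Hs σ → ℂ) y * conj ((θ' : Hs σ → ℂ) y) =
      if θ = θ' then (Nat.card (Hs σ) : ℂ) / (r : ℂ) ^ k else 0 := by
  obtain ⟨hD, hc⟩ := defect_unit hM H hθ.1
  simp only [irr_conjInv]
  rw [← regS_eq_sum]
  split_ifs with h
  · subst h
    have := (triv_props hM (zs_pgroup H) zs_sup (blockOf_isPBlock θ) hc (mem_blockOf_self hM θ) hθ.2).1
    rw [card_Zs H] at this
    push_cast at this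
    rw [eq_div_iff (pow_ne_zero _ (Nat.cast_ne_zero.2 H.hr.ne_zero)), mul_comm]
    exact this
  · refine regS_eq_zero hM fun hs => h ?_
    exact triv_unique hM (zs_pgroup H) zs_sup (blockOf_isPBlock θ) hc (mem_blockOf_self hM θ) hθ.2 hs hθ'.2

/-- A primitive root of order `r ^ k`. -/
noncomputable def ξ (r k : ℕ) : ℂ := Complex.exp (2 * Real.pi * Complex.I / ((r ^ k : ℕ) : ℂ))

theorem ξ_prim : IsPrimitiveRoot (ξ r k) (r ^ k) := Complex.isPrimitiveRoot_exp _ (pow_ne_zero _ H.hr.ne_zero)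

/-- `ψ` has the exponent `a` over `θ`. -/
def Lies (r k : ℕ) {G : Type u} [Group G] {σ : G} (θ ψ : IrrCharacter (Hs σ)) (a : ℕ) : Prop :=
  SameBlock (G := Hs σ) M (θ : Hs σ → ℂ) (ψ : Hs σ → ℂ) ∧
    (∀ (j : ℕ) (y : Hs σ), ¬ r ∣ orderOf y → (ψ : Hs σ → ℂ) (ρ σ ^ j * y) = ξ r k ^ (a * j) * (θ : Hs σ → ℂ) y) ∧
    ∀ g : Hs σ, (∀ (j : ℕ) (y : Hs σ), ¬ r ∣ orderOf y → g ≠ ρ σ ^ j * y) → (ψ : Hs σ → ℂ) g = 0

omit hM H in
theorem not_onPReg {g : Hs σ} (h : ∀ (j : ℕ) (y : Hs σ), ¬ r ∣ orderOf y → g ≠ ρ σ ^ j * y) :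
    ¬ OnPReg r (Zs σ) g := by
  rintro ⟨u, hu, y, -, hy, rfl⟩
  obtain ⟨j, rfl⟩ := mem_Zs.1 hu
  exact h j y hy rfl

theorem exists_lies {θ : IrrCharacter (Hs σ)} (hθ : IsBase M H θ) (a : ℕ) :
    ∃ ψ, Lies (M := M) r k θ ψ a := by
  obtain ⟨hD, hc⟩ := defect_unit hM H hθ.1
  obtain ⟨-, hex⟩ := exists_pcent_param hM (zs_pgroup H) zs_sup (blockOf_isPBlock θ) hD (mem_blockOf_self hM θ) hθ.2
  let f : Zs σ →* ℂˣ := monoidHomOfForallMemZpowers (g := ⟨ρ σ, Subgroup.mem_zpowers _⟩)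
    (fun x => by
      obtain ⟨i, hi⟩ := x.2
      exact ⟨i, Subtype.ext (by simpa using hi)⟩)
    (g' := Units.mk0 (ξ r k ^ a) (pow_ne_zero _ ((ξ_prim hM H).ne_zero (pow_ne_zero _ H.hr.ne_zero))))
    (by
      refine orderOf_dvd_of_pow_eq_one (Units.ext ?_)
      rw [Units.val_pow_eq_pow_val, Units.val_mk0, Subgroup.orderOf_mk, orderOf_ρ, H.ord, ← pow_mul, mul_comm,
        pow_mul, (ξ_prim hM H).pow_eq_one, one_pow, Units.val_one])
  obtain ⟨ψ, hψ, -, h2, h3⟩ := hex ⟨_, isIrrCharacter_linear f⟩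
  refine ⟨ψ, hψ, fun j y hy => ?_, fun g hg => h3 g (not_onPReg hg)⟩
  have h := h2 ⟨ρ σ ^ j, Subgroup.pow_mem _ (Subgroup.mem_zpowers _) j⟩ y hy
  rw [h]
  congr 1
  show ((f ⟨ρ σ ^ j, _⟩ : ℂˣ) : ℂ) = _
  rw [show (⟨ρ σ ^ j, _⟩ : Zs σ) = ⟨ρ σ, Subgroup.mem_zpowers _⟩ ^ j from Subtype.ext (by simp), map_pow,
    monoidHomOfForallMemZpowers_apply_gen, Units.val_pow_eq_pow_val, Units.val_mk0, ← pow_mul]

/-- The character of exponent `a` over `θ`. -/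
noncomputable def up {θ : IrrCharacter (Hs σ)} (hθ : IsBase M H θ) (a : ℕ) : IrrCharacter (Hs σ) :=
  (exists_lies hM H hθ a).choose

theorem up_spec {θ : IrrCharacter (Hs σ)} (hθ : IsBase M H θ) (a : ℕ) :
    Lies (M := M) r k θ (up hM H hθ a) a := (exists_lies hM H hθ a).choose_spec

/-- Every character of unit central character at `t` lies over some `θ`. -/
theorem exists_base {ψ : IrrCharacter (Hs σ)} (hψ : IsUnitAt M H ψ) :
    ∃ θ, ∃ hθ : IsBase M H θ, ∃ a < r ^ k, ψ = up hM H hθ a := by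
  obtain ⟨θ, hθb, hθt⟩ := exists_triv hM (zs_pgroup H) (B := blockOf M (ψ : Hs σ → ℂ)) (blockOf_isPBlock ψ)
  have hθ : IsBase M H θ := ⟨(isUnitAt_congr hM H hθb).1 hψ, hθt⟩
  obtain ⟨hD, hc⟩ := defect_unit hM H hθ.1
  obtain ⟨hall, -⟩ := exists_pcent_param hM (zs_pgroup H) zs_sup (blockOf_isPBlock θ) hD (mem_blockOf_self hM θ) hθ.2
  obtain ⟨ζ, -, h2, h3⟩ := hall ψ (sameBlock_symm hM hθb)
  obtain ⟨f, hf⟩ := exists_hom_of_degree_one (isCharacter_of_irr ζ.2)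
    (degree_one_of_commutative (fun a b => mul_comm' a b) ζ.2)
  set z : Zs σ := ⟨ρ σ, Subgroup.mem_zpowers _⟩
  have hzpow : ((f z : ℂˣ) : ℂ) ^ r ^ k = 1 := by
    rw [← Units.val_pow_eq_pow_val, ← map_pow, ← card_Zs H, pow_card_eq_one', map_one, Units.val_one]
  haveI : NeZero (r ^ k) := ⟨pow_ne_zero _ H.hr.ne_zero⟩
  obtain ⟨a, ha, hfa⟩ := (ξ_prim hM H).eq_pow_of_pow_eq_one hzpow
  refine ⟨θ, hθ, a, ha, Subtype.ext (funext fun g => ?_)⟩
  obtain ⟨-, hu, h0⟩ := up_spec hM H hθ a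
  by_cases hg : ∃ (j : ℕ) (y : Hs σ), ¬ r ∣ orderOf y ∧ g = ρ σ ^ j * y
  · obtain ⟨j, y, hy, rfl⟩ := hg
    rw [hu j y hy, h2 ⟨ρ σ ^ j, Subgroup.pow_mem _ (Subgroup.mem_zpowers _) j⟩ y hy, hf]
    congr 1
    show ((f ⟨ρ σ ^ j, _⟩ : ℂˣ) : ℂ) = _
    rw [show (⟨ρ σ ^ j, _⟩ : Zs σ) = z ^ j from Subtype.ext (by simp [z]), map_pow, Units.val_pow_eq_pow_val, ← hfa,
      ← pow_mul]
  · push Not at hg
    rw [h0 g fun j y hy => hg j y hy, h3 g (not_onPReg fun j y hy => hg j y hy)]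

theorem up_unit {θ : IrrCharacter (Hs σ)} (hθ : IsBase M H θ) (a : ℕ) : IsUnitAt M H (up hM H hθ a) :=
  (isUnitAt_congr hM H (up_spec hM H hθ a).1).1 hθ.1

theorem base_eq {θ θ' : IrrCharacter (Hs σ)} (hθ : IsBase M H θ) (hθ' : IsBase M H θ')
    (h : SameBlock M (θ : Hs σ → ℂ) (θ' : Hs σ → ℂ)) : θ = θ' :=
  triv_unique hM (zs_pgroup H) zs_sup (blockOf_isPBlock θ) (defect_unit hM H hθ.1).2 (mem_blockOf_self hM θ)
    hθ.2 h hθ'.2

theorem up_inj {θ θ' : IrrCharacter (Hs σ)} (hθ : IsBase M H θ) (hθ' : IsBase M H θ') {a b : ℕ}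
    (h : up hM H hθ a = up hM H hθ' b) : θ = θ' ∧ ξ r k ^ a = ξ r k ^ b := by
  obtain ⟨h1, h2, -⟩ := up_spec hM H hθ a
  obtain ⟨h1', h2', -⟩ := up_spec hM H hθ' b
  rw [h] at h1 h2
  have he := base_eq hM H hθ hθ' (sameBlock_trans hM h1 (sameBlock_symm hM h1'))
  subst he
  have h1r : ¬ r ∣ orderOf (1 : Hs σ) := by rw [orderOf_one, Nat.dvd_one]; exact H.hr.ne_one
  have e := (h2 1 1 h1r).symm.trans (h2' 1 1 h1r)
  rw [mul_one, mul_one] at e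
  exact ⟨rfl, mul_right_cancel₀ (irr_ne_zero θ.2) e⟩

theorem up_ρ {θ : IrrCharacter (Hs σ)} (hθ : IsBase M H θ) (a j : ℕ) (g : Hs σ) :
    (up hM H hθ a : Hs σ → ℂ) (ρ σ ^ j * g) = ξ r k ^ (a * j) * (up hM H hθ a : Hs σ → ℂ) g := by
  obtain ⟨-, hu, h0⟩ := up_spec hM H hθ a
  by_cases hg : ∃ (l : ℕ) (y : Hs σ), ¬ r ∣ orderOf y ∧ g = ρ σ ^ l * y
  · obtain ⟨l, y, hy, rfl⟩ := hg
    rw [← mul_assoc, ← pow_add, hu (j + l) y hy, hu l y hy, mul_add, pow_add]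
    ring
  · push Not at hg
    rw [h0 g fun l y hy => hg l y hy, mul_zero, h0]
    intro l y hy e
    refine hg (l + j * (r ^ k - 1)) y hy ?_
    have hpos : 0 < r ^ k := pow_pos H.hr.pos k
    have hz : ρ σ ^ j * ρ σ ^ (j * (r ^ k - 1)) = 1 := by
      rw [← pow_add, show j + j * (r ^ k - 1) = r ^ k * j by
        obtain ⟨n, hn⟩ : ∃ n, r ^ k = n + 1 := ⟨r ^ k - 1, by omega⟩
        rw [hn, Nat.add_sub_cancel]; ring, pow_mul, ← H.ord, ← orderOf_ρ, pow_orderOf_eq_one, one_pow]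
    calc g = ρ σ ^ (j * (r ^ k - 1)) * (ρ σ ^ j * g) := by
          rw [← mul_assoc, ← pow_add, add_comm, pow_add, hz, one_mul]
      _ = _ := by rw [e, ← mul_assoc, ← pow_add, add_comm]

end CfsgLib.Walter.Suz
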