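import Cfsg.Agent.Lib.Walter.EBlocks
import Cfsg.Agent.Lib.JankoThompson.Coef
import Cfsg.Agent.Lib.CharTheory.AbelianInertia
import Cfsg.Agent.Lib.Blocks.Transport

/-!
`C(t) = ⟨t⟩ × E`: its characters and the blocks over the principal block of `E`.

Blueprint: `blueprint/Walter.md`, case (R).
-/

set_option autoImplicit false
set_option linter.unusedSectionVars false
set_option linter.style.haveILetI false

namespace CfsgLib.Walter.RB

open Cfsg CfsgLib CfsgLib.CharTheory CfsgLib.Blocks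
open CfsgLib.JankoThompson (M2 twoHom twoHom_zero twoHom_one sum_M2 M2_cases)
open scoped ComplexConjugate

universe u

variable {X : Type u} [Group X] [Fintype X] (C : Coord X)

/-- The centraliser of `t`. -/
abbrev H : Subgroup X := Subgroup.centralizer ((Subgroup.zpowers C.t : Subgroup X) : Set X)

theorem isCentr_H : IsCentr C.t (H C) := isCentr_zpowers C.t

theorem mem_H {g : X} : g ∈ H C ↔ Commute g C.t := isCentr_H C g

theorem commute_E {e : X} (he : e ∈ E C) : Commute C.t e := by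
  obtain ⟨x, j, rfl⟩ := he
  exact (C.t_ι x).mul_right (C.t_φ.pow_right j)

theorem E_le_H : E C ≤ H C := fun _ he => (mem_H C).2 (commute_E C he).symm

theorem t_mem_H : C.t ∈ H C := (mem_H C).2 (Commute.refl _)

/-- `(i, e) ↦ tⁱ e`. -/
noncomputable def ΦH : M2 × E C →* H C :=
  (twoHom (⟨C.t, t_mem_H C⟩ : H C) (Subtype.ext C.tt)).noncommCoprod (Subgroup.inclusion (E_le_H C))
    fun i e => by
      rcases M2_cases i with rfl | rfl
      · rw [twoHom_zero]; exact Commute.one_left _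
      · rw [twoHom_one]; exact Subtype.ext (commute_E C e.2).eq

theorem ΦH_zero (e : E C) : (ΦH C (Multiplicative.ofAdd 0, e) : X) = e := by
  simp [ΦH, Subgroup.coe_inclusion]

theorem ΦH_one (e : E C) : (ΦH C (Multiplicative.ofAdd 1, e) : X) = C.t * e := by
  simp [ΦH, Subgroup.coe_inclusion]

theorem t_mul_not_mem (e : E C) : C.t * (e : X) ∉ E C := by
  intro h
  obtain ⟨x, j, hx⟩ := (E C).mul_mem h ((E C).inv_mem e.2)
  rw [mul_inv_cancel_right] at hx
  obtain ⟨h0, -, -⟩ := C.unique (i := 1) (x := x) (j := j) (by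
    rw [Fin.val_one, pow_one, mul_assoc, ← hx, C.tt])
  exact absurd h0 (by decide)

theorem ΦH_bij : Function.Bijective (ΦH C) := by
  constructor
  · rintro ⟨i, a⟩ ⟨j, b⟩ h
    have h' : (ΦH C (i, a) : X) = ΦH C (j, b) := congrArg Subtype.val h
    rcases M2_cases i with rfl | rfl <;> rcases M2_cases j with rfl | rfl <;>
      simp only [ΦH_zero, ΦH_one] at h'
    · exact Prod.ext rfl (Subtype.ext h')
    · exact absurd (h' ▸ a.2) (t_mul_not_mem C b)
    · exact absurd (h'.symm ▸ b.2) (t_mul_not_mem C a)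
    · exact Prod.ext rfl (Subtype.ext (mul_left_cancel h'))
  · rintro ⟨g, hg⟩
    obtain ⟨i, x, j, rfl⟩ := C.cent g ((mem_H C).1 hg)
    fin_cases i
    · exact ⟨(Multiplicative.ofAdd 0, ⟨_, x, j, rfl⟩), Subtype.ext (by rw [ΦH_zero]; simp)⟩
    · exact ⟨(Multiplicative.ofAdd 1, ⟨_, x, j, rfl⟩), Subtype.ext (by rw [ΦH_one]; simp [mul_assoc])⟩

/-- `C(t) = ⟨t⟩ × E`. -/
noncomputable def eH : M2 × E C ≃* H C := MulEquiv.ofBijective (ΦH C) (ΦH_bij C)

theorem eH_zero (e : E C) : ((eH C (Multiplicative.ofAdd 0, e) : H C) : X) = e := ΦH_zero C e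

theorem eH_one (e : E C) : ((eH C (Multiplicative.ofAdd 1, e) : H C) : X) = C.t * e := ΦH_one C e

variable [Fintype (E C)] [Fintype (H C)]

theorem sum_H {A : Type*} [AddCommMonoid A] (F : H C → A) :
    ∑ g : H C, F g = (∑ e : E C, F (eH C (Multiplicative.ofAdd 0, e))) +
      ∑ e : E C, F (eH C (Multiplicative.ofAdd 1, e)) := by
  rw [← Equiv.sum_comp (eH C).toEquiv F, Fintype.sum_prod_type, sum_M2]
  rfl

theorem card_H : Nat.card (H C) = 2 * Nat.card (E C) := by
  rw [← Nat.card_congr (eH C).toEquiv, Nat.card_prod]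
  simp [M2]

theorem orderOf_odd_part {g : H C} (hg : ¬ 2 ∣ orderOf g) :
    ∃ e : E C, g = eH C (Multiplicative.ofAdd 0, e) ∧ ¬ 2 ∣ orderOf e := by
  obtain ⟨⟨i, e⟩, rfl⟩ := (eH C).surjective g
  rw [MulEquiv.orderOf_eq, Prod.orderOf] at hg
  rcases M2_cases i with rfl | rfl
  · exact ⟨e, rfl, fun h => hg (h.trans (Nat.dvd_lcm_right _ _))⟩
  · exfalso
    refine hg ((dvd_of_eq ?_).trans (Nat.dvd_lcm_left _ _))
    exact (orderOf_eq_prime (by decide) (by decide) : orderOf (Multiplicative.ofAdd (1 : ZMod 2)) = 2).symm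

theorem not_dvd_eH {e : E C} (he : ¬ 2 ∣ orderOf e) :
    ¬ 2 ∣ orderOf (eH C (Multiplicative.ofAdd 0, e)) := by
  rw [MulEquiv.orderOf_eq, Prod.orderOf]
  simpa using he

/-- The sign characters of the group of order two. -/
noncomputable def sg (s : Bool) : M2 →* ℂˣ := if s then JankoThompson.sgn else 1

theorem sg_one (s : Bool) : (sg s (Multiplicative.ofAdd 1) : ℂ) = if s then -1 else 1 := by
  cases s <;> simp [sg, JankoThompson.sgn]

theorem sg_zero (s : Bool) : (sg s (Multiplicative.ofAdd 0) : ℂ) = 1 := by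
  rw [show (Multiplicative.ofAdd (0 : ZMod 2) : M2) = 1 from rfl, map_one, Units.val_one]

/-- The characters of `C(t)`. -/
noncomputable def chH (s : Bool) (η : IrrCharacter (E C)) : IrrCharacter (H C) :=
  irrPull (eH C).symm ⟨_, isIrrCharacter_mul_linear
    (isIrrCharacter_comp_surjective η.2 (MonoidHom.snd M2 (E C)) Prod.snd_surjective)
    (isIrrCharacter_linear ((sg s).comp (MonoidHom.fst M2 (E C)))) (by simp)⟩

theorem chH_eH (s : Bool) (η : IrrCharacter (E C)) (i : M2) (e : E C) :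
    (chH C s η : H C → ℂ) (eH C (i, e)) = (η : E C → ℂ) e * (sg s i : ℂ) := by
  simp [chH]

theorem chH_zero (s : Bool) (η : IrrCharacter (E C)) (e : E C) :
    (chH C s η : H C → ℂ) (eH C (Multiplicative.ofAdd 0, e)) = (η : E C → ℂ) e := by
  rw [chH_eH, sg_zero, mul_one]

theorem chH_inj : Function.Injective fun p : Bool × IrrCharacter (E C) => chH C p.1 p.2 := by
  rintro ⟨s, η⟩ ⟨s', η'⟩ h
  have hη : η = η' := Subtype.ext (funext fun e => by
    have := congrFun (congrArg Subtype.val h) (eH C (Multiplicative.ofAdd 0, e))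
    simpa only [chH_zero] using this)
  subst hη
  have := congrFun (congrArg Subtype.val h) (eH C (Multiplicative.ofAdd 1, 1))
  simp only [chH_eH, sg_one] at this
  have h' := mul_left_cancel₀ (irr_ne_zero η.2) this
  cases s <;> cases s' <;> simp at h' ⊢ <;> norm_num at h'

theorem chH_surj : Function.Surjective fun p : Bool × IrrCharacter (E C) => chH C p.1 p.2 := by
  classical
  intro ψ
  by_contra hno
  push Not at hno
  set S := Finset.univ.image fun p : Bool × IrrCharacter (E C) => chH C p.1 p.2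
  have h1 : ∑ χ ∈ S, (χ : H C → ℂ) 1 ^ 2 = (Nat.card (H C) : ℂ) := by
    rw [Finset.sum_image fun a _ b _ h => chH_inj C h, Fintype.sum_prod_type, Fintype.sum_bool]
    have e : ∀ s η, (chH C s η : H C → ℂ) 1 = (η : E C → ℂ) 1 := fun s η => by
      rw [← map_one (eH C), ← Prod.mk_one_one, chH_eH, map_one, Units.val_one, mul_one]
    simp only [e, sum_irr_degree_sq, card_H]
    push_cast; ring
  have h2 : (ψ : H C → ℂ) 1 ^ 2 + ∑ χ ∈ S, (χ : H C → ℂ) 1 ^ 2 + ∑ χ ∈ (insert ψ S)ᶜ, (χ : H C → ℂ) 1 ^ 2 =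
      (Nat.card (H C) : ℂ) := by
    rw [← Finset.sum_insert (f := fun χ : IrrCharacter (H C) => (χ : H C → ℂ) 1 ^ 2) (s := S) (a := ψ) fun h => by
      obtain ⟨p, -, hp⟩ := Finset.mem_image.1 h
      exact hno p hp, Finset.sum_add_sum_compl, sum_irr_degree_sq]
  rw [h1] at h2
  have hd : ∀ χ : IrrCharacter (H C), ∃ d : ℕ, 0 < d ∧ (χ : H C → ℂ) 1 = d := fun χ => irr_degree_pos χ.2
  choose d hd0 hd1 using hd
  simp only [hd1] at h2
  have h3 : d ψ ^ 2 + Nat.card (H C) + ∑ χ ∈ (insert ψ S)ᶜ, d χ ^ 2 = Nat.card (H C) := by exact_mod_cast h2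
  have := pow_pos (hd0 ψ) 2
  omega

/-! ### Linear characters trivial on `L₂(q)` -/

/-- The linear character of `E` given by one of `⟨φ⟩`. -/
noncomputable def lin (ν : Subgroup.zpowers C.φ →* ℂˣ) : IrrCharacter (E C) :=
  ⟨fun e => (ν (proj C e) : ℂ), isIrrCharacter_linear (ν.comp (proj C))⟩

theorem lin_apply (ν : Subgroup.zpowers C.φ →* ℂˣ) (e : E C) : (lin C ν : E C → ℂ) e = (ν (proj C e) : ℂ) := rfl

/-- Multiplication by a linear character. -/
noncomputable def tw (ν : Subgroup.zpowers C.φ →* ℂˣ) (η : IrrCharacter (E C)) : IrrCharacter (E C) :=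
  ⟨_, isIrrCharacter_mul_linear η.2 (lin C ν).2 (by simp [lin])⟩

theorem tw_apply (ν : Subgroup.zpowers C.φ →* ℂˣ) (η : IrrCharacter (E C)) (e : E C) :
    (tw C ν η : E C → ℂ) e = (η : E C → ℂ) e * (ν (proj C e) : ℂ) := rfl

theorem tw_mul (ν μ : Subgroup.zpowers C.φ →* ℂˣ) (η : IrrCharacter (E C)) :
    tw C ν (tw C μ η) = tw C (μ * ν) η :=
  Subtype.ext (funext fun e => by simp [tw_apply, mul_assoc])

theorem tw_one (η : IrrCharacter (E C)) : tw C 1 η = η :=
  Subtype.ext (funext fun e => by simp [tw_apply])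

theorem hom_mul_inv (ν : Subgroup.zpowers C.φ →* ℂˣ) : ν * ν⁻¹ = 1 :=
  MonoidHom.ext fun a => by simp

theorem hom_inv_mul (ν : Subgroup.zpowers C.φ →* ℂˣ) : ν⁻¹ * ν = 1 :=
  MonoidHom.ext fun a => by simp

theorem tw_inj (ν : Subgroup.zpowers C.φ →* ℂˣ) : Function.Injective (tw C ν) := fun a b h => by
  rw [← tw_one C a, ← tw_one C b, ← hom_mul_inv C ν, ← tw_mul, ← tw_mul, h]

variable {M : Ideal AlgInt} (hM : IsPModular 2 M)
include hM

theorem res_sg (s : Bool) (i : M2) : MemLocalRing M (sg s i : ℂ) ∧ res hM (sg s i : ℂ) = 1 := by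
  refine res_eq_one_of_pow hM (k := 1) ?_
  rcases M2_cases i with rfl | rfl
  · rw [sg_zero]; norm_num
  · rw [sg_one]; cases s <;> norm_num

theorem centralChar_chH (s : Bool) (η : IrrCharacter (E C)) (i : M2) (e : E C) :
    centralChar (chH C s η : H C → ℂ) (eH C (i, e)) = (sg s i : ℂ) * centralChar (η : E C → ℂ) e := by
  have h1 : (Subgroup.centralizer ({(i, e)} : Set (M2 × E C))).index =
      (Subgroup.centralizer ({e} : Set (E C))).index := by
    have : Subgroup.centralizer ({(i, e)} : Set (M2 × E C)) = (⊤ : Subgroup M2).prod (Subgroup.centralizer {e}) := by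
      ext ⟨a, b⟩
      simp [Subgroup.mem_centralizer_singleton_iff, Subgroup.mem_prod, mul_comm a i]
    rw [this, Subgroup.index_prod, Subgroup.index_top, one_mul]
  rw [centralChar, centralChar, index_centralizer_equiv (eH C), h1, chH_eH, ← map_one (eH C), ← Prod.mk_one_one,
    chH_eH, map_one, Units.val_one, mul_one]
  ring

theorem sameBlock_chH (s s' : Bool) (η η' : IrrCharacter (E C)) :
    SameBlock M (chH C s η : H C → ℂ) (chH C s' η') ↔ SameBlock M (η : E C → ℂ) η' := by
  rw [sameBlock_iff_res hM, sameBlock_iff_res hM]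
  have key : ∀ s η i e, res hM (clv (eH C (i, e)) (chH C s η)) = res hM (clv e η) := fun s η i e => by
    show res hM (centralChar (chH C s η : H C → ℂ) (eH C (i, e))) = res hM (centralChar (η : E C → ℂ) e)
    rw [centralChar_chH C hM, res_mul hM (res_sg hM s i).1
      (show MemLocalRing M (centralChar (η : E C → ℂ) e) from memRing_clv hM e η), (res_sg hM s i).2, one_mul]
  constructor
  · intro h e
    have := h (eH C (1, e))
    rwa [key, key] at this
  · intro h g
    obtain ⟨⟨i, e⟩, rfl⟩ := (eH C).surjective g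
    rw [key, key]
    exact h e

theorem sameBlock_tw (ν : Subgroup.zpowers C.φ →* ℂˣ) (η η' : IrrCharacter (E C)) (h : SameBlock M (η : E C → ℂ) η') :
    SameBlock M (tw C ν η : E C → ℂ) (tw C ν η') := by
  rw [sameBlock_iff_res hM] at h ⊢
  intro e
  have key : ∀ η, centralChar (tw C ν η : E C → ℂ) e = (ν (proj C e) : ℂ) * centralChar (η : E C → ℂ) e := fun η => by
    rw [centralChar, centralChar, tw_apply, tw_apply, map_one, map_one, Units.val_one, mul_one]
    ring
  have hν : MemLocalRing M (ν (proj C e) : ℂ) := by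
    have := memRing_irr hM (lin C ν) e
    rwa [lin_apply] at this
  show res hM (centralChar (tw C ν η : E C → ℂ) e) = res hM (centralChar (tw C ν η' : E C → ℂ) e)
  rw [key, key, res_mul hM hν (show MemLocalRing M (centralChar (η : E C → ℂ) e) from memRing_clv hM e η),
    res_mul hM hν (show MemLocalRing M (centralChar (η' : E C → ℂ) e) from memRing_clv hM e η')]
  exact congrArg _ (h e)

/-- The block of `C(t)` over `ν` times the principal block. -/
noncomputable def bH (ν : Subgroup.zpowers C.φ →* ℂˣ) : Set (IrrCharacter (H C)) :=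
  blockOf M (chH C false (lin C ν) : H C → ℂ)

omit hM in
theorem bH_isPBlock (ν : Subgroup.zpowers C.φ →* ℂˣ) : IsPBlock M (bH C (M := M) ν) := blockOf_isPBlock _

omit hM in
theorem tw_oneIrr (ν : Subgroup.zpowers C.φ →* ℂˣ) : tw C ν (oneIrr (E C)) = lin C ν :=
  Subtype.ext (funext fun e => by simp [tw_apply, lin_apply, oneIrr])

theorem mem_bH (ν : Subgroup.zpowers C.φ →* ℂˣ) (s : Bool) (η : IrrCharacter (E C)) :
    chH C s (tw C ν η) ∈ bH C (M := M) ν ↔ η ∈ principalBlock M (E C) := by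
  show SameBlock M (chH C false (lin C ν) : H C → ℂ) (chH C s (tw C ν η)) ↔
    SameBlock M ((oneIrr (E C) : IrrCharacter (E C)) : E C → ℂ) (η : E C → ℂ)
  rw [sameBlock_chH C hM, ← tw_oneIrr C ν]
  refine ⟨fun h => ?_, sameBlock_tw C hM ν _ _⟩
  have h' := sameBlock_tw C hM ν⁻¹ _ _ h
  rwa [tw_mul, tw_mul, hom_mul_inv, tw_one, tw_one] at h'

theorem sum_bH (ν : Subgroup.zpowers C.φ →* ℂˣ) (F : IrrCharacter (H C) → ℂ) :
    ∑ ψ ∈ bset (bH C (M := M) ν), F ψ =
      ∑ s : Bool, ∑ η ∈ bset (principalBlock M (E C)), F (chH C s (tw C ν η)) := by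
  rw [← Finset.sum_product']
  refine (Finset.sum_bij (fun p _ => chH C p.1 (tw C ν p.2)) ?_ ?_ ?_ fun p _ => rfl).symm
  · intro p hp
    exact mem_bset.2 ((mem_bH C hM ν p.1 p.2).2 (mem_bset.1 (Finset.mem_product.1 hp).2))
  · intro a _ b _ h
    have := chH_inj C (a₁ := (a.1, tw C ν a.2)) (a₂ := (b.1, tw C ν b.2)) h
    simp only [Prod.mk.injEq] at this
    exact Prod.ext this.1 (tw_inj C ν this.2)
  · intro ψ hψ
    obtain ⟨⟨s, η⟩, rfl⟩ := chH_surj C ψ
    have he : η = tw C ν (tw C ν⁻¹ η) := by rw [tw_mul, hom_inv_mul, tw_one]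
    refine ⟨(s, tw C ν⁻¹ η), Finset.mem_product.2 ⟨Finset.mem_univ _, mem_bset.2 ?_⟩, by simp only [← he]⟩
    rw [← mem_bH C hM ν s, ← he]
    exact mem_bset.1 hψ

theorem bH_inj (D : EData C M) (hq : 11 ≤ Fintype.card C.F) {ν ν' : Subgroup.zpowers C.φ →* ℂˣ}
    (h : bH C (M := M) ν = bH C (M := M) ν') : ν = ν' := by
  have h1 : chH C false (tw C ν' (oneIrr (E C))) ∈ bH C (M := M) ν := by
    rw [h]; exact (mem_bH C hM ν' false _).2 (oneIrr_mem hM)
  rw [show tw C ν' (oneIrr (E C)) = tw C ν (tw C (ν' * ν⁻¹) (oneIrr (E C))) by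
    rw [tw_mul, show ν' * ν⁻¹ * ν = ν' from MonoidHom.ext fun a => by simp], mem_bH C hM, tw_oneIrr] at h1
  have hdeg : (lin C (ν' * ν⁻¹) : E C → ℂ) 1 = 1 := by simp [lin_apply]
  rcases D.block _ h1 with e | e | e | e
  · refine (MonoidHom.ext fun a => mul_inv_eq_one.mp (Units.ext ?_)).symm
    obtain ⟨j, hj⟩ : ∃ j : ℕ, C.φ ^ j = (a : X) :=
      Submonoid.mem_powers_iff _ _ |>.mp ((orderOf_pos_iff.mp (C.φ_ord ▸ C.odd_f.pos)).mem_powers_iff_mem_zpowers.mpr a.2)
    have h' := congrFun (congrArg Subtype.val e) (φE C ^ j)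
    rw [lin_apply] at h'
    rw [show a = proj C (φE C ^ j) from Subtype.ext (by rw [proj_φ, hj])]
    simpa [oneIrr] using h'
  all_goals exfalso
  · rw [e, D.st_val, line_one] at hdeg
    have : Fintype.card C.F = 1 := by exact_mod_cast (by linear_combination hdeg : (Fintype.card C.F : ℂ) = 1)
    omega
  all_goals
    have h2 : (Fintype.card C.F : ℂ) = 3 := by
      have := congrFun (congrArg Subtype.val e) 1
      rw [hdeg] at this
      first
        | linear_combination -D.η_deg 0 - 2 * this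
        | linear_combination -D.η_deg 1 - 2 * this
    have : Fintype.card C.F = 3 := by exact_mod_cast h2
    omega

end CfsgLib.Walter.RB
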