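import Cfsg.Agent.Lib.Walter.Setup
import Cfsg.Agent.Lib.Walter.Quot
import Cfsg.Agent.Lib.Walter.TwoH
import Cfsg.Agent.Lib.Walter.RArith
import Cfsg.Agent.Lib.Walter.SuzukiLocal
import Cfsg.Agent.Lib.Walter.KData
import Cfsg.Agent.Lib.SLCard
import Cfsg.Agent.Lib.CharTheory.Clifford

/-!
Case (R): numerical facts and the centraliser of the `r`-part `s` of `φ`; the base characters over the two
characters of its simple section.

Blueprint: `blueprint/Walter.md`, case (R).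
-/

set_option autoImplicit false
set_option linter.unusedSectionVars false
set_option linter.style.haveILetI false

namespace CfsgLib.Walter.RB

open Cfsg CfsgLib CfsgLib.CharTheory CfsgLib.Blocks
open CfsgLib.PSL2 (fieldAut uu)
open CfsgLib.JankoThompson (M2 twoHom twoHom_zero twoHom_one M2_cases)

universe u

/-- A ratio of natural numbers with the same `r`-part is a unit. -/
theorem ratio_unit {r : ℕ} {M : Ideal AlgInt} (hM : IsPModular r M) (hr : r.Prime) {a b : ℕ} (ha : a ≠ 0)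
    (hb : b ≠ 0) (hv : a.factorization r = b.factorization r) {ε : ℤ} (hε : ε = 1 ∨ ε = -1) {x : ℂ}
    (hx : x * b = (ε : ℂ) * a) : ¬ MemLocalIdeal M x := by
  haveI := res_charP hM
  intro h
  set w := b.factorization r
  obtain ⟨a', ea, h4⟩ : ∃ a', a = r ^ w * a' ∧ ¬ r ∣ a' := ⟨a / r ^ a.factorization r,
    by rw [show w = a.factorization r from hv.symm]; exact (Nat.ordProj_mul_ordCompl_eq_self a r).symm,
    Nat.not_dvd_ordCompl hr ha⟩
  obtain ⟨b', eb⟩ : r ^ w ∣ b := Nat.ordProj_dvd _ _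
  have hne : ((r ^ w : ℕ) : ℂ) ≠ 0 := Nat.cast_ne_zero.2 (pow_ne_zero _ hr.ne_zero)
  have e : x * (b' : ℂ) = ((ε * (a' : ℤ) : ℤ) : ℂ) := by
    refine mul_left_cancel₀ hne ?_
    rw [ea, eb, Nat.cast_mul, Nat.cast_mul] at hx
    push_cast at hx ⊢
    linear_combination hx
  have hmem : MemLocalRing M x := CfsgLib.Blocks.MemLocalIdeal.memRing h
  have h0 : res hM x = 0 := (res_eq_zero_iff hM hmem).2 h
  have h2 := congrArg (res hM) e
  rw [res_mul hM hmem (memRing_natCast hM _), h0, zero_mul, res_intCast'] at h2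
  have h3 := (CharP.intCast_eq_zero_iff (AlgInt ⧸ M) r _).1 h2.symm
  refine h4 (Int.natCast_dvd_natCast.1 ?_)
  rcases hε with rfl | rfl
  · rwa [one_mul] at h3
  · rwa [neg_one_mul, Int.dvd_neg] at h3

variable {G : Type u} [Group G] [Fintype G]

theorem card_LL_two (C : Coord G) :
    2 * Nat.card (Matrix.ProjectiveSpecialLinearGroup (Fin 2) C.F) =
      Fintype.card C.F * (Fintype.card C.F ^ 2 - 1) := by
  have h := CfsgLib.SLCard.gcd_mul_card_PSL (F := C.F) (n := 2) (by norm_num)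
  have hq := C.hq
  rw [Nat.gcd_eq_left (show 2 ∣ Fintype.card C.F - 1 by omega), CfsgLib.SLCard.card_SL_two] at h
  exact h

/-- The numerical hypotheses of case (R). -/
structure RBase (C : Coord G) (r m : ℕ) : Prop where
  prime : r.Prime
  ne_three : r ≠ 3
  dvd : r ∣ orderOf C.σ
  three_not : ¬ 3 ∣ orderOf C.σ
  hq : Fintype.card C.F = 3 ^ ((2 * m + 1) * r ^ (orderOf C.σ).factorization r)
  cong : r ∣ (3 ^ (2 * m + 1)) ^ 2 - 3 ^ (2 * m + 1) + 1

theorem rbase {C : Coord G} {r m : ℕ} (h : CaseR C r m) : RBase C r m :=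
  ⟨h.prime, h.ne_three, h.dvd, h.three_not, h.hq, h.cong⟩

section RBasic

variable {C : Coord G} {r m : ℕ} (hR : RBase C r m)
include hR

theorem five_le : 5 ≤ r := by
  have h2 := hR.prime.two_le
  have hodd : Odd r := C.odd_f.of_dvd_nat hR.dvd
  have h3 := hR.ne_three
  rcases hodd with ⟨j, hj⟩
  omega

theorem one_le_k : 1 ≤ (orderOf C.σ).factorization r :=
  (hR.prime.dvd_iff_one_le_factorization C.odd_f.pos.ne').1 hR.dvd

/-- The order of `φ` modulo `s`. -/
theorem dd_pos : 0 < orderOf C.σ / r ^ (orderOf C.σ).factorization r :=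
  Nat.div_pos (Nat.ordProj_le r C.odd_f.pos.ne') (pow_pos hR.prime.pos _)

theorem f_eq : r ^ (orderOf C.σ).factorization r * (orderOf C.σ / r ^ (orderOf C.σ).factorization r) = orderOf C.σ :=
  Nat.ordProj_mul_ordCompl_eq_self _ _

theorem r_not_dd : ¬ r ∣ orderOf C.σ / r ^ (orderOf C.σ).factorization r :=
  Nat.not_dvd_ordCompl hR.prime C.odd_f.pos.ne'

theorem cop_dd : Nat.Coprime (r ^ (orderOf C.σ).factorization r) (orderOf C.σ / r ^ (orderOf C.σ).factorization r) :=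
  Nat.Coprime.pow_left _ (hR.prime.coprime_iff_not_dvd.2 (r_not_dd hR))

theorem dd_dvd : orderOf C.σ / r ^ (orderOf C.σ).factorization r ∣ 2 * m + 1 := by
  obtain ⟨p, n, hp, -, -, hcard, -, hn⟩ := odd_degree C.hq
  have h := hR.hq
  rw [hcard] at h
  have hp3 : p = 3 := (Nat.prime_dvd_prime_iff_eq hp Nat.prime_three).1 (hp.dvd_of_dvd_pow (n := _) (h ▸ dvd_pow_self p (by
    rintro rfl
    rw [pow_zero] at hcard
    have := C.hq5
    omega)))
  subst hp3
  have e := Nat.pow_right_injective (by norm_num : 2 ≤ 3) h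
  have hd : orderOf C.σ ∣ n := hn ▸ orderOf_dvd_natCard C.σ
  rw [e] at hd
  refine Nat.Coprime.dvd_of_dvd_mul_right (cop_dd hR).symm ((Nat.ordCompl_dvd _ _).trans hd)

theorem q_pow : Fintype.card C.F = (3 ^ (2 * m + 1)) ^ r ^ (orderOf C.σ).factorization r := by
  rw [hR.hq, pow_mul]

theorem qmod : (Fintype.card C.F : ZMod r) = ((3 ^ (2 * m + 1) : ℕ) : ZMod r) := by
  rw [q_pow hR, pow_r_mod hR.prime]

theorem cong_zmod : ((3 ^ (2 * m + 1) : ℕ) : ZMod r) ^ 2 - ((3 ^ (2 * m + 1) : ℕ) : ZMod r) + 1 = 0 := by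
  have h := (ZMod.natCast_eq_zero_iff _ _).2 hR.cong
  rwa [Nat.cast_add, Nat.cast_sub (Nat.le_self_pow two_ne_zero _), Nat.cast_one, Nat.cast_pow] at h

theorem three_ne : (3 : ZMod r) ≠ 0 := by
  intro h
  have h' : ((3 : ℕ) : ZMod r) = 0 := by exact_mod_cast h
  exact hR.ne_three ((Nat.prime_dvd_prime_iff_eq hR.prime Nat.prime_three).1 ((ZMod.natCast_eq_zero_iff _ _).1 h'))

/-- `q² ≢ 1` and `q ≢ 0` modulo `r`, for both `q` and `q'`. -/
theorem r_not_sq {x : ZMod r} (hx : x = ((3 ^ (2 * m + 1) : ℕ) : ZMod r)) : x ≠ 0 ∧ x ^ 2 - 1 ≠ 0 := by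
  haveI : Fact r.Prime := ⟨hR.prime⟩
  have h := cong_zmod hR
  rw [← hx] at h
  refine ⟨fun e => ?_, fun e => ?_⟩
  · rw [e] at h; norm_num at h
  · have h2 : x = 2 := by linear_combination e - h
    rw [h2] at e
    exact three_ne hR (by linear_combination e)

theorem not_dvd_card_LL : ¬ r ∣ Nat.card (Matrix.ProjectiveSpecialLinearGroup (Fin 2) C.F) := by
  haveI : Fact r.Prime := ⟨hR.prime⟩
  intro h
  have h2 : ((Fintype.card C.F * (Fintype.card C.F ^ 2 - 1) : ℕ) : ZMod r) = 0 :=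
    (ZMod.natCast_eq_zero_iff _ _).2 (card_LL_two C ▸ h.mul_left 2)
  rw [Nat.cast_mul, Nat.cast_sub (Nat.one_le_pow _ _ Fintype.card_pos), Nat.cast_pow, Nat.cast_one] at h2
  obtain ⟨h0, h1⟩ := r_not_sq hR (qmod hR)
  exact (mul_ne_zero h0 h1) h2

theorem three_zero : (3 : C.F) = 0 := by
  have h : ((Fintype.card C.F : ℕ) : C.F) = 0 := Nat.cast_card_eq_zero C.F
  rw [hR.hq, Nat.cast_pow, Nat.cast_ofNat] at h
  exact pow_eq_zero_iff (Nat.mul_ne_zero (by omega) (pow_ne_zero _ hR.prime.ne_zero)) |>.1 h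

theorem h3_card : Fintype.card C.F % 8 = 3 := by
  obtain ⟨p, n, -, hn, -, -, -, -⟩ := odd_degree C.hq
  have hR' : Odd (r ^ (orderOf C.σ).factorization r) := (C.odd_f.of_dvd_nat hR.dvd).pow
  obtain ⟨j, hj⟩ : Odd ((2 * m + 1) * r ^ (orderOf C.σ).factorization r) := (odd_two_mul_add_one m).mul hR'
  rw [hR.hq, hj, pow_succ, pow_mul, Nat.mul_mod, Nat.pow_mod]
  norm_num

/-- The fixed points of the powers of `s` in the field. -/
theorem card_fix {i : ℕ} (hi : ¬ r ∣ i) :
    Nat.card (fixField (C.σ ^ (orderOf C.σ / r ^ (orderOf C.σ).factorization r * i))) = 3 ^ (2 * m + 1) := by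
  have hk := one_le_k hR
  have hord : orderOf (C.σ ^ (orderOf C.σ / r ^ (orderOf C.σ).factorization r * i)) =
      r ^ (orderOf C.σ).factorization r := by
    rw [pow_mul, Nat.Coprime.orderOf_pow]
    · rw [orderOf_pow_orderOf_div C.odd_f.pos.ne' (Nat.ordProj_dvd _ _)]
    · rw [orderOf_pow_orderOf_div C.odd_f.pos.ne' (Nat.ordProj_dvd _ _)]
      exact Nat.Coprime.pow_left _ (hR.prime.coprime_iff_not_dvd.2 hi)
  have h := card_fixField (C.σ ^ (orderOf C.σ / r ^ (orderOf C.σ).factorization r * i))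
  rw [hord, q_pow hR] at h
  exact Nat.pow_left_injective (pow_ne_zero _ hR.prime.ne_zero) h

/-! ### The centraliser of `s` -/

theorem t_mem_Hs : C.t ∈ Suz.Hs (C.rpart r) :=
  Subgroup.mem_centralizer_singleton_iff.2 (C.t_rpart r).eq

theorem φ_mem_Hs : C.φ ∈ Suz.Hs (C.rpart r) := by
  obtain ⟨i, hi⟩ := C.rpart_mem r
  refine Subgroup.mem_centralizer_singleton_iff.2 ?_
  rw [← hi]
  exact ((Commute.refl C.φ).zpow_right i).eq

theorem hyp (B : Base G) :
    Suz.Hyp r ((orderOf C.σ).factorization r) (C.rpart r) C.t := by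
  classical
  haveI : Fact (Nat.Prime 2) := ⟨Nat.prime_two⟩
  obtain ⟨S, gA, bA, cA, Fr⟩ := exists_frame B C
  have hcomm : ∀ {x : G}, Commute x C.φ → x ∈ Suz.Hs (C.rpart r) := fun {x} hx => by
    obtain ⟨i, hi⟩ := C.rpart_mem r
    refine Subgroup.mem_centralizer_singleton_iff.2 ?_
    rw [← hi]
    exact (hx.zpow_right i).eq
  have hS : (S : Subgroup G) ≤ Suz.Hs (C.rpart r) := fun x hx => hcomm (Fr.φ_cent x hx)
  -- conjugation into `S` inside `C(s)`
  have into : ∀ S' : Sylow 2 G, (S' : Subgroup G) ≤ Suz.Hs (C.rpart r) →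
      ∃ h ∈ Suz.Hs (C.rpart r), h • S' = S := by
    intro S' hS'
    obtain ⟨h, hh⟩ := MulAction.exists_smul_eq (Suz.Hs (C.rpart r)) (S'.subtype hS') (S.subtype hS)
    refine ⟨h, h.2, ?_⟩
    rw [Sylow.smul_subtype] at hh
    exact Sylow.subtype_injective hh
  refine ⟨hR.prime, five_le hR, one_le_k hR, C.orderOf_rpart r, t_mem_Hs hR, ?_, ?_, ?_, ?_⟩
  · rw [C.t_ord]
    intro h
    have := five_le hR
    have := Nat.le_of_dvd (by norm_num) h
    omega
  · intro g hg
    have hgH : ∀ x ∈ Suz.Hs (C.rpart r), g * x * g⁻¹ ∈ Suz.Hs (C.rpart r) := by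
      intro x hx
      rw [Subgroup.mem_centralizer_singleton_iff]
      have hxs : Commute x (C.rpart r) := Subgroup.mem_centralizer_singleton_iff.1 hx
      have h1 : Commute (g * x * g⁻¹) (g * C.rpart r * g⁻¹) := hxs.map (MulAut.conj g).toMonoidHom
      obtain ⟨i, hi⟩ := hg
      have hmem : C.rpart r ∈ Subgroup.zpowers (g * C.rpart r * g⁻¹) := by
        have heq : Subgroup.zpowers (g * C.rpart r * g⁻¹) = Subgroup.zpowers (C.rpart r) :=
          Subgroup.eq_of_le_of_card_ge (Subgroup.zpowers_le.2 ⟨i, hi⟩) (by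
            rw [Nat.card_zpowers, Nat.card_zpowers, conj_orderOf])
        rw [heq]; exact Subgroup.mem_zpowers _
      obtain ⟨j, hj⟩ := hmem
      rw [← hj]
      exact (h1.zpow_right j).eq
    obtain ⟨h, hh, he⟩ := into (g • S) (by
      rw [Sylow.coe_subgroup_smul]
      rintro _ ⟨x, hx, rfl⟩
      exact hgH x (hS hx))
    rw [← mul_smul, Sylow.smul_eq_iff_mem_normalizer] at he
    have hm : h * g ∈ Suz.Hs (C.rpart r) := hcomm (Fr.norm_comm _ he)
    have := mul_mem (inv_mem hh) hm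
    rwa [inv_mul_cancel_left] at this
  · intro g hg
    have hp : IsPGroup 2 (Subgroup.zpowers (⟨g * C.t * g⁻¹, hg⟩ : Suz.Hs (C.rpart r))) :=
      IsPGroup.of_card (n := 1) (by rw [Nat.card_zpowers, Subgroup.orderOf_mk, conj_orderOf, C.t_ord, pow_one])
    obtain ⟨Q, hQ⟩ := hp.exists_le_sylow
    obtain ⟨c, hc⟩ := MulAction.exists_smul_eq (Suz.Hs (C.rpart r)) Q (S.subtype hS)
    have hy : (c : G) * (g * C.t * g⁻¹) * (c : G)⁻¹ ∈ (S : Subgroup G) := by
      have hm : c * ⟨g * C.t * g⁻¹, hg⟩ * c⁻¹ ∈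
          ((c • Q : Sylow 2 (Suz.Hs (C.rpart r))) : Subgroup (Suz.Hs (C.rpart r))) := by
        rw [Sylow.coe_subgroup_smul]
        exact ⟨_, hQ (Subgroup.mem_zpowers _), rfl⟩
      rw [hc] at hm
      exact hm
    have hne : (c : G) * (g * C.t * g⁻¹) * (c : G)⁻¹ ≠ 1 := fun e =>
      C.t_ne (conj_eq_one_iff.mp (conj_eq_one_iff.mp e))
    obtain ⟨n, hn, hnt⟩ := B.trans S hy Fr.t_mem hne C.t_ne
    refine ⟨(n * c)⁻¹, inv_mem (mul_mem (hcomm (Fr.norm_comm n hn)) c.2), ?_⟩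
    calc (n * (c : G))⁻¹ * C.t * ((n * (c : G))⁻¹)⁻¹
        = (n * (c : G))⁻¹ * (n * ((c : G) * (g * C.t * g⁻¹) * (c : G)⁻¹) * n⁻¹) * ((n * (c : G))⁻¹)⁻¹ := by
          rw [hnt]
      _ = g * C.t * g⁻¹ := by group
  · set τ' : Suz.Hs (C.rpart r) := ⟨C.t, t_mem_Hs hR⟩
    haveI : Fintype (E C) := Fintype.ofFinite _
    haveI : Fintype (H C) := Fintype.ofFinite _
    let f : Subgroup.centralizer ({τ'} : Set (Suz.Hs (C.rpart r))) →* H C :=
      { toFun := fun x => ⟨((x : Suz.Hs (C.rpart r)) : G),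
          (mem_H C).2 (congrArg Subtype.val (Subgroup.mem_centralizer_singleton_iff.1 x.2) :)⟩
        map_one' := rfl
        map_mul' := fun _ _ => rfl }
    have hf : Function.Injective f := fun a b e => Subtype.ext (Subtype.ext (congrArg Subtype.val e :))
    have hdvd := Subgroup.card_dvd_of_injective f hf
    refine le_antisymm ?_ ?_
    · refine ((Nat.factorization_le_iff_dvd Nat.card_pos.ne' Nat.card_pos.ne').2 hdvd r).trans ?_
      have hL : Nat.card (Matrix.ProjectiveSpecialLinearGroup (Fin 2) C.F) ≠ 0 := Nat.card_pos.ne'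
      rw [card_H, card_E, ← mul_assoc, Nat.factorization_mul (Nat.mul_ne_zero two_ne_zero hL) C.odd_f.pos.ne',
        Finsupp.add_apply, Nat.factorization_eq_zero_of_not_dvd (n := 2 * _) (p := r) fun h => ?_, zero_add]
      rcases hR.prime.dvd_mul.1 h with h | h
      · have := five_le hR
        have := Nat.le_of_dvd (by norm_num) h
        omega
      · exact not_dvd_card_LL hR h
    · refine (hR.prime.pow_dvd_iff_le_factorization Nat.card_pos.ne').1 ?_
      have hmem : Suz.ρ (C.rpart r) ∈ Subgroup.centralizer ({τ'} : Set (Suz.Hs (C.rpart r))) :=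
        Subgroup.mem_centralizer_singleton_iff.2 (Suz.ρ_comm τ').eq
      have := Subgroup.orderOf_dvd_natCard _ hmem
      rwa [Suz.orderOf_ρ, C.orderOf_rpart r] at this

/-- `t` in `C(s)`. -/
noncomputable abbrev τH : Suz.Hs (C.rpart r) := ⟨C.t, t_mem_Hs hR⟩

/-- `φ` in `C(s)`. -/
noncomputable abbrev φH : Suz.Hs (C.rpart r) := ⟨C.φ, φ_mem_Hs hR⟩

/-- `C(s)` modulo its core. -/
abbrev HB (C : Coord G) (r : ℕ) : Type u := ↥(Suz.Hs (C.rpart r)) ⧸ oddCore ↥(Suz.Hs (C.rpart r))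

/-- The projection to it. -/
noncomputable abbrev bar (C : Coord G) (r : ℕ) : ↥(Suz.Hs (C.rpart r)) →* HB C r := QuotientGroup.mk' _

end RBasic

section RQuot

variable {C : Coord G} {r m : ℕ} (hR : CaseR C r m)
include hR

theorem q'_big : 27 ≤ 3 ^ (2 * m + 1) :=
  (show 27 = 3 ^ 3 by norm_num) ▸ Nat.pow_le_pow_right (by norm_num) (by have := hR.one_le; omega)

theorem dd_lt : 2 * (orderOf C.σ / r ^ (orderOf C.σ).factorization r) + 1 < 3 ^ (2 * m + 1) := by
  have h := Nat.le_of_dvd (by omega) (dd_dvd (rbase hR))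
  have key : ∀ n : ℕ, 3 ≤ n → 2 * n + 1 < 3 ^ n := by
    intro n hn
    induction n, hn using Nat.le_induction with
    | base => norm_num
    | succ n hn ih => rw [pow_succ]; omega
  have := key (2 * m + 1) (by have := hR.one_le; omega)
  omega

theorem core_pow {x : Suz.Hs (C.rpart r)} (hx : bar C r x = 1) : ∃ j : ℕ, (x : G) = C.φ ^ j := by
  have h : (x : G) ∈ Subgroup.zpowers C.φ := hR.core ⟨x, (QuotientGroup.eq_one_iff x).1 hx, rfl⟩
  obtain ⟨j, hj⟩ := Submonoid.mem_powers_iff _ _ |>.mp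
    ((orderOf_pos_iff.mp (C.φ_ord ▸ C.odd_f.pos)).mem_powers_iff_mem_zpowers.mpr h)
  exact ⟨j, hj.symm⟩

theorem zs_le_core : Suz.Zs (C.rpart r) ≤ oddCore ↥(Suz.Hs (C.rpart r)) := by
  refine CfsgLib.le_oddCore ?_
  rw [Nat.card_zpowers, Suz.orderOf_ρ, C.orderOf_rpart]
  exact (C.odd_f.of_dvd_nat hR.dvd).pow

theorem bar_ρ : bar C r (Suz.ρ (C.rpart r)) = 1 :=
  (QuotientGroup.eq_one_iff _).2 (zs_le_core hR (Subgroup.mem_zpowers _))

theorem bar_φ_dd : bar C r (φH (rbase hR)) ^ (orderOf C.σ / r ^ (orderOf C.σ).factorization r) = 1 := by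
  rw [← map_pow, ← bar_ρ hR]
  rfl

theorem v_core : (Nat.card (oddCore ↥(Suz.Hs (C.rpart r)))).factorization r = (orderOf C.σ).factorization r := by
  refine le_antisymm ?_ ?_
  · refine ((Nat.factorization_le_iff_dvd Nat.card_pos.ne' C.odd_f.pos.ne').2 ?_ r)
    rw [← C.φ_ord, ← Nat.card_zpowers C.φ, ← Subgroup.card_map_of_injective (Suz.Hs (C.rpart r)).subtype_injective]
    exact Subgroup.card_dvd_of_le hR.core
  · refine (hR.prime.pow_dvd_iff_le_factorization Nat.card_pos.ne').1 ?_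
    have := Subgroup.card_dvd_of_le (zs_le_core hR)
    rwa [Nat.card_zpowers, Suz.orderOf_ρ, C.orderOf_rpart] at this

/-- The simple normal subgroup of `C(s)` modulo the core. -/
structure KS (K : Subgroup (HB C r)) : Prop where
  normal : K.Normal
  odd : Odd K.index
  idx : K.index ∣ orderOf C.σ / r ^ (orderOf C.σ).factorization r
  tmem : bar C r (τH (rbase hR)) ∈ K
  conjt : ∀ g : HB C r, ∃ c ∈ K, g * bar C r (τH (rbase hR)) * g⁻¹ = c * bar C r (τH (rbase hR)) * c⁻¹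
  cyc : ∀ g : HB C r, ∃ j : ℕ, g * ((bar C r (φH (rbase hR))) ^ j)⁻¹ ∈ K
  dvd : ∀ j : ℕ, bar C r (φH (rbase hR)) ^ j ∈ K → orderOf C.σ / r ^ (orderOf C.σ).factorization r ∣ j
  vK : (Nat.card K).factorization r = ((3 ^ (2 * m + 1)) ^ 2 - 3 ^ (2 * m + 1) + 1).factorization r
  chars : ∀ [Fintype K] (T : ℕ), T = 1 ∨ T = 3 ^ (2 * m + 1) → ∃ z : IrrCharacter K,
    (z : K → ℂ) 1 = ((T * ((3 ^ (2 * m + 1)) ^ 2 - 3 ^ (2 * m + 1) + 1) : ℕ) : ℂ) ∧
      ∃ ε : ℤ, (ε = 1 ∨ ε = -1) ∧ (z : K → ℂ) ⟨_, tmem⟩ = (ε : ℂ) * T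

theorem exists_KS : ∃ K : Subgroup (HB C r), KS hR K := by
  classical
  obtain ⟨K, hKn, hKs, -, hodd, hE8, hsup, tK, htK, F', iF, iFF, hF', ⟨e⟩⟩ := hR.quot (t_mem_Hs (rbase hR)) (φ_mem_Hs (rbase hR))
  letI := iF
  letI := iFF
  haveI := hKn
  haveI := hKs
  letI : Fintype K := Fintype.ofFinite _
  have hbt : bar C r (τH (rbase hR)) = (tK : HB C r) := htK.symm
  have htm : bar C r (τH (rbase hR)) ∈ K := hbt ▸ tK.2
  have htφ : Commute (bar C r (τH (rbase hR))) (bar C r (φH (rbase hR))) :=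
    (show Commute (τH (rbase hR)) (φH (rbase hR)) from Subtype.ext C.t_φ.eq).map (bar C r)
  have hfo : IsOfFinOrder (bar C r (φH (rbase hR))) := isOfFinOrder_of_finite _
  have hcyc : ∀ g : HB C r, ∃ j : ℕ, g * ((bar C r (φH (rbase hR))) ^ j)⁻¹ ∈ K := by
    intro g
    obtain ⟨a, ha, b, hb, rfl⟩ : ∃ a ∈ K, ∃ b ∈ Subgroup.zpowers (bar C r (φH (rbase hR))), a * b = g :=
      Subgroup.mem_sup_of_normal_left.1 (by
        rw [show K ⊔ Subgroup.zpowers (bar C r (φH (rbase hR))) = ⊤ from hsup]; trivial)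
    obtain ⟨j, rfl⟩ := Submonoid.mem_powers_iff _ _ |>.mp (hfo.mem_powers_iff_mem_zpowers.mpr hb)
    exact ⟨j, by rwa [mul_inv_cancel_right]⟩
  have ht2 : orderOf tK = 2 := by
    refine orderOf_eq_prime ?_ fun h => ?_
    · refine Subtype.ext ?_
      rw [Subgroup.coe_pow, ← hbt, ← map_pow, show τH (rbase hR) ^ 2 = 1 from Subtype.ext (by
        show C.t ^ 2 = 1; rw [pow_two, C.tt]), map_one, Subgroup.coe_one]
    · rw [h, Subgroup.coe_one] at hbt
      obtain ⟨j, hj⟩ := core_pow hR hbt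
      have h1 : C.t ^ ((1 : Fin 2) : ℕ) * C.ι 1 * C.φ ^ (j * (orderOf C.σ - 1)) = 1 := by
        rw [Fin.val_one, pow_one, map_one, mul_one, ← φ_pow_inv, show C.t = C.φ ^ j from hj]
        group
      exact absurd (C.unique h1).1 (by decide)
  obtain ⟨hcard, z, v, hz, hv⟩ := ree_chars (G := K) (fun P a b => Subtype.ext ((hE8 P).comm a.2 b.2)) hR.one_le hF' ht2 e
  rw [hF'] at hcard hz hv
  set q' := 3 ^ (2 * m + 1) with hq'
  have hWle : q' ≤ q' ^ 2 := Nat.le_self_pow two_ne_zero _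
  have hq1 : 1 ≤ q' := Nat.one_le_pow _ _ (by norm_num)
  have hcardN : Nat.card K = q' ^ 3 * ((q' + 1) * (q' ^ 2 - q' + 1)) * (q' - 1) := by
    apply Int.natCast_inj.mp
    rw [hcard]
    push_cast [Nat.cast_sub hWle, Nat.cast_sub hq1]
    ring
  have hidx : K.index ∣ orderOf C.σ / r ^ (orderOf C.σ).factorization r := by
    rw [Subgroup.index_eq_card]
    have hgen : ∀ x : HB C r ⧸ K, x ∈ Subgroup.zpowers (QuotientGroup.mk' K (bar C r (φH (rbase hR)))) := by
      intro x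
      obtain ⟨g, rfl⟩ := QuotientGroup.mk'_surjective K x
      obtain ⟨j, hj⟩ := hcyc g
      refine ⟨j, ?_⟩
      show (QuotientGroup.mk' K (bar C r (φH (rbase hR)))) ^ (j : ℤ) = _
      rw [zpow_natCast, ← map_pow, QuotientGroup.mk'_eq_mk']
      refine ⟨_, hKn.conj_mem' _ hj ((bar C r (φH (rbase hR))) ^ j), ?_⟩
      group
    rw [← orderOf_eq_card_of_forall_mem_zpowers hgen]
    exact orderOf_dvd_of_pow_eq_one (by rw [← map_pow, bar_φ_dd hR, map_one])
  refine ⟨K, hKn, hodd, hidx, htm, ?_, hcyc, ?_, ?_, ?_⟩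
  · intro g
    obtain ⟨j, hj⟩ := hcyc g
    refine ⟨_, hj, ?_⟩
    have hc : bar C r (φH (rbase hR)) ^ j * bar C r (τH (rbase hR)) * (bar C r (φH (rbase hR)) ^ j)⁻¹ = bar C r (τH (rbase hR)) :=
      mul_inv_eq_iff_eq_mul.2 (htφ.pow_right j).eq.symm
    conv_rhs => rw [← hc]
    group
  · -- `φ` has full order modulo `K`
    intro j hj
    set dd := orderOf C.σ / r ^ (orderOf C.σ).factorization r with hdd
    set F₁ := fixField (C.σ ^ dd) with hF₁
    haveI : Fintype F₁ := Fintype.ofFinite _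
    have hF₁c : Fintype.card F₁ = q' := by
      rw [← Nat.card_eq_fintype_card]
      have h := card_fix (rbase hR) (i := 1) (Nat.dvd_one.not.2 hR.prime.ne_one)
      rwa [mul_one] at h
    set sm := subMap (F₁).subtype with hsm
    have hfix : ∀ x, fieldAut (C.σ ^ dd) (sm x) = sm x := fun x =>
      fieldAut_subMap _ _ (fun a => mem_fixField.1 a.2) x
    have hmem : ∀ x, C.ι (sm x) ∈ Suz.Hs (C.rpart r) := fun x => by
      rw [Subgroup.mem_centralizer_singleton_iff]
      exact (mul_inv_eq_iff_eq_mul.1 ((C.conj_pow dd (sm x)).trans (by rw [hfix]))).symm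
    let ℓ : Matrix.ProjectiveSpecialLinearGroup (Fin 2) F₁ →* HB C r :=
      (bar C r).comp ((C.ι.comp sm).codRestrict _ hmem)
    have hℓ : ∀ x, ℓ x = bar C r ⟨C.ι (sm x), hmem x⟩ := fun x => rfl
    -- the image lies in `K`
    have hLK : ∀ x, ℓ x ∈ K := by
      haveI : IsSimpleGroup (Matrix.ProjectiveSpecialLinearGroup (Fin 2) F₁) :=
        Matrix.ProjectiveSpecialLinearGroup.rank_two_simple (by
          rw [Nat.card_eq_fintype_card, hF₁c]; have := q'_big hR; omega)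
      have hab : ∀ a b : HB C r ⧸ K, a * b = b * a := by
        intro a b
        obtain ⟨a, rfl⟩ := QuotientGroup.mk'_surjective K a
        obtain ⟨b, rfl⟩ := QuotientGroup.mk'_surjective K b
        obtain ⟨i, hi⟩ := hcyc a
        obtain ⟨l, hl⟩ := hcyc b
        have e : ∀ {g : HB C r} {i : ℕ}, g * (bar C r (φH (rbase hR)) ^ i)⁻¹ ∈ K →
            QuotientGroup.mk' K g = QuotientGroup.mk' K (bar C r (φH (rbase hR))) ^ i := fun {g i} h => by
          have h1 := (QuotientGroup.eq_one_iff _).2 h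
          rw [← QuotientGroup.mk'_apply, map_mul, map_inv, map_pow, mul_inv_eq_one] at h1
          exact h1
        rw [e hi, e hl, ← pow_add, ← pow_add, add_comm]
      intro x
      rcases ((QuotientGroup.mk' K).comp ℓ).normal_ker.eq_bot_or_eq_top with h | h
      · exfalso
        have hinj := (MonoidHom.ker_eq_bot_iff _).1 h
        have hcomm : ∀ a b : Matrix.ProjectiveSpecialLinearGroup (Fin 2) F₁, a * b = b * a :=
          fun a b => hinj (by rw [map_mul, map_mul]; exact hab _ _)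
        letI : CommGroup (Matrix.ProjectiveSpecialLinearGroup (Fin 2) F₁) :=
          { (inferInstance : Group (Matrix.ProjectiveSpecialLinearGroup (Fin 2) F₁)) with mul_comm := hcomm }
        have hp := (IsSimpleGroup.prime_card (α := Matrix.ProjectiveSpecialLinearGroup (Fin 2) F₁))
        have hc2 := CfsgLib.SLCard.gcd_mul_card_PSL (F := F₁) (n := 2) (by norm_num)
        have hinj' : Function.Injective (uu : F₁ → Matrix.ProjectiveSpecialLinearGroup (Fin 2) F₁) :=
          PSL2.uu_injective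
        have hd : Nat.card (Multiplicative F₁) ∣ Nat.card (Matrix.ProjectiveSpecialLinearGroup (Fin 2) F₁) :=
          Subgroup.card_dvd_of_injective PSL2.uHom hinj'
        rw [show Nat.card (Multiplicative F₁) = q' by rw [Nat.card_congr Multiplicative.toAdd, Nat.card_eq_fintype_card, hF₁c]] at hd
        rcases (Nat.dvd_prime hp).1 hd with e | e
        · have := q'_big hR
          omega
        · rw [← e, hq'] at hp
          have h1 := hp.eq_one_of_pow
          have := hR.one_le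
          omega
      · have hx : x ∈ ((QuotientGroup.mk' K).comp ℓ).ker := h ▸ Subgroup.mem_top x
        exact (QuotientGroup.eq_one_iff _).1 hx
    have hcomt : ∀ x, Commute (bar C r (τH (rbase hR))) (ℓ x) := fun x =>
      (show Commute (τH (rbase hR)) ⟨C.ι (sm x), hmem x⟩ from Subtype.ext (C.t_ι _).eq).map (bar C r)
    let tl : M2 →* HB C r := twoHom (bar C r (τH (rbase hR))) (by
      rw [← map_mul, show τH (rbase hR) * τH (rbase hR) = 1 from Subtype.ext C.tt, map_one])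
    let ψ : M2 × Matrix.ProjectiveSpecialLinearGroup (Fin 2) F₁ →* HB C r :=
      MonoidHom.noncommCoprod tl ℓ fun i x => by
        rcases M2_cases i with rfl | rfl
        · simp [tl]
        · simpa [tl] using hcomt x
    have hψ : ∀ i x, ψ (i, x) = tl i * ℓ x := fun i x => MonoidHom.noncommCoprod_apply _ _ _ _
    have hψK : ∀ p, ψ p ∈ K := by
      rintro ⟨i, x⟩
      rw [hψ]
      refine mul_mem ?_ (hLK x)
      rcases M2_cases i with rfl | rfl <;> simp only [tl]
      · rw [twoHom_zero]; exact one_mem _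
      · rw [twoHom_one]; exact htm
    have hψc : ∀ p, Commute (ψ p) (bar C r (τH (rbase hR))) := by
      rintro ⟨i, x⟩
      rw [hψ]
      refine Commute.mul_left ?_ (hcomt x).symm
      rcases M2_cases i with rfl | rfl <;> simp [tl]
    let Ψ : M2 × Matrix.ProjectiveSpecialLinearGroup (Fin 2) F₁ →* Subgroup.centralizer ({tK} : Set K) :=
      (ψ.codRestrict K hψK).codRestrict _ fun p => Subgroup.mem_centralizer_singleton_iff.2 (Subtype.ext (by
        rw [Subgroup.coe_mul, Subgroup.coe_mul, ← hbt]; exact (hψc p).eq))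
    have key : ∀ (i : Fin 2) (x : Matrix.ProjectiveSpecialLinearGroup (Fin 2) C.F) (l : ℕ),
        C.t ^ (i : ℕ) * C.ι x = C.φ ^ l → i = 0 ∧ x = 1 := by
      intro i x l h
      have h1 : C.t ^ (i : ℕ) * C.ι x * C.φ ^ (l * (orderOf C.σ - 1)) = 1 := by
        rw [h, ← φ_pow_inv, mul_inv_cancel]
      obtain ⟨h2, h3, -⟩ := C.unique h1
      exact ⟨h2, h3⟩
    have hform : ∀ p : M2 × Matrix.ProjectiveSpecialLinearGroup (Fin 2) F₁, ∃ (i : Fin 2),
        ∃ hm : C.t ^ (i : ℕ) * C.ι (sm p.2) ∈ Suz.Hs (C.rpart r),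
          ψ p = bar C r ⟨_, hm⟩ ∧ (i = 0 → p.1 = 1) := by
      rintro ⟨a, x⟩
      rcases M2_cases a with rfl | rfl
      · refine ⟨0, by simpa using hmem x, ?_, fun _ => rfl⟩
        rw [hψ]
        simp [tl, hℓ]
      · refine ⟨1, mul_mem (pow_mem (t_mem_Hs (rbase hR)) _) (hmem x), ?_, fun h => absurd h (by decide)⟩
        rw [hψ, show tl (Multiplicative.ofAdd 1) = bar C r (τH (rbase hR)) from twoHom_one _ _, hℓ, ← map_mul]
        congr 1
        exact Subtype.ext (by simp)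
    have hinj : Function.Injective Ψ := by
      refine (injective_iff_map_eq_one Ψ).2 fun p hp => ?_
      have hp' : ψ p = 1 := congrArg (fun z : Subgroup.centralizer ({tK} : Set K) => ((z : K) : HB C r)) hp
      obtain ⟨i, hm, he, hi⟩ := hform p
      rw [he] at hp'
      obtain ⟨l, hl⟩ := core_pow hR hp'
      obtain ⟨h1, h2⟩ := key i _ l hl
      exact Prod.ext (hi h1) (subMap_injective _ (h2.trans (map_one sm).symm))
    have hcard2 : Nat.card (M2 × Matrix.ProjectiveSpecialLinearGroup (Fin 2) F₁) =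
        Nat.card (Subgroup.centralizer ({tK} : Set K)) := by
      rw [Nat.card_congr e.toEquiv, Nat.card_prod, Nat.card_prod]
      congr 1
      have h1 := CfsgLib.SLCard.gcd_mul_card_PSL (F := F₁) (n := 2) (by norm_num)
      have h2 := CfsgLib.SLCard.gcd_mul_card_PSL (F := F') (n := 2) (by norm_num)
      rw [CfsgLib.SLCard.card_SL_two, hF₁c] at h1
      rw [CfsgLib.SLCard.card_SL_two, hF'] at h2
      refine mul_left_cancel₀ (Nat.gcd_pos_of_pos_left _ two_pos).ne' (h1.trans h2.symm)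
    have hbij := (Nat.bijective_iff_injective_and_card Ψ).2 ⟨hinj, hcard2⟩
    obtain ⟨p, hp⟩ := hbij.2 ⟨⟨_, hj⟩, Subgroup.mem_centralizer_singleton_iff.2 (Subtype.ext (by
      rw [Subgroup.coe_mul, Subgroup.coe_mul, ← hbt]; exact (htφ.pow_right j).eq.symm))⟩
    have hp' : ψ p = bar C r (φH (rbase hR)) ^ j :=
      congrArg (fun z : Subgroup.centralizer ({tK} : Set K) => ((z : K) : HB C r)) hp
    obtain ⟨i, hm, he, hi⟩ := hform p
    rw [he, ← map_pow, ← mul_inv_eq_one, ← map_inv, ← map_mul] at hp'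
    obtain ⟨l, hl⟩ := core_pow hR hp'
    have hl' : C.t ^ (i : ℕ) * C.ι (sm p.2) = C.φ ^ (l + j) := by
      rw [pow_add, ← mul_inv_eq_iff_eq_mul]; simpa using hl
    obtain ⟨h1, h2⟩ := key i _ _ hl'
    have hjO : bar C r (φH (rbase hR)) ^ j = 1 := by
      have : bar C r ⟨C.t ^ (i : ℕ) * C.ι (sm p.2), hm⟩ = 1 := by
        rw [show (⟨C.t ^ (i : ℕ) * C.ι (sm p.2), hm⟩ : Suz.Hs (C.rpart r)) = 1 from Subtype.ext (by
          show C.t ^ (i : ℕ) * C.ι (sm p.2) = 1
          rw [h2, h1]; simp), map_one]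
      rw [map_mul, this, one_mul, map_inv, inv_eq_one, map_pow] at hp'
      exact hp'
    -- so `σ ^ j` fixes the subfield
    have hjfix : ∀ a : F₁, (C.σ ^ j : RingAut C.F) (a : C.F) = (a : C.F) := by
      intro a
      set x := sm (uu a) with hx
      have hc : bar C r (⟨C.ι x, hmem _⟩ * φH (rbase hR) ^ j * ⟨C.ι x, hmem _⟩⁻¹ * (φH (rbase hR) ^ j)⁻¹) = 1 := by
        simp only [map_mul, map_inv, map_pow, hjO]; group
      obtain ⟨l, hl⟩ := core_pow hR hc
      simp only [Subgroup.coe_mul, Subgroup.coe_inv, Subgroup.coe_pow] at hl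
      rw [show C.ι x * C.φ ^ j * (C.ι x)⁻¹ * (C.φ ^ j)⁻¹ = C.ι x * (C.φ ^ j * C.ι x⁻¹ * (C.φ ^ j)⁻¹) by
        rw [map_inv]; group, C.conj_pow, ← map_mul] at hl
      obtain ⟨-, h3⟩ := key 0 (x * (fieldAut (C.σ ^ j) x)⁻¹) l (by simpa using hl)
      rw [mul_inv_eq_one] at h3
      have hxu : x = uu (a : C.F) := by
        rw [hx, PSL2.uu_eq, PSL2.uu_eq, hsm, subMap_mk]
        refine congrArg _ (Subtype.ext (Matrix.ext fun i l => ?_))
        fin_cases i <;> fin_cases l <;> simp [PSL2.coe_uSL]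
      rw [hxu, PSL2.fieldAut_uu] at h3
      exact (PSL2.uu_injective h3).symm
    set gg := Nat.gcd j dd
    have hgdvd : gg ∣ orderOf C.σ := (Nat.gcd_dvd_right _ _).trans (Nat.ordCompl_dvd _ _)
    have hgfix : ∀ a : F₁, (C.σ ^ gg : RingAut C.F) (a : C.F) = (a : C.F) := by
      intro a
      have h1 : C.σ ^ j ∈ MulAction.stabilizer (RingAut C.F) (a : C.F) := hjfix a
      have h2 : C.σ ^ dd ∈ MulAction.stabilizer (RingAut C.F) (a : C.F) := mem_fixField.1 a.2
      have h3 := mul_mem (zpow_mem h1 (Nat.gcdA j dd)) (zpow_mem h2 (Nat.gcdB j dd))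
      rw [← zpow_natCast, ← zpow_natCast, ← zpow_mul, ← zpow_mul, ← zpow_add, ← Nat.gcd_eq_gcd_ab,
        zpow_natCast] at h3
      exact h3
    have hle : q' ≤ Nat.card (fixField (C.σ ^ gg)) := by
      rw [← hF₁c, ← Nat.card_eq_fintype_card]
      exact Nat.card_le_card_of_injective (fun a : F₁ => (⟨a, mem_fixField.2 (hgfix a)⟩ : fixField (C.σ ^ gg)))
        fun a b h => Subtype.ext (congrArg Subtype.val h :)
    have hg0 : 0 < gg := Nat.gcd_pos_of_pos_right _ (dd_pos (rbase hR))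
    have hord : orderOf (C.σ ^ gg) = orderOf C.σ / gg := by
      rw [orderOf_pow' _ hg0.ne', Nat.gcd_eq_right hgdvd]
    have hle2 := Nat.pow_le_pow_left hle (orderOf (C.σ ^ gg))
    rw [card_fixField, q_pow (rbase hR), hord] at hle2
    have hle3 := (Nat.pow_le_pow_iff_right (by have := q'_big hR; omega)).1 hle2
    obtain ⟨w, hw⟩ := hgdvd
    rw [hw, Nat.mul_div_cancel_left _ hg0] at hle3
    have hfe := f_eq (rbase hR)
    have hge : dd ≤ gg := by
      refine Nat.le_of_mul_le_mul_left ?_ (pow_pos hR.prime.pos ((orderOf C.σ).factorization r))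
      rw [hdd, hfe, hw, mul_comm (r ^ _) gg]
      exact Nat.mul_le_mul_left _ hle3
    have hgle : gg ≤ dd := Nat.le_of_dvd (dd_pos (rbase hR)) (Nat.gcd_dvd_right _ _)
    rw [show dd = gg from le_antisymm hge hgle]
    exact Nat.gcd_dvd_left _ _
  · rw [hcardN]
    have hz : ∀ x : ℕ, (x : ZMod r) ≠ 0 → x.factorization r = 0 := fun x hx =>
      Nat.factorization_eq_zero_of_not_dvd fun h => hx ((ZMod.natCast_eq_zero_iff _ _).2 h)
    haveI : Fact r.Prime := ⟨hR.prime⟩
    obtain ⟨h0, h1⟩ := r_not_sq (rbase hR) (rfl : ((q' : ℕ) : ZMod r) = _)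
    have hp1 : ((q' + 1 : ℕ) : ZMod r) ≠ 0 := fun e => h1 (by
      push_cast at e; linear_combination ((q' : ZMod r) - 1) * e)
    have hm1 : ((q' - 1 : ℕ) : ZMod r) ≠ 0 := fun e => h1 (by
      rw [Nat.cast_sub hq1, Nat.cast_one] at e; linear_combination ((q' : ZMod r) + 1) * e)
    have hnW : q' ^ 2 - q' + 1 ≠ 0 := Nat.succ_ne_zero _
    have hn1 : q' - 1 ≠ 0 := by have := q'_big hR; omega
    have hn0 : q' ≠ 0 := by omega
    rw [Nat.factorization_mul (mul_ne_zero (pow_ne_zero 3 hn0) (mul_ne_zero (Nat.succ_ne_zero _) hnW)) hn1,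
      Nat.factorization_mul (pow_ne_zero 3 hn0) (mul_ne_zero (Nat.succ_ne_zero _) hnW),
      Nat.factorization_mul (Nat.succ_ne_zero _) hnW, Nat.factorization_pow]
    simp [hz _ h0, hz _ hp1, hz _ hm1, ← hq']
  · intro iK T hT
    have hz' : ∀ χ : IrrCharacter K, (χ : K → ℂ) ⟨_, htm⟩ = (χ : K → ℂ) tK := fun χ =>
      congrArg _ (Subtype.ext hbt)
    rcases hT with rfl | rfl
    · refine ⟨z, ?_, ?_⟩
      · rw [hz.1, one_mul, ← hq']; push_cast [Nat.cast_sub hWle]; ring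
      · rcases hz.2 with h | h
        · exact ⟨1, Or.inl rfl, by rw [hz', h]; simp [q']⟩
        · exact ⟨-1, Or.inr rfl, by rw [hz', h]; simp [q']⟩
    · refine ⟨v, ?_, ?_⟩
      · rw [hv.1, ← hq']; push_cast [Nat.cast_sub hWle]; ring
      · rcases hv.2 with h | h
        · exact ⟨1, Or.inl rfl, by rw [hz', h]; simp [q']⟩
        · exact ⟨-1, Or.inr rfl, by rw [hz', h]; simp [q']⟩

theorem isBase_pull {M : Ideal AlgInt} {B : Base G} [Fintype (Suz.Hs (C.rpart r))] {θ : IrrCharacter (Suz.Hs (C.rpart r))}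
    {f : HB C r → ℂ} (hθ : ∀ g, (θ : Suz.Hs (C.rpart r) → ℂ) g = f (bar C r g))
    (hu : Suz.IsUnitAt M (hyp (rbase hR) B) θ) : Suz.IsBase M (hyp (rbase hR) B) θ := by
  refine ⟨hu, fun x hx => ?_⟩
  rw [hθ, hθ]
  exact congrArg f (((QuotientGroup.eq_one_iff x).2 (zs_le_core hR hx)).trans (map_one (bar C r)).symm)

/-- The base characters of degree `n T (q'² - q' + 1)` and value `± n T` at `t`. -/
theorem exists_theta {M : Ideal AlgInt} (hM : IsPModular r M) (B : Base G) [Fintype (Suz.Hs (C.rpart r))] {T : ℕ}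
    (hT : T = 1 ∨ T = 3 ^ (2 * m + 1)) :
    ∃ (θ : IrrCharacter (Suz.Hs (C.rpart r))) (n : ℕ), Suz.IsBase M (hyp (rbase hR) B) θ ∧ Odd n ∧
      n ≤ orderOf C.σ / r ^ (orderOf C.σ).factorization r ∧
      (θ : Suz.Hs (C.rpart r) → ℂ) 1 = ((n * (T * ((3 ^ (2 * m + 1)) ^ 2 - 3 ^ (2 * m + 1) + 1)) : ℕ) : ℂ) ∧
      ∃ ε : ℤ, (ε = 1 ∨ ε = -1) ∧ (θ : Suz.Hs (C.rpart r) → ℂ) (τH (rbase hR)) = (ε : ℂ) * ((n * T : ℕ) : ℂ) := by
  classical
  obtain ⟨K, hK⟩ := exists_KS hR
  haveI := hK.normal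
  letI : Fintype K := Fintype.ofFinite _
  letI : Fintype (HB C r) := Fintype.ofFinite _
  obtain ⟨z, hz1, ε, hε, hzt⟩ := hK.chars T hT
  set W := (3 ^ (2 * m + 1)) ^ 2 - 3 ^ (2 * m + 1) + 1 with hW
  have hT0 : 0 < T := by rcases hT with rfl | rfl <;> positivity
  have hTW : 0 < T * W := Nat.mul_pos hT0 (Nat.succ_pos _)
  set ι₀ := indFun K (z : K → ℂ)
  choose c hc using fun θ : IrrCharacter (HB C r) =>
    classInner_char_nat (isCharacter_indFun K (isCharacter_of_irr z.2)) (isCharacter_of_irr θ.2)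
  have hres : ∀ θ : IrrCharacter (HB C r), classInner (fun k : K => (θ : HB C r → ℂ) k) (z : K → ℂ) = (c θ : ℂ) := by
    intro θ
    have h := hc θ
    rw [frobenius_reciprocity K _ (irr_isClassFun θ)] at h
    rw [← classInner_comm, h, map_natCast]
  have hval : ∀ θ : IrrCharacter (HB C r), c θ ≠ 0 → ∃ n : ℕ,
      (θ : HB C r → ℂ) 1 = ((n * (T * W) : ℕ) : ℂ) ∧
        (θ : HB C r → ℂ) (bar C r (τH (rbase hR))) = (ε : ℂ) * ((n * T : ℕ) : ℂ) := by
    intro θ hθ
    have hne : classInner (fun k : K => (θ : HB C r → ℂ) k) (z : K → ℂ) ≠ 0 := by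
      rw [hres]; exact Nat.cast_ne_zero.2 hθ
    have hcl := clifford K θ.2 z.2 hne
    refine ⟨c θ * (conjOrbit K (z : K → ℂ)).card, ?_, ?_⟩
    · have h1 := congrFun hcl 1
      simp only [Pi.smul_apply, Finset.sum_apply, smul_eq_mul, hres, Subgroup.coe_one] at h1
      rw [h1, Finset.sum_congr rfl fun ψ hψ => show ψ 1 = ((T * W : ℕ) : ℂ) by
        obtain ⟨g, rfl⟩ := (mem_conjOrbit K).1 hψ
        rw [conjNormFun_apply_one]; exact hz1, Finset.sum_const, nsmul_eq_mul]
      push_cast; ring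
    · have h1 := congrFun hcl ⟨_, hK.tmem⟩
      simp only [Pi.smul_apply, Finset.sum_apply, smul_eq_mul, hres] at h1
      rw [h1, Finset.sum_congr rfl fun ψ hψ => show ψ ⟨_, hK.tmem⟩ = (ε : ℂ) * (T : ℂ) by
        obtain ⟨g, rfl⟩ := (mem_conjOrbit K).1 hψ
        obtain ⟨d, hd, hde⟩ := hK.conjt g
        rw [← hzt]
        show (z : K → ℂ) ⟨g * _ * g⁻¹, _⟩ = _
        rw [show (⟨g * bar C r (τH (rbase hR)) * g⁻¹, hK.normal.conj_mem _ hK.tmem g⟩ : K) =
          ⟨d, hd⟩ * ⟨_, hK.tmem⟩ * ⟨d, hd⟩⁻¹ from Subtype.ext hde, irr_isClassFun z], Finset.sum_const,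
        nsmul_eq_mul]
      push_cast; ring
  choose! N hN1 hNt using hval
  have hsum : ∑ θ : IrrCharacter (HB C r), c θ * N θ = K.index := by
    have h1 := congrFun (eq_sum_irr (indFun_isClassFunction K (z : K → ℂ))) 1
    simp only [Finset.sum_apply, Pi.smul_apply, smul_eq_mul, indFun_apply_one, hc, hz1] at h1
    have h2 : ∑ θ : IrrCharacter (HB C r), c θ * (N θ * (T * W)) = K.index * (T * W) := by
      apply Nat.cast_injective (R := ℂ)
      push_cast
      refine Eq.trans (Finset.sum_congr rfl fun θ _ => ?_) (by exact_mod_cast h1.symm)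
      by_cases hθ : c θ = 0
      · simp [hθ]
      · rw [hN1 θ hθ]; push_cast; ring
    exact Nat.eq_of_mul_eq_mul_right hTW (by rw [← h2, Finset.sum_mul]; exact Finset.sum_congr rfl fun θ _ => by ring)
  obtain ⟨θ, -, hodd⟩ : ∃ θ ∈ Finset.univ, ¬ Even (c θ * N θ) := by
    by_contra hno
    push Not at hno
    exact Nat.not_even_iff_odd.2 hK.odd (hsum ▸ Finset.even_sum _ fun θ hθ => hno θ hθ)
  rw [Nat.not_even_iff_odd, Nat.odd_mul] at hodd
  have hθ0 : c θ ≠ 0 := fun e => by simp [e] at hodd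
  have hle : N θ ≤ K.index :=
    le_trans (Nat.le_mul_of_pos_left _ (Nat.pos_of_ne_zero hθ0))
      (hsum ▸ Finset.single_le_sum (f := fun θ => c θ * N θ) (fun _ _ => Nat.zero_le _) (Finset.mem_univ θ))
  have hNd : N θ ≤ orderOf C.σ / r ^ (orderOf C.σ).factorization r :=
    hle.trans (Nat.le_of_dvd (dd_pos (rbase hR)) hK.idx)
  let θ' : IrrCharacter (Suz.Hs (C.rpart r)) :=
    ⟨_, isIrrCharacter_comp_surjective θ.2 (bar C r) (QuotientGroup.mk'_surjective _)⟩
  have h1' : (θ' : Suz.Hs (C.rpart r) → ℂ) 1 = ((N θ * (T * W) : ℕ) : ℂ) := by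
    show (θ : HB C r → ℂ) (bar C r 1) = _
    rw [map_one]; exact hN1 θ hθ0
  have ht' : (θ' : Suz.Hs (C.rpart r) → ℂ) (τH (rbase hR)) = (ε : ℂ) * ((N θ * T : ℕ) : ℂ) := hNt θ hθ0
  refine ⟨θ', N θ, isBase_pull hR (B := B) (fun g => rfl) ?_, hodd.2, hNd, h1', ε, hε, ht'⟩
  -- the central character at `t` is a unit
  set ind := (Subgroup.centralizer ({τH (rbase hR)} : Set (Suz.Hs (C.rpart r)))).index
  refine ratio_unit hM hR.prime (a := ind) (b := W) Subgroup.index_ne_zero_of_finite (Nat.succ_ne_zero _) ?_ hε ?_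
  · have h2 := congrArg (fun x => x.factorization r)
      (Subgroup.card_mul_index (Subgroup.centralizer ({τH (rbase hR)} : Set (Suz.Hs (C.rpart r)))))
    simp only [Nat.factorization_mul Nat.card_pos.ne' Subgroup.index_ne_zero_of_finite, Finsupp.add_apply] at h2
    have hv := (hyp (rbase hR) B).valC
    rw [show (Nat.card (Subgroup.centralizer ({τH (rbase hR)} : Set (Suz.Hs (C.rpart r))))).factorization r =
      (orderOf C.σ).factorization r from hv,
      ← Subgroup.index_mul_card (oddCore ↥(Suz.Hs (C.rpart r))),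
      Nat.factorization_mul Subgroup.index_ne_zero_of_finite Nat.card_pos.ne', Finsupp.add_apply, v_core hR,
      show (oddCore ↥(Suz.Hs (C.rpart r))).index = Nat.card (HB C r) from Subgroup.index_eq_card _,
      ← Subgroup.card_mul_index K, Nat.factorization_mul Nat.card_pos.ne' Subgroup.index_ne_zero_of_finite,
      Finsupp.add_apply, hK.vK, Nat.factorization_eq_zero_of_not_dvd (n := K.index) (p := r)
        fun h => r_not_dd (rbase hR) (h.trans hK.idx), add_zero, add_comm] at h2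
    show ind.factorization r = W.factorization r
    simp only [hW]
    exact Nat.add_right_cancel h2
  · show centralChar (θ' : Suz.Hs (C.rpart r) → ℂ) (τH (rbase hR)) * (W : ℂ) = _
    have hN0 : (N θ : ℂ) ≠ 0 := Nat.cast_ne_zero.2 fun e => by simp [e] at hodd
    have hT0' : (T : ℂ) ≠ 0 := Nat.cast_ne_zero.2 hT0.ne'
    have hW0 : (W : ℂ) ≠ 0 := Nat.cast_ne_zero.2 (Nat.succ_ne_zero _)
    rw [centralChar, h1', ht']
    push_cast
    field_simp
    ring

/-- Twisting a base character by a linear character of `C(s)` over the simple section. -/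
theorem exists_retwist {M : Ideal AlgInt} (B : Base G) [Fintype (Suz.Hs (C.rpart r))]
    {θ : IrrCharacter (Suz.Hs (C.rpart r))} (hθ : Suz.IsBase M (hyp (rbase hR) B) θ) {ω : ℂˣ}
    (hω : ω ^ (orderOf C.σ / r ^ (orderOf C.σ).factorization r) = 1) :
    ∃ θ' : IrrCharacter (Suz.Hs (C.rpart r)), Suz.IsBase M (hyp (rbase hR) B) θ' ∧
      (θ' : Suz.Hs (C.rpart r) → ℂ) 1 = (θ : Suz.Hs (C.rpart r) → ℂ) 1 ∧
      (θ' : Suz.Hs (C.rpart r) → ℂ) (τH (rbase hR)) = (θ : Suz.Hs (C.rpart r) → ℂ) (τH (rbase hR)) ∧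
      ∀ c : ℕ, (θ' : Suz.Hs (C.rpart r) → ℂ) (τH (rbase hR) * φH (rbase hR) ^ c) =
        (ω : ℂ) ^ c * (θ : Suz.Hs (C.rpart r) → ℂ) (τH (rbase hR) * φH (rbase hR) ^ c) := by
  classical
  obtain ⟨K, hK⟩ := exists_KS hR
  haveI := hK.normal
  set g₀ := QuotientGroup.mk' K (bar C r (φH (rbase hR)))
  have hgen : ∀ x : HB C r ⧸ K, x ∈ Subgroup.zpowers g₀ := by
    intro x
    obtain ⟨g, rfl⟩ := QuotientGroup.mk'_surjective K x
    obtain ⟨j, hj⟩ := hK.cyc g
    refine ⟨j, ?_⟩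
    show g₀ ^ (j : ℤ) = _
    rw [zpow_natCast, ← map_pow, QuotientGroup.mk'_eq_mk']
    refine ⟨_, hK.normal.conj_mem' _ hj ((bar C r (φH (rbase hR))) ^ j), ?_⟩
    group
  let f := monoidHomOfForallMemZpowers hgen (g' := ω) (orderOf_dvd_of_pow_eq_one (by
    have hd : orderOf C.σ / r ^ (orderOf C.σ).factorization r ∣ orderOf g₀ := hK.dvd _ (by
      rw [← QuotientGroup.eq_one_iff, ← QuotientGroup.mk'_apply, map_pow, pow_orderOf_eq_one])
    obtain ⟨w, hw⟩ := hd
    rw [hw, pow_mul, hω, one_pow]))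
  let κ : Suz.Hs (C.rpart r) →* ℂˣ := f.comp ((QuotientGroup.mk' K).comp (bar C r))
  have hκτ : κ (τH (rbase hR)) = 1 := by
    show f (QuotientGroup.mk' K (bar C r (τH (rbase hR)))) = 1
    rw [show QuotientGroup.mk' K (bar C r (τH (rbase hR))) = 1 from (QuotientGroup.eq_one_iff _).2 hK.tmem, map_one]
  have hκφ : κ (φH (rbase hR)) = ω := by
    show f g₀ = ω
    exact monoidHomOfForallMemZpowers_apply_gen hgen _
  let θ' : IrrCharacter (Suz.Hs (C.rpart r)) :=
    ⟨_, isIrrCharacter_mul_linear θ.2 (isIrrCharacter_linear κ) (by simp)⟩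
  have hval : ∀ x, (θ' : Suz.Hs (C.rpart r) → ℂ) x = (θ : Suz.Hs (C.rpart r) → ℂ) x * (κ x : ℂ) := fun x => rfl
  have ht : (θ' : Suz.Hs (C.rpart r) → ℂ) (τH (rbase hR)) = (θ : Suz.Hs (C.rpart r) → ℂ) (τH (rbase hR)) := by
    rw [hval, hκτ, Units.val_one, mul_one]
  refine ⟨θ', ⟨?_, fun x hx => ?_⟩, by rw [hval, map_one, Units.val_one, mul_one], ht, fun c => ?_⟩
  · intro h
    refine hθ.1 ?_
    have e : centralChar (θ' : Suz.Hs (C.rpart r) → ℂ) (Suz.τ (hyp (rbase hR) B)) =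
        centralChar (θ : Suz.Hs (C.rpart r) → ℂ) (Suz.τ (hyp (rbase hR) B)) := by
      rw [centralChar, centralChar, hval 1, map_one, Units.val_one, mul_one]
      congr 2
    rwa [e] at h
  · rw [hval, hval, hθ.2 x hx, show κ x = κ 1 by
      show f _ = f _
      exact congrArg (fun y => f (QuotientGroup.mk' K y))
        (((QuotientGroup.eq_one_iff x).2 (zs_le_core hR hx)).trans (map_one (bar C r)).symm)]
  · rw [hval, map_mul, map_pow, hκτ, hκφ, one_mul, Units.val_pow_eq_pow_val, mul_comm]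

end RQuot

end CfsgLib.Walter.RB
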