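import Cfsg.Agent.Lib.Walter.RTwo

/-!
Case (R): the rows of the pure characters over the base characters, all over the trivial `ν` after a twist.

Blueprint: `blueprint/Walter.md`, case (R).
-/

set_option autoImplicit false
set_option linter.unusedSectionVars false
set_option linter.style.haveILetI false

namespace CfsgLib.Walter.RB

open Cfsg CfsgLib CfsgLib.CharTheory CfsgLib.Blocks

universe u

theorem rat_root {x : ℚ} {N : ℕ} (hN : Odd N) (h : x ^ N = 1) : x = 1 :=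
  hN.strictMono_pow.injective (by simpa using h)

variable {G : Type u} [Group G] [Fintype G]

namespace Ctx

variable {C : Coord G} {r m : ℕ} [Fintype (E C)] [Fintype (H C)] [Fintype (Suz.Hs (C.rpart r))] (X : Ctx C r m)
include X

/-- `φ` in `⟨φ⟩`. -/
noncomputable def φz (_ : Ctx C r m) : Subgroup.zpowers C.φ := ⟨C.φ, Subgroup.mem_zpowers _⟩

theorem proj_φE : proj C (φE C) = X.φz := Subtype.ext (by
  have h := proj_φ C 1
  rw [pow_one, pow_one] at h
  exact h)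

theorem hom_ext_φ {ν ν' : Subgroup.zpowers C.φ →* ℂˣ} (h : ν X.φz = ν' X.φz) : ν = ν' := by
  refine MonoidHom.ext fun a => ?_
  obtain ⟨j, hj⟩ := Submonoid.mem_powers_iff _ _ |>.mp
    ((orderOf_pos_iff.mp (C.φ_ord ▸ C.odd_f.pos)).mem_powers_iff_mem_zpowers.mpr a.2)
  rw [show a = X.φz ^ j from Subtype.ext (by rw [Subgroup.coe_pow]; exact hj.symm), map_pow, map_pow, h]

theorem sz_eq : X.sz = X.φz ^ X.dd := Subtype.ext (by rw [Subgroup.coe_pow]; rfl)

theorem odd_R : Odd (r ^ X.k) := (C.odd_f.of_dvd_nat X.hR.dvd).pow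

/-- A pure character over a base character of odd degree has odd degree. -/
theorem odd_degree_pure {θ : IrrCharacter (Suz.Hs (C.rpart r))} {a : ℕ} {ε : ℤ} {Y : IrrCharacter G}
    (h : Suz.Pure X.Mr X.hyp θ a ε Y) {d : ℕ} (hd : (θ : Suz.Hs (C.rpart r) → ℂ) 1 = (d : ℂ)) (ha : a = 0)
    (hodd : Odd d) : ¬ 2 ∣ charDegree (Y : G → ℂ) := by
  haveI : Fact (Nat.Prime 2) := ⟨Nat.prime_two⟩
  subst ha
  have hY1 : (Y : G → ℂ) 1 = (charDegree (Y : G → ℂ) : ℂ) := (charDegree_cast (isCharacter_of_irr Y.2)).symm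
  have hY0 : (Y : G → ℂ) 1 ≠ 0 := irr_ne_zero Y.2
  have hv := h.val 1 (Nat.dvd_one.not.2 X.hR.prime.ne_one) 1
    (by rw [orderOf_one, Nat.dvd_one]; exact X.hR.prime.ne_one)
  rw [pow_one, Subgroup.coe_one, mul_one, zero_mul, pow_zero, mul_one, hd] at hv
  set I := (Subgroup.centralizer ({C.rpart r} : Set G)).index
  have hz : centralChar (Y : G → ℂ) (C.rpart r) = (((I * d * ε : ℤ) : ℚ) / (charDegree (Y : G → ℂ) : ℚ) : ℚ) := by
    rw [centralChar, hv, hY1]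
    push_cast
    ring
  have hint := isIntegral_clv (C.rpart r) Y
  rw [clv, hz] at hint
  obtain ⟨w, hw⟩ := exists_int_of_isIntegral_ratCast hint
  have hdeg0 : (charDegree (Y : G → ℂ) : ℚ) ≠ 0 := by
    intro e
    rw [hY1] at hY0
    exact hY0 (by exact_mod_cast e)
  rw [div_eq_iff hdeg0] at hw
  have hw' : (I : ℤ) * d * ε = w * (charDegree (Y : G → ℂ) : ℤ) := by exact_mod_cast hw
  have hIodd : ¬ 2 ∣ I := fun h2 => X.S.not_dvd_index (h2.trans (Subgroup.index_dvd_of_le (by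
    intro x hx
    refine Subgroup.mem_centralizer_singleton_iff.2 ?_
    obtain ⟨i, hi⟩ := C.rpart_mem r
    rw [← hi]
    exact ((show Commute x C.φ from X.Fr.φ_cent x hx).zpow_right i).eq)))
  intro h2
  have h3 : (2 : ℤ) ∣ (I : ℤ) * d * ε := by
    rw [hw']; exact (Int.natCast_dvd_natCast.2 h2).mul_left _
  have h4 : (2 : ℤ) ∣ (I : ℤ) * d := by
    rcases h.sign with e | e <;> rw [e] at h3 <;> simpa using h3
  have h5 : 2 ∣ I * d := by exact_mod_cast h4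
  rcases Nat.prime_two.dvd_mul.1 h5 with h6 | h6
  · exact hIodd h6
  · exact Nat.not_even_iff_odd.2 hodd (even_iff_two_dvd.2 h6)

theorem exists_blk {Y : IrrCharacter G} (h : ¬ 2 ∣ charDegree (Y : G → ℂ)) : ∃ ν, Y ∈ X.blk ν := by
  letI := X.fcS
  exact exists_mem_BG C X.Fr X.hM X.hE X.base h

/-- The row of a pure character, and its `ν` at `φ`. -/
theorem row_pure (hC : CaseR C r m) {T n : ℕ} (hT : T = 1 ∨ T = 3 ^ (2 * m + 1)) (hn : Odd n) (hnd : n ≤ X.dd)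
    {θ : IrrCharacter (Suz.Hs (C.rpart r))} {ε ε₀ : ℤ} {Y : IrrCharacter G}
    (hY : Suz.Pure X.Mr X.hyp θ 0 ε Y)
    (h1 : (θ : Suz.Hs (C.rpart r) → ℂ) 1 = ((n * (T * ((3 ^ (2 * m + 1)) ^ 2 - 3 ^ (2 * m + 1) + 1)) : ℕ) : ℂ))
    (hε₀ : ε₀ = 1 ∨ ε₀ = -1)
    (ht : (θ : Suz.Hs (C.rpart r) → ℂ) (τH X.hR) = (ε₀ : ℂ) * ((n * T : ℕ) : ℂ)) :
    ∃ (ν : Subgroup.zpowers C.φ →* ℂˣ) (A : ℤ), ν X.sz = 1 ∧ Y ∈ X.blk ν ∧ n = 1 ∧ A ≠ 0 ∧ X.v ν none Y = A ∧
      (∀ j, X.v ν (some j) Y = if T = 1 then 0 else A) ∧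
      (ε : ℂ) * (θ : Suz.Hs (C.rpart r) → ℂ) (τH X.hR) = (A : ℂ) * T ∧
      ∀ i c : ℕ, ¬ r ∣ i → C.φ = C.rpart r ^ i * C.φ ^ (r ^ X.k * c) →
        (ε : ℂ) * (θ : Suz.Hs (C.rpart r) → ℂ) (τH X.hR * φH X.hR ^ (r ^ X.k * c)) =
          (ν X.φz : ℂ) * ((A : ℂ) * if T = 1 then 1 else (X.D.St : E C → ℂ) (φE C)) := by
  set q' := 3 ^ (2 * m + 1) with hq'
  have hbig := q'_big hC
  rw [← hq'] at hbig
  have hWodd : Odd (q' ^ 2 - q' + 1) := by
    refine Even.add_one ?_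
    rw [pow_two, ← Nat.mul_sub_one, Nat.even_mul]
    obtain ⟨j, hj⟩ : Odd q' := Odd.pow (by decide)
    exact Or.inr ⟨j, by omega⟩
  have hTodd : Odd T := by rcases hT with rfl | rfl; exacts [odd_one, Odd.pow (by decide)]
  obtain ⟨ν, hν⟩ := X.exists_blk (X.odd_degree_pure hY h1 rfl (hn.mul (hTodd.mul hWodd)))
  obtain ⟨zz, hzz⟩ : Odd q' := Odd.pow (by decide)
  have hP := X.pattern ν
  have hA := hP.unit none Y
  have hB0 := hP.unit (some 0) Y
  have hB1 := hP.unit (some 1) Y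
  have hnot1 : ¬ r ∣ 1 := Nat.dvd_one.not.2 X.hR.prime.ne_one
  -- at `t s`
  have hts : (Y : G → ℂ) (C.t * ((φE C ^ (X.dd * 1) : E C) : G)) = (ε : ℂ) * ((ε₀ : ℂ) * ((n * T : ℕ) : ℂ)) := by
    have hv := hY.val 1 hnot1 (τH X.hR) (X.hyp.t_reg ∘ fun h => by rwa [← Subgroup.orderOf_coe] at h)
    rw [zero_mul, pow_zero, mul_one, ht, pow_one] at hv
    rw [← hv, (C.t_rpart r).eq.symm, Subgroup.coe_pow, coe_φE, mul_one]
    rfl
  rw [X.value hν (X.φE_reg _).2, proj_s, pow_one, Fintype.sum_option, Fin.sum_univ_two] at hts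
  have hη : ∀ j, (X.D.η j : E C → ℂ) (φE C ^ (X.dd * 1)) = (zz : ℂ) := by
    intro j
    have h := X.η_reg (X.φE_reg (X.dd * 1)).1 (X.φE_reg (X.dd * 1)).2 j
    rw [X.st_s hnot1, ← hq', hzz] at h
    push_cast at h
    linear_combination h / 2
  simp only [dual, oneIrr, hη] at hts
  simp only [mul_one] at hts
  set F : ℤ := X.v ν none Y + (X.v ν (some 0) Y + X.v ν (some 1) Y) * zz with hF
  have hts' : (ν X.sz : ℂ) * (F : ℂ) = ((ε * ε₀ * ((n * T : ℕ) : ℤ) : ℤ) : ℂ) := by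
    rw [hF]; push_cast; push_cast at hts; linear_combination hts
  have hnT : 0 < n * T := Nat.mul_pos hn.pos hTodd.pos
  have hrhs : (ε * ε₀ * ((n * T : ℕ) : ℤ)) ≠ 0 := by
    refine mul_ne_zero (mul_ne_zero ?_ ?_) (by exact_mod_cast hnT.ne')
    · rcases hY.sign with e | e <;> simp [e]
    · rcases hε₀ with e | e <;> simp [e]
  have hF0 : F ≠ 0 := fun e => hrhs (by rw [e, Int.cast_zero, mul_zero] at hts'; exact_mod_cast hts'.symm)
  set x : ℚ := ((ε * ε₀ * ((n * T : ℕ) : ℤ) : ℤ) : ℚ) / F with hx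
  have hνx : (ν X.sz : ℂ) = (x : ℂ) := by
    rw [hx, Rat.cast_div, Rat.cast_intCast, Rat.cast_intCast, eq_div_iff (Int.cast_ne_zero.2 hF0), hts']
  have hx1 : x = 1 := by
    refine rat_root X.odd_R ?_
    have h : (ν X.sz) ^ r ^ X.k = 1 := by
      rw [← map_pow, show X.sz ^ r ^ X.k = 1 from Subtype.ext (by
        rw [Subgroup.coe_pow, ← C.orderOf_rpart r]; exact pow_orderOf_eq_one _), map_one]
    have h' := congrArg (fun u : ℂˣ => (u : ℂ)) h
    rw [Units.val_pow_eq_pow_val, hνx, Units.val_one] at h'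
    exact_mod_cast h'
  have hν1 : ν X.sz = 1 := Units.ext (by rw [hνx, hx1, Rat.cast_one, Units.val_one])
  have hFv : F = ε * ε₀ * ((n * T : ℕ) : ℤ) := by
    rw [hν1, Units.val_one, one_mul] at hts'
    exact_mod_cast hts'
  have hFabs : F = ((n * T : ℕ) : ℤ) ∨ F = -((n * T : ℕ) : ℤ) := by
    rcases hY.sign with e | e <;> rcases hε₀ with e' | e' <;> simp [hFv, e, e']
  have agree := fun k l => hP.agree k l Y
  obtain ⟨hn1, hA0, hB⟩ : n = 1 ∧ X.v ν none Y ≠ 0 ∧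
      ∀ j, X.v ν (some j) Y = if T = 1 then 0 else X.v ν none Y := by
    rcases hT with hT1 | hT1
    · rw [hF, hT1, mul_one] at hFabs
      obtain ⟨h1, h2, h3, h4⟩ := row_small hA hB0 hB1 (agree _ _) (agree _ _) (agree _ _) hn (z := zz) (by
        have := dd_lt hC
        have : n ≤ orderOf C.σ / r ^ (orderOf C.σ).factorization r := hnd
        omega) hFabs
      refine ⟨h1, h2, fun j => ?_⟩
      rw [if_pos hT1]
      fin_cases j <;> assumption
    · have hne : T ≠ 1 := by omega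
      rw [hF, hT1, hzz] at hFabs
      push_cast at hFabs
      obtain ⟨h1, h2, h3, h4⟩ := row_large hA hB0 hB1 (agree _ _) (agree _ _) (agree _ _) hn (z := zz) (by omega)
        hFabs
      refine ⟨h1, h2, fun j => ?_⟩
      rw [if_neg hne]
      fin_cases j <;> assumption
  set A := X.v ν none Y
  have hAT : (ε : ℂ) * (θ : Suz.Hs (C.rpart r) → ℂ) (τH X.hR) = (A : ℂ) * T := by
    have : F = A * (T : ℤ) := by
      rcases hT with hT1 | hT1
      · rw [hF, hB 0, hB 1, if_pos hT1, hT1]; simp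
      · rw [hF, hB 0, hB 1, if_neg (by omega : T ≠ 1), hT1, hzz]; push_cast; ring
    rw [ht, hn1, one_mul]
    have h2 := hFv.symm.trans this
    rw [hn1, one_mul] at h2
    have h3 := congrArg (fun z : ℤ => (z : ℂ)) h2
    push_cast at h3 ⊢
    linear_combination h3
  refine ⟨ν, A, hν1, hν, hn1, hA0, rfl, hB, hAT, fun i c hi hsplit => ?_⟩
  -- at `t φ`
  have hyreg : ¬ r ∣ orderOf (τH X.hR * φH X.hR ^ (r ^ X.k * c)) := by
    intro h
    have hd : orderOf (τH X.hR * φH X.hR ^ (r ^ X.k * c)) ∣ 2 * X.dd := by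
      refine orderOf_dvd_of_pow_eq_one (Subtype.ext ?_)
      rw [Subgroup.coe_pow, Subgroup.coe_mul, Subgroup.coe_pow]
      show (C.t * C.φ ^ (r ^ X.k * c)) ^ (2 * X.dd) = 1
      rw [(C.t_φ.pow_right _).mul_pow, pow_mul C.t, pow_two, C.tt, one_pow, one_mul, ← pow_mul,
        show r ^ X.k * c * (2 * X.dd) = (r ^ X.k * X.dd) * (2 * c) by ring, f_eq X.hR, pow_mul, ← C.φ_ord,
        pow_orderOf_eq_one, one_pow]
    rcases X.hR.prime.dvd_mul.1 (h.trans hd) with h' | h'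
    · have := five_le X.hR
      have := Nat.le_of_dvd (by norm_num) h'
      omega
    · exact r_not_dd X.hR h'
  have hv := hY.val i hi _ hyreg
  rw [zero_mul, pow_zero, mul_one] at hv
  rw [← hv, Subgroup.coe_mul, Subgroup.coe_pow]
  show (Y : G → ℂ) (C.rpart r ^ i * (C.t * C.φ ^ (r ^ X.k * c))) = _
  have hval := X.value hν (y := φE C) (by simpa using (X.φE_reg 1).2)
  rw [coe_φE] at hval
  rw [← mul_assoc, ← ((C.t_rpart r).pow_right i).eq, mul_assoc, ← hsplit, hval, X.proj_φE,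
    Fintype.sum_option, Fin.sum_univ_two, hB 0, hB 1]
  congr 1
  simp only [dual, oneIrr]
  rw [X.D.rel (φE C) (by simpa using (X.φE_reg 1).2)]
  split_ifs <;> push_cast <;> ring

/-- For either of the two values there is a pure character in the block of the trivial `ν` with that row. -/
theorem exists_good (hC : CaseR C r m) {T : ℕ} (hT : T = 1 ∨ T = 3 ^ (2 * m + 1)) :
    ∃ (θ : IrrCharacter (Suz.Hs (C.rpart r))) (ε A : ℤ) (Y : IrrCharacter G),
      Suz.Pure X.Mr X.hyp θ 0 ε Y ∧ A ≠ 0 ∧ X.v 1 none Y = A ∧ ∀ j, X.v 1 (some j) Y = if T = 1 then 0 else A := by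
  obtain ⟨θ, n, hb, hn, hnd, h1, ε₀, hε₀, ht⟩ := exists_theta hC X.hMr X.base hT
  obtain ⟨Y, ε, hY⟩ := Suz.exists_pure X.hMr X.hyp hb
  obtain ⟨ν, A, hνs, -, -, hA, -, -, hAT, hφ⟩ := X.row_pure hC hT hn hnd hY h1 hε₀ ht
  set ω := (ν X.φz)⁻¹ with hω
  have hωd : ω ^ X.dd = 1 := by
    rw [hω, inv_pow, ← map_pow, ← X.sz_eq, hνs, inv_one]
  obtain ⟨θ', hb', h1', ht', hrel⟩ := exists_retwist hC X.base hb hωd
  obtain ⟨Y', ε', hY'⟩ := Suz.exists_pure X.hMr X.hyp hb'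
  obtain ⟨ν', A', -, hmem', -, hA', hrow, hrows, hAT', hφ'⟩ :=
    X.row_pure hC hT hn hnd hY' (h1'.trans h1) hε₀ (ht'.trans ht)
  obtain ⟨i, c, hi, hsplit, hc⟩ := X.exists_split
  set g : ℂ := if T = 1 then 1 else (X.D.St : E C → ℂ) (φE C)
  have hg : g ≠ 0 := by
    simp only [g]
    split_ifs
    · exact one_ne_zero
    · rw [← pow_one (φE C), X.st_pow]
      exact Nat.cast_ne_zero.2 Nat.card_pos.ne'
  have e1 := hφ i c hi hsplit
  have e2 := hφ' i c hi hsplit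
  rw [hrel] at e2
  have hωc : (ω : ℂ) ^ (r ^ X.k * c) = (ω : ℂ) := by
    rw [← Units.val_pow_eq_pow_val]
    congr 1
    conv_rhs => rw [← pow_one ω]
    exact pow_eq_pow_iff_modEq.2 (hc.of_dvd (orderOf_dvd_of_pow_eq_one hωd))
  rw [hωc] at e2
  rw [ht'] at hAT'
  have hT0 : (T : ℂ) ≠ 0 := Nat.cast_ne_zero.2 (by rcases hT with e | e <;> simp [e])
  have hεA : (ε : ℂ) * A' = (ε' : ℂ) * A := by
    refine mul_right_cancel₀ hT0 ?_
    linear_combination (ε' : ℂ) * hAT - (ε : ℂ) * hAT'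
  have hων : (ω : ℂ) * (ν X.φz : ℂ) = 1 := by rw [hω, ← Units.val_mul, inv_mul_cancel, Units.val_one]
  have hAc : (A' : ℂ) ≠ 0 := Int.cast_ne_zero.2 hA'
  have hεc : (ε : ℂ) ≠ 0 := Int.cast_ne_zero.2 (by rcases hY.sign with e | e <;> simp [e])
  have key : ((ν' X.φz : ℂ) - 1) * ((ε : ℂ) * A' * g) = 0 := by
    linear_combination (ε' : ℂ) * (ω : ℂ) * e1 - (ε : ℂ) * e2 - g * hεA + (ε' : ℂ) * A * g * hων
  have hν'1 : ν' = 1 := X.hom_ext_φ (Units.ext (by
    rw [MonoidHom.one_apply, Units.val_one]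
    exact sub_eq_zero.1 ((mul_eq_zero.1 key).resolve_right (mul_ne_zero (mul_ne_zero hεc hAc) hg))))
  subst hν'1
  exact ⟨θ', ε', A', Y', hY', hA', hrow, hrows⟩

end Ctx

end CfsgLib.Walter.RB
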