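import Cfsg.Agent.Lib.Walter.SuzukiLocal
import Cfsg.Agent.Lib.Walter.Equations
import Cfsg.Agent.Lib.CharTheory.TI

/-!
Characters of `G` on the sections of the generators of `⟨σ⟩`: they are zero or one twisted base character, and the
twists are exchanged by differences induced from `C(σ)`.

Blueprint: `blueprint/Walter.md`, case (R).
-/

set_option autoImplicit false
set_option linter.unusedSectionVars false
set_option linter.style.haveILetI false

namespace CfsgLib.Walter.Suz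

open Cfsg CfsgLib CfsgLib.CharTheory CfsgLib.Blocks CfsgLib.Walter.RB
open scoped ComplexConjugate

universe u

variable {G : Type u} [Group G] [Fintype G] {r k : ℕ} {σ t : G} [Fintype (Hs σ)] {M : Ideal AlgInt}

/-- The base characters. -/
abbrev Base (M : Ideal AlgInt) (H : Hyp r k σ t) : Type u := {θ : IrrCharacter (Hs σ) // IsBase M H θ}

noncomputable instance (H : Hyp r k σ t) : Fintype (Base M H) := Fintype.ofFinite _

/-- `χ` has unit central character at `t`. -/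
def UnitG (M : Ideal AlgInt) (t : G) (χ : IrrCharacter G) : Prop :=
  ¬ MemLocalIdeal M (centralChar (χ : G → ℂ) t)

/-- `χ` is `ε ξ ^ (a i) θ` on the sections of the generators of `⟨σ⟩`. -/
structure Pure (M : Ideal AlgInt) (H : Hyp r k σ t) (θ : IrrCharacter (Hs σ)) (a : ℕ) (ε : ℤ)
    (χ : IrrCharacter G) : Prop where
  base : IsBase M H θ
  sign : ε = 1 ∨ ε = -1
  unit : UnitG M t χ
  val : ∀ i : ℕ, ¬ r ∣ i → ∀ y : Hs σ, ¬ r ∣ orderOf y →
    (χ : G → ℂ) (σ ^ i * (y : G)) = (ε : ℂ) * ξ r k ^ (a * i) * (θ : Hs σ → ℂ) y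

/-- The conjugates of the sections of the generators. -/
def InS (r : ℕ) (σ g : G) : Prop :=
  ∃ (x : G) (i : ℕ) (y : Hs σ), ¬ r ∣ i ∧ ¬ r ∣ orderOf y ∧ g = x * (σ ^ i * (y : G)) * x⁻¹

variable (hM : IsPModular r M) (H : Hyp r k σ t)
include hM H

theorem unitG_iff (χ : IrrCharacter G) : UnitG M t χ ↔ res hM (centralChar (χ : G → ℂ) t) ≠ 0 :=
  not_congr (res_eq_zero_iff hM (memRing_clv hM t χ)).symm

theorem rQ : r * r ^ (k - 1) = r ^ k := by
  rw [← pow_succ']; congr 1; have := H.hk; omega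

theorem ξ_ne_zero : ξ r k ≠ 0 := (ξ_prim hM H).ne_zero (pow_ne_zero _ H.hr.ne_zero)

theorem ξ_pow_mod (a : ℕ) : ξ r k ^ a = ξ r k ^ (a % r ^ k) :=
  pow_eq_pow_mod a (ξ_prim hM H).pow_eq_one

theorem ξ_pow_R (a : ℕ) : (ξ r k ^ a) ^ r ^ k = 1 := by
  rw [← pow_mul, mul_comm, pow_mul, (ξ_prim hM H).pow_eq_one, one_pow]

theorem conj_ξ (a : ℕ) : conj (ξ r k ^ a) = (ξ r k ^ a)⁻¹ :=
  conj_root (pow_ne_zero _ H.hr.ne_zero) (ξ_pow_R hM H a)

/-- The exponent `b + Q c`. -/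
def ex (r k : ℕ) (b : Fin (r ^ (k - 1))) (c : Fin r) : ℕ := (b : ℕ) + r ^ (k - 1) * (c : ℕ)

theorem ex_lt (b : Fin (r ^ (k - 1))) (c : Fin r) : ex r k b c < r ^ k := by
  rw [← rQ hM H, ex]
  have hb := b.2
  have hc : (c : ℕ) + 1 ≤ r := c.2
  nlinarith [Nat.zero_le (r ^ (k - 1))]

theorem exists_ex (a : ℕ) : ∃ b c, ξ r k ^ a = ξ r k ^ ex r k b c := by
  have hQ : 0 < r ^ (k - 1) := pow_pos H.hr.pos _
  have hlt : a % r ^ k / r ^ (k - 1) < r := by
    rw [Nat.div_lt_iff_lt_mul hQ, rQ hM H]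
    exact Nat.mod_lt _ (pow_pos H.hr.pos _)
  refine ⟨⟨a % r ^ k % r ^ (k - 1), Nat.mod_lt _ hQ⟩, ⟨_, hlt⟩, ?_⟩
  rw [ξ_pow_mod hM H a, ex]
  exact congrArg _ (Nat.mod_add_div _ _).symm

theorem ex_inj {b b' : Fin (r ^ (k - 1))} {c c' : Fin r} (h : ξ r k ^ ex r k b c = ξ r k ^ ex r k b' c') :
    b = b' ∧ c = c' := by
  have e := (ξ_prim hM H).pow_inj (ex_lt hM H b c) (ex_lt hM H b' c') h
  simp only [ex] at e
  have hQ : 0 < r ^ (k - 1) := pow_pos H.hr.pos _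
  have e1 := congrArg (· % r ^ (k - 1)) e
  simp only [Nat.add_mul_mod_self_left, Nat.mod_eq_of_lt b.2, Nat.mod_eq_of_lt b'.2] at e1
  refine ⟨Fin.ext e1, Fin.ext ?_⟩
  rw [e1, add_right_inj] at e
  exact Nat.eq_of_mul_eq_mul_left hQ e

theorem ξ_ex_r (b : Fin (r ^ (k - 1))) (c : Fin r) : ξ r k ^ (ex r k b c * r) = ξ r k ^ ((b : ℕ) * r) := by
  rw [ex, add_mul, pow_add, show r ^ (k - 1) * (c : ℕ) * r = r ^ k * c by rw [← rQ hM H]; ring, pow_mul (ξ r k) (r ^ k),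
    (ξ_prim hM H).pow_eq_one, one_pow, mul_one]

theorem ex_class {b b' : Fin (r ^ (k - 1))} {c c' : Fin r}
    (h : ξ r k ^ (ex r k b c * r) = ξ r k ^ (ex r k b' c' * r)) : b = b' := by
  rw [ξ_ex_r hM H, ξ_ex_r hM H] at h
  have hlt : ∀ d : Fin (r ^ (k - 1)), (d : ℕ) * r < r ^ k := fun d => by
    rw [← rQ hM H, mul_comm r]; exact Nat.mul_lt_mul_of_pos_right d.2 H.hr.pos
  exact Fin.ext (Nat.eq_of_mul_eq_mul_right H.hr.pos ((ξ_prim hM H).pow_inj (hlt b) (hlt b') h))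

theorem up_congr {θ : IrrCharacter (Hs σ)} (hθ : IsBase M H θ) {a b : ℕ} (h : ξ r k ^ a = ξ r k ^ b) :
    up hM H hθ a = up hM H hθ b := by
  refine Subtype.ext (funext fun g => ?_)
  obtain ⟨-, ha, ha0⟩ := up_spec hM H hθ a
  obtain ⟨-, hb, hb0⟩ := up_spec hM H hθ b
  by_cases hg : ∃ (j : ℕ) (y : Hs σ), ¬ r ∣ orderOf y ∧ g = ρ σ ^ j * y
  · obtain ⟨j, y, hy, rfl⟩ := hg
    rw [ha j y hy, hb j y hy, pow_mul, h, ← pow_mul]
  · push Not at hg
    rw [ha0 g fun j y hy => hg j y hy, hb0 g fun j y hy => hg j y hy]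

/-- The multiplicity of `up θ a` in the restriction. -/
noncomputable def co (θ : Base M H) (a : ℕ) (χ : IrrCharacter G) : ℕ :=
  (classInner_char_nat (isCharacter_restrict_irr (Hs σ) χ) (isCharacter_of_irr (up hM H θ.2 a).2)).choose

theorem co_spec (θ : Base M H) (a : ℕ) (χ : IrrCharacter G) :
    classInner (fun h : Hs σ => (χ : G → ℂ) h) (up hM H θ.2 a : Hs σ → ℂ) = (co hM H θ a χ : ℂ) :=
  (classInner_char_nat (isCharacter_restrict_irr (Hs σ) χ) (isCharacter_of_irr (up hM H θ.2 a).2)).choose_spec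

theorem co_congr (θ : Base M H) {a b : ℕ} (h : ξ r k ^ a = ξ r k ^ b) (χ : IrrCharacter G) :
    co hM H θ a χ = co hM H θ b χ := by
  have e := co_spec hM H θ a χ
  rw [up_congr hM H θ.2 h, co_spec hM H θ b χ] at e
  exact_mod_cast e.symm

theorem self_mem_pow {i : ℕ} (hi : ¬ r ∣ i) : σ ∈ Subgroup.zpowers (σ ^ i) := by
  have hcop : Nat.Coprime i (orderOf σ) := by
    rw [H.ord]; exact Nat.Coprime.pow_right _ (H.hr.coprime_iff_not_dvd.2 hi).symm
  obtain ⟨m, hm⟩ := exists_pow_eq_self_of_coprime hcop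
  exact ⟨(m : ℤ), by show (σ ^ i) ^ (m : ℤ) = σ; rw [zpow_natCast, hm]⟩

theorem isCentr_pow {i : ℕ} (hi : ¬ r ∣ i) : IsCentr (σ ^ i) (Hs σ) := by
  intro g
  rw [Hs, Subgroup.mem_centralizer_singleton_iff]
  refine ⟨fun h => Commute.pow_right h i, fun h => ?_⟩
  obtain ⟨m, hm⟩ := self_mem_pow hM H hi
  have h' := h.zpow_right m
  rw [show (σ ^ i) ^ m = σ from hm] at h'
  exact h'.eq

theorem orderOf_pow_gen {i : ℕ} (hi : ¬ r ∣ i) : orderOf (σ ^ i) = r ^ k := by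
  rw [Nat.Coprime.orderOf_pow, H.ord]
  rw [H.ord]
  exact Nat.Coprime.pow_left _ (H.hr.coprime_iff_not_dvd.2 hi)

/-- The central character at `t` is inherited by induced blocks. -/
theorem res_induced {ψ : IrrCharacter (Hs σ)} {χ : IrrCharacter G}
    (h : IsInducedBlock M (Hs σ) (blockOf M (ψ : Hs σ → ℂ)) (blockOf M (χ : G → ℂ))) :
    res hM (centralChar (χ : G → ℂ) t) = res hM (centralChar (ψ : Hs σ → ℂ) (τ H)) := by
  classical
  have h1 := h.2.2 ψ (mem_blockOf_self hM ψ) χ (mem_blockOf_self hM χ) t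
  rw [memIdeal_sub_iff hM (memRing_inducedCentralChar (Hs σ) hM ψ t)
    (show MemLocalRing M (centralChar (χ : G → ℂ) t) from memRing_clv hM t χ)] at h1
  rw [← h1]
  congr 1
  have hset : {y : Hs σ | IsConj t (y : G)} = {y : Hs σ | IsConj (τ H) y} := by
    ext y
    simp only [Set.mem_setOf_eq, isConj_iff]
    constructor
    · rintro ⟨g, hg⟩
      obtain ⟨x, hx, hxe⟩ := H.fus g (hg ▸ y.2)
      exact ⟨⟨x, hx⟩, Subtype.ext (hxe.trans hg)⟩
    · rintro ⟨g, hg⟩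
      exact ⟨g, congrArg Subtype.val hg⟩
  rw [inducedCentralChar, hset, centralChar,
    finsum_mem_congr rfl fun y hy => show (ψ : Hs σ → ℂ) y / (ψ : Hs σ → ℂ) 1 =
      (ψ : Hs σ → ℂ) (τ H) / (ψ : Hs σ → ℂ) 1 by
      rw [classFun_eq_of_isConj (isClassFunction_char (isCharacter_of_irr ψ.2)) hy],
    finsum_mem_eq_finite_toFinset_sum _ (Set.toFinite _), Finset.sum_const, nsmul_eq_mul,
    index_centralizer_eq, ← Set.ncard_eq_toFinset_card, ← Nat.card_coe_set_eq, Set.coe_setOf]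
  ring

/-- The coefficient of `θ` in the section of `σ ^ i`. -/
noncomputable def coef (θ : Base M H) (i : ℕ) (χ : IrrCharacter G) : ℂ :=
  ∑ p : Fin (r ^ (k - 1)) × Fin r, (co hM H θ (ex r k p.1 p.2) χ : ℂ) * ξ r k ^ (ex r k p.1 p.2 * i)

theorem sec_inner (θ : Base M H) (a : ℕ) {i : ℕ} (χ : IrrCharacter G) :
    classInner (sec (σ ^ i) (Hs σ) (χ : G → ℂ)) (up hM H θ.2 a : Hs σ → ℂ) =
      (co hM H θ a χ : ℂ) * ξ r k ^ (a * i) := by
  rw [← co_spec, classInner, classInner, mul_assoc]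
  congr 1
  rw [← Equiv.sum_comp (Equiv.mulLeft (ρ σ ^ i))
    (fun d : Hs σ => (χ : G → ℂ) d * conj ((up hM H θ.2 a : Hs σ → ℂ) d)), Finset.sum_mul]
  refine Finset.sum_congr rfl fun c _ => ?_
  simp only [Equiv.coe_mulLeft, up_ρ hM H θ.2, map_mul, conj_ξ hM H, Subgroup.coe_mul,
    SubmonoidClass.coe_pow, sec]
  show (χ : G → ℂ) (σ ^ i * c) * _ = (χ : G → ℂ) (σ ^ i * c) * _ * _
  field_simp [pow_ne_zero, ξ_ne_zero hM H]

theorem part_unit {i : ℕ} (χ : IrrCharacter G) (y : Hs σ) :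
    blockPart {ψ | IsUnitAt M H ψ} (sec (σ ^ i) (Hs σ) (χ : G → ℂ)) y =
      ∑ θ : Base M H, coef hM H θ i χ * (θ.1 : Hs σ → ℂ) y * (if r ∣ orderOf y then 0 else 1) +
        (if r ∣ orderOf y then blockPart {ψ | IsUnitAt M H ψ} (sec (σ ^ i) (Hs σ) (χ : G → ℂ)) y else 0) := by
  classical
  by_cases hy : r ∣ orderOf y
  · simp [hy]
  simp only [hy, if_false, mul_one, add_zero, coef, Finset.sum_mul]
  rw [blockPart_apply, ← Fintype.sum_prod_type'
    (f := fun (θ : Base M H) (p : Fin (r ^ (k - 1)) × Fin r) => (co hM H θ (ex r k p.1 p.2) χ : ℂ) *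
      ξ r k ^ (ex r k p.1 p.2 * i) * (θ.1 : Hs σ → ℂ) y)]
  refine (Finset.sum_bij (fun q _ => up hM H q.1.2 (ex r k q.2.1 q.2.2)) ?_ ?_ ?_ ?_).symm
  · exact fun q _ => mem_bset.2 (up_unit hM H q.1.2 _)
  · intro q _ q' _ h
    obtain ⟨h1, h2⟩ := up_inj hM H q.1.2 q'.1.2 h
    obtain ⟨h3, h4⟩ := ex_inj hM H h2
    exact Prod.ext (Subtype.ext h1) (Prod.ext h3 h4)
  · intro ψ hψ
    obtain ⟨θ, hθ, a, -, rfl⟩ := exists_base hM H (mem_bset.1 hψ)
    obtain ⟨b, c, hbc⟩ := exists_ex hM H a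
    exact ⟨(⟨θ, hθ⟩, b, c), Finset.mem_univ _, (up_congr hM H hθ hbc).symm⟩
  · intro q _
    rw [sec_inner hM H]
    congr 1
    obtain ⟨-, h, -⟩ := up_spec hM H q.1.2 (ex r k q.2.1 q.2.2)
    have h0 := h 0 y hy
    rw [pow_zero, one_mul, mul_zero, pow_zero, one_mul] at h0
    exact h0.symm

/-- The unit part of a section. -/
theorem part_eq {i : ℕ} (hi : ¬ r ∣ i) (χ : IrrCharacter G) {y : Hs σ} (hy : ¬ r ∣ orderOf y) :
    (UnitG M t χ → (χ : G → ℂ) (σ ^ i * (y : G)) = ∑ θ : Base M H, coef hM H θ i χ * (θ.1 : Hs σ → ℂ) y) ∧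
      (¬ UnitG M t χ → ∑ θ : Base M H, coef hM H θ i χ * (θ.1 : Hs σ → ℂ) y = 0) := by
  classical
  have hH := isCentr_pow hM H hi
  have hx : ∃ j : ℕ, orderOf (σ ^ i) = r ^ j := ⟨k, orderOf_pow_gen hM H hi⟩
  have hzero : ∀ U : Set (IrrCharacter (Hs σ)), (∀ ψ ∈ U, blockOf M (ψ : Hs σ → ℂ) ⊆ U) →
      (∀ ψ ∈ U, ¬ (IsUnitAt M H ψ ↔ UnitG M t χ)) →
      blockPart U (sec (σ ^ i) (Hs σ) (χ : G → ℂ)) y = 0 := by
    intro U hU hne
    rw [sum_blockPart_eq hM U hU]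
    refine Finset.sum_eq_zero fun b hb => ?_
    obtain ⟨-, hbB, hbU⟩ := Finset.mem_filter.1 hb
    refine blockPart_sec_eq_zero hM hH hx hbB (blockOf_isPBlock χ) (mem_blockOf_self hM χ) (fun hind => ?_) hy
    obtain ⟨ψ, hψ⟩ := block_nonempty hM hbB
    refine hne ψ (hbU hψ) ?_
    rw [eq_blockOf hM hbB hψ] at hind
    rw [isUnitAt_iff hM H, unitG_iff hM H, res_induced hM H hind]
  have hclosed : ∀ ψ ∈ {ψ | IsUnitAt M H ψ}, blockOf M (ψ : Hs σ → ℂ) ⊆ {ψ | IsUnitAt M H ψ} :=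
    fun ψ hψ φ hφ => (isUnitAt_congr hM H hφ).1 hψ
  have hclosed' : ∀ ψ ∈ {ψ | IsUnitAt M H ψ}ᶜ, blockOf M (ψ : Hs σ → ℂ) ⊆ {ψ | IsUnitAt M H ψ}ᶜ :=
    fun ψ hψ φ hφ hc => hψ ((isUnitAt_congr hM H hφ).2 hc)
  have hp := part_unit hM H (i := i) χ y
  simp only [hy, if_false, mul_one, add_zero] at hp
  constructor
  · intro hu
    rw [← hp]
    have h1 := congrFun (eq_sum_irr (sec_isClassFunction hH χ)) y
    simp only [Finset.sum_apply, Pi.smul_apply, smul_eq_mul] at h1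
    have h0 := hzero _ hclosed' fun ψ hψ h => hψ (h.2 hu)
    rw [blockPart_apply] at h0 ⊢
    show sec (σ ^ i) (Hs σ) (χ : G → ℂ) y = _
    rw [h1, ← Finset.sum_add_sum_compl (bset {ψ | IsUnitAt M H ψ}),
      show (bset {ψ | IsUnitAt M H ψ})ᶜ = bset {ψ | IsUnitAt M H ψ}ᶜ by ext; simp [mem_bset], h0, add_zero]
  · intro hu
    rw [← hp]
    exact hzero _ hclosed fun ψ hψ h => hu (h.1 hψ)

/-- Pairing with a base character on the regular elements. -/
theorem pair_base (x : Base M H → ℂ) (θ₀ : Base M H) :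
    ∑ y ∈ Finset.univ.filter (fun y : Hs σ => ¬ r ∣ orderOf y),
      (∑ θ : Base M H, x θ * (θ.1 : Hs σ → ℂ) y) * conj ((θ₀.1 : Hs σ → ℂ) y) =
      x θ₀ * ((Nat.card (Hs σ) : ℂ) / (r : ℂ) ^ k) := by
  classical
  simp only [Finset.sum_mul, mul_assoc]
  rw [Finset.sum_comm]
  simp only [← Finset.mul_sum]
  rw [Finset.sum_eq_single θ₀ (fun θ _ hne => by
    rw [base_orth hM H θ.2 θ₀.2, if_neg fun e => hne (Subtype.ext e), mul_zero]) (by simp),
    base_orth hM H θ₀.2 θ₀.2, if_pos rfl]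

theorem card_div_ne : ((Nat.card (Hs σ) : ℂ) / (r : ℂ) ^ k) ≠ 0 :=
  div_ne_zero (Nat.cast_ne_zero.2 Nat.card_pos.ne') (pow_ne_zero _ (Nat.cast_ne_zero.2 H.hr.ne_zero))

/-- The exponents prime to `r` below `r ^ k`. -/
def units (r k : ℕ) : Finset ℕ := (Finset.range (r ^ k)).filter fun i => ¬ r ∣ i

theorem root_sum {ω : ℂ} (hω : ω ^ r ^ k = 1) :
    ∑ i ∈ units r k, ω ^ i =
      (if ω = 1 then ((r ^ k : ℕ) : ℂ) else 0) - (if ω ^ r = 1 then ((r ^ (k - 1) : ℕ) : ℂ) else 0) := by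
  have hωr : (ω ^ r) ^ r ^ (k - 1) = 1 := by rw [← pow_mul, rQ hM H, hω]
  rw [← geom_root hω, ← geom_root hωr,
    ← Finset.sum_filter_add_sum_filter_not (Finset.range (r ^ k)) (fun i => r ∣ i) (fun i => ω ^ i), units]
  have e : (Finset.range (r ^ k)).filter (fun i => r ∣ i) = (Finset.range (r ^ (k - 1))).image (r * ·) := by
    ext i
    simp only [Finset.mem_filter, Finset.mem_range, Finset.mem_image, ← rQ hM H]
    constructor
    · rintro ⟨hi, j, rfl⟩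
      exact ⟨j, Nat.lt_of_mul_lt_mul_left hi, rfl⟩
    · rintro ⟨j, hj, rfl⟩
      exact ⟨Nat.mul_lt_mul_of_pos_left hj H.hr.pos, dvd_mul_right _ _⟩
  rw [e, Finset.sum_image fun a _ b _ h => Nat.eq_of_mul_eq_mul_left H.hr.pos h]
  simp only [pow_mul]
  ring

theorem root_coef (p p' : Fin (r ^ (k - 1)) × Fin r) :
    ∑ i ∈ units r k, (ξ r k ^ ex r k p.1 p.2 * conj (ξ r k ^ ex r k p'.1 p'.2)) ^ i =
      (if p = p' then ((r ^ k : ℕ) : ℂ) else 0) - (if p.1 = p'.1 then ((r ^ (k - 1) : ℕ) : ℂ) else 0) := by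
  have hne := pow_ne_zero (ex r k p'.1 p'.2) (ξ_ne_zero hM H)
  rw [conj_ξ hM H, root_sum hM H (by rw [mul_pow, inv_pow, ξ_pow_R hM H, ξ_pow_R hM H, inv_one, one_mul])]
  congr 1
  · refine if_congr ?_ rfl rfl
    rw [mul_inv_eq_one₀ hne]
    exact ⟨fun h => Prod.ext (ex_inj hM H h).1 (ex_inj hM H h).2, fun h => by rw [h]⟩
  · refine if_congr ?_ rfl rfl
    rw [mul_pow, inv_pow, mul_inv_eq_one₀ (pow_ne_zero _ hne), ← pow_mul, ← pow_mul]
    exact ⟨ex_class hM H, fun h => by rw [ξ_ex_r hM H, ξ_ex_r hM H, h]⟩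

/-- The multiplicities over a coset. -/
noncomputable def row (χ : IrrCharacter G) (q : Base M H × Fin (r ^ (k - 1))) (c : Fin r) : ℤ :=
  (co hM H q.1 (ex r k q.2 c) χ : ℤ)

/-- The sum of the coefficient over the sections. -/
theorem sum_coef (θ : Base M H) (χ : IrrCharacter G) :
    ∑ i ∈ units r k, coef hM H θ i χ * conj (coef hM H θ i χ) =
      ((r ^ (k - 1) : ℕ) : ℂ) * ∑ b : Fin (r ^ (k - 1)), ((spread (row hM H χ (θ, b)) : ℤ) : ℂ) := by
  classical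
  have h : ∀ i, coef hM H θ i χ * conj (coef hM H θ i χ) =
      ∑ p : Fin (r ^ (k - 1)) × Fin r, ∑ p' : Fin (r ^ (k - 1)) × Fin r,
        ((co hM H θ (ex r k p.1 p.2) χ : ℂ) * co hM H θ (ex r k p'.1 p'.2) χ) *
          (ξ r k ^ ex r k p.1 p.2 * conj (ξ r k ^ ex r k p'.1 p'.2)) ^ i := by
    intro i
    rw [coef, map_sum, Finset.sum_mul_sum]
    refine Finset.sum_congr rfl fun p _ => Finset.sum_congr rfl fun p' _ => ?_
    rw [map_mul, map_natCast, map_pow, map_pow, mul_pow, ← pow_mul, ← pow_mul]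
    ring
  simp only [h]
  rw [Finset.sum_comm]
  simp only [Finset.sum_comm (s := units r k), ← Finset.mul_sum, root_coef hM H, mul_sub, mul_ite, mul_zero,
    Finset.sum_sub_distrib, Finset.sum_ite_eq, Finset.mem_univ, if_true]
  rw [Finset.mul_sum]
  simp only [Fintype.sum_prod_type, spread, row, Fintype.card_fin]
  rw [← Finset.sum_sub_distrib]
  refine Finset.sum_congr rfl fun b _ => ?_
  have e2 : ∀ x : Fin r, (∑ b' : Fin (r ^ (k - 1)), ∑ c' : Fin r,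
      if b = b' then (co hM H θ (ex r k b x) χ : ℂ) * co hM H θ (ex r k b' c') χ * ((r ^ (k - 1) : ℕ) : ℂ)
        else 0) =
      ∑ c' : Fin r, (co hM H θ (ex r k b x) χ : ℂ) * co hM H θ (ex r k b c') χ * ((r ^ (k - 1) : ℕ) : ℂ) := by
    intro x
    rw [Finset.sum_comm]
    simp
  simp only [e2]
  push_cast
  rw [show (r : ℂ) ^ k = (r : ℂ) * (r : ℂ) ^ (k - 1) by exact_mod_cast (rQ hM H).symm]
  simp only [← Finset.sum_mul, ← Finset.mul_sum, sq]
  ring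

/-- Conjugation between two sections of generators. -/
theorem ti {g : G} {i i' : ℕ} (hi : ¬ r ∣ i) (hi' : ¬ r ∣ i') {y y' : Hs σ} (hy : ¬ r ∣ orderOf y)
    (hy' : ¬ r ∣ orderOf y') (h : g * (σ ^ i * (y : G)) * g⁻¹ = σ ^ i' * (y' : G)) :
    g ∈ Hs σ ∧ g * σ ^ i * g⁻¹ = σ ^ i' ∧ g * (y : G) * g⁻¹ = y' := by
  have hc : ∀ (j : ℕ) (z : Hs σ), Commute (σ ^ j) (z : G) := fun j z =>
    Commute.pow_left (Commute.symm (Subgroup.mem_centralizer_singleton_iff.1 z.2)) j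
  obtain ⟨e1, e2⟩ := pPart_unique H.hr (z := g * σ ^ i * g⁻¹) (w := g * (y : G) * g⁻¹)
    ((hc i y).map (MulAut.conj g).toMonoidHom) (hc i' y')
    ⟨k, by rw [conj_orderOf, orderOf_pow_gen hM H hi]⟩ ⟨k, orderOf_pow_gen hM H hi'⟩
    (by rwa [conj_orderOf, Subgroup.orderOf_coe]) (by rwa [Subgroup.orderOf_coe])
    (by rw [← h]; group)
  refine ⟨H.norm g ?_, e1, e2⟩
  obtain ⟨m, hm⟩ := self_mem_pow hM H hi
  refine ⟨(i' : ℤ) * m, ?_⟩
  show σ ^ ((i' : ℤ) * m) = g * σ * g⁻¹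
  rw [zpow_mul, zpow_natCast, ← e1, conj_zpow, show (σ ^ i) ^ m = σ from hm]

theorem budget (χ : IrrCharacter G) :
    ∑ i ∈ units r k, ∑ y ∈ Finset.univ.filter (fun y : Hs σ => ¬ r ∣ orderOf y),
      Complex.normSq ((χ : G → ℂ) (σ ^ i * (y : G))) ≤ (Nat.card (Hs σ) : ℝ) := by
  classical
  haveI : Fintype (G ⧸ Hs σ) := Fintype.ofFinite _
  set T := (Finset.univ : Finset (G ⧸ Hs σ)) ×ˢ (units r k ×ˢ Finset.univ.filter fun y : Hs σ => ¬ r ∣ orderOf y)
  set F : (G ⧸ Hs σ) × ℕ × Hs σ → G := fun p => p.1.out * (σ ^ p.2.1 * (p.2.2 : G)) * p.1.out⁻¹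
  have hinj : Set.InjOn F T := by
    intro p hp p' hp' e
    simp only [T, Finset.coe_product, Set.mem_prod, Finset.mem_coe, units, Finset.mem_filter,
      Finset.mem_range] at hp hp'
    obtain ⟨hg, e1, e2⟩ := ti hM H hp.2.1.2 hp'.2.1.2 hp.2.2.2 hp'.2.2.2
      (g := p'.1.out⁻¹ * p.1.out) (by
        simp only [F] at e
        calc _ = p'.1.out⁻¹ * (p.1.out * (σ ^ p.2.1 * (p.2.2 : G)) * p.1.out⁻¹) * p'.1.out := by group
          _ = _ := by rw [e]; group)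
    have hq : p'.1 = p.1 := by
      rw [← QuotientGroup.out_eq' p.1, ← QuotientGroup.out_eq' p'.1, QuotientGroup.eq]
      exact hg
    rw [hq, inv_mul_cancel, one_mul, inv_one, mul_one] at e1 e2
    refine Prod.ext hq.symm (Prod.ext ?_ (Subtype.ext e2))
    exact pow_injOn_Iio_orderOf (by rw [Set.mem_Iio, H.ord]; exact hp.2.1.1)
      (by rw [Set.mem_Iio, H.ord]; exact hp'.2.1.1) e1
  have h1 : ∑ p ∈ T, Complex.normSq ((χ : G → ℂ) (F p)) ≤ (Nat.card G : ℝ) := by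
    rw [← sum_normSq_irr χ, ← Finset.sum_image hinj (f := fun g => Complex.normSq ((χ : G → ℂ) g))]
    exact Finset.sum_le_sum_of_subset_of_nonneg (Finset.subset_univ _) fun g _ _ => Complex.normSq_nonneg _
  rw [Finset.sum_congr rfl fun p _ => show Complex.normSq ((χ : G → ℂ) (F p)) =
      Complex.normSq ((χ : G → ℂ) (σ ^ p.2.1 * (p.2.2 : G))) by rw [irr_isClassFun χ],
    Finset.sum_product] at h1
  dsimp only at h1
  rw [Finset.sum_const, Finset.card_univ, nsmul_eq_mul, ← Nat.card_eq_fintype_card, Finset.sum_product,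
    ← Subgroup.index, ← Subgroup.index_mul_card (Hs σ), Nat.cast_mul] at h1
  exact le_of_mul_le_mul_left h1 (Nat.cast_pos.2 (Nat.pos_of_ne_zero Subgroup.index_ne_zero_of_finite))

/-- The total of the spreads. -/
theorem total (χ : IrrCharacter G) :
    ∑ i ∈ units r k, ∑ y ∈ Finset.univ.filter (fun y : Hs σ => ¬ r ∣ orderOf y),
      (∑ θ : Base M H, coef hM H θ i χ * (θ.1 : Hs σ → ℂ) y) *
        conj (∑ θ : Base M H, coef hM H θ i χ * (θ.1 : Hs σ → ℂ) y) =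
      (Nat.card (Hs σ) : ℂ) / r * ((∑ q : Base M H × Fin (r ^ (k - 1)), spread (row hM H χ q) : ℤ) : ℂ) := by
  classical
  have h : ∀ i, ∑ y ∈ Finset.univ.filter (fun y : Hs σ => ¬ r ∣ orderOf y),
      (∑ θ : Base M H, coef hM H θ i χ * (θ.1 : Hs σ → ℂ) y) *
        conj (∑ θ : Base M H, coef hM H θ i χ * (θ.1 : Hs σ → ℂ) y) =
      ∑ θ : Base M H, conj (coef hM H θ i χ) * (coef hM H θ i χ * ((Nat.card (Hs σ) : ℂ) / (r : ℂ) ^ k)) := by
    intro i
    simp only [map_sum, map_mul, Finset.mul_sum]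
    rw [Finset.sum_comm]
    refine Finset.sum_congr rfl fun θ₀ _ => ?_
    rw [← pair_base hM H (fun θ => coef hM H θ i χ) θ₀, Finset.mul_sum]
    exact Finset.sum_congr rfl fun y _ => by ring
  simp only [h]
  rw [Finset.sum_comm, Fintype.sum_prod_type, Int.cast_sum, Finset.mul_sum]
  refine Finset.sum_congr rfl fun θ _ => ?_
  rw [Finset.sum_congr rfl fun i _ => show
      conj (coef hM H θ i χ) * (coef hM H θ i χ * ((Nat.card (Hs σ) : ℂ) / (r : ℂ) ^ k)) =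
      ((Nat.card (Hs σ) : ℂ) / (r : ℂ) ^ k) * (coef hM H θ i χ * conj (coef hM H θ i χ)) by ring,
    ← Finset.mul_sum, sum_coef hM H, ← mul_assoc]
  congr 1
  swap
  · push_cast; rfl
  have hr0 : (r : ℂ) ≠ 0 := Nat.cast_ne_zero.2 H.hr.ne_zero
  have hrk : (r : ℂ) ^ k = (r : ℂ) * (r : ℂ) ^ (k - 1) := by exact_mod_cast (rQ hM H).symm
  rw [hrk]
  push_cast
  field_simp

theorem spread_sum_le (χ : IrrCharacter G) (hu : UnitG M t χ) :
    ∑ q : Base M H × Fin (r ^ (k - 1)), spread (row hM H χ q) ≤ (r : ℤ) := by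
  classical
  set S := ∑ q : Base M H × Fin (r ^ (k - 1)), spread (row hM H χ q)
  have e : ((∑ i ∈ units r k, ∑ y ∈ Finset.univ.filter (fun y : Hs σ => ¬ r ∣ orderOf y),
      Complex.normSq ((χ : G → ℂ) (σ ^ i * (y : G))) : ℝ) : ℂ) = (Nat.card (Hs σ) : ℂ) / r * (S : ℂ) := by
    rw [← total hM H]
    push_cast
    refine Finset.sum_congr rfl fun i hi => Finset.sum_congr rfl fun y hy => ?_
    rw [← (part_eq hM H (Finset.mem_filter.1 hi).2 χ (Finset.mem_filter.1 hy).2).1 hu, Complex.mul_conj]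
  have e' : (∑ i ∈ units r k, ∑ y ∈ Finset.univ.filter (fun y : Hs σ => ¬ r ∣ orderOf y),
      Complex.normSq ((χ : G → ℂ) (σ ^ i * (y : G)))) = (Nat.card (Hs σ) : ℝ) / r * (S : ℝ) :=
    Complex.ofReal_injective (e.trans (by push_cast; rfl))
  have hb := budget hM H χ
  rw [e', div_mul_eq_mul_div, div_le_iff₀ (Nat.cast_pos.2 H.hr.pos)] at hb
  have hS : (S : ℝ) ≤ (r : ℝ) := le_of_mul_le_mul_left hb (Nat.cast_pos.2 Nat.card_pos)
  exact_mod_cast hS

theorem spread_zero (χ : IrrCharacter G) (hu : ¬ UnitG M t χ) (q : Base M H × Fin (r ^ (k - 1))) (c c' : Fin r) :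
    row hM H χ q c = row hM H χ q c' := by
  classical
  have h := total hM H χ
  rw [Finset.sum_eq_zero fun i hi => Finset.sum_eq_zero fun y hy => by
    rw [(part_eq hM H (Finset.mem_filter.1 hi).2 χ (Finset.mem_filter.1 hy).2).2 hu, zero_mul]] at h
  rcases mul_eq_zero.1 h.symm with h0 | h0
  · exact absurd h0 (div_ne_zero (Nat.cast_ne_zero.2 Nat.card_pos.ne') (Nat.cast_ne_zero.2 H.hr.ne_zero))
  have hq := (Finset.sum_eq_zero_iff_of_nonneg fun q _ => spread_nonneg (row hM H χ q)).1 (Int.cast_eq_zero.1 h0) q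
    (Finset.mem_univ _)
  have h2 := spread_two (row hM H χ q) (a := c) (b := c')
  rw [hq, Fintype.card_fin, mul_zero] at h2
  have : (row hM H χ q c - row hM H χ q c') ^ 2 ≤ 0 :=
    nonpos_of_mul_nonpos_right (a := (r : ℤ)) (by simpa using h2) (by exact_mod_cast H.hr.pos)
  nlinarith

/-- `1` at `(θ, a)`. -/
noncomputable def dl (θ₀ : Base M H) (a₀ : ℕ) (θ : Base M H) (a : ℕ) : ℤ :=
  open Classical in if θ = θ₀ ∧ ξ r k ^ a = ξ r k ^ a₀ then 1 else 0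

theorem sum_const_coef (i : ℕ) (hi : ¬ r ∣ i) (b : Fin (r ^ (k - 1))) :
    ∑ c : Fin r, ξ r k ^ (ex r k b c * i) = 0 := by
  simp only [ex, add_mul, pow_add, ← Finset.mul_sum]
  refine mul_eq_zero.2 (Or.inr ?_)
  simp only [show ∀ c : ℕ, r ^ (k - 1) * c * i = r ^ (k - 1) * i * c from fun c => by ring, pow_mul _ (r ^ (k - 1) * i)]
  rw [Fin.sum_univ_eq_sum_range (fun c => (ξ r k ^ (r ^ (k - 1) * i)) ^ c) r, geom_root (by
    rw [← pow_mul, show r ^ (k - 1) * i * r = r ^ k * i by rw [← rQ hM H]; ring, pow_mul,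
      (ξ_prim hM H).pow_eq_one, one_pow]), if_neg]
  rw [(ξ_prim hM H).pow_eq_one_iff_dvd, ← rQ hM H, mul_comm r]
  exact fun h => hi (Nat.dvd_of_mul_dvd_mul_left (pow_pos H.hr.pos _) h)

/-- Each character is constant on the cosets, or a single twisted base character. -/
theorem dichotomy (χ : IrrCharacter G) :
    (∀ (θ : Base M H) (a b : ℕ), ξ r k ^ (a * r) = ξ r k ^ (b * r) → co hM H θ a χ = co hM H θ b χ) ∨
      ∃ (θ₀ : Base M H) (a₀ : ℕ) (ε : ℤ), Pure M H θ₀.1 a₀ ε χ ∧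
        ∀ (θ : Base M H) (a b : ℕ), ξ r k ^ (a * r) = ξ r k ^ (b * r) →
          (co hM H θ a χ : ℤ) - co hM H θ b χ = ε * (dl H θ₀ a₀ θ a - dl H θ₀ a₀ θ b) := by
  classical
  have hconst : (∀ q : Base M H × Fin (r ^ (k - 1)), ∃ m, ∀ c, row hM H χ q c = m) →
      ∀ (θ : Base M H) (a b : ℕ), ξ r k ^ (a * r) = ξ r k ^ (b * r) → co hM H θ a χ = co hM H θ b χ := by
    intro h θ a b hab
    obtain ⟨b₁, c₁, e₁⟩ := exists_ex hM H a
    obtain ⟨b₂, c₂, e₂⟩ := exists_ex hM H b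
    rw [pow_mul, pow_mul, e₁, e₂, ← pow_mul, ← pow_mul] at hab
    obtain rfl := ex_class hM H hab
    obtain ⟨m, hm⟩ := h (θ, b₁)
    rw [co_congr hM H θ e₁, co_congr hM H θ e₂]
    have e := (hm c₁).trans (hm c₂).symm
    simp only [row] at e
    exact_mod_cast e
  by_cases hu : UnitG M t χ
  swap
  · exact Or.inl (hconst fun q => ⟨row hM H χ q ⟨0, H.hr.pos⟩, fun c => spread_zero hM H χ hu q c _⟩)
  rcases spread_family (row hM H χ) (by rw [Fintype.card_fin]; exact H.h5)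
    (by rw [Fintype.card_fin]; exact spread_sum_le hM H χ hu) with h | ⟨q₀, c₀, ε, hε, ⟨m₀, hm₀⟩, hrest⟩
  · exact Or.inl (hconst h)
  obtain ⟨θ₀, b₀⟩ := q₀
  right
  have hall : ∀ q, ∃ m, ∀ c, row hM H χ q c = m + if q = (θ₀, b₀) ∧ c = c₀ then ε else 0 := by
    intro q
    by_cases hq : q = (θ₀, b₀)
    · exact ⟨m₀, fun c => by simp [hq, hm₀]⟩
    · obtain ⟨m, hm⟩ := hrest q hq
      exact ⟨m, fun c => by simp [hq, hm]⟩
  choose m hm using hall
  refine ⟨θ₀, ex r k b₀ c₀, ε, ⟨θ₀.2, hε, hu, fun i hi y hy => ?_⟩, fun θ a b hab => ?_⟩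
  · rw [(part_eq hM H hi χ hy).1 hu]
    have hco : ∀ θ, coef hM H θ i χ = if θ = θ₀ then (ε : ℂ) * ξ r k ^ (ex r k b₀ c₀ * i) else 0 := by
      intro θ
      rw [coef, Fintype.sum_prod_type]
      have e : ∀ b c, (co hM H θ (ex r k b c) χ : ℂ) =
          (m (θ, b) : ℂ) + if (θ, b) = (θ₀, b₀) ∧ c = c₀ then (ε : ℂ) else 0 := fun b c => by
        have h := congrArg (fun z : ℤ => (z : ℂ)) (hm (θ, b) c)
        simp only [row] at h
        push_cast at h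
        exact h
      simp only [e, add_mul, Finset.sum_add_distrib, ← Finset.mul_sum, sum_const_coef hM H i hi, mul_zero,
        Finset.sum_const_zero, zero_add, Prod.mk.injEq, ite_mul, zero_mul]
      by_cases hθ : θ = θ₀
      · simp [hθ, ite_and]
      · simp [hθ]
    simp only [hco, ite_mul, zero_mul, Finset.sum_ite_eq', Finset.mem_univ, if_true]
  · obtain ⟨b₁, c₁, e₁⟩ := exists_ex hM H a
    obtain ⟨b₂, c₂, e₂⟩ := exists_ex hM H b
    rw [pow_mul, pow_mul, e₁, e₂, ← pow_mul, ← pow_mul] at hab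
    obtain rfl := ex_class hM H hab
    have hd : ∀ a c, ξ r k ^ a = ξ r k ^ ex r k b₁ c →
        (co hM H θ a χ : ℤ) = m (θ, b₁) + ε * dl H θ₀ (ex r k b₀ c₀) θ a := by
      intro a c e
      rw [co_congr hM H θ e]
      refine (hm (θ, b₁) c).trans ?_
      rw [dl, mul_ite, mul_one, mul_zero, e]
      refine congrArg _ (if_congr ?_ rfl rfl)
      simp only [Prod.mk.injEq]
      constructor
      · rintro ⟨⟨h1, rfl⟩, rfl⟩; exact ⟨h1, rfl⟩
      · rintro ⟨h1, h2⟩; exact ⟨⟨h1, (ex_inj hM H h2).1⟩, (ex_inj hM H h2).2⟩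
    rw [hd a c₁ e₁, hd b c₂ e₂]
    ring

/-- A character of unit central character vanishes on the sections or is pure there. -/
theorem unit_cases {χ : IrrCharacter G} (hu : UnitG M t χ) :
    (∀ i : ℕ, ¬ r ∣ i → ∀ y : Hs σ, ¬ r ∣ orderOf y → (χ : G → ℂ) (σ ^ i * (y : G)) = 0) ∨
      ∃ θ a ε, Pure M H θ a ε χ := by
  classical
  rcases dichotomy hM H χ with h | ⟨θ₀, a₀, ε, hp, -⟩
  · refine Or.inl fun i hi y hy => ?_
    rw [(part_eq hM H hi χ hy).1 hu]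
    refine Finset.sum_eq_zero fun θ _ => ?_
    have hc : coef hM H θ i χ = 0 := by
      rw [coef, Fintype.sum_prod_type]
      refine Finset.sum_eq_zero fun b _ => ?_
      have e : ∀ c, co hM H θ (ex r k b c) χ = co hM H θ (ex r k b ⟨0, H.hr.pos⟩) χ := fun c =>
        h θ _ _ (by rw [ξ_ex_r hM H, ξ_ex_r hM H])
      simp only [e, ← Finset.mul_sum, sum_const_coef hM H i hi, mul_zero]
    rw [hc, zero_mul]
  · exact Or.inr ⟨_, _, _, hp⟩

theorem one_reg : ¬ r ∣ orderOf (1 : Hs σ) := by rw [orderOf_one, Nat.dvd_one]; exact H.hr.ne_one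

theorem one_not_dvd : ¬ r ∣ 1 := Nat.dvd_one.not.2 H.hr.ne_one

/-- The parameters of a pure character are unique. -/
theorem pure_unique {χ : IrrCharacter G} {θ θ' : IrrCharacter (Hs σ)} {a a' : ℕ} {ε ε' : ℤ}
    (h : Pure M H θ a ε χ) (h' : Pure M H θ' a' ε' χ) : θ = θ' ∧ ξ r k ^ a = ξ r k ^ a' ∧ ε = ε' := by
  classical
  have hv : ∀ y : Hs σ, ¬ r ∣ orderOf y →
      (ε : ℂ) * ξ r k ^ a * (θ : Hs σ → ℂ) y = (ε' : ℂ) * ξ r k ^ a' * (θ' : Hs σ → ℂ) y := fun y hy => by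
    have e := (h.val 1 (one_not_dvd hM H) y hy).symm.trans (h'.val 1 (one_not_dvd hM H) y hy)
    simpa using e
  have hne : (ε : ℂ) * ξ r k ^ a ≠ 0 :=
    mul_ne_zero (by rcases h.sign with e | e <;> simp [e]) (pow_ne_zero _ (ξ_ne_zero hM H))
  have hθ : θ = θ' := by
    by_contra hne'
    have e : ∑ y ∈ Finset.univ.filter (fun y : Hs σ => ¬ r ∣ orderOf y),
        (ε : ℂ) * ξ r k ^ a * ((θ : Hs σ → ℂ) y * conj ((θ : Hs σ → ℂ) y)) =
      ∑ y ∈ Finset.univ.filter (fun y : Hs σ => ¬ r ∣ orderOf y),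
        (ε' : ℂ) * ξ r k ^ a' * ((θ' : Hs σ → ℂ) y * conj ((θ : Hs σ → ℂ) y)) :=
      Finset.sum_congr rfl fun y hy => by
        rw [← mul_assoc, ← mul_assoc, hv y (Finset.mem_filter.1 hy).2]
    rw [← Finset.mul_sum, ← Finset.mul_sum, base_orth hM H h.base h.base, base_orth hM H h'.base h.base,
      if_pos rfl, if_neg (Ne.symm hne'), mul_zero] at e
    exact mul_ne_zero hne (card_div_ne hM H) e
  subst hθ
  have e := mul_right_cancel₀ (irr_ne_zero θ.2) (hv 1 (one_reg hM H))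
  have hR : Odd (r ^ k) := (H.hr.odd_of_ne_two (by have := H.h5; omega)).pow
  have eR := congrArg (fun z : ℂ => z ^ r ^ k) e
  simp only [mul_pow, ξ_pow_R hM H, mul_one] at eR
  have hεε : ε = ε' := by
    rcases h.sign with rfl | rfl <;> rcases h'.sign with rfl | rfl <;>
      first
        | rfl
        | (push_cast at eR; rw [hR.neg_one_pow, one_pow] at eR; norm_num at eR)
  subst hεε
  exact ⟨rfl, mul_left_cancel₀ (left_ne_zero_of_mul hne) e, rfl⟩

/-- The difference of two lifts. -/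
noncomputable def diff {θ : IrrCharacter (Hs σ)} (hθ : IsBase M H θ) (a b : ℕ) : Hs σ → ℂ :=
  (up hM H hθ a : Hs σ → ℂ) - (up hM H hθ b : Hs σ → ℂ)

theorem diff_zero {θ : IrrCharacter (Hs σ)} (hθ : IsBase M H θ) {a b : ℕ}
    (hab : ξ r k ^ (a * r) = ξ r k ^ (b * r)) (g : Hs σ)
    (hg : ¬ ∃ (i : ℕ) (y : Hs σ), ¬ r ∣ i ∧ ¬ r ∣ orderOf y ∧ (g : G) = σ ^ i * (y : G)) :
    diff hM H hθ a b g = 0 := by
  obtain ⟨-, ha, ha0⟩ := up_spec hM H hθ a
  obtain ⟨-, hb, hb0⟩ := up_spec hM H hθ b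
  rw [diff, Pi.sub_apply]
  by_cases h : ∃ (j : ℕ) (y : Hs σ), ¬ r ∣ orderOf y ∧ g = ρ σ ^ j * y
  · obtain ⟨j, y, hy, rfl⟩ := h
    by_cases hj : r ∣ j
    · obtain ⟨l, rfl⟩ := hj
      rw [ha _ y hy, hb _ y hy, ← mul_assoc, ← mul_assoc, pow_mul, hab, ← pow_mul, sub_self]
    · exact absurd ⟨j, y, hj, hy, by simp [ρ]⟩ hg
  · push Not at h
    rw [ha0 g fun j y hy => h j y hy, hb0 g fun j y hy => h j y hy, sub_self]

/-- The set on which the differences live. -/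
def secSet (r : ℕ) (σ : G) : Set G :=
  {g | ∃ (i : ℕ) (y : Hs σ), ¬ r ∣ i ∧ ¬ r ∣ orderOf y ∧ g = σ ^ i * (y : G)}

theorem secSet_ti (g : G) (hg : g ∉ Hs σ) (s : G) (hs : s ∈ secSet r σ) (hs' : g * s * g⁻¹ ∈ secSet r σ) :
    s = 1 := by
  obtain ⟨i, y, hi, hy, rfl⟩ := hs
  obtain ⟨i', y', hi', hy', e⟩ := hs'
  exact absurd (ti hM H hi hi' hy hy' e).1 hg

theorem diff_class {θ : IrrCharacter (Hs σ)} (hθ : IsBase M H θ) (a b : ℕ) :
    IsClassFunction (Hs σ) (diff hM H hθ a b) := fun x y => by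
  rw [diff, Pi.sub_apply, Pi.sub_apply]
  exact congrArg₂ (· - ·) (irr_isClassFun (up hM H hθ a) x y) (irr_isClassFun (up hM H hθ b) x y)

theorem diff_one {θ : IrrCharacter (Hs σ)} (hθ : IsBase M H θ) (a b : ℕ) : diff hM H hθ a b 1 = 0 := by
  obtain ⟨-, ha, -⟩ := up_spec hM H hθ a
  obtain ⟨-, hb, -⟩ := up_spec hM H hθ b
  have e1 := ha 0 1 (one_reg hM H)
  have e2 := hb 0 1 (one_reg hM H)
  simp only [pow_zero, one_mul, mul_zero] at e1 e2
  rw [diff, Pi.sub_apply, e1, e2, sub_self]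

theorem ind_diff {θ : IrrCharacter (Hs σ)} (hθ : IsBase M H θ) {a b : ℕ}
    (hab : ξ r k ^ (a * r) = ξ r k ^ (b * r)) (hne : ξ r k ^ a ≠ ξ r k ^ b) :
    ∃ A B : IrrCharacter G, A ≠ B ∧ indFun (Hs σ) (diff hM H hθ a b) = (A : G → ℂ) - (B : G → ℂ) := by
  classical
  have hgen : IsGeneralizedCharacter G (indFun (Hs σ) (diff hM H hθ a b)) :=
    isGenChar_indFun _ ⟨_, _, isCharacter_of_irr (up hM H hθ a).2, isCharacter_of_irr (up hM H hθ b).2, rfl⟩
  have hsupp : ∀ x : Hs σ, (x : G) ∉ secSet r σ → diff hM H hθ a b x = 0 :=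
    fun x hx => diff_zero hM H hθ hab x hx
  have hnorm : classInner (indFun (Hs σ) (diff hM H hθ a b)) (indFun (Hs σ) (diff hM H hθ a b)) = 2 := by
    rw [classInner_indFun_of_TI (Hs σ) (secSet r σ) (secSet_ti hM H) (diff_class hM H hθ a b) hsupp hsupp
      (diff_one hM H hθ a b), diff, classInner_sub_left, classInner_sub_right, classInner_sub_right,
      classInner_irr_self (up hM H hθ a).2, classInner_irr_self (up hM H hθ b).2]
    have h1 : (up hM H hθ a : Hs σ → ℂ) ≠ (up hM H hθ b : Hs σ → ℂ) := fun e =>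
      hne (up_inj hM H hθ hθ (Subtype.ext e)).2
    rw [classInner_irr_ne (up hM H hθ a).2 (up hM H hθ b).2 h1,
      classInner_irr_ne (up hM H hθ b).2 (up hM H hθ a).2 h1.symm]
    ring
  obtain ⟨A, B, hA, hB, hAB, e⟩ := exists_eq_irr_sub_irr hgen hnorm (by
    rw [indFun_apply_one, diff_one hM H hθ, mul_zero])
  exact ⟨⟨A, hA⟩, ⟨B, hB⟩, fun h => hAB (congrArg Subtype.val h), e⟩

theorem inner_diff {θ : Base M H} {a b : ℕ} (χ : IrrCharacter G) :
    classInner (indFun (Hs σ) (diff hM H θ.2 a b)) (χ : G → ℂ) = (co hM H θ a χ : ℂ) - co hM H θ b χ := by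
  rw [frobenius_reciprocity _ _ (irr_isClassFun χ), diff, classInner_sub_left,
    ← classInner_comm (fun h : Hs σ => (χ : G → ℂ) h), ← classInner_comm (fun h : Hs σ => (χ : G → ℂ) h),
    co_spec, co_spec, map_natCast, map_natCast]

/-- A pure character shifts to every exponent with the same `r`-th power. -/
theorem shift {θ : IrrCharacter (Hs σ)} {a b : ℕ} {ε : ℤ} {χ : IrrCharacter G} (h : Pure M H θ a ε χ)
    (hab : ξ r k ^ (a * r) = ξ r k ^ (b * r)) :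
    ∃ χ' : IrrCharacter G, Pure M H θ b ε χ' ∧ ∀ g, ¬ InS r σ g → (χ' : G → ℂ) g = (χ : G → ℂ) g := by
  classical
  by_cases hne : ξ r k ^ a = ξ r k ^ b
  · refine ⟨χ, ⟨h.base, h.sign, h.unit, fun i hi y hy => ?_⟩, fun g _ => rfl⟩
    rw [h.val i hi y hy, pow_mul, hne, ← pow_mul]
  set θ' : Base M H := ⟨θ, h.base⟩
  obtain ⟨A, B, hAB, e⟩ := ind_diff hM H h.base hab hne
  have hco : (co hM H θ' a χ : ℤ) - co hM H θ' b χ = ε := by
    rcases dichotomy hM H χ with hc | ⟨θ₀, a₀, ε₀, hp, hd⟩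
    · exfalso
      have h0 : (χ : G → ℂ) (σ ^ 1 * ((1 : Hs σ) : G)) = 0 := by
        rw [(part_eq hM H (one_not_dvd hM H) χ (one_reg hM H)).1 h.unit]
        refine Finset.sum_eq_zero fun θ _ => ?_
        rw [coef, Fintype.sum_prod_type, Finset.sum_eq_zero, zero_mul]
        intro b _
        simp only [fun c => hc θ (ex r k b c) (ex r k b ⟨0, H.hr.pos⟩) (by rw [ξ_ex_r hM H, ξ_ex_r hM H]),
          ← Finset.mul_sum, sum_const_coef hM H 1 (one_not_dvd hM H), mul_zero]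
      rw [h.val 1 (one_not_dvd hM H) 1 (one_reg hM H)] at h0
      exact mul_ne_zero (mul_ne_zero (by rcases h.sign with e | e <;> simp [e]) (pow_ne_zero _ (ξ_ne_zero hM H)))
        (irr_ne_zero θ.2) h0
    · obtain ⟨h1, h2, h3⟩ := pure_unique hM H h hp
      have e0 : θ' = θ₀ := Subtype.ext h1
      rw [hd θ' a b hab, dl, dl, if_pos ⟨e0, h2⟩, if_neg fun h4 => hne (h2.trans h4.2.symm), h3]
      ring
  have hin := inner_diff hM H (θ := θ') (a := a) (b := b) χ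
  rw [e, classInner_sub_left, classInner_irr A.2 χ.2, classInner_irr B.2 χ.2,
    show (co hM H θ' a χ : ℂ) - co hM H θ' b χ = (ε : ℂ) by exact_mod_cast congrArg (fun z : ℤ => (z : ℂ)) hco]
    at hin
  set τf := indFun (Hs σ) (diff hM H h.base a b)
  have hτS : ∀ i, ¬ r ∣ i → ∀ y : Hs σ, ¬ r ∣ orderOf y →
      τf (σ ^ i * (y : G)) = (ξ r k ^ (a * i) - ξ r k ^ (b * i)) * (θ : Hs σ → ℂ) y := by
    intro i hi y hy
    have := indFun_apply_of_TI (Hs σ) (secSet r σ) (secSet_ti hM H) (diff_class hM H h.base a b)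
      (fun x hx => diff_zero hM H h.base hab x hx) (diff_one hM H h.base a b) (ρ σ ^ i * y)
      ⟨i, y, hi, hy, by simp [ρ]⟩
    rw [show σ ^ i * (y : G) = ((ρ σ ^ i * y : Hs σ) : G) by simp [ρ]]
    simp only [τf]
    rw [this, diff, Pi.sub_apply, (up_spec hM H h.base a).2.1 i y hy, (up_spec hM H h.base b).2.1 i y hy]
    ring
  have hτ0 : ∀ g, ¬ InS r σ g → τf g = 0 := by
    intro g hg
    simp only [τf, indFun]
    refine mul_eq_zero.2 (Or.inr (Finset.sum_eq_zero fun x _ => ?_))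
    by_cases hx : x⁻¹ * g * x ∈ Hs σ
    · rw [extendByZero_of_mem _ _ hx]
      refine diff_zero hM H h.base hab _ fun ⟨i, y, hi, hy, e⟩ => hg ⟨x, i, y, hi, hy, ?_⟩
      rw [← e]; group
    · exact extendByZero_of_not_mem _ _ hx
  have hcase : (χ = A ∧ ε = 1) ∨ (χ = B ∧ ε = -1) := by
    by_cases h1 : A = χ
    · subst h1
      rw [if_pos rfl, if_neg (fun e => hAB (Subtype.ext e.symm))] at hin
      exact Or.inl ⟨rfl, by exact_mod_cast (sub_zero (1 : ℂ) ▸ hin).symm⟩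
    · have hA : (A : G → ℂ) ≠ (χ : G → ℂ) := fun e => h1 (Subtype.ext e)
      rw [if_neg hA] at hin
      by_cases h2 : B = χ
      · subst h2
        rw [if_pos rfl, zero_sub] at hin
        exact Or.inr ⟨rfl, by exact_mod_cast hin.symm⟩
      · rw [if_neg (fun e => h2 (Subtype.ext e)), sub_zero] at hin
        rcases h.sign with e | e <;> subst e <;> norm_num at hin
  have hnew : ∀ χ' : IrrCharacter G, (∀ g, (χ' : G → ℂ) g = (χ : G → ℂ) g - (ε : ℂ) * τf g) →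
      ∃ χ' : IrrCharacter G, Pure M H θ b ε χ' ∧ ∀ g, ¬ InS r σ g → (χ' : G → ℂ) g = (χ : G → ℂ) g := by
    intro χ' hχ'
    have hval : ∀ i, ¬ r ∣ i → ∀ y : Hs σ, ¬ r ∣ orderOf y →
        (χ' : G → ℂ) (σ ^ i * (y : G)) = (ε : ℂ) * ξ r k ^ (b * i) * (θ : Hs σ → ℂ) y := fun i hi y hy => by
      rw [hχ', h.val i hi y hy, hτS i hi y hy]
      ring
    refine ⟨χ', ⟨h.base, h.sign, ?_, hval⟩, fun g hg => by rw [hχ', hτ0 g hg, mul_zero, sub_zero]⟩
    by_contra hu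
    have h0 : ∀ θ₁ : Base M H, co hM H θ₁ a χ' = co hM H θ₁ b χ' := by
      rcases dichotomy hM H χ' with hc | ⟨θ₀, a₀, ε₀, hp, -⟩
      · exact fun θ₁ => hc θ₁ a b hab
      · exact absurd hp.unit hu
    have hi2 := inner_diff hM H (θ := θ') (a := a) (b := b) χ'
    rw [h0 θ', sub_self, show indFun (Hs σ) (diff hM H h.base a b) = _ from e, classInner_sub_left, classInner_irr A.2 χ'.2, classInner_irr B.2 χ'.2] at hi2
    have hor : χ' = A ∨ χ' = B := by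
      rcases hcase with ⟨rfl, rfl⟩ | ⟨rfl, rfl⟩
      · refine Or.inr (Subtype.ext (funext fun g => ?_))
        rw [hχ', show τf = _ from e, Pi.sub_apply]; push_cast; ring
      · refine Or.inl (Subtype.ext (funext fun g => ?_))
        rw [hχ', show τf = _ from e, Pi.sub_apply]; push_cast; ring
    have hAB' : (A : G → ℂ) ≠ (B : G → ℂ) := fun e => hAB (Subtype.ext e)
    rcases hor with rfl | rfl
    · rw [if_pos rfl, if_neg hAB'.symm] at hi2; norm_num at hi2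
    · rw [if_pos rfl, if_neg hAB'] at hi2; norm_num at hi2
  rcases hcase with ⟨rfl, rfl⟩ | ⟨rfl, rfl⟩
  · exact hnew B fun g => by rw [show τf = _ from e, Pi.sub_apply]; push_cast; ring
  · exact hnew A fun g => by rw [show τf = _ from e, Pi.sub_apply]; push_cast; ring

/-- Every base character occurs at exponent zero. -/
theorem exists_pure {θ : IrrCharacter (Hs σ)} (hθ : IsBase M H θ) :
    ∃ (χ : IrrCharacter G) (ε : ℤ), Pure M H θ 0 ε χ := by
  classical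
  set b := r ^ (k - 1)
  have hb : ξ r k ^ (0 * r) = ξ r k ^ (b * r) := by
    rw [zero_mul, pow_zero, show b * r = r ^ k by rw [← rQ hM H, mul_comm], (ξ_prim hM H).pow_eq_one]
  have hne : ξ r k ^ 0 ≠ ξ r k ^ b := by
    rw [pow_zero]
    exact Ne.symm ((ξ_prim hM H).pow_ne_one_of_pos_of_lt (pow_ne_zero _ H.hr.ne_zero)
      (by rw [← rQ hM H]; exact lt_mul_of_one_lt_left (pow_pos H.hr.pos _) H.hr.one_lt))
  obtain ⟨A, B, hAB, e⟩ := ind_diff hM H hθ hb hne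
  have hin := inner_diff hM H (θ := ⟨θ, hθ⟩) (a := 0) (b := b) A
  rw [e, classInner_sub_left, classInner_irr A.2 A.2, classInner_irr B.2 A.2, if_pos rfl,
    if_neg (fun h => hAB (Subtype.ext h.symm)), sub_zero] at hin
  rcases dichotomy hM H A with hc | ⟨θ₀, a₀, ε, hp, hd⟩
  · rw [hc _ _ _ hb, sub_self] at hin
    exact absurd hin one_ne_zero
  have h1 : (co hM H ⟨θ, hθ⟩ 0 A : ℤ) - co hM H ⟨θ, hθ⟩ b A = 1 := by exact_mod_cast hin.symm
  rw [hd _ _ _ hb] at h1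
  have hor : θ = θ₀.1 ∧ (ξ r k ^ 0 = ξ r k ^ a₀ ∨ ξ r k ^ b = ξ r k ^ a₀) := by
    by_contra hne'
    have z : ∀ x, x = 0 ∨ x = b → dl H θ₀ a₀ ⟨θ, hθ⟩ x = 0 := by
      intro x hx
      rw [dl, if_neg]
      rintro ⟨h3, h4⟩
      refine hne' ⟨congrArg Subtype.val h3, ?_⟩
      rcases hx with rfl | rfl
      · exact Or.inl h4
      · exact Or.inr h4
    rw [z 0 (Or.inl rfl), z b (Or.inr rfl), sub_self, mul_zero] at h1
    exact zero_ne_one h1
  obtain ⟨rfl, hor⟩ := hor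
  have hshift : ξ r k ^ (a₀ * r) = ξ r k ^ (0 * r) := by
    rw [pow_mul, pow_mul]
    rcases hor with h | h
    · rw [h]
    · rw [← h, ← pow_mul, ← hb, pow_mul]
  obtain ⟨χ, hχ, -⟩ := shift hM H hp hshift
  exact ⟨χ, ε, hχ⟩

end CfsgLib.Walter.Suz
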