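import Cfsg.Agent.Lib.Walter.TwoPairs
import Cfsg.Agent.Lib.JankoThompson.PSLChar

/-!
The values of the characters of `G` on the section of `t`, and the coefficient vectors.

Blueprint: `blueprint/Walter.md`, case (R).
-/

set_option autoImplicit false
set_option linter.unusedSectionVars false
set_option linter.style.haveILetI false

namespace CfsgLib.Walter.RB

open Cfsg CfsgLib CfsgLib.CharTheory CfsgLib.Blocks
open scoped ComplexConjugate

universe u

theorem inner_int {K : Type u} [Group K] [Fintype K] {χ f : K → ℂ} (hχ : IsCharacter K χ)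
    (hf : IsGeneralizedCharacter K f) : ∃ n : ℤ, classInner χ f = n := by
  obtain ⟨a, b, ha, hb, rfl⟩ := hf
  obtain ⟨m, hm⟩ := classInner_char_nat hχ ha
  obtain ⟨n, hn⟩ := classInner_char_nat hχ hb
  exact ⟨(m : ℤ) - n, by rw [classInner_sub_right, hm, hn]; push_cast; ring⟩

variable {G : Type u} [Group G] [Fintype G] (C : Coord G) [Fintype (E C)] [Fintype (H C)]

/-- The coefficient on the section of `t`. -/
noncomputable def cf (f : E C → ℂ) (χ : G → ℂ) : ℂ := classInner (fun e : E C => χ (C.t * (e : G))) f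

/-- Multiplication by a linear character. -/
noncomputable def tv (ν : Subgroup.zpowers C.φ →* ℂˣ) (f : E C → ℂ) : E C → ℂ :=
  fun e => (ν (proj C e) : ℂ) * f e

theorem tv_one (f : E C → ℂ) : tv C 1 f = f := funext fun e => by simp [tv]

theorem sum_irr_H (F : IrrCharacter (H C) → ℂ) :
    ∑ ψ : IrrCharacter (H C), F ψ = ∑ s : Bool, ∑ η : IrrCharacter (E C), F (chH C s η) := by
  rw [← Equiv.sum_comp (Equiv.ofBijective _ ⟨chH_inj C, chH_surj C⟩) F, Fintype.sum_prod_type]
  rfl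

/-- The coefficient of a generalised character is an integer. -/
theorem cf_int {f : E C → ℂ} (hf : IsGeneralizedCharacter (E C) f) (χ : IrrCharacter G) :
    ∃ n : ℤ, cf C f (χ : G → ℂ) = n := by
  obtain ⟨n, hn⟩ := inner_int (isCharacter_comp (isCharacter_of_irr χ.2) (E C).subtype) hf
  obtain ⟨a, b, ha, hb, hab⟩ := id hf
  obtain ⟨m, hm⟩ := inner_int (K := H C) (f := fun g => f (prE C g))
    (isCharacter_comp (isCharacter_of_irr χ.2) (H C).subtype)
    ⟨fun g => a (prE C g), fun g => b (prE C g), isCharacter_comp ha (prE C), isCharacter_comp hb (prE C),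
      funext fun g => by rw [hab]; rfl⟩
  refine ⟨2 * m - n, ?_⟩
  push_cast
  rw [← hm, ← hn, classInner, classInner, cf, classInner, sum_H, card_H]
  simp only [prE_eH, eH_zero, eH_one, Subgroup.subtype_apply]
  push_cast
  have : (Nat.card (E C) : ℂ) ≠ 0 := Nat.cast_ne_zero.2 Nat.card_pos.ne'
  field_simp
  ring

theorem tv_gen {f : E C → ℂ} (hf : IsGeneralizedCharacter (E C) f) (ν : Subgroup.zpowers C.φ →* ℂˣ) :
    IsGeneralizedCharacter (E C) (tv C ν f) :=
  isGenChar_mul (isGenChar_of_char (isCharacter_of_irr (lin C ν).2)) hf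

theorem tv_class {f : E C → ℂ} (hf : IsClassFunction (E C) f) (ν : Subgroup.zpowers C.φ →* ℂˣ) :
    IsClassFunction (E C) (tv C ν f) :=
  isClassFunction_mul (isClassFunction_irr (lin C ν).2) hf

theorem coe_odd {e : E C} (he : ¬ 2 ∣ orderOf e) : (eH C (Multiplicative.ofAdd 0, e) : G) = e := eH_zero C e

variable {M : Ideal AlgInt} (hM : IsPModular 2 M)
include hM

/-- Products of the coefficients. -/
theorem sum_cf {f g : E C → ℂ} (hf : IsClassFunction (E C) f) (hfe : ∀ e : E C, 2 ∣ orderOf e → f e = 0)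
    (hge : ∀ e : E C, 2 ∣ orderOf e → g e = 0) :
    ∑ χ : IrrCharacter G, conj (cf C f (χ : G → ℂ)) * cf C g (χ : G → ℂ) = 2 * classInner f g := by
  classical
  have hx : ∃ k : ℕ, orderOf C.t = 2 ^ k := ⟨1, by rw [C.t_ord, pow_one]⟩
  have key : ∀ e e' : E C, ¬ 2 ∣ orderOf e → ¬ 2 ∣ orderOf e' →
      ∑ χ : IrrCharacter G, (χ : G → ℂ) (C.t * (e' : G)) * conj ((χ : G → ℂ) (C.t * (e : G))) =
      2 * ∑ η : IrrCharacter (E C), (η : E C → ℂ) e' * conj ((η : E C → ℂ) e) := by
    intro e e' he he'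
    have h := sum_sec_mul_conj hM (isCentr_H C) hx (c := eH C (Multiplicative.ofAdd 0, e'))
      (c' := eH C (Multiplicative.ofAdd 0, e)) (not_dvd_eH C he') (not_dvd_eH C he)
    simp only [sec, eH_zero, sum_irr_H, chH_zero, Fintype.sum_bool] at h
    rw [h]; ring
  have hLHS : ∑ χ : IrrCharacter G, conj (cf C f (χ : G → ℂ)) * cf C g (χ : G → ℂ) =
      (Nat.card (E C) : ℂ)⁻¹ ^ 2 * ∑ e : E C, ∑ e' : E C, f e * conj (g e') *
        ∑ χ : IrrCharacter G, (χ : G → ℂ) (C.t * (e' : G)) * conj ((χ : G → ℂ) (C.t * (e : G))) := by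
    simp only [cf, classInner, map_mul, map_inv₀, map_natCast, map_sum, Complex.conj_conj]
    simp only [Finset.mul_sum, Finset.sum_mul]
    rw [Finset.sum_comm]
    conv_rhs => rw [Finset.sum_comm]
    refine Finset.sum_congr rfl fun e _ => ?_
    rw [Finset.sum_comm]
    refine Finset.sum_congr rfl fun e' _ => ?_
    refine Finset.sum_congr rfl fun χ _ => by ring
  rw [hLHS, classInner_eq_sum_irr hf, Finset.mul_sum _ _ (2 : ℂ)]
  simp only [classInner, map_mul, map_inv₀, map_natCast, map_sum, Complex.conj_conj]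
  rw [Finset.sum_congr rfl fun e _ => Finset.sum_congr rfl fun e' _ =>
    show f e * conj (g e') * ∑ χ : IrrCharacter G, (χ : G → ℂ) (C.t * (e' : G)) * conj ((χ : G → ℂ) (C.t * (e : G))) =
      f e * conj (g e') * (2 * ∑ η : IrrCharacter (E C), (η : E C → ℂ) e' * conj ((η : E C → ℂ) e)) by
    by_cases he : 2 ∣ orderOf e
    · rw [hfe e he]; ring
    by_cases he' : 2 ∣ orderOf e'
    · rw [hge e' he']; simp
    rw [key e e' he he']]
  simp only [Finset.mul_sum, Finset.sum_mul]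
  rw [Finset.sum_comm]
  conv_lhs => arg 2; ext e'; rw [Finset.sum_comm]
  rw [Finset.sum_comm]
  refine Finset.sum_congr rfl fun η _ => ?_
  refine Finset.sum_congr rfl fun e' _ => Finset.sum_congr rfl fun e _ => ?_
  ring

omit hM in
/-- The coefficients are orthogonal to the degrees. -/
theorem sum_deg (f : E C → ℂ) :
    ∑ χ : IrrCharacter G, (χ : G → ℂ) 1 * cf C f (χ : G → ℂ) = 0 := by
  classical
  simp only [cf, classInner, Finset.mul_sum]
  rw [Finset.sum_comm]
  refine Finset.sum_eq_zero fun e _ => ?_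
  have h := sum_irr_apply_mul_degree (G := G) (C.t * (e : G))
  have hne : C.t * (e : G) ≠ 1 := fun h => t_mul_not_mem C e (h ▸ one_mem _)
  rw [if_neg hne] at h
  rw [show (0 : ℂ) = (Nat.card (E C) : ℂ)⁻¹ * conj (f e) * 0 by ring, ← h, Finset.mul_sum]
  exact Finset.sum_congr rfl fun χ _ => by ring

omit hM in
/-- The weighted sum against the squares at `t` only sees `L₂(q)`. -/
theorem sum_T (ν : Subgroup.zpowers C.φ →* ℂˣ) {f : E C → ℂ} (hfe : ∀ e : E C, 2 ∣ orderOf e → f e = 0) :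
    ∑ χ : IrrCharacter G, cf C (tv C ν f) (χ : G → ℂ) * ((χ : G → ℂ) C.t ^ 2 / (χ : G → ℂ) 1) =
      ∑ χ : IrrCharacter G, cf C f (χ : G → ℂ) * ((χ : G → ℂ) C.t ^ 2 / (χ : G → ℂ) 1) := by
  classical
  simp only [cf, classInner, Finset.mul_sum, Finset.sum_mul]
  rw [Finset.sum_comm]
  conv_rhs => rw [Finset.sum_comm]
  refine Finset.sum_congr rfl fun e _ => ?_
  by_cases hcase : 2 ∣ orderOf e
  · simp [tv, hfe e hcase]
  by_cases hν : ν (proj C e) = 1
  · simp [tv, hν]
  -- there are no pairs of involutions with product `t e`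
  have hN : ∑ χ : IrrCharacter G, (χ : G → ℂ) (C.t * (e : G)) * ((χ : G → ℂ) C.t ^ 2 / (χ : G → ℂ) 1) = 0 := by
    have hcard : (Nat.card G : ℂ) ^ 2 ≠ 0 := pow_ne_zero _ (Nat.cast_ne_zero.2 Nat.card_pos.ne')
    have h1 : ∀ χ : IrrCharacter G, (χ : G → ℂ) (C.t * (e : G)) * ((χ : G → ℂ) C.t ^ 2 / (χ : G → ℂ) 1) =
        ((Nat.card G : ℂ) ^ 2)⁻¹ * ∑ a : G, ∑ b : G, (χ : G → ℂ) (C.t * (e : G)) *
          (χ : G → ℂ) (a * C.t * a⁻¹ * (b * C.t * b⁻¹)) := by
      intro χ
      simp only [← Finset.mul_sum]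
      rw [JankoThompson.sum_pairs_irr χ.2 C.t]
      field_simp
    rw [Finset.sum_congr rfl fun χ _ => h1 χ, ← Finset.mul_sum, Finset.sum_comm]
    refine mul_eq_zero_of_right _ (Finset.sum_eq_zero fun a _ => ?_)
    rw [Finset.sum_comm]
    refine Finset.sum_eq_zero fun b _ => ?_
    set z := a * C.t * a⁻¹ * (b * C.t * b⁻¹)
    have h2 : ∀ χ : IrrCharacter G, (χ : G → ℂ) z = conj ((χ : G → ℂ) z⁻¹) := fun χ => by
      rw [irr_conjInv, inv_inv]
    simp only [h2]
    rw [sum_irr_mul_conj, if_neg]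
    intro hc
    obtain ⟨w, hw⟩ := isConj_iff.1 hc
    set u := w⁻¹ * (b * C.t * b⁻¹) * w with hu
    have huu : u * u = 1 := by
      calc u * u = w⁻¹ * b * (C.t * C.t) * b⁻¹ * w := by rw [hu]; group
        _ = 1 := by rw [C.tt]; group
    have hx : C.t * (e : G) = w⁻¹ * z⁻¹ * w := by rw [← hw]; group
    have hinv : u * (C.t * (e : G)) * u⁻¹ = (C.t * (e : G))⁻¹ := by
      rw [hx, inv_eq_of_mul_eq_one_right huu, hu]
      have hbt : b * C.t⁻¹ * b⁻¹ = b * C.t * b⁻¹ := by rw [inv_eq_of_mul_eq_one_right C.tt]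
      have hat : a * C.t⁻¹ * a⁻¹ = a * C.t * a⁻¹ := by rw [inv_eq_of_mul_eq_one_right C.tt]
      calc w⁻¹ * (b * C.t * b⁻¹) * w * (w⁻¹ * z⁻¹ * w) * (w⁻¹ * (b * C.t * b⁻¹) * w)
          = w⁻¹ * (b * (C.t * C.t⁻¹) * b⁻¹) * (a * C.t⁻¹ * a⁻¹) * (b * C.t * b⁻¹) * w := by simp only [z]; group
        _ = w⁻¹ * (a * C.t * a⁻¹ * (b * C.t * b⁻¹)) * w := by rw [hat, mul_inv_cancel]; group
        _ = (w⁻¹ * z⁻¹ * w)⁻¹ := by simp only [z]; group
    -- so `u` centralises `t`
    have hte : Commute C.t (e : G) := commute_E C e.2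
    have ht : (C.t * (e : G)) ^ orderOf e = C.t := by
      rw [hte.mul_pow, ← SubmonoidClass.coe_pow, pow_orderOf_eq_one, Subgroup.coe_one, mul_one]
      obtain ⟨k, hk⟩ := Nat.not_even_iff_odd.1 fun h => hcase (even_iff_two_dvd.1 h)
      rw [hk, pow_succ, pow_mul, pow_two, C.tt, one_pow, one_mul]
    have hut : u * C.t * u⁻¹ = C.t := by
      conv_lhs => rw [← ht, ← conj_pow, hinv, inv_pow, ht, inv_eq_of_mul_eq_one_right C.tt]
    have huH : u ∈ H C := (mem_H C).2 (mul_inv_eq_iff_eq_mul.1 hut)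
    obtain ⟨⟨i, d⟩, hd⟩ := (eH C).surjective ⟨u, huH⟩
    have h3 : (eH C (i, d)) * eH C (Multiplicative.ofAdd 1, e) * (eH C (i, d))⁻¹ =
        (eH C (Multiplicative.ofAdd 1, e))⁻¹ := by
      rw [hd]
      apply Subtype.ext
      simp only [Subgroup.coe_mul, Subgroup.coe_inv, eH_one]
      exact hinv
    rw [← map_inv, ← map_inv, ← map_mul, ← map_mul] at h3
    have h4 : d * e * d⁻¹ = e⁻¹ := congrArg Prod.snd ((eH C).injective h3)
    refine hν ?_
    have h5 : proj C e = (proj C e)⁻¹ := by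
      have h6 := congrArg (proj C) h4
      rwa [map_mul, map_mul, map_inv, map_inv, mul_comm' (proj C d), mul_inv_cancel_right] at h6
    have h7 : proj C e ^ 2 = 1 := by rw [pow_two]; exact eq_inv_iff_mul_eq_one.1 h5
    have h8 : proj C e = 1 := by
      rw [← orderOf_eq_one_iff]
      exact Nat.eq_one_of_dvd_coprimes (Nat.coprime_two_left.mpr C.odd_f) (orderOf_dvd_of_pow_eq_one h7)
        (C.φ_ord ▸ Nat.card_zpowers C.φ ▸ orderOf_dvd_natCard _)
    rw [h8, map_one]
  calc ∑ χ : IrrCharacter G, (Nat.card (E C) : ℂ)⁻¹ * ((χ : G → ℂ) (C.t * (e : G)) * conj (tv C ν f e)) *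
        ((χ : G → ℂ) C.t ^ 2 / (χ : G → ℂ) 1)
      = (Nat.card (E C) : ℂ)⁻¹ * conj (tv C ν f e) * ∑ χ : IrrCharacter G,
          (χ : G → ℂ) (C.t * (e : G)) * ((χ : G → ℂ) C.t ^ 2 / (χ : G → ℂ) 1) := by
        rw [Finset.mul_sum]; exact Finset.sum_congr rfl fun χ _ => by ring
    _ = (Nat.card (E C) : ℂ)⁻¹ * conj (f e) * ∑ χ : IrrCharacter G,
          (χ : G → ℂ) (C.t * (e : G)) * ((χ : G → ℂ) C.t ^ 2 / (χ : G → ℂ) 1) := by rw [hN]; ring
    _ = _ := by rw [Finset.mul_sum]; exact Finset.sum_congr rfl fun χ _ => by ring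

omit hM

/-! ### The three vectors -/

variable (D : EData C M)

/-- `1`, `η₀`, `η₁`. -/
noncomputable def dual : Option (Fin 2) → IrrCharacter (E C)
  | none => oneIrr (E C)
  | some j => D.η j

/-- `1 + St`, `ηⱼ + St`. -/
noncomputable def vec (k : Option (Fin 2)) : E C → ℂ :=
  (dual C D k : E C → ℂ) + (D.St : E C → ℂ)

theorem vec_gen (k : Option (Fin 2)) : IsGeneralizedCharacter (E C) (vec C D k) :=
  isGenChar_add (isGenChar_of_char (isCharacter_of_irr (dual C D k).2))
    (isGenChar_of_char (isCharacter_of_irr D.St.2))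

theorem vec_class (k : Option (Fin 2)) : IsClassFunction (E C) (vec C D k) :=
  isClassFunction_add (isClassFunction_irr (dual C D k).2) (isClassFunction_irr D.St.2)

theorem dual_ne_st (k : Option (Fin 2)) : dual C D k ≠ D.St := by
  rcases k with _ | j
  exacts [D.st_ne.symm, D.η_ne_st j]

theorem dual_inj : Function.Injective (dual C D) := by
  rintro (_ | i) (_ | j) h
  · rfl
  · exact absurd h.symm (D.η_ne_one j)
  · exact absurd h (D.η_ne_one i)
  · refine congrArg some ?_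
    fin_cases i <;> fin_cases j <;> first
      | rfl
      | exact absurd h D.η_ne
      | exact absurd h.symm D.η_ne

theorem irr_inner (a b : IrrCharacter (E C)) [Decidable (a = b)] :
    classInner (a : E C → ℂ) (b : E C → ℂ) = if a = b then 1 else 0 := by
  split_ifs with h
  · rw [h, classInner_irr_self b.2]
  · exact classInner_irr_ne a.2 b.2 fun e => h (Subtype.ext e)

theorem inner_dual (k l : Option (Fin 2)) :
    classInner (dual C D k : E C → ℂ) (vec C D l) = if k = l then 1 else 0 := by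
  classical
  rw [vec, classInner_add_right, irr_inner, irr_inner, if_neg (dual_ne_st C D k), add_zero]
  exact if_congr (dual_inj C D).eq_iff rfl rfl

theorem inner_vec (k l : Option (Fin 2)) :
    classInner (vec C D k) (vec C D l) = if k = l then 2 else 1 := by
  classical
  have h : classInner (D.St : E C → ℂ) (vec C D l) = 1 := by
    rw [vec, classInner_add_right, irr_inner, irr_inner, if_neg (dual_ne_st C D l).symm, if_pos rfl, zero_add]
  conv_lhs => arg 1; rw [vec]
  rw [classInner_add_left, inner_dual, h]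
  split_ifs <;> norm_num

variable (h3 : Fintype.card C.F % 8 = 3)
include h3

theorem vec_even (k : Option (Fin 2)) {e : E C} (he : 2 ∣ orderOf e) : vec C D k e = 0 := by
  rw [vec, Pi.add_apply, D.st_val, line_even C h3 he]
  rcases k with _ | j
  · simp [dual, oneIrr]
  · simp [dual, D.η_even j e he]

theorem tv_even (ν : Subgroup.zpowers C.φ →* ℂˣ) (k : Option (Fin 2)) {e : E C} (he : 2 ∣ orderOf e) :
    tv C ν (vec C D k) e = 0 := by
  rw [tv, vec_even C D h3 k he, mul_zero]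

theorem kernel (hM : IsPModular 2 M) {y c : E C} (hy : ¬ 2 ∣ orderOf y) (hc : ¬ 2 ∣ orderOf c) :
    ∑ η ∈ bset (principalBlock M (E C)), (η : E C → ℂ) y * conj ((η : E C → ℂ) c) =
      ∑ k, (dual C D k : E C → ℂ) y * conj (vec C D k c) := by
  classical
  have hset : bset (principalBlock M (E C)) = {oneIrr (E C), D.St, D.η 0, D.η 1} := by
    ext χ
    simp only [mem_bset, Finset.mem_insert, Finset.mem_singleton]
    refine ⟨D.block χ, ?_⟩
    rintro (rfl | rfl | rfl | rfl)
    exacts [oneIrr_mem hM, D.st_mem, D.η_mem 0, D.η_mem 1]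
  rw [hset, Finset.sum_insert (by simp [D.st_ne.symm, (D.η_ne_one 0).symm, (D.η_ne_one 1).symm]),
    Finset.sum_insert (by simp [(D.η_ne_st 0).symm, (D.η_ne_st 1).symm]), Finset.sum_pair D.η_ne,
    Fintype.sum_option, Fin.sum_univ_two]
  simp only [vec, Pi.add_apply, dual, oneIrr, map_add, map_one, D.rel y hy]
  ring

include hM

/-- The part of a character over `ν` on the section of `t`. -/
theorem part_eq (ν : Subgroup.zpowers C.φ →* ℂˣ) (χ : IrrCharacter G) {y : E C} (hy : ¬ 2 ∣ orderOf y) :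
    blockPart (bH C (M := M) ν) (sec C.t (H C) (χ : G → ℂ)) (eH C (Multiplicative.ofAdd 0, y)) =
      (ν (proj C y) : ℂ) * ∑ k, cf C (tv C ν (vec C D k)) (χ : G → ℂ) * (dual C D k : E C → ℂ) y := by
  classical
  rw [blockPart_regular hM (fun ψ hψ => (eq_blockOf hM (bH_isPBlock C ν) hψ).ge) _ (not_dvd_eH C hy)]
  have hin : ∀ c : E C, ¬ 2 ∣ orderOf c →
      ∑ ψ ∈ bset (bH C (M := M) ν), (ψ : H C → ℂ) (eH C (Multiplicative.ofAdd 0, y)) *
          (ψ : H C → ℂ) (eH C (Multiplicative.ofAdd 0, c))⁻¹ =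
        2 * ((ν (proj C y) : ℂ) * ∑ k, (dual C D k : E C → ℂ) y * conj (tv C ν (vec C D k) c)) := by
    intro c hc
    rw [sum_bH C hM, Fintype.sum_bool]
    have e : ∀ s η, (chH C s (tw C ν η) : H C → ℂ) (eH C (Multiplicative.ofAdd 0, y)) *
        (chH C s (tw C ν η) : H C → ℂ) (eH C (Multiplicative.ofAdd 0, c))⁻¹ =
        (ν (proj C y) : ℂ) * conj (ν (proj C c) : ℂ) * ((η : E C → ℂ) y * conj ((η : E C → ℂ) c)) := by
      intro s η
      rw [← irr_conjInv, chH_zero, chH_zero, tw_apply, tw_apply, map_mul]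
      ring
    simp only [e, ← Finset.mul_sum, kernel C D h3 hM hy hc, tv, map_mul]
    rw [← two_mul, mul_assoc (ν (proj C y) : ℂ), Finset.mul_sum _ _ (conj (ν (proj C c) : ℂ))]
    congr 2
    exact Finset.sum_congr rfl fun k _ => by ring
  have hreg : ∑ c ∈ Finset.univ.filter (fun c : H C => ¬ 2 ∣ orderOf c), sec C.t (H C) (χ : G → ℂ) c *
      ∑ ψ ∈ bset (bH C (M := M) ν), (ψ : H C → ℂ) (eH C (Multiplicative.ofAdd 0, y)) * (ψ : H C → ℂ) c⁻¹ =
      ∑ c : E C, (χ : G → ℂ) (C.t * (c : G)) *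
        (2 * ((ν (proj C y) : ℂ) * ∑ k, (dual C D k : E C → ℂ) y * conj (tv C ν (vec C D k) c))) := by
    rw [← Finset.sum_filter_add_sum_filter_not (Finset.univ : Finset (E C)) (fun c => ¬ 2 ∣ orderOf c),
      Finset.sum_eq_zero (s := Finset.univ.filter fun c : E C => ¬ ¬ 2 ∣ orderOf c) (fun c hc => by
        have hc' := not_not.1 (Finset.mem_filter.1 hc).2
        simp [tv_even C D h3 ν _ hc']), add_zero]
    refine (Finset.sum_bij (fun c _ => eH C (Multiplicative.ofAdd 0, c)) ?_ ?_ ?_ ?_).symm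
    · intro c hc
      exact Finset.mem_filter.2 ⟨Finset.mem_univ _, not_dvd_eH C (Finset.mem_filter.1 hc).2⟩
    · intro a _ b _ h
      exact congrArg Prod.snd ((eH C).injective h)
    · intro c hc
      obtain ⟨e, rfl, he⟩ := orderOf_odd_part C (Finset.mem_filter.1 hc).2
      exact ⟨e, Finset.mem_filter.2 ⟨Finset.mem_univ _, he⟩, rfl⟩
    · intro c hc
      rw [hin c (Finset.mem_filter.1 hc).2, sec, eH_zero]
  rw [hreg, card_H]
  simp only [cf, classInner, Finset.mul_sum, Finset.sum_mul]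
  rw [Finset.sum_comm]
  refine Finset.sum_congr rfl fun k _ => Finset.sum_congr rfl fun c _ => ?_
  have : (Nat.card (E C) : ℂ) ≠ 0 := Nat.cast_ne_zero.2 Nat.card_pos.ne'
  push_cast
  field_simp

variable {S : Sylow 2 G} {gA bA cA : Matrix.ProjectiveSpecialLinearGroup (Fin 2) C.F}
  (Fr : Frame C S gA bA cA) [Fintype (cS C Fr)] (hE : E8 (S : Subgroup G)) (B : Base G)
include Fr hE B

/-- The values of a character of the block over `ν`. -/
theorem value_eq {ν : Subgroup.zpowers C.φ →* ℂˣ} {χ : IrrCharacter G} (hχ : χ ∈ BG C Fr hM hE ν) {y : E C}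
    (hy : ¬ 2 ∣ orderOf y) :
    (χ : G → ℂ) (C.t * (y : G)) =
      (ν (proj C y) : ℂ) * ∑ k, cf C (tv C ν (vec C D k)) (χ : G → ℂ) * (dual C D k : E C → ℂ) y := by
  have hx : ∃ k : ℕ, orderOf C.t = 2 ^ k := ⟨1, by rw [C.t_ord, pow_one]⟩
  rw [← part_eq C hM D h3 ν χ hy, ← overBlocks_BG C Fr hM hE B ν,
    sec_eq_overBlocks hM (isCentr_H C) hx (BG_pair C Fr hM hE ν).2.1 χ (not_dvd_eH C hy), ind_of_mem hχ,
    one_mul, eH_zero]

/-- A character outside that block has no coefficient over `ν`. -/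
theorem cf_zero {ν : Subgroup.zpowers C.φ →* ℂˣ} {χ : IrrCharacter G} (hχ : χ ∉ BG C Fr hM hE ν)
    (l : Option (Fin 2)) : cf C (tv C ν (vec C D l)) (χ : G → ℂ) = 0 := by
  classical
  have hx : ∃ k : ℕ, orderOf C.t = 2 ^ k := ⟨1, by rw [C.t_ord, pow_one]⟩
  have h0 : ∀ y : E C, (∑ k, cf C (tv C ν (vec C D k)) (χ : G → ℂ) * (dual C D k : E C → ℂ) y) *
      conj (vec C D l y) = 0 := by
    intro y
    by_cases hy : 2 ∣ orderOf y
    · rw [vec_even C D h3 l hy, map_zero, mul_zero]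
    have h := blockPart_sec_eq_zero hM (isCentr_H C) hx (bH_isPBlock C ν) (blockOf_isPBlock χ)
      (mem_blockOf_self hM χ) (fun hind => hχ (by
        rw [isInducedBlock_unique hM (BG_induced C Fr hM hE ν) hind]; exact mem_blockOf_self hM χ))
      (y := eH C (Multiplicative.ofAdd 0, y)) (not_dvd_eH C hy)
    rw [part_eq C hM D h3 ν χ hy] at h
    rw [(mul_eq_zero.1 h).resolve_left (Units.ne_zero _), zero_mul]
  have h1 : classInner (∑ k, cf C (tv C ν (vec C D k)) (χ : G → ℂ) • (dual C D k : E C → ℂ)) (vec C D l) = 0 := by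
    simp only [classInner, Finset.sum_apply, Pi.smul_apply, smul_eq_mul, h0, Finset.sum_const_zero, mul_zero]
  rw [classInner_sum_left] at h1
  simp only [classInner_smul_left, inner_dual, mul_ite, mul_one, mul_zero, Finset.sum_ite_eq',
    Finset.mem_univ, if_true] at h1
  exact h1

end CfsgLib.Walter.RB
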