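import Cfsg.Agent.Lib.Walter.RLocal
import Cfsg.Agent.Lib.Walter.TwoSec
import Cfsg.Agent.Lib.Walter.Suzuki
import Cfsg.Agent.Lib.CharTheory.PowerMap

/-!
Case (R): the rows of the characters of `G` in the blocks over `ν`, and the passage between `ν` and `ν μ`.

Blueprint: `blueprint/Walter.md`, case (R).
-/

set_option autoImplicit false
set_option linter.unusedSectionVars false
set_option linter.style.haveILetI false

namespace CfsgLib.Walter.RB

open Cfsg CfsgLib CfsgLib.CharTheory CfsgLib.Blocks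
open scoped ComplexConjugate

universe u

variable {G : Type u} [Group G] [Fintype G]

theorem classInner_tv (C : Coord G) [Fintype (E C)] [Fintype (H C)] (ν : Subgroup.zpowers C.φ →* ℂˣ) (f g : E C → ℂ) :
    classInner (tv C ν f) (tv C ν g) = classInner f g := by
  simp only [classInner, tv, map_mul]
  congr 1
  refine Finset.sum_congr rfl fun e _ => ?_
  have h : (ν (proj C e) : ℂ) * conj (ν (proj C e) : ℂ) = 1 := by
    rw [← lin_apply C ν e, irr_conjInv, lin_apply, lin_apply, ← Units.val_mul, ← map_mul, ← map_mul,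
      mul_inv_cancel, map_one, map_one, Units.val_one]
  linear_combination (f e * conj (g e)) * h

/-- All the data of case (R). -/
structure Ctx (C : Coord G) (r m : ℕ) [Fintype (E C)] [Fintype (Suz.Hs (C.rpart r))] : Type u where
  hR : RBase C r m
  base : Base G
  S : Sylow 2 G
  gA : Matrix.ProjectiveSpecialLinearGroup (Fin 2) C.F
  bA : Matrix.ProjectiveSpecialLinearGroup (Fin 2) C.F
  cA : Matrix.ProjectiveSpecialLinearGroup (Fin 2) C.F
  Fr : Frame C S gA bA cA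
  fcS : Fintype (cS C Fr)
  M : Ideal AlgInt
  hM : IsPModular 2 M
  D : EData C M
  Mr : Ideal AlgInt
  hMr : IsPModular r Mr

theorem exists_ctx (B : Base G) (C : Coord G) {r m : ℕ} (hR : RBase C r m) [Fintype (E C)]
    [Fintype (Suz.Hs (C.rpart r))] : Nonempty (Ctx C r m) := by
  obtain ⟨S, gA, bA, cA, Fr⟩ := exists_frame B C
  obtain ⟨M, hM⟩ := exists_pModular Nat.prime_two
  obtain ⟨Mr, hMr⟩ := exists_pModular hR.prime
  obtain ⟨D⟩ := exists_eData C (h3_card hR) hM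
  exact ⟨⟨hR, B, S, gA, bA, cA, Fr, Fintype.ofFinite _, M, hM, D, Mr, hMr⟩⟩

namespace Ctx

variable {C : Coord G} {r m : ℕ} [Fintype (E C)] [Fintype (H C)] [Fintype (Suz.Hs (C.rpart r))] (X : Ctx C r m)
include X

/-- The order of `s`. -/
noncomputable abbrev k (_ : Ctx C r m) : ℕ := (orderOf C.σ).factorization r

/-- The order of `φ` modulo `s`. -/
noncomputable abbrev dd (_ : Ctx C r m) : ℕ := orderOf C.σ / r ^ (orderOf C.σ).factorization r

theorem hyp : Suz.Hyp r X.k (C.rpart r) C.t := RB.hyp X.hR X.base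

theorem h3 : Fintype.card C.F % 8 = 3 := h3_card X.hR

theorem hE : E8 (X.S : Subgroup G) := X.base.e8.sylow X.S

/-- The block of `G` over `ν`. -/
noncomputable def blk (ν : Subgroup.zpowers C.φ →* ℂˣ) : Set (IrrCharacter G) :=
  letI := X.fcS
  BG C X.Fr X.hM X.hE ν

theorem blk_inj {ν ν' : Subgroup.zpowers C.φ →* ℂˣ} (h : X.blk ν = X.blk ν') : ν = ν' := by
  letI := X.fcS
  exact BG_inj C X.Fr X.hM X.hE X.base X.D (eleven_le C X.h3) h

theorem blk_isPBlock (ν : Subgroup.zpowers C.φ →* ℂˣ) : IsPBlock X.M (X.blk ν) := by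
  letI := X.fcS
  exact (BG_pair C X.Fr X.hM X.hE ν).2.1

theorem mem_unique {ν ν' : Subgroup.zpowers C.φ →* ℂˣ} {χ : IrrCharacter G} (h : χ ∈ X.blk ν)
    (h' : χ ∈ X.blk ν') : ν = ν' :=
  X.blk_inj ((eq_blockOf X.hM (X.blk_isPBlock ν) h).trans (eq_blockOf X.hM (X.blk_isPBlock ν') h').symm)

/-- The entry of `χ` in the `k`th vector over `ν`. -/
noncomputable def v (ν : Subgroup.zpowers C.φ →* ℂˣ) (k : Option (Fin 2)) (χ : IrrCharacter G) : ℤ :=
  (cf_int C (tv_gen C (vec_gen C X.D k) ν) χ).choose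

theorem v_spec (ν : Subgroup.zpowers C.φ →* ℂˣ) (k : Option (Fin 2)) (χ : IrrCharacter G) :
    (X.v ν k χ : ℂ) = cf C (tv C ν (vec C X.D k)) (χ : G → ℂ) :=
  (cf_int C (tv_gen C (vec_gen C X.D k) ν) χ).choose_spec.symm

theorem v_zero {ν : Subgroup.zpowers C.φ →* ℂˣ} {χ : IrrCharacter G} (h : χ ∉ X.blk ν) (k : Option (Fin 2)) :
    X.v ν k χ = 0 := by
  letI := X.fcS
  have := cf_zero C X.hM X.D X.h3 X.Fr X.hE X.base h k
  rw [← v_spec] at this
  exact_mod_cast this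

theorem mem_blk {ν : Subgroup.zpowers C.φ →* ℂˣ} {χ : IrrCharacter G} {k : Option (Fin 2)}
    (h : X.v ν k χ ≠ 0) : χ ∈ X.blk ν := by
  by_contra hn
  exact h (X.v_zero hn k)

theorem value {ν : Subgroup.zpowers C.φ →* ℂˣ} {χ : IrrCharacter G} (h : χ ∈ X.blk ν) {y : E C}
    (hy : ¬ 2 ∣ orderOf y) :
    (χ : G → ℂ) (C.t * (y : G)) =
      (ν (proj C y) : ℂ) * ∑ k, (X.v ν k χ : ℂ) * (dual C X.D k : E C → ℂ) y := by
  letI := X.fcS
  simp only [v_spec]
  exact value_eq C X.hM X.D X.h3 X.Fr X.hE X.base h hy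

/-- A row is read off from the values. -/
theorem row_of_value {ν : Subgroup.zpowers C.φ →* ℂˣ} {χ : IrrCharacter G} (c : Option (Fin 2) → ℤ)
    (h : ∀ e : E C, ¬ 2 ∣ orderOf e →
      (χ : G → ℂ) (C.t * (e : G)) = (ν (proj C e) : ℂ) * ∑ k, (c k : ℂ) * (dual C X.D k : E C → ℂ) e)
    (l : Option (Fin 2)) : X.v ν l χ = c l := by
  classical
  have e : (X.v ν l χ : ℂ) = (c l : ℂ) := by
    rw [v_spec, cf, show classInner (fun e : E C => (χ : G → ℂ) (C.t * (e : G))) (tv C ν (vec C X.D l)) =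
        classInner (tv C ν (∑ k, (c k : ℂ) • (dual C X.D k : E C → ℂ))) (tv C ν (vec C X.D l)) by
      simp only [classInner]
      congr 1
      refine Finset.sum_congr rfl fun e _ => ?_
      by_cases he : 2 ∣ orderOf e
      · rw [tv_even C X.D X.h3 ν l he, map_zero, mul_zero, mul_zero]
      · rw [h e he]; simp [tv, Finset.sum_apply],
      classInner_tv, classInner_sum_left]
    simp [classInner_smul_left, inner_dual]
  exact_mod_cast e

theorem dual_one : (∑ k, (fun k => (dual C X.D k : E C → ℂ) 1) k) = (Fintype.card C.F : ℂ) := by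
  simp only [Fintype.sum_option, Fin.sum_univ_two, dual, oneIrr]
  linear_combination (1 / 2 : ℂ) * X.D.η_deg 0 + (1 / 2 : ℂ) * X.D.η_deg 1

/-- The value at `t`. -/
theorem t_value {ν : Subgroup.zpowers C.φ →* ℂˣ} {χ : IrrCharacter G} (h : χ ∈ X.blk ν) :
    (χ : G → ℂ) C.t = (X.v ν none χ : ℂ) +
      ((X.v ν (some 0) χ : ℂ) + X.v ν (some 1) χ) * (((Fintype.card C.F : ℂ) - 1) / 2) := by
  have h1 := X.value h (y := 1) (by rw [orderOf_one]; norm_num)
  rw [Subgroup.coe_one, mul_one, map_one, map_one, Units.val_one, one_mul, Fintype.sum_option,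
    Fin.sum_univ_two] at h1
  rw [h1]
  simp only [dual, oneIrr]
  linear_combination ((X.v ν (some 0) χ : ℂ) / 2) * X.D.η_deg 0 + ((X.v ν (some 1) χ : ℂ) / 2) * X.D.η_deg 1

theorem pattern (ν : Subgroup.zpowers C.φ →* ℂˣ) : Pattern (fun k (χ : IrrCharacter G) => X.v ν k χ) := by
  classical
  choose d hd0 hd using fun χ : IrrCharacter G => irr_degree_pos χ.2
  refine RB.pattern _ (fun χ => (d χ : ℤ)) (fun χ => by exact_mod_cast hd0 χ) (fun k l => ?_) (fun k => ?_)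
  · have h := sum_cf C X.hM (tv_class C (vec_class C X.D k) ν) (fun e he => tv_even C X.D X.h3 ν k he)
      (g := tv C ν (vec C X.D l)) (fun e he => tv_even C X.D X.h3 ν l he)
    rw [classInner_tv, inner_vec] at h
    simp only [← v_spec, map_intCast] at h
    have h2 : ((∑ χ : IrrCharacter G, X.v ν k χ * X.v ν l χ : ℤ) : ℂ) = ((if k = l then 4 else 2 : ℤ) : ℂ) := by
      push_cast
      rw [h]
      split_ifs <;> norm_num
    exact_mod_cast h2
  · have h := sum_deg C (tv C ν (vec C X.D k))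
    simp only [← v_spec, hd] at h
    exact_mod_cast h

theorem sum_T (ν : Subgroup.zpowers C.φ →* ℂˣ) :
    ∑ χ : IrrCharacter G, (X.v ν none χ : ℂ) * ((χ : G → ℂ) C.t ^ 2 / (χ : G → ℂ) 1) =
      ∑ χ : IrrCharacter G, (X.v 1 none χ : ℂ) * ((χ : G → ℂ) C.t ^ 2 / (χ : G → ℂ) 1) := by
  simp only [v_spec]
  rw [RB.sum_T C ν fun e he => vec_even C X.D X.h3 none he, tv_one]

theorem sum_deg_v (ν : Subgroup.zpowers C.φ →* ℂˣ) (k : Option (Fin 2)) :
    ∑ χ : IrrCharacter G, (χ : G → ℂ) 1 * (X.v ν k χ : ℂ) = 0 := by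
  simp only [v_spec]
  exact sum_deg C _

theorem cast_twist {n : ℕ} (h : n % 3 = 2) : (n : C.F) = -1 := by
  rw [← Nat.mod_add_div n 3, h, Nat.cast_add, Nat.cast_mul]
  have h3 := three_zero X.hR
  push_cast
  linear_combination (1 + ((n / 3 : ℕ) : C.F)) * h3

/-- Both `η` agree at the elements of order prime to three. -/
theorem η_reg {e : E C} (he : ¬ 3 ∣ orderOf e) (h2 : ¬ 2 ∣ orderOf e) (i : Fin 2) :
    2 * (X.D.η i : E C → ℂ) e = (X.D.St : E C → ℂ) e - 1 := by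
  obtain ⟨n, hn, hno, hn3⟩ := exists_twist (N := Nat.card (E C)) Nat.card_pos.ne'
  have h := X.D.galois n hn (X.cast_twist hn3) e
  rw [show e ^ n = e by
    conv_rhs => rw [← pow_one e]
    exact pow_eq_pow_iff_modEq.2 (hno _ (orderOf_dvd_natCard e) he)] at h
  have hr := X.D.rel e h2
  fin_cases i
  · show 2 * (X.D.η 0 : E C → ℂ) e = _
    linear_combination h - hr
  · show 2 * (X.D.η 1 : E C → ℂ) e = _
    linear_combination -h - hr

theorem φE_orderOf : orderOf (φE C) = orderOf C.σ := by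
  rw [← Subgroup.orderOf_coe, coe_φE, C.φ_ord]

theorem φE_reg (j : ℕ) : ¬ 3 ∣ orderOf (φE C ^ j) ∧ ¬ 2 ∣ orderOf (φE C ^ j) := by
  have h := orderOf_pow_dvd (x := φE C) j
  rw [X.φE_orderOf] at h
  refine ⟨fun h3 => X.hR.three_not (h3.trans h), fun h2 => ?_⟩
  exact Nat.not_even_iff_odd.2 C.odd_f (even_iff_two_dvd.2 (h2.trans h))

theorem st_pow (j : ℕ) :
    (X.D.St : E C → ℂ) (φE C ^ j) = (Nat.card (fixField (C.σ ^ j : RingAut C.F)) : ℂ) := by
  rw [X.D.st_val, line_pow, add_sub_cancel_left]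
  exact_mod_cast Nat.card_congr (Equiv.subtypeEquivRight fun a => (mem_fixField).symm)

theorem st_s {i : ℕ} (hi : ¬ r ∣ i) : (X.D.St : E C → ℂ) (φE C ^ (X.dd * i)) = ((3 ^ (2 * m + 1) : ℕ) : ℂ) := by
  rw [st_pow, card_fix X.hR hi]

/-- `s` as an element of `⟨φ⟩`. -/
noncomputable def sz (_ : Ctx C r m) : Subgroup.zpowers C.φ := ⟨C.rpart r, C.rpart_mem r⟩

theorem proj_s (i : ℕ) : proj C (φE C ^ (X.dd * i)) = X.sz ^ i := by
  refine Subtype.ext ?_
  rw [proj_φ, pow_mul, Subgroup.coe_pow]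
  rfl

/-- The two kinds of elements of `t E`. -/
theorem sec_cases (e : E C) :
    (∃ (i : ℕ) (y : Suz.Hs (C.rpart r)) (g : G), ¬ r ∣ i ∧ ¬ r ∣ orderOf y ∧
        g * (C.t * (e : G)) * g⁻¹ = C.rpart r ^ i * (y : G) ∧
        ∀ μ : Subgroup.zpowers C.φ →* ℂˣ, (∀ a, μ a ^ r = 1) → μ (proj C e) = μ X.sz ^ i) ∨
      (¬ Suz.InS r (C.rpart r) (C.t * (e : G)) ∧
        ∀ μ : Subgroup.zpowers C.φ →* ℂˣ, (∀ a, μ a ^ r = 1) → μ (proj C e) = 1) := by
  classical
  haveI : Fact r.Prime := ⟨X.hR.prime⟩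
  have hr := X.hR.prime
  obtain ⟨a, b, hab, hcab, ⟨l, hl⟩, hb, -, -⟩ := exists_pPart hr e
  set sE := φE C ^ X.dd with hsE
  have hsord : orderOf sE = r ^ X.k := by
    rw [← Subgroup.orderOf_coe, hsE, Subgroup.coe_pow, coe_φE]
    exact C.orderOf_rpart r
  have hL : Nat.card (Matrix.ProjectiveSpecialLinearGroup (Fin 2) C.F) ≠ 0 := Nat.card_pos.ne'
  let P : Sylow r (E C) := Sylow.ofCard (Subgroup.zpowers sE) (by
    rw [Nat.card_zpowers, hsord, card_E, Nat.factorization_mul hL C.odd_f.pos.ne', Finsupp.add_apply,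
      Nat.factorization_eq_zero_of_not_dvd (not_dvd_card_LL X.hR), zero_add])
  obtain ⟨Q, hQ⟩ := (IsPGroup.of_card (p := r) (n := l) (by rw [Nat.card_zpowers, hl]) :
    IsPGroup r (Subgroup.zpowers a)).exists_le_sylow
  obtain ⟨c, hc⟩ := MulAction.exists_smul_eq (E C) Q P
  have hmem : c * a * c⁻¹ ∈ Subgroup.zpowers sE := by
    have hm : c * a * c⁻¹ ∈ ((c • Q : Sylow r (E C)) : Subgroup (E C)) := by
      rw [Sylow.coe_subgroup_smul]; exact ⟨a, hQ (Subgroup.mem_zpowers _), rfl⟩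
    rw [hc] at hm
    exact hm
  obtain ⟨i, hi⟩ := Submonoid.mem_powers_iff _ _ |>.mp
    ((isOfFinOrder_of_finite sE).mem_powers_iff_mem_zpowers.mpr hmem)
  set b' := c * b * c⁻¹ with hb'
  have he : c * e * c⁻¹ = sE ^ i * b' := by rw [hi, hb', ← hab]; group
  have hcomm : Commute (sE ^ i) b' := by
    rw [hi, hb']; exact hcab.map (MulAut.conj c).toMonoidHom
  have hb'o : ¬ r ∣ orderOf b' := by rwa [hb', conj_orderOf]
  have hcG : (c : G) * (C.t * (e : G)) * (c : G)⁻¹ = C.rpart r ^ i * (C.t * (b' : G)) := by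
    have h1 : (c : G) * (e : G) * (c : G)⁻¹ = C.rpart r ^ i * (b' : G) := by
      have := congrArg (fun z : E C => (z : G)) he
      simp [hsE, Ctx.dd] at this
      exact this
    calc (c : G) * (C.t * (e : G)) * (c : G)⁻¹ = ((c : G) * C.t) * (e : G) * (c : G)⁻¹ := by group
      _ = C.t * ((c : G) * (e : G) * (c : G)⁻¹) := by rw [(commute_E C c.2).symm.eq]; group
      _ = _ := by rw [h1, ← mul_assoc, ((C.t_rpart r).pow_right i).eq, mul_assoc]
  have hμ : ∀ μ : Subgroup.zpowers C.φ →* ℂˣ, (∀ a, μ a ^ r = 1) → μ (proj C e) = μ X.sz ^ i := by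
    intro μ hμr
    have h1 : μ (proj C b') = 1 := by
      rw [← orderOf_eq_one_iff]
      refine Nat.eq_one_of_dvd_coprimes (hr.coprime_iff_not_dvd.2 hb'o) (orderOf_dvd_of_pow_eq_one (hμr _)) ?_
      exact (orderOf_map_dvd μ _).trans (orderOf_map_dvd (proj C) _)
    have h2 := congrArg (fun z => μ (proj C z)) he
    simp only [map_mul, map_inv, mul_inv_cancel_comm, h1, mul_one, map_pow] at h2
    rw [h2, hsE, show proj C (φE C ^ X.dd) = X.sz by simpa using X.proj_s 1]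
  have hyo : ¬ r ∣ orderOf (C.t * (b' : G)) := by
    intro h
    have h2 := h.trans (Commute.orderOf_mul_dvd_mul_orderOf (commute_E C b'.2))
    rw [C.t_ord, Subgroup.orderOf_coe] at h2
    rcases hr.dvd_mul.1 h2 with h3 | h3
    · have := five_le X.hR
      have := Nat.le_of_dvd (by norm_num) h3
      omega
    · exact hb'o h3
  by_cases hri : r ∣ i
  · right
    refine ⟨?_, fun μ hμr => ?_⟩
    · rintro ⟨x, i', y', hi', hy', hx⟩
      have h1 : orderOf (C.t * (e : G)) = orderOf (C.rpart r ^ i' * (y' : G)) := by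
        rw [hx, conj_orderOf]
      have h2 : r ^ X.k ∣ orderOf (C.rpart r ^ i' * (y' : G)) := by
        have hord : orderOf (C.rpart r ^ i') = r ^ X.k := by
          rw [Nat.Coprime.orderOf_pow, C.orderOf_rpart r]
          rw [C.orderOf_rpart r]
          exact Nat.Coprime.pow_left _ (hr.coprime_iff_not_dvd.2 hi')
        rw [Commute.orderOf_mul_eq_mul_orderOf_of_coprime
          (Commute.pow_left (Commute.symm (Subgroup.mem_centralizer_singleton_iff.1 y'.2)) i') (by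
            rw [hord, Subgroup.orderOf_coe]
            exact Nat.Coprime.pow_left _ (hr.coprime_iff_not_dvd.2 hy')), hord]
        exact dvd_mul_right _ _
      have h3 : orderOf (C.t * (e : G)) = orderOf (C.rpart r ^ i * (C.t * (b' : G))) := by
        rw [← hcG, conj_orderOf]
      have hcm : Commute (C.rpart r ^ i) (C.t * (b' : G)) := by
        refine Commute.mul_right ((C.t_rpart r).symm.pow_left i) ?_
        have := hcomm.map (E C).subtype
        simp [hsE, Ctx.dd] at this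
        exact this
      have h4 : orderOf (C.rpart r ^ i) ∣ r ^ (X.k - 1) := by
        obtain ⟨w, rfl⟩ := hri
        refine orderOf_dvd_of_pow_eq_one ?_
        rw [← pow_mul, show r * w * r ^ (X.k - 1) = r ^ X.k * w by
          rw [show X.k = X.k - 1 + 1 from (Nat.sub_add_cancel (one_le_k X.hR)).symm, pow_succ]
          simp; ring, pow_mul, ← C.orderOf_rpart r, pow_orderOf_eq_one, one_pow]
      have h5 := ((h1 ▸ h2).trans (dvd_of_eq h3)).trans
        ((Commute.orderOf_mul_dvd_mul_orderOf hcm).trans (mul_dvd_mul_right h4 _))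
      rw [show r ^ X.k = r ^ (X.k - 1) * r by rw [← pow_succ, Nat.sub_add_cancel (one_le_k X.hR)]] at h5
      exact hyo (Nat.dvd_of_mul_dvd_mul_left (pow_pos hr.pos _) h5)
    · obtain ⟨w, rfl⟩ := hri
      rw [hμ μ hμr, pow_mul, hμr, one_pow]
  · left
    have hsmem : C.rpart r ∈ Subgroup.zpowers (C.rpart r ^ i) := by
      obtain ⟨n, hn⟩ := exists_pow_eq_self_of_coprime (x := C.rpart r) (n := i) (by
        rw [C.orderOf_rpart r]; exact Nat.Coprime.pow_right _ (hr.coprime_iff_not_dvd.2 hri).symm)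
      exact ⟨(n : ℤ), by show (C.rpart r ^ i) ^ (n : ℤ) = _; rw [zpow_natCast, hn]⟩
    have hy : C.t * (b' : G) ∈ Suz.Hs (C.rpart r) := by
      refine mul_mem (t_mem_Hs X.hR) (Subgroup.mem_centralizer_singleton_iff.2 ?_)
      have h := hcomm.map (E C).subtype
      have h' : Commute (C.rpart r ^ i) (b' : G) := by
        simp [hsE, Ctx.dd] at h
        exact h
      obtain ⟨n, hn⟩ := hsmem
      rw [← hn]
      exact (h'.symm.zpow_right n).eq
    refine ⟨i, ⟨_, hy⟩, c, hri, ?_, hcG, hμ⟩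
    rwa [← Subgroup.orderOf_coe]

/-- Passing between two exponents multiplies the values on `t E` by `μ`. -/
theorem transfer {μ : Subgroup.zpowers C.φ →* ℂˣ} (hμ : ∀ a, μ a ^ r = 1) {θ : IrrCharacter (Suz.Hs (C.rpart r))}
    {a b : ℕ} {ε : ℤ} {χ χ' : IrrCharacter G} (h : Suz.Pure X.Mr X.hyp θ a ε χ)
    (h' : Suz.Pure X.Mr X.hyp θ b ε χ') (hoff : ∀ g, ¬ Suz.InS r (C.rpart r) g → (χ' : G → ℂ) g = (χ : G → ℂ) g)
    (hξ : Suz.ξ r X.k ^ b = Suz.ξ r X.k ^ a * (μ X.sz : ℂ)) (e : E C) :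
    (χ' : G → ℂ) (C.t * (e : G)) = (μ (proj C e) : ℂ) * (χ : G → ℂ) (C.t * (e : G)) := by
  rcases X.sec_cases e with ⟨i, y, g, hi, hy, hg, hm⟩ | ⟨hn, hm⟩
  · have e1 : ∀ ψ : IrrCharacter G, (ψ : G → ℂ) (C.t * (e : G)) = (ψ : G → ℂ) (C.rpart r ^ i * (y : G)) := fun ψ => by
      rw [← hg, irr_isClassFun ψ]
    rw [e1, e1, h'.val i hi y hy, h.val i hi y hy, hm μ hμ, pow_mul, hξ, mul_pow, ← pow_mul,
      Units.val_pow_eq_pow_val]
    ring
  · rw [hoff _ hn, hm μ hμ, Units.val_one, one_mul]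

/-- The row follows the passage. -/
theorem transfer_row {μ ν : Subgroup.zpowers C.φ →* ℂˣ} {χ χ' : IrrCharacter G} (hχ : χ ∈ X.blk ν)
    (h : ∀ e : E C, (χ' : G → ℂ) (C.t * (e : G)) = (μ (proj C e) : ℂ) * (χ : G → ℂ) (C.t * (e : G)))
    (k : Option (Fin 2)) : X.v (μ * ν) k χ' = X.v ν k χ :=
  X.row_of_value (fun k => X.v ν k χ) (fun e he => by
    rw [h e, X.value hχ he, MonoidHom.mul_apply, Units.val_mul]
    ring) k

/-- A power map exchanges the two `η`. -/
theorem pow_row {ν : Subgroup.zpowers C.φ →* ℂˣ} {χ : IrrCharacter G} (hχ : χ ∈ X.blk ν) {n : ℕ}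
    (hn : n.Coprime (Nat.card G)) (h3n : n % 3 = 2) (hν : ∀ a, ν a ^ n = ν a) (k : Option (Fin 2)) :
    X.v ν k (powIrr hn χ) = X.v ν (k.map fun j => 1 - j) χ := by
  have hnE : n.Coprime (Nat.card (E C)) := hn.coprime_dvd_right (Subgroup.card_subgroup_dvd_card _)
  have hodd : Odd n := by
    rcases Nat.even_or_odd n with h | h
    · exfalso
      have h8 : 8 ∣ Nat.card G := X.base.e8.1 ▸ Subgroup.card_subgroup_dvd_card _
      have := Nat.eq_one_of_dvd_coprimes hn (even_iff_two_dvd.1 h) ((show 2 ∣ 8 by norm_num).trans h8)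
      omega
    · exact h
  refine X.row_of_value (fun k => X.v ν (k.map fun j => 1 - j) χ) (fun e he => ?_) k
  have ht : (C.t * (e : G)) ^ n = C.t * ((e ^ n : E C) : G) := by
    obtain ⟨j, rfl⟩ := hodd
    rw [(commute_E C e.2).mul_pow, Subgroup.coe_pow]
    congr 1
    rw [pow_succ, pow_mul, pow_two, C.tt, one_pow, one_mul]
  have he' : ¬ 2 ∣ orderOf (e ^ n) := fun h => he (h.trans (orderOf_pow_dvd n))
  show (χ : G → ℂ) ((C.t * (e : G)) ^ n) = _
  have hg := X.D.galois n hnE (X.cast_twist h3n)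
  rw [ht, X.value hχ he', map_pow, map_pow, hν]
  congr 1
  simp only [Fintype.sum_option, Fin.sum_univ_two, dual, Option.map_none, Option.map_some, oneIrr,
    show (1 : Fin 2) - 0 = 1 from rfl, show (1 : Fin 2) - 1 = 0 from rfl]
  rw [hg e, X.D.η_inv (e ^ n), ← inv_pow, hg e⁻¹, X.D.η_inv e⁻¹, inv_inv]
  ring

theorem exists_split : ∃ i c : ℕ, ¬ r ∣ i ∧ C.φ = C.rpart r ^ i * C.φ ^ (r ^ X.k * c) ∧
    r ^ X.k * c ≡ 1 [MOD X.dd] := by
  obtain ⟨x, hx1, hx0⟩ := Nat.chineseRemainder (cop_dd X.hR) 1 0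
  obtain ⟨y, hy0, hy1⟩ := Nat.chineseRemainder (cop_dd X.hR) 0 1
  obtain ⟨i, rfl⟩ : X.dd ∣ x := Nat.modEq_zero_iff_dvd.1 hx0
  obtain ⟨c, rfl⟩ : r ^ X.k ∣ y := Nat.modEq_zero_iff_dvd.1 hy0
  refine ⟨i, c, ?_, ?_, hy1⟩
  · intro h
    have h1 := hx1.of_dvd (dvd_pow_self r (one_le_k X.hR |> Nat.one_le_iff_ne_zero.1))
    have h0 : X.dd * i ≡ 0 [MOD r] := Nat.modEq_zero_iff_dvd.2 (h.mul_left _)
    have := Nat.modEq_zero_iff_dvd.1 (h1.symm.trans h0)
    exact X.hR.prime.not_dvd_one this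
  · show C.φ = (C.φ ^ X.dd) ^ i * C.φ ^ (r ^ X.k * c)
    rw [← pow_mul, ← pow_add]
    conv_lhs => rw [← pow_one C.φ]
    refine pow_eq_pow_iff_modEq.2 ?_
    rw [C.φ_ord, ← f_eq X.hR]
    exact (Nat.modEq_and_modEq_iff_modEq_mul (cop_dd X.hR)).1
      ⟨(show X.dd * i + r ^ X.k * c ≡ 1 + 0 [MOD _] from hx1.add hy0).symm,
        (show X.dd * i + r ^ X.k * c ≡ 0 + 1 [MOD _] from hx0.add hy1).symm⟩

end Ctx

end CfsgLib.Walter.RB
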