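import Cfsg.Agent.Lib.Walter.CoordLemmas
import Cfsg.Agent.Lib.E8Solv.Local

/-!
The minimal counterexample: fusion of involutions, and the normaliser of the Sylow subgroup in coordinates.
-/

set_option autoImplicit false
set_option linter.unusedSectionVars false
set_option linter.style.haveILetI false

namespace CfsgLib.Walter

open CfsgLib.PSL2 (fieldAut)

universe u

variable {G : Type u} [Group G] [Finite G]

theorem E8.comm {T : Subgroup G} (h : E8 T) {x y : G} (hx : x ∈ T) (hy : y ∈ T) : x * y = y * x := by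
  have hi : ∀ {z : G}, z ∈ T → z⁻¹ = z := fun hz => inv_eq_of_mul_eq_one_right (h.2 _ hz)
  rw [← hi (mul_mem hx hy), _root_.mul_inv_rev, hi hx, hi hy]

theorem E8.isMulCommutative {T : Subgroup G} (h : E8 T) : IsMulCommutative T :=
  ⟨⟨fun a b => Subtype.ext (h.comm a.2 b.2)⟩⟩

theorem E8.orderOf_eq_two {T : Subgroup G} (h : E8 T) {x : G} (hx : x ∈ T) (hx1 : x ≠ 1) : orderOf x = 2 :=
  orderOf_eq_prime (by rw [pow_two]; exact h.2 x hx) hx1

/-- All Sylow subgroups are of the same kind. -/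
theorem E8.sylow {T : Sylow 2 G} (h : E8 (T : Subgroup G)) (S : Sylow 2 G) : E8 (S : Subgroup G) := by
  haveI : Fact (Nat.Prime 2) := ⟨Nat.prime_two⟩
  obtain ⟨g, rfl⟩ := MulAction.exists_smul_eq G T S
  refine ⟨(Nat.card_congr (Subgroup.equivSMul (MulAut.conj g) (T : Subgroup G)).toEquiv).symm.trans h.1, ?_⟩
  intro x hx
  rw [Sylow.coe_subgroup_smul, Subgroup.mem_pointwise_smul_iff_inv_smul_mem] at hx
  exact MulAction.injective (MulAut.conj g)⁻¹ ((smul_mul' _ _ _).trans ((h.2 _ hx).trans (smul_one _).symm))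

/-- An involution lies in a Sylow subgroup. -/
theorem exists_mem_sylow {u : G} (hu : orderOf u = 2) : ∃ S : Sylow 2 G, u ∈ (S : Subgroup G) := by
  obtain ⟨S, hS⟩ := (IsPGroup.of_card (n := 1) (by rw [Nat.card_zpowers, hu, pow_one]) :
    IsPGroup 2 (Subgroup.zpowers u)).exists_le_sylow
  exact ⟨S, hS (Subgroup.mem_zpowers u)⟩

namespace Base

variable (B : Base G)
include B

theorem not_comm : ¬ IsMulCommutative G := by
  intro h
  haveI := B.simple
  letI : CommGroup G := { (inferInstance : Group G) with mul_comm := fun a b => h.is_comm.comm a b }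
  have h1 : (Nat.card G).Prime := IsSimpleGroup.prime_card
  have h2 : 8 ∣ Nat.card G := B.e8.1 ▸ Subgroup.card_subgroup_dvd_card _
  rcases h1.eq_one_or_self_of_dvd 8 h2 with e | e
  · omega
  · rw [← e] at h1; norm_num at h1

theorem no_two : ∀ H : Subgroup G, H.index ≠ 2 := by
  intro H h
  haveI := B.simple
  haveI := Subgroup.normal_of_index_eq_two h
  rcases (inferInstance : H.Normal).eq_bot_or_eq_top with e | e
  · rw [e, Subgroup.index_bot] at h
    have h2 : 8 ∣ Nat.card G := B.e8.1 ▸ Subgroup.card_subgroup_dvd_card _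
    omega
  · rw [e, Subgroup.index_top] at h
    omega

theorem hab (P : Sylow 2 G) (a b : P) : a * b = b * a :=
  Subtype.ext ((B.e8.sylow P).comm a.2 b.2)

/-- The normaliser of a Sylow subgroup is transitive on its involutions. -/
theorem trans (S : Sylow 2 G) {a b : G} (ha : a ∈ (S : Subgroup G)) (hb : b ∈ (S : Subgroup G)) (ha1 : a ≠ 1)
    (hb1 : b ≠ 1) : ∃ n ∈ Subgroup.normalizer ((S : Subgroup G) : Set G), n * a * n⁻¹ = b := by
  haveI := (B.e8.sylow S).isMulCommutative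
  exact E8Solv.transitive B.no_two S (B.e8.sylow S).1 a ha b hb ha1 hb1

/-- All involutions are conjugate. -/
theorem all_conj {u v : G} (hu : orderOf u = 2) (hv : orderOf v = 2) : ∃ g : G, g * u * g⁻¹ = v := by
  haveI : Fact (Nat.Prime 2) := ⟨Nat.prime_two⟩
  obtain ⟨S, hS⟩ := exists_mem_sylow hu
  obtain ⟨S', hS'⟩ := exists_mem_sylow hv
  obtain ⟨h, hh⟩ := MulAction.exists_smul_eq G S S'
  have hm : h * u * h⁻¹ ∈ (S' : Subgroup G) := by
    rw [← hh, Sylow.coe_subgroup_smul]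
    exact ⟨u, hS, rfl⟩
  have hu1 : u ≠ 1 := fun e => by simp [e] at hu
  have hv1 : v ≠ 1 := fun e => by simp [e] at hv
  obtain ⟨n, -, hn⟩ := B.trans S' hm hS' (fun e => hu1 (conj_eq_one_iff.mp e)) hv1
  exact ⟨n * h, by rw [← hn]; group⟩

end Base

/-- A Sylow subgroup adapted to the coordinates. -/
structure Frame (C : Coord G) (S : Sylow 2 G)
    (g b c : Matrix.ProjectiveSpecialLinearGroup (Fin 2) C.F) : Prop where
  a4 : IsA4 g b c
  fixed : ∀ e : RingAut C.F, fieldAut e g = g ∧ fieldAut e b = b ∧ fieldAut e c = c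
  t_mem : C.t ∈ (S : Subgroup G)
  b_mem : C.ι b ∈ (S : Subgroup G)
  c_mem : C.ι c ∈ (S : Subgroup G)
  g_norm : C.ι g ∈ Subgroup.normalizer ((S : Subgroup G) : Set G)
  form : ∀ x ∈ (S : Subgroup G), ∃ (i : Fin 2) (v : Matrix.ProjectiveSpecialLinearGroup (Fin 2) C.F),
    x = C.t ^ (i : ℕ) * C.ι v ∧ (v = 1 ∨ v = b ∨ v = c ∨ v = b * c)
  cent : ∀ y ∈ Subgroup.centralizer ((S : Subgroup G) : Set G), ∃ s ∈ (S : Subgroup G), ∃ j : ℕ, y = s * C.φ ^ j
  φ_cent : C.φ ∈ Subgroup.centralizer ((S : Subgroup G) : Set G)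
  norm_comm : ∀ n ∈ Subgroup.normalizer ((S : Subgroup G) : Set G), Commute n C.φ

/-- The image of an element fixed by the field automorphisms commutes with `φ`. -/
theorem Coord.φ_comm {X : Type u} [Group X] (C : Coord X) {x : Matrix.ProjectiveSpecialLinearGroup (Fin 2) C.F}
    (h : fieldAut C.σ x = x) : Commute C.φ (C.ι x) :=
  mul_inv_eq_iff_eq_mul.mp ((C.conj x).trans (by rw [h]))

/-- A power of `φ` of order at most two is trivial. -/
theorem Coord.φ_pow_two {X : Type u} [Group X] (C : Coord X) {j : ℕ} (h : C.φ ^ j * C.φ ^ j = 1) : C.φ ^ j = 1 := by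
  rw [← pow_add, ← two_mul] at h
  have h1 := orderOf_dvd_of_pow_eq_one h
  rw [← orderOf_dvd_iff_pow_eq_one]
  exact (Nat.Coprime.symm (Nat.coprime_two_left.mpr (C.φ_ord ▸ C.odd_f))).dvd_of_dvd_mul_left h1

theorem exists_frame (B : Base G) (C : Coord G) : ∃ S g b c, Frame C S g b c := by
  classical
  haveI : Fact (Nat.Prime 2) := ⟨Nat.prime_two⟩
  obtain ⟨g, b, c, hA, hfix⟩ := exists_fixed_A4 (F := C.F) C.two_ne
  obtain ⟨hσg, hσb, hσc⟩ := hfix C.σ
  have hVp : IsPGroup 2 ((PSL2Klein.four b c hA.bb hA.cc hA.comm).map C.ι) := (IsPGroup.of_card (n := 2)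
    ((PSL2Klein.four_klein hA.bb hA.cc hA.comm hA.b1 hA.c1 hA.bc).card_four)).map _
  have htp : IsPGroup 2 (Subgroup.zpowers C.t) := IsPGroup.of_card (n := 1) (by rw [Nat.card_zpowers, C.t_ord, pow_one])
  have hWp : IsPGroup 2 ↥((PSL2Klein.four b c hA.bb hA.cc hA.comm).map C.ι ⊔ Subgroup.zpowers C.t) := by
    refine IsPGroup.to_sup_of_normal_right' hVp htp ?_
    rintro _ ⟨v, -, rfl⟩
    refine Subgroup.centralizer_le_normalizer _ ?_
    rintro _ ⟨k, rfl⟩
    exact ((C.t_ι v).zpow_left k).eq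
  obtain ⟨S, hS⟩ := hWp.exists_le_sylow
  have hE := B.e8.sylow S
  have htS : C.t ∈ (S : Subgroup G) := hS (Subgroup.mem_sup_right (Subgroup.mem_zpowers _))
  have hmemV : ∀ v, v = 1 ∨ v = b ∨ v = c ∨ v = b * c → C.ι v ∈ (S : Subgroup G) := fun v hv =>
    hS (Subgroup.mem_sup_left ⟨v, hv, rfl⟩)
  have hbS := hmemV b (Or.inr (Or.inl rfl))
  have hcS := hmemV c (Or.inr (Or.inr (Or.inl rfl)))
  have hfixV : ∀ v, v = 1 ∨ v = b ∨ v = c ∨ v = b * c → Commute C.φ (C.ι v) := by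
    rintro v (rfl | rfl | rfl | rfl)
    · rw [map_one]; exact Commute.one_right _
    · exact C.φ_comm hσb
    · exact C.φ_comm hσc
    · exact C.φ_comm (by rw [map_mul, hσb, hσc])
  have hsV : ∀ (i : Fin 2) v, v = 1 ∨ v = b ∨ v = c ∨ v = b * c → C.t ^ (i : ℕ) * C.ι v ∈ (S : Subgroup G) :=
    fun i v hv => mul_mem (pow_mem htS _) (hmemV v hv)
  have hform : ∀ x ∈ (S : Subgroup G), ∃ (i : Fin 2) (v : Matrix.ProjectiveSpecialLinearGroup (Fin 2) C.F),
      x = C.t ^ (i : ℕ) * C.ι v ∧ (v = 1 ∨ v = b ∨ v = c ∨ v = b * c) := by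
    intro x hx
    obtain ⟨i, v, j, rfl, hv⟩ := C.four_cent_form hA hσb hσc (hE.comm hx htS) (hE.comm hx hbS) (hE.comm hx hcS)
    have hj : C.φ ^ j ∈ (S : Subgroup G) := by
      have h := mul_mem (inv_mem (hsV i v hv)) hx
      rwa [inv_mul_cancel_left] at h
    exact ⟨i, v, by rw [C.φ_pow_two (hE.2 _ hj), mul_one], hv⟩
  have hφC : C.φ ∈ Subgroup.centralizer ((S : Subgroup G) : Set G) := by
    intro x hx
    obtain ⟨i, v, rfl, hv⟩ := hform x hx
    exact ((C.t_φ.symm.pow_right _).mul_right (hfixV v hv)).eq.symm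
  have hcent : ∀ y ∈ Subgroup.centralizer ((S : Subgroup G) : Set G),
      ∃ s ∈ (S : Subgroup G), ∃ j : ℕ, y = s * C.φ ^ j := by
    intro y hy
    obtain ⟨i, v, j, rfl, hv⟩ := C.four_cent_form hA hσb hσc
      (hy _ htS).symm (hy _ hbS).symm (hy _ hcS).symm
    exact ⟨_, hsV i v hv, j, rfl⟩
  -- the element of order three
  have hgbc : g * (b * c) * g⁻¹ = b := by
    rw [show g * (b * c) * g⁻¹ = (g * b * g⁻¹) * (g * c * g⁻¹) by group, hA.gb, hA.gc, hA.comm, ← mul_assoc, hA.cc, one_mul]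
  have hgV : ∀ v, v = 1 ∨ v = b ∨ v = c ∨ v = b * c →
      g * v * g⁻¹ = 1 ∨ g * v * g⁻¹ = b ∨ g * v * g⁻¹ = c ∨ g * v * g⁻¹ = b * c := by
    rintro v (rfl | rfl | rfl | rfl)
    · exact Or.inl (by group)
    · exact Or.inr (Or.inr (Or.inl hA.gb))
    · exact Or.inr (Or.inr (Or.inr hA.gc))
    · exact Or.inr (Or.inl hgbc)
  have hkconj : ∀ (i : Fin 2) v, C.ι g * (C.t ^ (i : ℕ) * C.ι v) * (C.ι g)⁻¹ = C.t ^ (i : ℕ) * C.ι (g * v * g⁻¹) := by
    intro i v
    rw [map_mul, map_mul, map_inv, ← mul_assoc, ((C.t_ι g).symm.pow_right (i : ℕ)).eq]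
    group
  have hkN : C.ι g ∈ Subgroup.normalizer ((S : Subgroup G) : Set G) := by
    refine Subgroup.mem_normalizer_fintype fun x hx => ?_
    obtain ⟨i, v, rfl, hv⟩ := hform x hx
    show C.ι g * (C.t ^ (i : ℕ) * C.ι v) * (C.ι g)⁻¹ ∈ (S : Subgroup G)
    rw [hkconj]
    exact hsV i _ (hgV v hv)
  refine ⟨S, g, b, c, hA, hfix, htS, hbS, hcS, hkN, hform, hcent, hφC, ?_⟩
  -- the normaliser centralises `φ`
  set N := Subgroup.normalizer ((S : Subgroup G) : Set G) with hN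
  have hnorm : ∀ n ∈ N, ∃ j : ℕ, n * C.φ * n⁻¹ = C.φ ^ j := by
    intro n hn
    have hy : n * C.φ * n⁻¹ ∈ Subgroup.centralizer ((S : Subgroup G) : Set G) := by
      intro x hx
      have h' := hφC (n⁻¹ * x * n) ((Subgroup.mem_normalizer_iff''.mp hn x).mp hx)
      calc x * (n * C.φ * n⁻¹) = n * (n⁻¹ * x * n * C.φ) * n⁻¹ := by group
        _ = n * (C.φ * (n⁻¹ * x * n)) * n⁻¹ := by rw [h']
        _ = n * C.φ * n⁻¹ * x := by group
    obtain ⟨s, hs, j, e⟩ := hcent _ hy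
    refine ⟨j, ?_⟩
    have hsf : Commute s (C.φ ^ j) := ((show Commute C.φ s from (hφC s hs).symm).pow_left j).symm
    have ho : (s * C.φ ^ j) ^ orderOf C.σ = 1 := by
      rw [← e, conj_pow, ← C.φ_ord, pow_orderOf_eq_one, mul_one, mul_inv_cancel]
    rw [hsf.mul_pow, ← pow_mul, mul_comm j, pow_mul, ← C.φ_ord, pow_orderOf_eq_one, one_pow, mul_one] at ho
    have hs1 : s = 1 := by
      obtain ⟨k, hk⟩ := C.odd_f
      rw [C.φ_ord, hk, pow_succ, pow_mul, pow_two, hE.2 s hs, one_pow, one_mul] at ho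
      exact ho
    rw [e, hs1, one_mul]
  let M : Subgroup G := N ⊓ Subgroup.centralizer ({C.φ} : Set G)
  have hMC : ∀ {m}, m ∈ M ↔ m ∈ N ∧ Commute m C.φ := fun {m} => by
    show m ∈ N ∧ m ∈ Subgroup.centralizer ({C.φ} : Set G) ↔ _
    rw [Subgroup.mem_centralizer_singleton_iff]
    rfl
  have hMn : ∀ n ∈ N, ∀ m ∈ M, n * m * n⁻¹ ∈ M := by
    intro n hn m hm
    obtain ⟨hmN, hmc⟩ := hMC.mp hm
    refine hMC.mpr ⟨mul_mem (mul_mem hn hmN) (inv_mem hn), ?_⟩
    obtain ⟨j, hj⟩ := hnorm n⁻¹ (inv_mem hn)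
    rw [inv_inv] at hj
    have h1 : n⁻¹ * (n * C.φ * n⁻¹) * n = C.φ := by group
    show n * m * n⁻¹ * C.φ = C.φ * (n * m * n⁻¹)
    calc n * m * n⁻¹ * C.φ = n * (m * (n⁻¹ * C.φ * n)) * n⁻¹ := by group
      _ = n * ((n⁻¹ * C.φ * n) * m) * n⁻¹ := by rw [hj, (hmc.pow_right j).eq]
      _ = C.φ * (n * m * n⁻¹) := by group
  have hkM : C.ι g ∈ M := hMC.mpr ⟨hkN, (C.φ_comm hσg).symm⟩
  -- orbits of `M`
  let O : G → Set G := fun a => {x | ∃ m ∈ M, m * a * m⁻¹ = x}
  let A : Set G := {x | x ∈ (S : Subgroup G) ∧ x ≠ 1}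
  have hA7 : A.ncard = 7 := by
    have e : A = ((S : Subgroup G) : Set G) \ {1} := rfl
    rw [e, Set.ncard_sdiff_singleton_of_mem (one_mem _), ← Nat.card_coe_set_eq,
      show Nat.card ((S : Subgroup G) : Set G) = 8 from hE.1]
  have hOA : ∀ a ∈ A, O a ⊆ A := by
    rintro a ⟨ha, ha1⟩ _ ⟨m, hm, rfl⟩
    exact ⟨(Subgroup.mem_normalizer_iff.mp (hMC.mp hm).1 a).mp ha, fun e => ha1 (conj_eq_one_iff.mp e)⟩
  have hself : ∀ a, a ∈ O a := fun a => ⟨1, one_mem M, by group⟩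
  have hb1 : C.ι b ≠ 1 := fun e => hA.b1 (C.ι_inj (e.trans (map_one _).symm))
  have htA : C.t ∈ A := ⟨htS, C.t_ne⟩
  -- the orbit of `t` is not trivial
  obtain ⟨x, hx, hxt⟩ : ∃ x ∈ O C.t, x ≠ C.t := by
    by_contra hcon
    push Not at hcon
    obtain ⟨w, hw, hwt⟩ := B.trans S htS hbS C.t_ne hb1
    have hm := hMn _ (inv_mem hw) _ hkM
    rw [inv_inv] at hm
    have hfixb : C.ι g * C.ι b * (C.ι g)⁻¹ = C.ι b := by
      rw [← hwt]
      have h := hcon _ ⟨_, hm, rfl⟩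
      calc C.ι g * (w * C.t * w⁻¹) * (C.ι g)⁻¹
          = w * (w⁻¹ * C.ι g * w * C.t * (w⁻¹ * C.ι g * w)⁻¹) * w⁻¹ := by group
        _ = w * C.t * w⁻¹ := by rw [h]
    rw [← map_inv, ← map_mul, ← map_mul, hA.gb] at hfixb
    exact hA.bc (C.ι_inj hfixb).symm
  -- so it has at least four elements
  have h4 : 4 ≤ (O C.t).ncard := by
    obtain ⟨i, v, rfl, hv⟩ := hform x (hOA _ htA hx).1
    have hv1 : v ≠ 1 := by
      intro e
      rw [e, map_one, mul_one] at hxt
      fin_cases i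
      · have := (hOA _ htA hx).2
        rw [e, map_one, mul_one] at this
        exact this (by simp)
      · exact hxt (by simp)
    have hg2 : ∀ y, (y = b ∨ y = c ∨ y = b * c) → C.t ^ (i : ℕ) * C.ι y ∈ O C.t := by
      have step : ∀ y, C.t ^ (i : ℕ) * C.ι y ∈ O C.t → C.t ^ (i : ℕ) * C.ι (g * y * g⁻¹) ∈ O C.t := by
        rintro y ⟨m, hm, e⟩
        exact ⟨C.ι g * m, mul_mem hkM hm, by rw [← hkconj, ← e]; group⟩
      have hall : C.t ^ (i : ℕ) * C.ι b ∈ O C.t ∧ C.t ^ (i : ℕ) * C.ι c ∈ O C.t ∧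
          C.t ^ (i : ℕ) * C.ι (b * c) ∈ O C.t := by
        rcases hv.resolve_left hv1 with rfl | rfl | rfl
        · have h1 := step _ hx; rw [hA.gb] at h1
          have h2 := step _ h1; rw [hA.gc] at h2
          exact ⟨hx, h1, h2⟩
        · have h1 := step _ hx; rw [hA.gc] at h1
          have h2 := step _ h1; rw [hgbc] at h2
          exact ⟨h2, hx, h1⟩
        · have h1 := step _ hx; rw [hgbc] at h1
          have h2 := step _ h1; rw [hA.gb] at h2
          exact ⟨h1, h2, hx⟩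
      rintro y (rfl | rfl | rfl)
      exacts [hall.1, hall.2.1, hall.2.2]
    have hne : ∀ y z, y ≠ z → C.t ^ (i : ℕ) * C.ι y ≠ C.t ^ (i : ℕ) * C.ι z := fun y z h e =>
      h (C.ι_inj (mul_left_cancel e))
    have htne : ∀ y, y ≠ 1 → C.t ^ (i : ℕ) * C.ι y ≠ C.t := by
      intro y hy e
      fin_cases i
      · exact C.ι_ne_t y (by simpa using e)
      · exact hy (C.ι_inj (by simpa using e))
    have hbc1 : b * c ≠ 1 := fun e => hA.bc ((mul_eq_one_iff_eq_inv.mp e).trans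
      (inv_eq_of_mul_eq_one_right hA.cc))
    have hsub : ({C.t, C.t ^ (i : ℕ) * C.ι b, C.t ^ (i : ℕ) * C.ι c, C.t ^ (i : ℕ) * C.ι (b * c)} : Set G) ⊆ O C.t := by
      rintro _ (rfl | rfl | rfl | rfl)
      · exact hself _
      · exact hg2 _ (Or.inl rfl)
      · exact hg2 _ (Or.inr (Or.inl rfl))
      · exact hg2 _ (Or.inr (Or.inr rfl))
    refine le_trans (le_of_eq ?_) (Set.ncard_le_ncard hsub (Set.toFinite _))
    symm
    rw [Set.ncard_eq_four]
    exact ⟨_, _, _, _, (htne b hA.b1).symm, (htne c hA.c1).symm, (htne _ hbc1).symm, hne _ _ hA.bc,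
      hne _ _ fun e => hA.c1 (mul_eq_left.mp e.symm), hne _ _ fun e => hA.b1 (mul_eq_right.mp e.symm), rfl⟩
  -- so `M` is transitive
  have hfull : O C.t = A := by
    refine Set.Subset.antisymm (hOA _ htA) fun a ha => ?_
    by_contra hna
    obtain ⟨w, hw, hwt⟩ := B.trans S htS ha.1 C.t_ne ha.2
    have hsz : 4 ≤ (O a).ncard := by
      have e : (fun z => w * z * w⁻¹) '' O C.t ⊆ O a := by
        rintro _ ⟨_, ⟨m, hm, rfl⟩, rfl⟩
        exact ⟨w * m * w⁻¹, hMn w hw m hm, by rw [← hwt]; group⟩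
      refine h4.trans ((le_of_eq ?_).trans (Set.ncard_le_ncard e (Set.toFinite _)))
      exact (Set.ncard_image_of_injective _ fun p q hpq => mul_left_cancel (mul_right_cancel hpq)).symm
    have hd : Disjoint (O C.t) (O a) := by
      rw [Set.disjoint_left]
      rintro z ⟨m, hm, rfl⟩ ⟨m', hm', e⟩
      exact hna ⟨m'⁻¹ * m, mul_mem (inv_mem hm') hm, by
        calc m'⁻¹ * m * C.t * (m'⁻¹ * m)⁻¹ = m'⁻¹ * (m * C.t * m⁻¹) * m' := by group
          _ = a := by rw [← e]; group⟩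
    have hu := Set.ncard_le_ncard (Set.union_subset (hOA _ htA) (hOA _ ha)) (Set.toFinite _)
    rw [Set.ncard_union_eq hd (Set.toFinite _) (Set.toFinite _), hA7] at hu
    omega
  intro n hn
  -- reduce to an element of `C(t)`
  obtain ⟨m, hm, hmt⟩ : n * C.t * n⁻¹ ∈ O C.t := hfull.symm ▸
    ⟨(Subgroup.mem_normalizer_iff.mp hn _).mp htS, fun e => C.t_ne (conj_eq_one_iff.mp e)⟩
  obtain ⟨hmN, hmc⟩ := hMC.mp hm
  have hn' : m⁻¹ * n ∈ N := mul_mem (inv_mem hmN) hn
  have hnt : Commute (m⁻¹ * n) C.t := by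
    refine mul_inv_eq_iff_eq_mul.mp ?_
    calc m⁻¹ * n * C.t * (m⁻¹ * n)⁻¹ = m⁻¹ * (n * C.t * n⁻¹) * m := by group
      _ = C.t := by rw [← hmt]; group
  suffices h : Commute (m⁻¹ * n) C.φ by
    have := hmc.mul_left h
    rwa [mul_inv_cancel_left] at this
  set y := m⁻¹ * n with hy
  obtain ⟨i, z, j, hz⟩ := C.cent y hnt
  have hzN : C.ι z ∈ N := by
    have e : C.ι z = (C.t ^ (i : ℕ))⁻¹ * y * (C.φ ^ j)⁻¹ := by rw [hz]; group
    rw [e]
    exact mul_mem (mul_mem (inv_mem (pow_mem (Subgroup.le_normalizer htS) _)) hn')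
      (inv_mem (pow_mem (Subgroup.centralizer_le_normalizer _ hφC) _))
  suffices hzf : fieldAut C.σ z = z by
    rw [hz]
    exact ((C.t_φ.pow_left _).mul_left (C.φ_comm hzf).symm).mul_left ((Commute.refl _).pow_left j)
  -- modify by a power of `g` so that `b` is fixed
  have hzV : ∀ v, (v = 1 ∨ v = b ∨ v = c ∨ v = b * c) →
      z * v * z⁻¹ = 1 ∨ z * v * z⁻¹ = b ∨ z * v * z⁻¹ = c ∨ z * v * z⁻¹ = b * c := by
    intro v hv
    obtain ⟨i', w, e, hw⟩ := hform _ ((Subgroup.mem_normalizer_iff.mp hzN _).mp (hmemV v hv))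
    rw [← map_inv, ← map_mul, ← map_mul] at e
    have h1 := C.unique (i := i') (x := w * (z * v * z⁻¹)⁻¹) (j := 0) (by
      rw [pow_zero, mul_one, map_mul, ← mul_assoc, ← e, map_inv, mul_inv_cancel])
    rw [mul_inv_eq_one] at h1
    exact h1.2.1 ▸ hw
  obtain ⟨k, hk, hkb⟩ : ∃ k : Matrix.ProjectiveSpecialLinearGroup (Fin 2) C.F,
      (k = 1 ∨ k = g ∨ k = g ^ 2) ∧ k * (z * b * z⁻¹) * k⁻¹ = b := by
    rcases hzV b (Or.inr (Or.inl rfl)) with e | e | e | e
    · exact absurd (conj_eq_one_iff.mp e) hA.b1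
    · exact ⟨1, Or.inl rfl, by rw [e]; group⟩
    · refine ⟨g ^ 2, Or.inr (Or.inr rfl), ?_⟩
      rw [e, show g ^ 2 * c * (g ^ 2)⁻¹ = g * (g * c * g⁻¹) * g⁻¹ by rw [pow_two]; group, hA.gc, hgbc]
    · exact ⟨g, Or.inr (Or.inl rfl), by rw [e, hgbc]⟩
  have hkσ : fieldAut C.σ k = k := by
    rcases hk with rfl | rfl | rfl
    · exact map_one _
    · exact hσg
    · rw [map_pow, hσg]
  have hkNn : C.ι k ∈ N := by
    rcases hk with rfl | rfl | rfl
    · rw [map_one]; exact one_mem _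
    · exact hkN
    · rw [map_pow]; exact pow_mem hkN 2
  suffices hw : fieldAut C.σ (k * z) = k * z by
    rw [map_mul, hkσ] at hw
    exact mul_left_cancel hw
  set w := k * z with hwdef
  have hwN : C.ι w ∈ N := by rw [hwdef, map_mul]; exact mul_mem hkNn hzN
  have hwb : w * b * w⁻¹ = b := by
    calc w * b * w⁻¹ = k * (z * b * z⁻¹) * k⁻¹ := by rw [hwdef]; group
      _ = b := hkb
  have hwV : ∀ v, (v = 1 ∨ v = b ∨ v = c ∨ v = b * c) →
      w * v * w⁻¹ = 1 ∨ w * v * w⁻¹ = b ∨ w * v * w⁻¹ = c ∨ w * v * w⁻¹ = b * c := by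
    intro v hv
    have e : w * v * w⁻¹ = k * (z * v * z⁻¹) * k⁻¹ := by rw [hwdef]; group
    rw [e]
    rcases hk with rfl | rfl | rfl
    · simpa using hzV v hv
    · exact hgV _ (hzV v hv)
    · rw [show g ^ 2 * (z * v * z⁻¹) * (g ^ 2)⁻¹ = g * (g * (z * v * z⁻¹) * g⁻¹) * g⁻¹ by rw [pow_two]; group]
      exact hgV _ (hgV _ (hzV v hv))
  have hwc : w * c * w⁻¹ = c := by
    rcases hwV c (Or.inr (Or.inr (Or.inl rfl))) with e | e | e | e
    · exact absurd (conj_eq_one_iff.mp e) hA.c1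
    · exact absurd (mul_left_cancel (mul_right_cancel (hwb.trans e.symm))) hA.bc
    · exact e
    · exfalso
      -- the odd part of `w` would act with order two
      have hpow : ∀ n : ℕ, w ^ n * c * (w ^ n)⁻¹ = if Even n then c else b * c := by
        intro n
        induction n with
        | zero => simp
        | succ n ih =>
          rw [show w ^ (n + 1) * c * (w ^ (n + 1))⁻¹ = w * (w ^ n * c * (w ^ n)⁻¹) * w⁻¹ by group, ih]
          by_cases h : Even n
          · rw [if_pos h, if_neg (by simpa [Nat.even_add_one] using h), e]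
          · rw [if_neg h, if_pos (by simpa [Nat.even_add_one] using h),
              show w * (b * c) * w⁻¹ = (w * b * w⁻¹) * (w * c * w⁻¹) by group, hwb, e, ← mul_assoc, hA.bb, one_mul]
      obtain ⟨a, o, ho, he⟩ := Nat.exists_eq_pow_mul_and_not_dvd (orderOf_pos w).ne' 2 (by norm_num)
      have hoo : ¬ Even o := fun h => ho (even_iff_two_dvd.mp h)
      have h2 := hpow o
      rw [if_neg hoo] at h2
      -- `w ^ o` has two-power order, so lies in `S`
      have hin : C.ι (w ^ o) ∈ (S : Subgroup G) := by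
        refine E8Solv.mem_sylow_of_normalizes S ?_ (by rw [map_pow]; exact pow_mem hwN o)
        have h3 : orderOf (C.ι (w ^ o)) ∣ 2 ^ a := by
          refine orderOf_dvd_of_pow_eq_one ?_
          rw [← map_pow, ← pow_mul, mul_comm, ← he, pow_orderOf_eq_one, map_one]
        obtain ⟨a', -, ha'⟩ := (Nat.dvd_prime_pow Nat.prime_two).mp h3
        exact ⟨a', ha'⟩
      have h4' : w ^ o * c * (w ^ o)⁻¹ = c := by
        refine C.ι_inj ?_
        rw [map_mul, map_mul, map_inv, hE.comm hin hcS, mul_inv_cancel_right]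
      rw [h4'] at h2
      exact hA.b1 (mul_eq_right.mp h2.symm)
  rcases four_cent C.two_ne hA.bb hA.b1 hA.cc hA.c1 hA.bc hA.comm (mul_inv_eq_iff_eq_mul.mp hwb)
    (mul_inv_eq_iff_eq_mul.mp hwc) with e | e | e | e <;> rw [e]
  · exact map_one _
  · exact hσb
  · exact hσc
  · rw [map_mul, hσb, hσc]

end CfsgLib.Walter
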