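import Cfsg.Agent.Lib.Walter.Setup
import Mathlib.GroupTheory.Transfer
import Mathlib.GroupTheory.PGroup

/-!
The transfer into `C(t)/⟨t⟩L`: the order of `σ` divides the number of involutions, and every prime `r` of it divides
the number of involutions commuting with the `r`-part of `φ`.

Blueprint: `blueprint/Walter.md`, G2.
-/

set_option autoImplicit false
set_option linter.unusedSectionVars false
set_option linter.style.haveILetI false

namespace CfsgLib.Walter

open CfsgLib.PSL2 (fieldAut)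

universe u

variable {G : Type u} [Group G] [Finite G]

local notation "PSL₂[" K "]" => Matrix.ProjectiveSpecialLinearGroup (Fin 2) K

/-- An element commuting with `φ` commutes with its powers. -/
theorem Frame.norm_pow {C : Coord G} {S : Sylow 2 G} {g b c : PSL₂[C.F]} (Fr : Frame C S g b c) (k : ℤ) :
    Subgroup.normalizer ((S : Subgroup G) : Set G) ≤ Subgroup.centralizer ({C.φ ^ k} : Set G) := fun n hn =>
  Subgroup.mem_centralizer_singleton_iff.mpr ((Fr.norm_comm n hn).zpow_right k).eq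

/-- All involutions of the centraliser of a power of `φ` are conjugate in it. -/
theorem cent_pow_conj (B : Base G) (C : Coord G) (k : ℤ) {u : G} (hu : orderOf u = 2)
    (huc : Commute u (C.φ ^ k)) : ∃ h : G, Commute h (C.φ ^ k) ∧ h * C.t * h⁻¹ = u := by
  haveI : Fact (Nat.Prime 2) := ⟨Nat.prime_two⟩
  obtain ⟨S, g, b, c, Fr⟩ := exists_frame B C
  set H := Subgroup.centralizer ({C.φ ^ k} : Set G)
  have hN := Fr.norm_pow k
  have hSH : (S : Subgroup G) ≤ H := Subgroup.le_normalizer.trans hN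
  have hu' : orderOf (⟨u, Subgroup.mem_centralizer_singleton_iff.mpr huc.eq⟩ : ↥H) = 2 := by
    rw [Subgroup.orderOf_mk, hu]
  obtain ⟨Q, hQ⟩ := exists_mem_sylow hu'
  obtain ⟨d, hd⟩ := MulAction.exists_smul_eq ↥H (S.subtype hSH) Q
  rw [← hd, Sylow.coe_subgroup_smul] at hQ
  obtain ⟨s, hs, hse⟩ := hQ
  have hse' : (d : G) * s * (d : G)⁻¹ = u := congrArg Subtype.val hse
  have hs1 : (s : G) ≠ 1 := fun e => by
    rw [e, mul_one, mul_inv_cancel] at hse'
    rw [← hse', orderOf_one] at hu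
    omega
  obtain ⟨n, hn, hne⟩ := B.trans S Fr.t_mem hs C.t_ne hs1
  refine ⟨d * n, ?_, ?_⟩
  swap
  · calc (d : G) * n * C.t * ((d : G) * n)⁻¹ = (d : G) * (n * C.t * n⁻¹) * (d : G)⁻¹ := by group
      _ = u := by rw [hne]; exact hse'
  exact (show Commute (d : G) (C.φ ^ k) from Subgroup.mem_centralizer_singleton_iff.mp d.2).mul_left
    (Subgroup.mem_centralizer_singleton_iff.mp (hN hn))

namespace Coord

variable {X : Type u} [Group X] (C : Coord X)

/-- `C(t)`. -/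
abbrev Ct : Subgroup X := Subgroup.centralizer ({C.t} : Set X)

theorem φ_mem_Ct : C.φ ∈ C.Ct := Subgroup.mem_centralizer_singleton_iff.mpr C.t_φ.symm.eq

/-- Uniqueness of the power of `φ` in the normal form. -/
theorem φ_part_unique {i k : Fin 2} {x y : PSL₂[C.F]} {j l : ℕ}
    (h : C.t ^ (i : ℕ) * C.ι x * C.φ ^ j = C.t ^ (k : ℕ) * C.ι y * C.φ ^ l) : C.φ ^ j = C.φ ^ l := by
  have hn : l ≤ orderOf C.σ * l := Nat.le_mul_of_pos_left l C.odd_f.pos
  set m := orderOf C.σ * l - l with hm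
  have hml : C.φ ^ m = (C.φ ^ l)⁻¹ := by
    refine eq_inv_of_mul_eq_one_left ?_
    rw [← pow_add, hm, Nat.sub_add_cancel hn, pow_mul, ← C.φ_ord, pow_orderOf_eq_one, one_pow]
  have h1 : ∃ e : Fin 2, C.t ^ (e : ℕ) * C.ι (y⁻¹ * x) * C.φ ^ (j + m) = 1 := by
    obtain ⟨e, he⟩ : ∃ e : Fin 2, (C.t ^ (k : ℕ))⁻¹ * C.t ^ (i : ℕ) = C.t ^ (e : ℕ) := by
      fin_cases i <;> fin_cases k
      · exact ⟨0, by simp⟩
      · exact ⟨1, by simp [inv_eq_of_mul_eq_one_right C.tt]⟩
      · exact ⟨1, by simp⟩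
      · exact ⟨0, by simp⟩
    refine ⟨e, ?_⟩
    have hc : Commute ((C.t ^ (k : ℕ))⁻¹ * C.t ^ (i : ℕ)) (C.ι y) :=
      ((C.t_ι y).pow_left _).inv_left.mul_left ((C.t_ι y).pow_left _)
    rw [← he, map_mul, map_inv, pow_add, hml, ← mul_assoc _ (C.ι y)⁻¹, hc.inv_right.eq]
    calc (C.ι y)⁻¹ * ((C.t ^ (k : ℕ))⁻¹ * C.t ^ (i : ℕ)) * C.ι x * (C.φ ^ j * (C.φ ^ l)⁻¹)
        = (C.ι y)⁻¹ * (C.t ^ (k : ℕ))⁻¹ * (C.t ^ (i : ℕ) * C.ι x * C.φ ^ j) * (C.φ ^ l)⁻¹ := by group
      _ = 1 := by rw [h]; group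
  obtain ⟨e, he⟩ := h1
  have h2 := (C.unique he).2.2
  rw [pow_add, hml, mul_inv_eq_one] at h2
  exact h2

variable [Finite X]

theorem exists_proj (g : ↥C.Ct) : ∃ (i : Fin 2) (x : PSL₂[C.F]) (j : ℕ), (g : X) = C.t ^ (i : ℕ) * C.ι x * C.φ ^ j :=
  C.cent _ (Subgroup.mem_centralizer_singleton_iff.mp g.2)

/-- `C(t) → ⟨φ⟩`. -/
noncomputable def pr : ↥C.Ct →* Subgroup.zpowers C.φ :=
  MonoidHom.mk' (fun g => ⟨C.φ ^ (C.exists_proj g).choose_spec.choose_spec.choose,
    Subgroup.pow_mem _ (Subgroup.mem_zpowers _) _⟩) fun g g' => by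
    refine Subtype.ext ?_
    show C.φ ^ _ = C.φ ^ _ * C.φ ^ _
    set i := (C.exists_proj g).choose
    set x := (C.exists_proj g).choose_spec.choose
    set j := (C.exists_proj g).choose_spec.choose_spec.choose
    set i' := (C.exists_proj g').choose
    set x' := (C.exists_proj g').choose_spec.choose
    set j' := (C.exists_proj g').choose_spec.choose_spec.choose
    have hg := (C.exists_proj g).choose_spec.choose_spec.choose_spec
    have hg' := (C.exists_proj g').choose_spec.choose_spec.choose_spec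
    have hgg := (C.exists_proj (g * g')).choose_spec.choose_spec.choose_spec
    obtain ⟨e, he⟩ : ∃ e : Fin 2, C.t ^ (i : ℕ) * C.t ^ (i' : ℕ) = C.t ^ (e : ℕ) := by
      generalize i = a
      generalize i' = a'
      fin_cases a <;> fin_cases a'
      · exact ⟨0, by simp⟩
      · exact ⟨1, by simp⟩
      · exact ⟨1, by simp⟩
      · exact ⟨0, by simp [C.tt]⟩
    rw [← pow_add]
    refine C.φ_part_unique (i := (C.exists_proj (g * g')).choose) (k := e)
      (x := (C.exists_proj (g * g')).choose_spec.choose) (y := x * fieldAut (C.σ ^ j) x') ?_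
    rw [← hgg, Subgroup.coe_mul, hg, hg', map_mul, ← C.conj_pow, ← he, pow_add]
    have hc : Commute (C.ι x * C.φ ^ j) (C.t ^ (i' : ℕ)) :=
      ((C.t_ι x).mul_right (C.t_φ.pow_right j)).symm.pow_right _
    calc C.t ^ (i : ℕ) * C.ι x * C.φ ^ j * (C.t ^ (i' : ℕ) * C.ι x' * C.φ ^ j')
        = C.t ^ (i : ℕ) * (C.ι x * C.φ ^ j * C.t ^ (i' : ℕ)) * C.ι x' * C.φ ^ j' := by group
      _ = _ := by rw [hc.eq]; group

theorem pr_φ : (C.pr ⟨C.φ, C.φ_mem_Ct⟩ : X) = C.φ := by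
  have h := (C.exists_proj ⟨C.φ, C.φ_mem_Ct⟩).choose_spec.choose_spec.choose_spec
  refine (C.φ_part_unique (i := (C.exists_proj ⟨C.φ, C.φ_mem_Ct⟩).choose) (k := (0 : Fin 2))
    (y := 1) (l := 1) (h.symm.trans ?_)).trans (pow_one _)
  simp

end Coord

/-- The order of `σ` divides the number of involutions. -/
theorem f_dvd_index (B : Base G) (C : Coord G) : orderOf C.σ ∣ C.Ct.index := by
  classical
  haveI := B.simple
  haveI : IsMulCommutative (Subgroup.zpowers C.φ) := inferInstance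
  letI : CommGroup (Subgroup.zpowers C.φ) :=
    { (inferInstance : Group (Subgroup.zpowers C.φ)) with mul_comm := fun a b => mul_comm' a b }
  letI := Fintype.ofFinite (Quotient (MulAction.orbitRel (Subgroup.zpowers C.φ) (G ⧸ C.Ct)))
  letI := Fintype.ofFinite (G ⧸ C.Ct)
  set V := MonoidHom.transfer C.pr with hV
  have hV1 : V C.φ = 1 := by
    rcases V.normal_ker.eq_bot_or_eq_top with h | h
    · exfalso
      refine B.not_comm ⟨⟨fun a b => (MonoidHom.ker_eq_bot_iff V).mp h ?_⟩⟩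
      rw [map_mul, map_mul, mul_comm]
    · exact MonoidHom.mem_ker.mp (h ▸ Subgroup.mem_top _)
  set φt : ↥C.Ct := ⟨C.φ, C.φ_mem_Ct⟩
  have hterm : ∀ (g₀ : G) (l : ℕ) (h : g₀⁻¹ * C.φ ^ l * g₀ ∈ C.Ct), C.pr ⟨_, h⟩ = C.pr φt ^ l := by
    intro g₀ l h
    have hu : Commute (g₀ * C.t * g₀⁻¹) (C.φ ^ (l : ℤ)) := by
      have := (show Commute (g₀⁻¹ * C.φ ^ l * g₀) C.t from Subgroup.mem_centralizer_singleton_iff.mp h).map
        (MulAut.conj g₀).toMonoidHom
      simp only [MulEquiv.coe_toMonoidHom, MulAut.conj_apply] at this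
      rw [show g₀ * (g₀⁻¹ * C.φ ^ l * g₀) * g₀⁻¹ = C.φ ^ l by group] at this
      rw [zpow_natCast]; exact this.symm
    obtain ⟨w, hw, hwe⟩ := cent_pow_conj B C l (u := g₀ * C.t * g₀⁻¹)
      (by rw [← MulAut.conj_apply, MulEquiv.orderOf_eq, C.t_ord]) hu
    rw [zpow_natCast] at hw
    have hc : w⁻¹ * g₀ ∈ C.Ct := Subgroup.mem_centralizer_singleton_iff.mpr (by
      calc w⁻¹ * g₀ * C.t = w⁻¹ * (g₀ * C.t * g₀⁻¹) * g₀ := by group
        _ = C.t * (w⁻¹ * g₀) := by rw [← hwe]; group)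
    set cc : ↥C.Ct := ⟨w⁻¹ * g₀, hc⟩
    have e : (⟨_, h⟩ : ↥C.Ct) = cc⁻¹ * φt ^ l * cc := by
      refine Subtype.ext ?_
      show g₀⁻¹ * C.φ ^ l * g₀ = (w⁻¹ * g₀)⁻¹ * C.φ ^ l * (w⁻¹ * g₀)
      rw [show (w⁻¹ * g₀)⁻¹ * C.φ ^ l * (w⁻¹ * g₀) = g₀⁻¹ * (w * C.φ ^ l * w⁻¹) * g₀ by group, hw.eq,
        mul_inv_cancel_right]
    rw [e, map_mul, map_mul, map_inv, map_pow, mul_comm, mul_inv_cancel_left]
  have key : V C.φ = C.pr φt ^ C.Ct.index := by
    rw [hV, MonoidHom.transfer_eq_prod_quotient_orbitRel_zpowers_quot, Finset.prod_congr rfl fun q _ => hterm _ _ _,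
      Finset.prod_pow_eq_pow_sum]
    refine congrArg _ ?_
    exact (Subgroup.index_eq_sum_minimalPeriod C.Ct C.φ).symm
  rw [← C.φ_ord, ← C.pr_φ, orderOf_dvd_iff_pow_eq_one, ← Subgroup.coe_pow, ← key, hV1, Subgroup.coe_one]

/-- A prime of the order of `σ` divides the number of involutions commuting with a power of `φ` of `r`-power order. -/
theorem r_dvd_relIndex (B : Base G) (C : Coord G) {r : ℕ} [Fact r.Prime] (hr : r ∣ orderOf C.σ) (k : ℤ)
    (hk : IsPGroup r (Subgroup.zpowers (C.φ ^ k))) :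
    r ∣ C.Ct.relIndex (Subgroup.centralizer ({C.φ ^ k} : Set G)) := by
  classical
  set s := C.φ ^ k
  set H := Subgroup.centralizer ({s} : Set G)
  have hfix : ∀ g : G, ((g : G ⧸ C.Ct) ∈ MulAction.fixedPoints (Subgroup.zpowers s) (G ⧸ C.Ct)) →
      ∃ h ∈ H, (h : G ⧸ C.Ct) = (g : G ⧸ C.Ct) := by
    intro g hg
    have h1 := hg ⟨s, Subgroup.mem_zpowers s⟩
    have h2 : g⁻¹ * s * g ∈ C.Ct := by
      have h3 : ((s * g : G) : G ⧸ C.Ct) = (g : G ⧸ C.Ct) := h1
      rw [eq_comm, QuotientGroup.eq] at h3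
      rwa [← mul_assoc] at h3
    have hu : Commute (g * C.t * g⁻¹) s := by
      have := (show Commute (g⁻¹ * s * g) C.t from Subgroup.mem_centralizer_singleton_iff.mp h2).map
        (MulAut.conj g).toMonoidHom
      simp only [MulEquiv.coe_toMonoidHom, MulAut.conj_apply] at this
      rw [show g * (g⁻¹ * s * g) * g⁻¹ = s by group] at this
      exact this.symm
    obtain ⟨w, hw, hwe⟩ := cent_pow_conj B C k (u := g * C.t * g⁻¹)
      (by rw [← MulAut.conj_apply, MulEquiv.orderOf_eq, C.t_ord]) hu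
    refine ⟨w, Subgroup.mem_centralizer_singleton_iff.mpr hw.eq, (QuotientGroup.eq).mpr ?_⟩
    exact Subgroup.mem_centralizer_singleton_iff.mpr (by
      calc w⁻¹ * g * C.t = w⁻¹ * (g * C.t * g⁻¹) * g := by group
        _ = C.t * (w⁻¹ * g) := by rw [← hwe]; group)
  have hsCt : ∀ z ∈ Subgroup.zpowers s, z ∈ C.Ct := fun z hz =>
    Subgroup.zpowers_le.mpr (Subgroup.zpow_mem _ C.φ_mem_Ct k) hz
  let f : ↥H ⧸ C.Ct.subgroupOf H → MulAction.fixedPoints (Subgroup.zpowers s) (G ⧸ C.Ct) :=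
    Quotient.lift (fun h : ↥H => (⟨((h : G) : G ⧸ C.Ct), fun z => by
      show (((z : G) * h : G) : G ⧸ C.Ct) = ((h : G) : G ⧸ C.Ct)
      refine QuotientGroup.eq.mpr ?_
      have hc : Commute (h : G) (z : G) := by
        obtain ⟨i, hi⟩ := z.2
        simp only at hi
        rw [← hi]
        exact (show Commute (h : G) s from Subgroup.mem_centralizer_singleton_iff.mp h.2).zpow_right i
      rw [_root_.mul_inv_rev, mul_assoc, ← hc.inv_right.eq, ← mul_assoc, inv_mul_cancel, one_mul]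
      exact inv_mem (hsCt _ z.2)⟩ : MulAction.fixedPoints (Subgroup.zpowers s) (G ⧸ C.Ct)))
      fun a b hab => Subtype.ext (QuotientGroup.eq.mpr
        (show (a⁻¹ * b : ↥H) ∈ C.Ct.subgroupOf H from QuotientGroup.leftRel_apply.mp hab))
  have hf : Function.Bijective f := by
    constructor
    · rintro ⟨a⟩ ⟨b⟩ e
      refine Quotient.sound (QuotientGroup.leftRel_apply.mpr ?_)
      have e' : (((a : ↥H) : G) : G ⧸ C.Ct) = ((b : G) : G ⧸ C.Ct) := congrArg Subtype.val e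
      exact Subgroup.mem_subgroupOf.mpr (QuotientGroup.eq.mp e')
    · rintro ⟨q, hq⟩
      obtain ⟨g, rfl⟩ := QuotientGroup.mk_surjective q
      obtain ⟨h, hh, he⟩ := hfix g hq
      exact ⟨Quotient.mk'' ⟨h, hh⟩, Subtype.ext he⟩
  have h1 := hk.card_modEq_card_fixedPoints (G ⧸ C.Ct)
  rw [← Nat.card_eq_of_bijective f hf, ← Subgroup.index_eq_card, ← Subgroup.index_eq_card] at h1
  exact (Nat.ModEq.dvd_iff h1 dvd_rfl).mp (hr.trans (f_dvd_index B C))

end CfsgLib.Walter
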