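import Cfsg.Agent.Lib.Walter.TwoH
import Cfsg.Agent.Lib.Walter.Setup
import Cfsg.Agent.Lib.Blocks.FongLocal
import Cfsg.Agent.Lib.Blocks.LocalBlocks
import Cfsg.Agent.Lib.Blocks.FirstMain

/-!
The blocks of `G` of full defect: each is induced from exactly one block of `C(t)`, one over a linear
character times the principal block of `E`.

Blueprint: `blueprint/Walter.md`, case (R).
-/

set_option autoImplicit false
set_option linter.unusedSectionVars false
set_option linter.style.haveILetI false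

namespace CfsgLib.Walter.RB

open Cfsg CfsgLib CfsgLib.CharTheory CfsgLib.Blocks
open scoped ComplexConjugate

universe u

variable {G : Type u} [Group G] [Fintype G] (C : Coord G) [Fintype (E C)] [Fintype (H C)]

local notation "LL" => Matrix.ProjectiveSpecialLinearGroup (Fin 2) C.F

theorem sum_fixed {α A : Type*} [AddCommMonoid A] [DecidableEq α] (Y : Finset α) (β : α → α) (f : α → A)
    (hβ : ∀ a ∈ Y, β a ∈ Y) (hββ : ∀ a, β (β a) = a) (hf : ∀ a ∈ Y, f a + f (β a) = 0) :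
    ∑ a ∈ Y, f a = ∑ a ∈ Y.filter (fun a => β a = a), f a := by
  rw [← Finset.sum_filter_add_sum_filter_not Y (fun a => β a = a),
    Finset.sum_involution (s := Y.filter fun a => ¬ β a = a) (fun a _ => β a)
      (fun a ha => hf a (Finset.mem_filter.1 ha).1) (fun a ha _ => (Finset.mem_filter.1 ha).2)
      (fun a ha => Finset.mem_filter.2 ⟨hβ a (Finset.mem_filter.1 ha).1, by
        rw [hββ]; exact fun e => (Finset.mem_filter.1 ha).2 e.symm⟩) (fun a _ => hββ a), add_zero]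

/-- The projection of `C(t)` to `E`. -/
noncomputable def prE : H C →* E C := (MonoidHom.snd _ _).comp (eH C).symm.toMonoidHom

theorem prE_eH (i : JankoThompson.M2) (e : E C) : prE C (eH C (i, e)) = e := by
  simp [prE]

/-- The linear character of `C(t)` given by one of `⟨φ⟩`. -/
noncomputable def νH (ν : Subgroup.zpowers C.φ →* ℂˣ) : H C →* ℂˣ := ν.comp ((proj C).comp (prE C))

theorem chH_lin (ν : Subgroup.zpowers C.φ →* ℂˣ) (g : H C) :
    (chH C false (lin C ν) : H C → ℂ) g = (νH C ν g : ℂ) := by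
  obtain ⟨⟨i, e⟩, rfl⟩ := (eH C).surjective g
  simp [chH_eH, lin_apply, νH, prE_eH, sg]

theorem prE_coe {g : H C} (h : (g : G) ∈ E C) : prE C g = ⟨g, h⟩ := by
  have e : g = eH C (Multiplicative.ofAdd 0, ⟨g, h⟩) := Subtype.ext (eH_zero C ⟨g, h⟩).symm
  conv_lhs => rw [e, prE_eH]

variable {S : Sylow 2 G} {gA bA cA : Matrix.ProjectiveSpecialLinearGroup (Fin 2) C.F} (Fr : Frame C S gA bA cA)
include Fr

/-- The centraliser of `S`. -/
abbrev cS (_ : Frame C S gA bA cA) : Subgroup G := Subgroup.centralizer ((S : Subgroup G) : Set G)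

theorem cS_le_H : cS C Fr ≤ H C := fun _ hg => (mem_H C).2 (hg _ Fr.t_mem).symm

theorem mem_cS {g : G} :
    g ∈ cS C Fr ↔ Commute g C.t ∧ Commute g (C.ι bA) ∧ Commute g (C.ι cA) := by
  refine ⟨fun h => ⟨(h _ Fr.t_mem).symm, (h _ Fr.b_mem).symm, (h _ Fr.c_mem).symm⟩, ?_⟩
  rintro ⟨h1, h2, h3⟩ x hx
  obtain ⟨i, v, rfl, hv⟩ := Fr.form x hx
  refine ((h1.pow_right _).mul_right ?_).symm.eq
  rcases hv with rfl | rfl | rfl | rfl
  · rw [map_one]; exact Commute.one_right _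
  · exact h2
  · exact h3
  · rw [map_mul]; exact h2.mul_right h3

theorem cS_comm (hE : E8 (S : Subgroup G)) (a b : cS C Fr) : a * b = b * a := by
  obtain ⟨s, hs, i, ha⟩ := Fr.cent a a.2
  obtain ⟨s', hs', j, hb⟩ := Fr.cent b b.2
  have h1 : ∀ {x}, x ∈ (S : Subgroup G) → ∀ n : ℕ, Commute x (C.φ ^ n) := fun hx n =>
    (show Commute _ C.φ from Fr.φ_cent _ hx).pow_right n
  apply Subtype.ext
  rw [Subgroup.coe_mul, Subgroup.coe_mul, ha, hb]
  have hc : Commute (s * C.φ ^ i) (s' * C.φ ^ j) :=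
    ((show Commute s s' from hE.comm hs hs').mul_right (h1 hs j)).mul_left
      (((h1 hs' i).symm).mul_right ((Commute.refl C.φ).pow_pow i j))
  exact hc.eq

theorem φ_pow_mem (j : ℕ) : C.φ ^ j ∈ cS C Fr := pow_mem Fr.φ_cent j

/-- The linear character of `C(S)`. -/
noncomputable def ξS [Fintype (cS C Fr)] (ν : Subgroup.zpowers C.φ →* ℂˣ) : IrrCharacter (cS C Fr) :=
  ⟨fun g => (νH C ν (Subgroup.inclusion (cS_le_H C Fr) g) : ℂ),
    isIrrCharacter_linear ((νH C ν).comp (Subgroup.inclusion (cS_le_H C Fr)))⟩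

variable [Fintype (cS C Fr)] {M : Ideal AlgInt} (hM : IsPModular 2 M) (hE : E8 (S : Subgroup G))
include hM hE

/-- Modulo `M` a character of `C(S)` only sees the power of `φ`. -/
theorem cS_res (ξ : IrrCharacter (cS C Fr)) {x : cS C Fr} {s : G} (hs : s ∈ (S : Subgroup G)) {j : ℕ}
    (hx : (x : G) = s * C.φ ^ j) :
    res hM (centralChar (ξ : cS C Fr → ℂ) x) = res hM ((ξ : cS C Fr → ℂ) ⟨C.φ ^ j, φ_pow_mem C Fr j⟩) := by
  have hc := cS_comm C Fr hE
  obtain ⟨l, hl⟩ := exists_hom_of_degree_one (isCharacter_of_irr ξ.2) (degree_one_of_commutative hc ξ.2)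
  have hl' : ∀ y, (ξ : cS C Fr → ℂ) y = (l y : ℂ) := fun y => congrFun hl y
  have hidx : (Subgroup.centralizer ({x} : Set (cS C Fr))).index = 1 := by
    rw [Subgroup.index_eq_one, eq_top_iff]
    exact fun y _ => Subgroup.mem_centralizer_singleton_iff.2 (hc y x)
  have hsc : s ∈ cS C Fr := fun y hy => hE.comm hy hs
  have hx' : x = ⟨s, hsc⟩ * ⟨C.φ ^ j, φ_pow_mem C Fr j⟩ := Subtype.ext hx
  have hs2 : ((l ⟨s, hsc⟩ : ℂˣ) : ℂ) ^ 2 ^ 1 = 1 := by
    rw [pow_one, ← Units.val_pow_eq_pow_val, ← map_pow, show (⟨s, hsc⟩ : cS C Fr) ^ 2 = 1 from Subtype.ext (by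
      show s ^ 2 = 1
      rw [pow_two]; exact hE.2 s hs), map_one, Units.val_one]
  obtain ⟨hm, hr⟩ := res_eq_one_of_pow hM hs2
  have hmem : MemLocalRing M ((ξ : cS C Fr → ℂ) ⟨C.φ ^ j, φ_pow_mem C Fr j⟩) := memRing_irr hM ξ _
  rw [centralChar, hidx, Nat.cast_one, one_mul, degree_one_of_commutative hc ξ.2, div_one, hl' x, hx', map_mul,
    Units.val_mul]
  rw [hl'] at hmem
  rw [res_mul hM hm hmem, hr, one_mul, hl']

/-- Conjugation by `N(S)` fixes the blocks of `C(S)`. -/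
theorem rot_fix {e : Set (IrrCharacter (cS C Fr))} (he : IsPBlock M e) {n : G}
    (hn : n ∈ Subgroup.normalizer ((S : Subgroup G) : Set G)) : rot hn e = e := by
  obtain ⟨ξ, hξ⟩ := block_nonempty hM he
  set ξ' := irrPull (conjE (normalizer_le_normalizer_cent (S : Subgroup G) hn)) ξ
  have h : SameBlock M (ξ : cS C Fr → ℂ) (ξ' : cS C Fr → ℂ) := by
    rw [sameBlock_iff_res hM]
    intro x
    obtain ⟨s, hs, j, hx⟩ := Fr.cent x x.2
    show res hM (centralChar (ξ : cS C Fr → ℂ) x) = res hM (centralChar (ξ' : cS C Fr → ℂ) x)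
    rw [cS_res C Fr hM hE ξ hs hx, cS_res C Fr hM hE ξ' hs hx, irrPull_apply]
    refine congrArg (fun z => res hM ((ξ : cS C Fr → ℂ) z)) (Subtype.ext ?_)
    rw [conjE_coe]
    show C.φ ^ j = n⁻¹ * C.φ ^ j * n
    rw [mul_assoc, ← ((Fr.norm_comm n hn).pow_right j).eq, inv_mul_cancel_left]
  have h' : ξ' ∈ e := by rw [eq_blockOf hM he hξ]; exact h
  exact (eq_blockOf hM (isPBlock_image _ he) (Set.mem_image_of_mem _ hξ)).trans (eq_blockOf hM he h').symm

omit hE in
/-- A block with a pair at `S` is induced by at most one block of `C(t)`. -/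
theorem over_unique (B : Base G) (hB8 : E8 (S : Subgroup G)) {B₀ : Set (IrrCharacter G)}
    {e : Set (IrrCharacter (cS C Fr))} (he : IsBrauerPairOf 2 M B₀ (S : Subgroup G) e)
    {b b' : Set (IrrCharacter (H C))} (hb : IsInducedBlock M (H C) b B₀) (hb' : IsInducedBlock M (H C) b' B₀) :
    b = b' := by
  haveI : Fact (Nat.Prime 2) := ⟨Nat.prime_two⟩
  have hQ : IsPGroup 2 (Subgroup.zpowers C.t) := IsPGroup.of_card (n := 1) (by rw [Nat.card_zpowers, C.t_ord, pow_one])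
  have htS : Subgroup.zpowers C.t ≤ (S : Subgroup G) := Subgroup.zpowers_le.2 Fr.t_mem
  have hmax : IsMaximalBrauerPair 2 M B₀ (S : Subgroup G) e :=
    ⟨he, fun R g hR hle => S.is_maximal' hR.1.1 (subpairLE_le (a := ⟨_, _⟩) (b := ⟨R, g⟩) hle)⟩
  have key : ∀ {d : Set (IrrCharacter (H C))}, IsInducedBlock M (H C) d B₀ →
      SubpairLE 2 M (Subgroup.zpowers C.t) d (S : Subgroup G) e := by
    intro d hd
    obtain ⟨x, hx⟩ := exists_conj_subpair hM (m := ⟨_, e⟩) (a := ⟨_, d⟩) hmax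
      ((induced_centralizer_iff hM hQ).1 hd)
    have hxt : x * C.t * x⁻¹ ∈ (S : Subgroup G) :=
      subpairLE_le hx ⟨C.t, Subgroup.mem_zpowers _, rfl⟩
    obtain ⟨n, hn, hnt⟩ := B.trans S hxt Fr.t_mem (fun h => C.t_ne (conj_eq_one_iff.mp h)) C.t_ne
    have hy : n * x ∈ H C := (mem_H C).2 (mul_inv_eq_iff_eq_mul.mp (by
      calc n * x * C.t * (n * x)⁻¹ = n * (x * C.t * x⁻¹) * n⁻¹ := by group
        _ = C.t := hnt))
    have h1 := subpair_conj hM hx n
    rw [conjIdx_mul, conjIdx_normalizer hn, rot_fix C Fr hM hB8 he.1.2 hn,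
      conjIdx_normalizer ((isCentr_H C).le_normalizer hy)] at h1
    have h2 : rot ((isCentr_H C).le_normalizer hy) d = d := by
      conv_rhs => rw [← Set.image_id d]
      refine Set.image_congr fun χ _ => Subtype.ext (funext fun k => ?_)
      rw [irrPull_apply]
      have := isClassFunction_irr χ.2 k (⟨n * x, hy⟩ : H C)⁻¹
      refine Eq.trans (congrArg _ (Subtype.ext ?_)) this
      rw [conjE_coe]
      simp [mul_assoc]
    rw [h2] at h1
    exact h1
  exact (existsUnique_subpair hM S.isPGroup' he.1.2 _ htS).unique ⟨hb.1, key hb⟩ ⟨hb'.1, key hb'⟩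

/-- The block of `G` with the pair over `ν`. -/
theorem exists_BG (ν : Subgroup.zpowers C.φ →* ℂˣ) :
    ∃ B₀ : Set (IrrCharacter G),
      IsBrauerPairOf 2 M B₀ (S : Subgroup G) (blockOf M (ξS C Fr ν : cS C Fr → ℂ)) ∧
      IsInducedBlock M (H C) (bH C (M := M) ν) B₀ := by
  classical
  haveI : Fact (Nat.Prime 2) := ⟨Nat.prime_two⟩
  haveI := res_charP hM
  obtain ⟨B₀, hp⟩ := exists_block_of_pair hM S.isPGroup' (blockOf_isPBlock (M := M) (ξS C Fr ν))
  refine ⟨B₀, hp, ?_⟩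
  obtain ⟨φ, hφ⟩ := exists_lam_irr hM S.isPGroup' (ξS C Fr ν)
  have hφB : φ ∈ B₀ := lam_irr_mem hM hp.2.1 hφ (pairOf_lam hM hp (mem_blockOf_self hM _))
  refine isInducedBlock_of_congr _ hM (bH_isPBlock C ν) hp.2.1 (mem_blockOf_self hM _) hφB fun g => ?_
  rw [memIdeal_sub_iff hM (memRing_inducedCentralChar _ hM _ g)
    (show MemLocalRing M (centralChar (φ : G → ℂ) g) from memRing_clv hM g φ),
    ← omega_restrict_classInd _ g, ← omega_classInd g φ,
    ← hφ _ (isClassFunction_classInd g) (memRing_classInd hM g), lam, brauerOmega_eq_omega]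
  set f : H C → AlgInt ⧸ M := fun h => res hM (νH C ν h : ℂ)
  have hmem : ∀ h : H C, MemLocalRing M (νH C ν h : ℂ) := fun h => by
    have := memRing_irr hM (chH C false (lin C ν)) h
    rwa [chH_lin] at this
  set Y : Finset (H C) := Finset.univ.filter fun h => IsConj g (h : G)
  have hl : res hM (omega (chH C false (lin C ν) : H C → ℂ) fun k => if IsConj g (k : G) then 1 else 0) =
      ∑ h ∈ Y, f h := by
    simp only [omega, chH_lin, map_one, Units.val_one, div_one, ite_mul, one_mul, zero_mul, ← Finset.sum_filter]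
    exact res_sum hM fun h _ => hmem h
  have hr : res hM (omega (ξS C Fr ν : cS C Fr → ℂ) fun c : cS C Fr => if IsConj g (c : G) then 1 else 0) =
      ∑ h ∈ Y.filter (fun h : H C => (h : G) ∈ cS C Fr), f h := by
    have h1 : ∀ c, (ξS C Fr ν : cS C Fr → ℂ) c = (νH C ν (Subgroup.inclusion (cS_le_H C Fr) c) : ℂ) := fun c => rfl
    simp only [omega, h1, map_one, Units.val_one, div_one, ite_mul, one_mul, zero_mul, ← Finset.sum_filter]
    rw [res_sum hM fun c _ => hmem _]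
    refine Finset.sum_bij (fun c _ => Subgroup.inclusion (cS_le_H C Fr) c) ?_ ?_ ?_ fun c _ => rfl
    · intro c hc
      simp only [Finset.mem_filter, Finset.mem_univ, true_and, Y] at hc ⊢
      exact ⟨hc, c.2⟩
    · intro a _ b _ h
      exact Subgroup.inclusion_injective _ h
    · intro h hh
      simp only [Finset.mem_filter, Finset.mem_univ, true_and, Y] at hh ⊢
      exact ⟨⟨h, hh.2⟩, hh.1, rfl⟩
  refine hl.trans (Eq.trans ?_ hr.symm)
  -- the points moved by the two involutions cancel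
  have hsq : ∀ v : LL, v * v = 1 → C.ι v * C.ι v = 1 := fun v hv => by rw [← map_mul, hv, map_one]
  let eb : H C := ⟨C.ι bA, (mem_H C).2 (C.t_ι bA).symm⟩
  let ec : H C := ⟨C.ι cA, (mem_H C).2 (C.t_ι cA).symm⟩
  have heb : eb * eb = 1 := Subtype.ext (hsq _ Fr.a4.bb)
  have hec : ec * ec = 1 := Subtype.ext (hsq _ Fr.a4.cc)
  have hfc : ∀ d h : H C, f (d * h * d⁻¹) = f h := fun d h => by
    simp only [f, map_mul, map_inv, mul_comm (νH C ν d) (νH C ν h), mul_inv_cancel_right]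
  have hY : ∀ d h : H C, h ∈ Y → d * h * d⁻¹ ∈ Y := fun d h hh => Finset.mem_filter.2
    ⟨Finset.mem_univ _, (Finset.mem_filter.1 hh).2.trans (isConj_iff.2 ⟨(d : G), by simp⟩)⟩
  have hinv : ∀ {d : H C}, d * d = 1 → ∀ h, d * (d * h * d⁻¹) * d⁻¹ = h := fun {d} hd h => by
    calc d * (d * h * d⁻¹) * d⁻¹ = (d * d) * h * (d * d)⁻¹ := by group
      _ = h := by rw [hd, one_mul, inv_one, mul_one]
  have h2 : ∀ a : AlgInt ⧸ M, a + a = 0 := fun a => CharTwo.add_self_eq_zero a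
  rw [sum_fixed Y (fun h => eb * h * eb⁻¹) f (fun a ha => hY _ _ ha) (hinv heb) (fun a _ => by rw [hfc]; exact h2 _),
    sum_fixed _ (fun h => ec * h * ec⁻¹) f ?_ (hinv hec) (fun a _ => by rw [hfc]; exact h2 _), Finset.filter_filter]
  · refine Finset.sum_congr (Finset.filter_congr fun h _ => ?_) fun _ _ => rfl
    rw [mul_inv_eq_iff_eq_mul, mul_inv_eq_iff_eq_mul, mem_cS C Fr]
    constructor
    · rintro ⟨h1, h2⟩
      exact ⟨(mem_H C).1 h.2, (congrArg Subtype.val h1).symm, (congrArg Subtype.val h2).symm⟩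
    · rintro ⟨-, h1, h2⟩
      exact ⟨Subtype.ext h1.eq.symm, Subtype.ext h2.eq.symm⟩
  · intro a ha
    obtain ⟨ha1, ha2⟩ := Finset.mem_filter.1 ha
    refine Finset.mem_filter.2 ⟨hY _ _ ha1, ?_⟩
    have hbc : eb * ec = ec * eb := Subtype.ext (by
      show C.ι bA * C.ι cA = C.ι cA * C.ι bA
      rw [← map_mul, Fr.a4.comm, map_mul])
    calc eb * (ec * a * ec⁻¹) * eb⁻¹ = (eb * ec) * a * (eb * ec)⁻¹ := by group
      _ = (ec * eb) * a * (ec * eb)⁻¹ := by rw [hbc]
      _ = ec * (eb * a * eb⁻¹) * ec⁻¹ := by group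
      _ = ec * a * ec⁻¹ := by rw [ha2]

/-- The block over `ν`. -/
noncomputable def BG (ν : Subgroup.zpowers C.φ →* ℂˣ) : Set (IrrCharacter G) :=
  (exists_BG C Fr hM hE ν).choose

theorem BG_pair (ν : Subgroup.zpowers C.φ →* ℂˣ) :
    IsBrauerPairOf 2 M (BG C Fr hM hE ν) (S : Subgroup G) (blockOf M (ξS C Fr ν : cS C Fr → ℂ)) :=
  (exists_BG C Fr hM hE ν).choose_spec.1

theorem BG_induced (ν : Subgroup.zpowers C.φ →* ℂˣ) :
    IsInducedBlock M (H C) (bH C (M := M) ν) (BG C Fr hM hE ν) :=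
  (exists_BG C Fr hM hE ν).choose_spec.2

theorem overBlocks_BG (B : Base G) (ν : Subgroup.zpowers C.φ →* ℂˣ) :
    overBlocks M (H C) (BG C Fr hM hE ν) = bH C (M := M) ν := by
  ext ψ
  constructor
  · intro h
    rw [← over_unique C Fr hM B hE (BG_pair C Fr hM hE ν) h (BG_induced C Fr hM hE ν)]
    exact mem_blockOf_self hM ψ
  · intro h
    show IsInducedBlock M (H C) (blockOf M (ψ : H C → ℂ)) (BG C Fr hM hE ν)
    rw [← eq_blockOf hM (bH_isPBlock C ν) h]
    exact BG_induced C Fr hM hE ν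

theorem BG_inj (B : Base G) (D : EData C M) (hq : 11 ≤ Fintype.card C.F) {ν ν' : Subgroup.zpowers C.φ →* ℂˣ}
    (h : BG C Fr hM hE ν = BG C Fr hM hE ν') : ν = ν' :=
  bH_inj C hM D hq (by rw [← overBlocks_BG C Fr hM hE B ν, h, overBlocks_BG C Fr hM hE B ν'])

/-- A character of odd degree lies in one of these blocks. -/
theorem exists_mem_BG (B : Base G) {χ : IrrCharacter G} (hodd : ¬ 2 ∣ charDegree (χ : G → ℂ)) :
    ∃ ν, χ ∈ BG C Fr hM hE ν := by
  haveI : Fact (Nat.Prime 2) := ⟨Nat.prime_two⟩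
  have hB0 : IsPBlock M (blockOf M (χ : G → ℂ)) := blockOf_isPBlock χ
  obtain ⟨P, hP⟩ := exists_defectGroup hM hB0
  have hv : (Nat.card G).factorization 2 = 3 :=
    Nat.pow_right_injective (le_refl 2) (by
      show 2 ^ _ = 2 ^ 3
      rw [← S.card_eq_multiplicity, hE.1])
  have hP8 : Nat.card P = 8 := by
    have hmin : minDv 2 (blockOf M (χ : G → ℂ)) = 0 :=
      Nat.le_zero.1 ((minDv_le (mem_blockOf_self hM χ)).trans (Nat.factorization_eq_zero_of_not_dvd hodd).le)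
    rw [card_defectGroup hM hB0 hP, blockDefect_eq, hv, hmin]
    norm_num
  obtain ⟨e₀, he₀⟩ := exists_maximal_at hM hB0 hP
  obtain ⟨Q, hQ⟩ := (defectGroup_isPGroup hP).exists_le_sylow
  have hPQ : P = (Q : Subgroup G) :=
    Subgroup.eq_of_le_of_card_ge hQ (by rw [hP8, (B.e8.sylow Q).1])
  obtain ⟨x, hx⟩ := MulAction.exists_smul_eq G Q S
  have hS : P.map (MulAut.conj x).toMonoidHom = (S : Subgroup G) := by
    rw [← hx, Sylow.coe_subgroup_smul, hPQ]
    rfl
  have key : ∀ Q' : Subgroup G, Q' = (S : Subgroup G) →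
      (∃ e, IsBrauerPairOf 2 M (blockOf M (χ : G → ℂ)) Q' e) →
      ∃ e, IsBrauerPairOf 2 M (blockOf M (χ : G → ℂ)) (S : Subgroup G) e := by
    rintro _ rfl h; exact h
  obtain ⟨e, he⟩ := key _ hS ⟨_, pairOf_conj hM (a := ⟨P, e₀⟩) he₀.1 x⟩
  obtain ⟨ξ, hξ⟩ := block_nonempty hM he.1.2
  obtain ⟨l, hl⟩ := exists_hom_of_degree_one (isCharacter_of_irr ξ.2)
    (degree_one_of_commutative (cS_comm C Fr hE) ξ.2)
  refine ⟨l.comp (Subgroup.inclusion (Subgroup.zpowers_le.2 Fr.φ_cent)), ?_⟩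
  set ν := l.comp (Subgroup.inclusion (Subgroup.zpowers_le.2 Fr.φ_cent))
  have hsame : SameBlock M (ξS C Fr ν : cS C Fr → ℂ) (ξ : cS C Fr → ℂ) := by
    rw [sameBlock_iff_res hM]
    intro y
    obtain ⟨s, hs, j, hy⟩ := Fr.cent y y.2
    show res hM (centralChar (ξS C Fr ν : cS C Fr → ℂ) y) = res hM (centralChar (ξ : cS C Fr → ℂ) y)
    rw [cS_res C Fr hM hE _ hs hy, cS_res C Fr hM hE _ hs hy]
    congr 1
    rw [show (ξ : cS C Fr → ℂ) _ = _ from congrFun hl _]
    show (ν (proj C (prE C _)) : ℂ) = _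
    have hmem : C.φ ^ j ∈ E C := ⟨1, j, by simp⟩
    have hpr : prE C (Subgroup.inclusion (cS_le_H C Fr) ⟨C.φ ^ j, φ_pow_mem C Fr j⟩) = φE C ^ j :=
      (prE_coe C (g := Subgroup.inclusion (cS_le_H C Fr) ⟨C.φ ^ j, φ_pow_mem C Fr j⟩) hmem).trans
        (Subtype.ext (by simp))
    rw [hpr]
    simp only [ν, MonoidHom.coe_comp, Function.comp_apply]
    congr 2
    exact Subtype.ext (proj_φ C j)
  have he' : blockOf M (ξS C Fr ν : cS C Fr → ℂ) = e := (eq_blockOf hM he.1.2 (by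
    rw [eq_blockOf hM he.1.2 hξ]; exact sameBlock_symm hM hsame)).symm
  have hp := BG_pair C Fr hM hE ν
  rw [he'] at hp
  rw [← pairOf_block_unique hM he hp]
  exact mem_blockOf_self hM χ

end CfsgLib.Walter.RB
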